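import Cfsg.Agent.Lib.J4Pres.Bound.Code

/-! Transversals of a stabiliser chain of the trio stabiliser, as words in two generators (tools/j4/bound/tlev.py). -/

set_option autoImplicit false

namespace Cfsg.Agent.J4Bound.Data

/-- The levels. -/
def trioLevels : List (ℕ × List (List ℕ)) :=
  [(9, [[], [0], [1], [2], [0, 1], [0, 2], [1, 0], [1, 1], [0, 1, 0], [0, 1, 1], [1, 0, 1], [1, 0, 2], [2, 0, 1], [0, 1, 0, 1], [0, 1, 0, 2], [0, 2, 0, 1], [1, 0, 1, 0], [1, 1, 0, 1], [0, 1, 0, 1, 0], [0, 1, 1, 0, 1], [1, 0, 1, 0, 1], [1, 0, 1, 0, 2], [0, 1, 0, 1, 0, 1], [0, 1, 0, 1, 0, 2]]),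
   (6, [[], [1, 0, 1, 1, 0, 2], [0, 1, 0, 1, 1, 0, 1, 0], [1, 1, 0, 1, 1, 0, 1, 1], [2, 0, 1, 0, 1, 0, 1, 1], [0, 1, 1, 0, 1, 0, 1, 1, 0, 2], [1, 0, 2, 0, 1, 1, 0, 1, 0, 1], [0, 1, 0, 1, 0, 2, 0, 1, 1, 0, 1], [0, 1, 0, 2, 0, 2, 0, 1, 1, 0, 1], [0, 2, 0, 1, 0, 2, 0, 1, 1, 0, 1], [0, 2, 0, 2, 0, 2, 0, 1, 1, 0, 1], [2, 0, 1, 1, 0, 1, 0, 1, 0, 1, 0], [2, 0, 1, 1, 0, 1, 0, 2, 0, 1, 0], [2, 0, 1, 0, 1, 0, 2, 0, 1, 1, 0, 2], [0, 1, 0, 2, 0, 2, 0, 2, 0, 2, 0, 1, 1], [0, 2, 0, 2, 0, 2, 0, 2, 0, 2, 0, 1, 1]]),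
   (1, [[], [0, 1, 1, 0], [2, 0, 1, 0, 1, 1, 0, 2, 0, 1], [0, 1, 0, 1, 0, 1, 0, 2, 0, 1, 0, 1], [0, 2, 0, 1, 0, 1, 0, 2, 0, 1, 0, 1], [2, 0, 2, 0, 1, 0, 2, 0, 2, 0, 1, 0], [0, 1, 0, 1, 1, 0, 1, 1, 0, 1, 1, 0, 1, 0], [0, 2, 0, 1, 1, 0, 1, 1, 0, 1, 1, 0, 2, 0]]),
   (23, [[], [0, 2, 0, 2, 0, 1, 0, 1, 0, 1, 0, 2], [1, 0, 2, 0, 2, 0, 2, 0, 1, 0, 1, 0], [1, 0, 1, 0, 1, 1, 0, 2, 0, 2, 0, 1, 0, 1, 0, 1], [2, 0, 2, 0, 2, 0, 1, 0, 1, 0, 1, 1, 0, 2, 0, 2], [0, 1, 0, 1, 0, 1, 0, 1, 0, 2, 0, 1, 0, 1, 1, 0, 1, 1], [1, 1, 0, 1, 1, 0, 2, 0, 1, 0, 2, 0, 2, 0, 2, 0, 2, 0]]),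
   (3, [[], [1, 1, 0, 1, 0, 2, 0, 2, 0, 1, 0, 2, 0, 1], [2, 0, 1, 0, 2, 0, 1, 0, 1, 0, 2, 0, 1, 1]])]

end Cfsg.Agent.J4Bound.Data
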