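import Cfsg.Agent.Lib.J4Pres.Bound.Coset

/-! Data of the double coset enumeration for the presented fourth Janko group (tools/j4/bound/emitb.py). -/

set_option autoImplicit false
set_option maxRecDepth 100000
set_option maxHeartbeats 0

namespace Cfsg.Agent.J4Bound.Data

/-- The relators. -/
def rels : List (List Syl × Bool) :=
  [([some (393644466100999633529089855098147405, 805133464893673497262973495753003204), none, some (795139742822541835009092514473159399, 68289257207127887215352533848802893), none, some (182117067016013708990620219324250320, 425094277394955367716018703493047917), none, some (795139742822541835009092514473159399, 68289257207127887215352533848802893), none, some (68289257207127887215352533848802893, 795139742822541835009092514473159399)], false),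
    ([some (795139742822541835009092514473159399, 68289257207127887215352533848802893), none, some (182117067016013708990620219324250320, 425094277394955367716018703493047917), none, some (795139742822541835009092514473159399, 68289257207127887215352533848802893), none, some (68289257207127887215352533848802893, 795139742822541835009092514473159399), some (393644466100999633529089855098147405, 805133464893673497262973495753003204), none], false),
    ([some (445540660677431571585093666007029042, 929628517569107952192997023071546829), none, some (135851761135439222693933877310073927, 438312243070194907884741996591154548), none, some (135851761135439222693933877310073927, 438312243070194907884741996591154548), none, some (357186077239732776816533622022669769, 187222742769998352030495360014427213)], false),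
    ([some (518189845237730437366870964302417440, 772482681937545336577054757923930432), none, some (403033530256003320107196472549804660, 569286731720242626225796706480523665), none, some (403033530256003320107196472549804660, 569286731720242626225796706480523665), none, some (888022273219801980598519549180055892, 768095545368548067063256406622375534)], true)]

/-- The definitions of the nodes. -/
def defs : List (ℕ × PermCert.Elt) :=
  [(0, (984818244535754528103549039458486304, 984818244535754528103549039458486304)),
    (1, (687546685596455361150818437971416110, 274751280267584717587480409647719467)),
    (2, (274751280267584717587480409647719467, 687546685596455361150818437971416110)),
    (3, (209131102861916740865748098679390548, 588190370628932972902397007598620362)),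
    (2, (640366000955067082244193484988407409, 107879657110569113764990297148933264)),
    (5, (522058450819899449461383989076114670, 850458100471939038317179753450392007)),
    (6, (150138799615790330159038585525127170, 183905285021156342899903164849029345)),
    (6, (337728128352566105330090775891006507, 681595855810864135875257733826591790)),
    (5, (938718611010994225728340548594705900, 694929481224017595697678989980276175)),
    (9, (15753914976367310165450353595304371, 755624975656919005112020369673598359)),
    (9, (679026417758684218700917552496220429, 467978860747645553244392346681521700)),
    (9, (545585701176888202780282924657281041, 841782643273454765027315202413562081)),
    (5, (102021993892287353590381022610447636, 102873227194575154370471565026713222)),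
    (1, (591557255365372716009502377841561238, 872956469853017770585466835075932500)),
    (5, (432323667092166227265260973560936843, 146120350845049518167060976310464174)),
    (3, (9344395359773758363971089174006931, 397878777921724570129516332577790295)),
    (2, (466676163869106831438679195868269905, 466676163869106831438679195868269905)),
    (2, (811398518307655370976123819907093997, 349634182870186419016725919959307721)),
    (2, (591557255365372716009502377841561238, 872956469853017770585466835075932500))]

end Cfsg.Agent.J4Bound.Data
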