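import Cfsg.Agent.Lib.J4Pres.Bound.Cover

/-! Data of the double coset enumeration for the presented fourth Janko group (tools/j4/bound/emitb.py). -/

set_option autoImplicit false
set_option maxRecDepth 100000
set_option maxHeartbeats 0

namespace Cfsg.Agent.J4Bound.Data

/-- Levels of node 0. -/
def levels0 : List (ℕ × List (List (ℕ × Bool))) := []

/-- Levels of node 1. -/
def levels1 : List (ℕ × List (List (ℕ × Bool))) := [(9, [[], [(3, false)], [(4, false)], [(5, false)], [(5, true)], [(3, false), (4, false)], [(3, false), (5, false)], [(3, false), (5, true)], [(4, false), (3, false)], [(4, false), (5, false)], [(4, false), (5, true)], [(5, false), (3, false)], [(5, false), (5, false)], [(3, false), (4, false), (5, false)], [(3, false), (4, false), (5, true)], [(3, false), (5, false), (3, false)], [(4, false), (3, false), (4, false)], [(4, false), (5, false), (3, false)], [(4, false), (5, false), (5, false)], [(5, false), (3, false), (4, false)], [(5, false), (3, false), (5, false)], [(5, false), (3, false), (5, true)], [(5, true), (3, false), (4, false)], [(5, true), (3, false), (5, false)]]), (6, [[], [(3, false), (4, false), (3, false), (5, false), (5, false)], [(5, false), (5, false), (3, false), (4, false), (3, false)], [(4, false), (5, false), (3, false), (4, false), (3, false), (5, false)], [(4, false), (5, true), (3, false), (4, false), (3,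 false), (5, true)], [(5, false), (3, false), (5, false), (5, false), (3, false), (5, true)], [(3, false), (5, false), (3, false), (4, false), (5, false), (3, false), (5, true)], [(3, false), (5, false), (3, false), (5, false), (3, false), (4, false), (5, false)], [(4, false), (3, false), (4, false), (5, false), (5, false), (3, false), (5, false)], [(4, false), (3, false), (5, false), (5, false), (3, false), (4, false), (5, true)], [(4, false), (5, false), (3, false), (5, false), (5, false), (3, false), (4, false)], [(3, false), (4, false), (5, true), (3, false), (4, false), (5, false), (3, false), (4, false)], [(4, false), (3, false), (4, false), (5, false), (3, false), (5, false), (3, false), (4, false)], [(4, false), (5, false), (3, false), (5, false), (3, false), (5, false), (3, false), (5, false)], [(4, false), (5, false), (3, false), (5, true), (3, false), (5, true), (3, false), (5, true)], [(3, false), (4, false), (5, true), (3, false), (5, false), (3, false), (4, false), (5, false), (5, false)]]), (1, [[], [(3, false), (5, false), (5, false), (3, false)], [(5, true), (3, false), (5, false), (3, false), (4, false), (5, true), (3, false)], [(4, false), (5, false), (3, false), (5, false), (3, false), (4, false), (5, true), (3, false), (4, false)], [(3, false), (4, false), (3, false), (5, false), (3, false), (5, true), (3, false), (5, false), (3,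 false), (4, false)], [(3, false), (4, false), (3, false), (5, true), (3, false), (4, false), (5, true), (3, false), (5, false), (3, false)], [(3, false), (5, false), (3, false), (4, false), (5, false), (3, false), (5, false), (3, false), (4, false), (3, false)], [(3, false), (5, true), (3, false), (5, true), (3, false), (4, false), (5, true), (3, false), (4, false), (3, false)]]), (23, [[], [(3, false), (4, false), (5, true), (3, false), (5, true), (3, false), (5, false)], [(5, true), (3, false), (5, false), (3, false), (4, false), (5, false), (3, false)], [(3, false), (4, false), (5, false), (5, false), (3, false), (4, false), (5, false), (3, false), (5, false), (3, false), (5, false), (3, false)], [(3, false), (4, false), (5, false), (5, false), (3, false), (5, true), (3, false), (4, false), (5, true), (3, false), (5, true), (3, false)], [(3, false), (5, false), (3, false), (4, false), (5, false), (3, false), (5, false), (3, false), (4, false), (5, false), (5, false), (3, false)], [(3, false), (5, false), (3, false), (4, false), (5, false), (3, false), (5, false), (3, false), (5, false), (3, false), (5, true), (3, false), (5, false)]]), (3, [[], [(4, false), (5, true), (3, false), (5, false), (3, false), (4, false), (5, true), (3, false), (5, false), (5, false)], [(5, false), (5, false), (3, false), (4, false), (5, false), (3, false), (5, true), (3,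 false), (4, false), (5, false)]])]

/-- Levels of node 2. -/
def levels2 : List (ℕ × List (List (ℕ × Bool))) := [(9, [[], [(9, false)], [(10, false)], [(13, false)], [(14, false)], [(17, true)], [(21, false)], [(21, true)], [(9, false), (10, false)], [(9, false), (14, false)], [(9, false), (21, false)], [(9, false), (21, true)], [(14, false), (21, false)], [(14, false), (21, true)], [(17, false), (21, false)], [(17, false), (21, true)], [(21, false), (9, false)], [(21, false), (10, false)], [(9, false), (17, false), (21, false)], [(9, false), (17, false), (21, true)], [(13, false), (17, false), (21, false)], [(13, false), (17, false), (21, true)], [(14, false), (17, false), (21, false)], [(14, false), (17, false), (21, true)]]), (6, [[], [(9, false), (11, false)], [(9, false), (12, false)], [(11, false), (12, false)], [(13, false), (17, false)], [(17, true), (13, false)], [(9, false), (17, false), (13, false)], [(10, false), (13, false), (17, true)], [(10, false), (14, false), (17, false)], [(11, false), (17, false), (13, false)], [(13, false), (11, false), (17, true)], [(13, false), (12, false), (17, true)], [(21, false), (13, false), (21, false)], [(21, true), (13, false), (21, true)], [(9, false), (10, false), (21, false), (21, false)], [(9, false), (21, false), (21, false), (9, false)]]), (1, [[], [(9, false), (13, false), (14, false)]])]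

/-- Levels of node 3. -/
def levels3 : List (ℕ × List (List (ℕ × Bool))) := [(9, [[], [(24, false)], [(25, false)], [(25, true)], [(26, false)], [(26, true)], [(28, false)], [(24, false), (28, false)], [(25, false), (26, false)], [(25, false), (26, true)], [(25, false), (28, false)], [(25, true), (28, false)], [(26, false), (28, false)], [(26, true), (28, false)], [(28, true), (25, false)], [(28, true), (25, true)], [(36, false), (25, false)], [(36, false), (25, true)], [(36, true), (25, false)], [(36, true), (25, true)], [(25, false), (36, false), (25, false)], [(25, false), (36, false), (25, true)], [(25, false), (36, true), (25, false)], [(25, false), (36, true), (25, true)]]), (6, [[], [(26, true), (36, false)], [(26, true), (36, true)], [(28, false), (28, false)], [(36, false), (26, false)], [(36, true), (26, false)], [(26, false), (28, false), (26, false)], [(26, false), (28, true), (26, false)]])]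

/-- Levels of node 4. -/
def levels4 : List (ℕ × List (List (ℕ × Bool))) := [(9, [[], [(34, false)], [(34, true)], [(34, false), (34, false)], [(34, true), (34, true)], [(35, false), (34, false)], [(35, false), (34, true)], [(35, true), (34, false)], [(35, true), (34, true)], [(34, false), (34, false), (34, false)], [(34, false), (35, false), (34, false)], [(34, false), (35, false), (34, true)], [(34, false), (35, true), (34, false)], [(34, true), (34, true), (34, true)], [(34, true), (35, false), (34, false)], [(34, true), (35, false), (34, true)], [(35, false), (34, false), (34, false)], [(35, false), (34, true), (34, true)], [(34, false), (34, false), (34, false), (34, false)], [(34, false), (34, false), (35, true), (34, false)], [(34, true), (34, true), (35, false), (34, false)], [(34, true), (35, false), (34, true), (34, true)], [(35, false), (34, true), (35, false), (34, true), (34, true)]]), (23, [[], [(35, false)], [(35, true)], [(35, false), (35, false)], [(35, true), (35, true)], [(35, false), (35, false), (35, false)], [(35, true), (35, true), (35, true)], [(35, false), (35, false), (35, false), (35, false)], [(35, true), (35, true), (35, true), (35, true)], [(35, false), (35, false), (35, false), (35, false), (35, false)], [(35, true), (35, true), (35, true), (35, true), (35, true)]])]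

/-- Levels of node 5. -/
def levels5 : List (ℕ × List (List (ℕ × Bool))) := [(9, [[], [(41, false)], [(42, false)], [(42, true)], [(43, false)], [(45, false)], [(45, true)], [(51, false)], [(41, false), (43, false)], [(41, false), (45, false)], [(41, false), (45, true)], [(41, false), (51, false)], [(42, false), (43, false)], [(42, false), (45, true)], [(42, true), (43, false)], [(42, true), (45, true)]]), (23, [[], [(41, false), (51, true)], [(42, false), (51, true), (45, true)], [(43, false), (45, false), (42, true)]]), (6, [[], [(42, true), (45, false), (51, false)]])]

/-- Levels of node 6. -/
def levels6 : List (ℕ × List (List (ℕ × Bool))) := [(9, [[], [(63, false)], [(64, false)], [(64, true)], [(65, false)], [(67, false)], [(63, false), (64, true)], [(63, false), (65, false)], [(64, false), (65, false)], [(64, false), (67, false)], [(64, true), (65, false)], [(64, true), (67, false)], [(65, false), (63, false)], [(67, false), (65, false)], [(71, false), (64, true)], [(63, false), (64, true), (65, false)]]), (23, [[], [(64, false), (67, true)], [(65, false), (65, false)], [(67, false), (64, true)], [(67, true), (71, false)], [(64, false), (65, false), (64, false)], [(64, true), (63, false), (71, false)], [(64, true), (65, false), (67, false)]]), (6, [[], [(63, false), (64, false), (65, false), (71, false)], [(64, true), (71, false), (64, true),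 (67, true)], [(64, true), (71, false), (67, true), (65, false), (71, false)]])]

/-- Levels of node 7. -/
def levels7 : List (ℕ × List (List (ℕ × Bool))) := [(9, [[], [(81, false)], [(81, true)], [(82, false)], [(83, false)], [(84, false)], [(80, false), (84, false)], [(81, false), (81, false)], [(81, false), (82, false)], [(81, false), (83, false)], [(81, false), (84, false)], [(82, false), (84, false)], [(83, false), (84, false)], [(83, true), (84, false)], [(84, false), (83, false)], [(84, false), (84, false)]]), (6, [[], [(80, false)], [(81, true), (85, false)], [(84, false), (81, false)], [(84, false), (85, false)], [(80, false), (84, false), (81, false)], [(81, false), (85, false), (81, true)], [(83, true), (85, false), (83, false)]]), (3, [[], [(80, false), (81, true), (84, true)], [(84, false), (80, false), (85, false)], [(80, false), (81, true), (80, false), (85, false)], [(80, false), (85, false), (81, false), (80, false)], [(81, false), (81, false), (82, false), (85, false), (83, false)], [(81, true), (84, false), (85, false), (81, false), (84, false)], [(80, false), (84, false), (85, false), (84, false), (80, false), (81, false)]]), (23, [[], [(84, false), (81, false), (85, false), (84, true)], [(84, false), (85, false), (81, true), (84, true)], [(84, false), (80, false), (84, true), (85, false), (81, false)], [(81, false), (81, false), (83,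 true), (85, false), (81, false), (83, false)], [(81, false), (84, true), (85, false), (81, false), (84, true), (80, false)], [(80, false), (85, false), (81, true), (84, true), (85, false), (84, true), (85, false)]]), (1, [[], [(80, false), (83, false), (83, false), (84, false), (85, false)], [(80, false), (85, false), (81, true), (84, false), (81, true)]])]

/-- Levels of node 8. -/
def levels8 : List (ℕ × List (List (ℕ × Bool))) := [(9, [[], [(91, false)], [(92, false)], [(94, false)], [(94, true)], [(96, false)], [(96, true)], [(90, false), (94, false)], [(90, false), (96, false)], [(91, false), (94, true)], [(92, false), (96, false)], [(93, false), (96, false)], [(94, true), (96, false)], [(96, false), (94, true)], [(96, true), (94, false)], [(101, false), (94, false)]]), (23, [[], [(90, false)], [(92, false), (93, false)], [(94, false), (101, false)], [(101, false), (94, true)], [(90, false), (92, false), (93, false)], [(91, false), (96, false), (92, false)], [(91, false), (96, false), (93, false)], [(92, false), (90, false), (96, true)], [(94, false), (92, false), (96, true)], [(94, false), (94, false), (96, true)], [(94, false), (90, false), (92, false), (96, true)]]), (6, [[], [(94, false), (90, false), (94, true)], [(90, false), (91, false), (93, false), (94, false)], [(92, false), (90, false), (92, false), (101, false)], [(92, false), (96, false),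 (93, false), (96, false)], [(93, false), (90, false), (94, true), (94, true)], [(93, false), (91, false), (94, true), (101, false)], [(90, false), (92, false), (91, false), (93, false), (101, false)]]), (15, [[], [(90, false), (101, false), (93, false), (96, true)], [(96, false), (93, false), (101, false), (90, false)], [(90, false), (92, false), (96, false), (94, false), (96, false)], [(92, false), (90, false), (101, false), (94, true), (101, false)], [(92, false), (101, false), (96, false), (93, false), (94, false)]])]

/-- Levels of node 9. -/
def levels9 : List (ℕ × List (List (ℕ × Bool))) := [(23, [[], [(104, false)], [(107, false)], [(104, false), (107, false)], [(119, false), (104, false)], [(119, false), (107, false)], [(119, true), (104, false)], [(119, true), (107, false)]]), (9, [[], [(119, false)], [(119, true)], [(104, false), (110, false)], [(104, false), (110, false), (119, false)], [(104, false), (110, false), (119, true)]]), (6, [[], [(105, false)]])]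

/-- Levels of node 10. -/
def levels10 : List (ℕ × List (List (ℕ × Bool))) := [(9, [[], [(138, false)], [(141, false)], [(141, true)], [(142, false)], [(138, false), (141, false)], [(143, false), (138, false)], [(143, false), (142, false)], [(143, true), (142, false)], [(138, false), (143, false), (138, false)], [(138, false), (143, false), (142, false)], [(138, false), (143, true), (142, false)], [(139, false), (143, false), (138, false)], [(140, false), (143, false), (138, false)], [(141, false), (143, false), (138, false)], [(141, false), (143, false), (142, false)], [(141, false), (143, true), (142, false)], [(141, true), (143, false), (138, false)], [(141, true), (143, false), (142, false)], [(141, true), (143, true), (142, false)], [(138, false), (141, false), (143, false), (138, false)], [(138, false), (141, true), (143, false), (138, false)], [(143, false), (139, false), (143, false), (138, false)], [(138, false), (143, false), (139, false), (143, false), (138, false)]]), (23, [[], [(140, false)], [(138, false), (139, false)], [(141, true), (143, false)], [(142, false), (142, false)], [(143, false), (141, false)], [(143, true), (141, false)], [(143, true), (143, true)], [(138, false), (139, false), (140, false)], [(138, false), (141, false), (142, false)], [(138, false), (142, true), (143, false)], [(139, false), (142, true), (143, true)], [(140,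 false), (143, true), (143, true)], [(141, true), (142, false), (138, false)], [(141, true), (143, false), (140, false)], [(141, true), (143, true), (140, false)], [(142, false), (138, false), (141, true)], [(143, false), (140, false), (141, false)], [(143, false), (142, false), (138, false)], [(138, false), (142, false), (142, false), (138, false)]]), (6, [[], [(139, false), (141, false), (142, true)], [(140, false), (141, true), (143, true)], [(143, false), (141, false), (140, false)], [(142, false), (138, false), (141, false), (143, false)], [(143, true), (141, true), (138, false), (142, true)], [(138, false), (139, false), (141, false), (143, false), (141, true)], [(138, false), (139, false), (141, true), (140, false), (143, false)], [(138, false), (141, false), (142, false), (143, false), (141, false)], [(138, false), (142, false), (138, false), (141, true), (142, true)], [(140, false), (143, true), (140, false), (143, false), (140, false)], [(142, false), (142, false), (143, false), (140, false), (143, false)], [(143, false), (142, false), (138, false), (143, false), (141, false)], [(143, true), (138, false), (142, true), (143, true), (141, true)], [(139, false), (142, false), (143, false), (141, false), (138, false), (142, true)], [(139, false), (143, true), (142, true), (143, true), (142, false), (143, true)]]), (5, [[], [(138, false), (140, false),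 (143, true), (142, true), (143, false), (142, true)], [(139, false), (142, true), (143, true), (138, false), (142, true), (143, true)], [(139, false), (142, false), (143, true), (138, false), (143, false), (143, false), (142, false)], [(139, false), (142, true), (143, true), (142, true), (143, true), (143, true), (139, false)], [(139, false), (143, false), (138, false), (140, false), (143, true), (141, false), (142, false)], [(139, false), (143, false), (143, false), (142, false), (138, false), (142, true), (143, true)], [(141, true), (142, true), (143, false), (138, false), (140, false), (143, true), (139, false)], [(138, false), (143, false), (139, false), (143, true), (142, false), (143, true), (140, false), (141, false)]]), (1, [[], [(138, false), (140, false), (141, true), (143, false), (142, false), (142, false), (143, false), (138, false), (143, true)]])]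

/-- Levels of node 11. -/
def levels11 : List (ℕ × List (List (ℕ × Bool))) := [(9, [[], [(148, false)], [(149, false)], [(153, false)], [(153, true)], [(244, true)], [(245, false)], [(245, true)], [(147, false), (245, false)], [(147, false), (245, true)], [(148, false), (149, false)], [(148, false), (153, true)], [(148, false), (245, true)], [(148, true), (245, false)], [(149, false), (245, false)], [(149, false), (245, true)], [(244, false), (245, false)], [(244, false), (245, true)], [(244, true), (245, true)], [(245, false), (153, true)], [(245, false), (244, true)], [(245, true), (153, true)], [(147, false), (244, false), (245, false)], [(147, false), (244, true), (245, true)]]), (23, [[], [(147, false)], [(150, false)], [(147, false), (150, false)], [(148, false), (148, false)], [(148, false), (244, false)], [(244, true), (148, false)], [(147, false), (148, false), (148, false)], [(147, false), (148, false), (244, false)], [(147, false), (244, true), (148, false)], [(148, false), (244, false), (150, false)], [(148, true), (153, false), (244, true)], [(148, true), (244, false), (147, false)], [(148, true), (244, false), (150, false)], [(153, true), (148, true), (244, true)], [(147, false), (148, true), (244, false), (150, false)]]), (5, [[], [(148, false), (150, false), (244, false)], [(244, true), (148, false), (150, false)], [(153, true), (148,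 true), (244, false), (148, true)], [(147, false), (148, false), (149, false), (153, false), (153, false)], [(147, false), (153, false), (150, false), (244, true), (153, true)]]), (6, [[], [(147, false), (148, false), (245, false), (153, false), (245, true)]])]

/-- Levels of node 12. -/
def levels12 : List (ℕ × List (List (ℕ × Bool))) := [(9, [[], [(161, false)], [(162, false)], [(164, true)], [(170, false)], [(170, true)], [(161, false), (162, false)], [(161, false), (164, true)], [(161, false), (170, false)], [(161, false), (170, true)], [(162, false), (164, true)], [(162, false), (170, true)], [(163, false), (170, false)], [(164, false), (170, true)], [(164, true), (170, true)], [(170, false), (161, false)], [(170, false), (162, false)], [(170, false), (164, true)], [(170, false), (170, false)], [(170, true), (164, true)], [(161, false), (162, false), (164, true)], [(161, false), (170, true), (164, true)], [(163, false), (161, false), (170, false)], [(163, false), (170, false), (161, false)]]), (23, [[], [(161, false), (164, false)], [(161, false), (163, false), (161, false)], [(161, false), (163, false), (164, false)], [(164, true), (163, false), (161, false)], [(164, true), (163, false), (164, false)], [(161, false), (162, false), (163, false), (162, false)], [(162, false), (164, true), (163, false), (162, false)]]), (5, [[], [(163, false)], [(161,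 false), (164, false), (163, false), (161, false), (164, false)], [(161, false), (164, false), (170, false), (163, false), (170, true)], [(170, false), (163, false), (170, true), (161, false), (164, false)], [(161, false), (163, false), (170, false), (163, false), (170, true), (164, false)]])]

/-- Levels of node 13. -/
def levels13 : List (ℕ × List (List (ℕ × Bool))) := [(9, [[], [(176, false)], [(177, false)], [(178, false)], [(188, true)], [(176, false), (177, false)], [(176, false), (178, false)], [(177, false), (178, false)], [(177, false), (188, true)], [(177, true), (188, true)], [(176, false), (177, false), (178, false)], [(177, false), (177, false), (188, true)]]), (23, [[], [(177, false), (177, false)], [(177, false), (178, true)], [(177, false), (188, false)]]), (5, [[], [(177, false), (177, false), (178, false), (188, false)]])]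

/-- Levels of node 14. -/
def levels14 : List (ℕ × List (List (ℕ × Bool))) := [(9, [[], [(202, false)], [(202, true)], [(203, false)], [(209, false)], [(209, true)], [(202, false), (203, false)], [(202, false), (209, false)], [(202, true), (209, false)], [(203, false), (209, true)], [(202, false), (203, false), (209, true)], [(202, true), (203, false), (209, true)]]), (1, [[], [(202, false), (203, false), (209, false)], [(202, false), (209, false), (209, false)], [(202, false), (203, false), (209, true), (202, true)]])]

/-- Levels of node 15. -/
def levels15 : List (ℕ × List (List (ℕ × Bool))) := [(9, [[], [(250, false)], [(251, false)], [(252, false)], [(255, false)], [(255, true)], [(250, false), (255, false)], [(250, false), (255, true)]]), (5, [[], [(251, false), (254, false)], [(250, false), (251, false), (252, false)], [(250, false), (252, false), (254, false)]])]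

/-- Levels of node 16. -/
def levels16 : List (ℕ × List (List (ℕ × Bool))) := [(22, [[], [(317, false)], [(317, true)], [(319, false)], [(317, false), (317, false)], [(317, false), (319, false)], [(317, true), (319, false)], [(319, false), (317, true)], [(317, false), (317, false), (319, false)], [(317, false), (319, false), (317, true)]]), (9, [[], [(317, true), (319, false), (317, true), (319, false)]])]

/-- Levels of node 17. -/
def levels17 : List (ℕ × List (List (ℕ × Bool))) := [(9, [[], [(376, false)], [(382, false)], [(393, false)], [(393, true)], [(376, false), (382, false)], [(376, false), (393, false)], [(376, false), (393, true)]]), (23, [[], [(393, false), (394, true)]])]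

/-- Levels of node 18. -/
def levels18 : List (ℕ × List (List (ℕ × Bool))) := [(23, [[], [(491, false)], [(530, false)], [(491, false), (530, false)], [(530, false), (491, false)], [(491, false), (530, false), (491, false)]])]

/-- Levels of node 19. -/
def levels19 : List (ℕ × List (List (ℕ × Bool))) := [(9, [[], [(826, false)], [(826, true)]])]

/-- The orders of the stabilisers. -/
def sizes : List ℕ := [244823040, 64512, 768, 192, 253, 128, 512, 21504, 9216, 96, 138240, 4608, 1152, 96, 48, 32, 20, 16, 6, 3]

end Cfsg.Agent.J4Bound.Data
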