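import Cfsg.Agent.Lib.J4Pres.Bound.Data.Table0
import Cfsg.Agent.Lib.J4Pres.Bound.Data.Table1
import Cfsg.Agent.Lib.J4Pres.Bound.Data.Table2
import Cfsg.Agent.Lib.J4Pres.Bound.Data.Table3

/-! Data of the double coset enumeration for the presented fourth Janko group (tools/j4/bound/emitb.py). -/

set_option autoImplicit false
set_option maxRecDepth 100000
set_option maxHeartbeats 0

namespace Cfsg.Agent.J4Bound.Data

/-- The data. -/
def table : Tree ((ℕ × ℕ × ℕ) × List ℕ) := (.node (.node (.node (.node (.node tb0 (((3421328, 4409606, 8946281) : ℕ × ℕ × ℕ), [20, 20, 10, 21]) tb1) (((615188, 4626498, 11535529) : ℕ × ℕ × ℕ), [10, 10, 4, 2]) (.node tb2 (((675712, 3444840, 12656663) : ℕ × ℕ × ℕ), [23, 23, 16, 11]) tb3)) (((1445088, 2207772, 13124355) : ℕ × ℕ × ℕ), [5, 5, 1, 0]) (.node (.node tb4 (((351362, 4850476, 11575377) : ℕ × ℕ × ℕ), [14, 14, 35, 27]) tb5) (((1265762,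 4721045, 10790408) : ℕ × ℕ × ℕ), [8, 8, 23, 16]) (.node tb6 (((272595, 4850476, 11654144) : ℕ × ℕ × ℕ), [34, 34, 19, 35]) tb7))) (((657763, 5329044, 10790408) : ℕ × ℕ × ℕ), [2, 2, 0, 3]) (.node (.node (.node tb8 (((72588, 5939296, 10765331) : ℕ × ℕ × ℕ), [12, 12, 32, 24]) tb9) (((262637, 5405696, 11108882) : ℕ × ℕ × ℕ), [13, 13, 6, 14]) (.node tb10 (((560668, 5709954, 10506593) : ℕ × ℕ × ℕ), [18, 18, 42, 33]) tb11)) (((615188, 2268296, 13893731) : ℕ × ℕ × ℕ), [3, 3, 12, 8]) (.node (.node tb12 (((657763, 3421328, 12698124) : ℕ × ℕ × ℕ), [29, 29, 15, 10]) tb13) (((1065303, 5024896, 10687016) : ℕ × ℕ × ℕ), [9, 9, 26, 18]) (.node tb14 (((2180760, 4626498, 9969957) : ℕ × ℕ × ℕ), [21, 21, 46, 37]) tb15)))) (((3444840, 8922769, 4409606) : ℕ × ℕ × ℕ), [0, 0, 3, 1]) (.node (.node (.node (.node tb16 (((2207772, 5390753, 9178690) : ℕ × ℕ × ℕ), [22, 22, 11, 23]) tb17) (((2916505,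 5249380, 8611330) : ℕ × ℕ × ℕ), [11, 11, 5, 12]) (.node tb18 (((262637, 3237906, 13276672) : ℕ × ℕ × ℕ), [31, 31, 17, 32]) tb19)) (((3147996, 4845570, 8783649) : ℕ × ℕ × ℕ), [6, 6, 2, 7]) (.node (.node tb20 (((3227948, 4626498, 8922769) : ℕ × ℕ × ℕ), [15, 15, 36, 28]) tb21) (((596054, 7397512, 8783649) : ℕ × ℕ × ℕ), [17, 17, 8, 5]) (.node tb22 (((2101096, 5329044, 9347075) : ℕ × ℕ × ℕ), [28, 28, 20, 36]) tb23))) (((2180760, 5249380, 9347075) : ℕ × ℕ × ℕ), [1, 1, 7, 4]) (.node (.node (.node tb24 (((2949708, 4370577, 9456930) : ℕ × ℕ × ℕ), [25, 25, 13, 26]) tb25) (((231532, 3421328, 13124355) : ℕ × ℕ × ℕ), [7, 7, 21, 15]) (.node tb26 (((69395, 2019456, 14688364) : ℕ × ℕ × ℕ), [26, 26, 18, 13]) tb27)) (((72588, 6053905, 10650722) : ℕ × ℕ × ℕ), [4, 4, 14, 9]) (.node (.node tb28 (((762504, 2120980, 13893731) : ℕ × ℕ × ℕ), [16, 16, 39, 30]) tb29) (((924689, 7438406, 8414120)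 : ℕ × ℕ × ℕ), [19, 19, 9, 6]) (.node tb30 (((3410225, 4755660, 8611330) : ℕ × ℕ × ℕ), [38, 38, 22, 39]) tb31)))))

end Cfsg.Agent.J4Bound.Data
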