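import Cfsg.Agent.Lib.J4Pres.Bound.Cover

/-! Data of the double coset enumeration for the presented fourth Janko group (tools/j4/bound/emitb.py). -/

set_option autoImplicit false
set_option maxRecDepth 100000
set_option maxHeartbeats 0

namespace Cfsg.Agent.J4Bound.Data

/-- Visits. -/
def v0_0 : List (ℕ × Src) :=
  [(0, .edge 2 false),
    (3, .gen 0 (1, false)),
    (1, .gen 0 (1, true)),
    (5, .gen 3 (0, false)),
    (2, .gen 1 (0, false)),
    (12, .gen 5 (1, false)),
    (8, .gen 5 (1, true)),
    (7, .gen 2 (1, false)),
    (4, .gen 2 (1, true)),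
    (17, .gen 12 (0, false)),
    (11, .gen 8 (0, false)),
    (10, .gen 7 (0, false)),
    (6, .gen 4 (0, false)),
    (32, .gen 17 (1, false)),
    (24, .gen 17 (1, true)),
    (23, .gen 11 (1, false)),
    (16, .gen 11 (1, true)),
    (21, .gen 10 (1, false)),
    (15, .gen 10 (1, true)),
    (14, .gen 6 (1, false)),
    (9, .gen 6 (1, true)),
    (35, .gen 32 (0, false)),
    (31, .gen 24 (0, false)),
    (22, .gen 16 (0, false)),
    (29, .gen 21 (0, false)),
    (20, .gen 15 (0, false)),
    (19, .gen 14 (0, false)),
    (13, .gen 9 (0, false)),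
    (27, .gen 35 (1, false)),
    (50, .gen 31 (1, false)),
    (40, .gen 31 (1, true)),
    (39, .gen 22 (1, false)),
    (30, .gen 22 (1, true)),
    (46, .gen 29 (1, false)),
    (37, .gen 29 (1, true)),
    (36, .gen 20 (1, false)),
    (28, .gen 20 (1, true)),
    (26, .gen 13 (1, false)),
    (18, .gen 13 (1, true)),
    (34, .gen 27 (0, false)),
    (62, .gen 50 (0, false)),
    (49, .gen 40 (0, false)),
    (48, .gen 39 (0, false)),
    (38, .gen 30 (0, false)),
    (57, .gen 46 (0, false)),
    (45, .gen 37 (0, false)),
    (44, .gen 36 (0, false)),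
    (25, .gen 18 (0, false)),
    (54, .gen 34 (1, false)),
    (43, .gen 34 (1, true)),
    (101, .gen 62 (1, false)),
    (79, .gen 62 (1, true)),
    (78, .gen 49 (1, false)),
    (61, .gen 49 (1, true)),
    (76, .gen 48 (1, false)),
    (60, .gen 48 (1, true)),
    (59, .gen 38 (1, false)),
    (47, .gen 38 (1, true)),
    (92, .gen 57 (1, false)),
    (72, .gen 57 (1, true)),
    (71, .gen 45 (1, false)),
    (56, .gen 45 (1, true)),
    (69, .gen 44 (1, false)),
    (55, .gen 44 (1, true)),
    (42, .gen 25 (1, false)),
    (33, .gen 25 (1, true)),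
    (67, .gen 54 (0, false)),
    (53, .gen 43 (0, false)),
    (128, .gen 101 (0, false)),
    (100, .gen 79 (0, false)),
    (99, .gen 78 (0, false)),
    (77, .gen 61 (0, false)),
    (97, .gen 76 (0, false)),
    (75, .gen 60 (0, false)),
    (74, .gen 59 (0, false)),
    (58, .gen 47 (0, false)),
    (117, .gen 92 (0, false)),
    (91, .gen 72 (0, false)),
    (90, .gen 71 (0, false)),
    (70, .gen 56 (0, false)),
    (88, .gen 69 (0, false)),
    (68, .gen 55 (0, false)),
    (52, .gen 42 (0, false)),
    (41, .gen 33 (0, false)),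
    (109, .gen 67 (1, false)),
    (86, .gen 67 (1, true)),
    (85, .gen 53 (1, false)),
    (66, .gen 53 (1, true)),
    (209, .gen 128 (1, false)),
    (163, .gen 128 (1, true)),
    (162, .gen 100 (1, false)),
    (127, .gen 100 (1, true)),
    (160, .gen 99 (1, false)),
    (126, .gen 99 (1, true)),
    (82, .gen 77 (1, false)),
    (98, .gen 77 (1, true)),
    (157, .gen 97 (1, false)),
    (124, .gen 97 (1, true)),
    (123, .gen 75 (1, false)),
    (96, .gen 75 (1, true)),
    (121, .gen 74 (1, false)),
    (95, .gen 74 (1, true)),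
    (94, .gen 58 (1, false)),
    (73, .gen 58 (1, true)),
    (189, .gen 117 (1, false)),
    (148, .gen 117 (1, true)),
    (147, .gen 91 (1, false)),
    (116, .gen 91 (1, true)),
    (145, .gen 90 (1, false)),
    (115, .gen 90 (1, true)),
    (114, .gen 70 (1, false)),
    (89, .gen 70 (1, true)),
    (141, .gen 88 (1, false)),
    (112, .gen 88 (1, true)),
    (111, .gen 68 (1, false)),
    (87, .gen 68 (1, true)),
    (83, .gen 52 (1, false)),
    (65, .gen 52 (1, true)),
    (64, .gen 41 (1, false)),
    (51, .gen 41 (1, true)),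
    (138, .gen 109 (0, false)),
    (108, .gen 86 (0, false)),
    (107, .gen 85 (0, false)),
    (84, .gen 66 (0, false)),
    (266, .gen 209 (0, false)),
    (208, .gen 163 (0, false)),
    (207, .gen 162 (0, false)),
    (161, .gen 127 (0, false)),
    (205, .gen 160 (0, false)),
    (159, .gen 126 (0, false)),
    (125, .gen 98 (0, false)),
    (201, .gen 157 (0, false)),
    (156, .gen 124 (0, false)),
    (155, .gen 123 (0, false)),
    (122, .gen 96 (0, false)),
    (153, .gen 121 (0, false)),
    (120, .gen 95 (0, false)),
    (119, .gen 94 (0, false)),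
    (93, .gen 73 (0, false)),
    (243, .gen 189 (0, false)),
    (188, .gen 148 (0, false)),
    (187, .gen 147 (0, false)),
    (146, .gen 116 (0, false)),
    (185, .gen 145 (0, false)),
    (144, .gen 115 (0, false)),
    (143, .gen 114 (0, false)),
    (113, .gen 89 (0, false)),
    (140, .gen 112 (0, false)),
    (110, .gen 87 (0, false)),
    (105, .gen 83 (0, false)),
    (81, .gen 64 (0, false)),
    (63, .gen 51 (0, false)),
    (227, .gen 138 (1, false)),
    (177, .gen 138 (1, true)),
    (176, .gen 108 (1, false)),
    (137, .gen 108 (1, true)),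
    (174, .gen 107 (1, false)),
    (136, .gen 107 (1, true)),
    (135, .gen 84 (1, false)),
    (106, .gen 84 (1, true)),
    (423, .gen 266 (1, false)),
    (336, .gen 266 (1, true)),
    (194, .gen 208 (1, false)),
    (265, .gen 208 (1, true)),
    (334, .gen 207 (1, false)),
    (264, .gen 207 (1, true)),
    (263, .gen 161 (1, false)),
    (206, .gen 161 (1, true)),
    (330, .gen 205 (1, false)),
    (261, .gen 205 (1, true)),
    (260, .gen 159 (1, false)),
    (204, .gen 159 (1, true)),
    (203, .gen 125 (1, false)),
    (158, .gen 125 (1, true)),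
    (323, .gen 201 (1, false)),
    (256, .gen 201 (1, true)),
    (255, .gen 156 (1, false)),
    (200, .gen 156 (1, true)),
    (253, .gen 155 (1, false)),
    (199, .gen 155 (1, true)),
    (198, .gen 122 (1, false)),
    (154, .gen 122 (1, true)),
    (249, .gen 153 (1, false)),
    (196, .gen 153 (1, true)),
    (195, .gen 120 (1, false)),
    (152, .gen 120 (1, true)),
    (193, .gen 119 (1, false)),
    (151, .gen 119 (1, true)),
    (150, .gen 93 (1, false)),
    (118, .gen 93 (1, true)),
    (390, .gen 243 (1, false)),
    (308, .gen 243 (1, true)),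
    (192, .gen 188 (1, false)),
    (242, .gen 188 (1, true)),
    (306, .gen 187 (1, false)),
    (241, .gen 187 (1, true)),
    (240, .gen 146 (1, false)),
    (186, .gen 146 (1, true)),
    (302, .gen 185 (1, false)),
    (238, .gen 185 (1, true)),
    (237, .gen 144 (1, false)),
    (184, .gen 144 (1, true)),
    (235, .gen 143 (1, false)),
    (183, .gen 143 (1, true)),
    (182, .gen 113 (1, false)),
    (142, .gen 113 (1, true)),
    (231, .gen 140 (1, false)),
    (180, .gen 140 (1, true)),
    (179, .gen 110 (1, false)),
    (139, .gen 110 (1, true)),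
    (170, .gen 105 (1, false)),
    (133, .gen 105 (1, true)),
    (132, .gen 81 (1, false)),
    (104, .gen 81 (1, true)),
    (103, .gen 63 (1, false)),
    (80, .gen 63 (1, true)),
    (290, .gen 227 (0, false)),
    (226, .gen 177 (0, false)),
    (225, .gen 176 (0, false)),
    (175, .gen 137 (0, false)),
    (223, .gen 174 (0, false)),
    (173, .gen 136 (0, false)),
    (172, .gen 135 (0, false)),
    (134, .gen 106 (0, false)),
    (530, .gen 423 (0, false)),
    (422, .gen 336 (0, false)),
    (335, .gen 265 (0, false)),
    (420, .gen 334 (0, false)),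
    (333, .gen 264 (0, false)),
    (332, .gen 263 (0, false)),
    (262, .gen 206 (0, false)),
    (415, .gen 330 (0, false)),
    (329, .gen 261 (0, false)),
    (328, .gen 260 (0, false)),
    (259, .gen 204 (0, false)),
    (258, .gen 203 (0, false)),
    (202, .gen 158 (0, false)),
    (408, .gen 323 (0, false)),
    (322, .gen 256 (0, false)),
    (321, .gen 255 (0, false)),
    (254, .gen 200 (0, false)),
    (319, .gen 253 (0, false)),
    (252, .gen 199 (0, false)),
    (251, .gen 198 (0, false)),
    (197, .gen 154 (0, false)),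
    (315, .gen 249 (0, false)),
    (248, .gen 195 (0, false)),
    (247, .gen 193 (0, false)),
    (191, .gen 150 (0, false)),
    (149, .gen 118 (0, false)),
    (488, .gen 390 (0, false)),
    (389, .gen 308 (0, false)),
    (307, .gen 242 (0, false)),
    (387, .gen 306 (0, false)),
    (305, .gen 241 (0, false)),
    (304, .gen 240 (0, false)),
    (239, .gen 186 (0, false)),
    (367, .gen 302 (0, false)),
    (301, .gen 238 (0, false)),
    (300, .gen 237 (0, false)),
    (236, .gen 184 (0, false)),
    (299, .gen 235 (0, false)),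
    (234, .gen 183 (0, false)),
    (233, .gen 182 (0, false)),
    (181, .gen 142 (0, false)),
    (295, .gen 231 (0, false)),
    (230, .gen 180 (0, false)),
    (229, .gen 179 (0, false)),
    (178, .gen 139 (0, false)),
    (218, .gen 170 (0, false)),
    (169, .gen 133 (0, false)),
    (168, .gen 132 (0, false)),
    (131, .gen 104 (0, false)),
    (130, .gen 103 (0, false)),
    (102, .gen 80 (0, false)),
    (462, .gen 290 (1, false)),
    (368, .gen 290 (1, true)),
    (289, .gen 226 (1, true)),
    (365, .gen 225 (1, false)),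
    (288, .gen 225 (1, true)),
    (287, .gen 175 (1, false)),
    (224, .gen 175 (1, true)),
    (361, .gen 223 (1, false)),
    (285, .gen 223 (1, true)),
    (284, .gen 173 (1, false)),
    (222, .gen 173 (1, true)),
    (282, .gen 172 (1, false)),
    (221, .gen 172 (1, true)),
    (220, .gen 134 (1, false)),
    (171, .gen 134 (1, true)),
    (821, .gen 530 (1, false)),
    (659, .gen 530 (1, true)),
    (480, .gen 422 (1, false)),
    (529, .gen 422 (1, true)),
    (528, .gen 335 (1, false)),
    (421, .gen 335 (1, true)),
    (655, .gen 420 (1, false)),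
    (526, .gen 420 (1, true)),
    (371, .gen 333 (1, false)),
    (419, .gen 333 (1, true))]

/-- Visits. -/
def v0_1 : List (ℕ × Src) :=
  [(524, .gen 332 (1, false)),
    (418, .gen 332 (1, true)),
    (417, .gen 262 (1, false)),
    (331, .gen 262 (1, true)),
    (647, .gen 415 (1, false)),
    (520, .gen 415 (1, true)),
    (519, .gen 329 (1, false)),
    (414, .gen 329 (1, true)),
    (517, .gen 328 (1, false)),
    (413, .gen 328 (1, true)),
    (379, .gen 259 (1, false)),
    (327, .gen 259 (1, true)),
    (316, .gen 258 (1, false)),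
    (326, .gen 258 (1, true)),
    (325, .gen 202 (1, false)),
    (257, .gen 202 (1, true)),
    (635, .gen 408 (1, false)),
    (511, .gen 408 (1, true)),
    (510, .gen 322 (1, false)),
    (407, .gen 322 (1, true)),
    (508, .gen 321 (1, false)),
    (406, .gen 321 (1, true)),
    (405, .gen 254 (1, false)),
    (320, .gen 254 (1, true)),
    (505, .gen 319 (1, false)),
    (403, .gen 319 (1, true)),
    (402, .gen 252 (1, false)),
    (318, .gen 252 (1, true)),
    (381, .gen 251 (1, false)),
    (317, .gen 197 (1, false)),
    (250, .gen 197 (1, true)),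
    (500, .gen 315 (1, false)),
    (399, .gen 315 (1, true)),
    (398, .gen 248 (1, false)),
    (314, .gen 248 (1, true)),
    (397, .gen 247 (1, false)),
    (313, .gen 247 (1, true)),
    (312, .gen 191 (1, false)),
    (246, .gen 191 (1, true)),
    (245, .gen 149 (1, false)),
    (190, .gen 149 (1, true)),
    (755, .gen 488 (1, false)),
    (608, .gen 488 (1, true)),
    (341, .gen 389 (1, false)),
    (487, .gen 389 (1, true)),
    (486, .gen 307 (1, false)),
    (388, .gen 307 (1, true)),
    (604, .gen 387 (1, false)),
    (484, .gen 387 (1, true)),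
    (483, .gen 305 (1, false)),
    (386, .gen 305 (1, true)),
    (481, .gen 304 (1, false)),
    (385, .gen 304 (1, true)),
    (384, .gen 239 (1, false)),
    (303, .gen 239 (1, true)),
    (477, .gen 301 (1, false)),
    (382, .gen 301 (1, true)),
    (298, .gen 236 (1, false)),
    (475, .gen 299 (1, false)),
    (380, .gen 299 (1, true)),
    (378, .gen 233 (1, false)),
    (297, .gen 233 (1, true)),
    (296, .gen 181 (1, false)),
    (232, .gen 181 (1, true)),
    (470, .gen 295 (1, false)),
    (375, .gen 295 (1, true)),
    (374, .gen 230 (1, false)),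
    (294, .gen 230 (1, true)),
    (372, .gen 229 (1, false)),
    (293, .gen 229 (1, true)),
    (292, .gen 178 (1, false)),
    (228, .gen 178 (1, true)),
    (352, .gen 218 (1, false)),
    (278, .gen 218 (1, true)),
    (277, .gen 169 (1, false)),
    (217, .gen 169 (1, true)),
    (275, .gen 168 (1, false)),
    (216, .gen 168 (1, true)),
    (215, .gen 131 (1, false)),
    (167, .gen 131 (1, true)),
    (213, .gen 130 (1, false)),
    (166, .gen 130 (1, true)),
    (165, .gen 102 (1, false)),
    (129, .gen 102 (1, true)),
    (579, .gen 462 (0, false)),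
    (461, .gen 368 (0, false)),
    (366, .gen 289 (0, false)),
    (460, .gen 365 (0, false)),
    (364, .gen 288 (0, false)),
    (363, .gen 287 (0, false)),
    (286, .gen 224 (0, false)),
    (455, .gen 361 (0, false)),
    (360, .gen 285 (0, false)),
    (359, .gen 284 (0, false)),
    (283, .gen 222 (0, false)),
    (357, .gen 282 (0, false)),
    (281, .gen 221 (0, false)),
    (280, .gen 220 (0, false)),
    (219, .gen 171 (0, false)),
    (788, .gen 821 (0, false)),
    (820, .gen 659 (0, false)),
    (658, .gen 529 (0, false)),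
    (657, .gen 528 (0, false)),
    (527, .gen 421 (0, false)),
    (815, .gen 655 (0, false)),
    (654, .gen 526 (0, false)),
    (525, .gen 419 (0, false)),
    (652, .gen 524 (0, false)),
    (523, .gen 418 (0, false)),
    (522, .gen 417 (0, false)),
    (416, .gen 331 (0, false)),
    (806, .gen 647 (0, false)),
    (646, .gen 520 (0, false)),
    (645, .gen 519 (0, false)),
    (518, .gen 414 (0, false)),
    (643, .gen 517 (0, false)),
    (516, .gen 413 (0, false)),
    (412, .gen 327 (0, false)),
    (411, .gen 326 (0, false)),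
    (410, .gen 325 (0, false)),
    (324, .gen 257 (0, false)),
    (791, .gen 635 (0, false)),
    (634, .gen 511 (0, false)),
    (633, .gen 510 (0, false)),
    (509, .gen 407 (0, false)),
    (631, .gen 508 (0, false)),
    (507, .gen 406 (0, false)),
    (506, .gen 405 (0, false)),
    (404, .gen 320 (0, false)),
    (628, .gen 505 (0, false)),
    (504, .gen 403 (0, false)),
    (503, .gen 402 (0, false)),
    (401, .gen 318 (0, false)),
    (476, .gen 381 (0, false)),
    (400, .gen 317 (0, false)),
    (499, .gen 399 (0, false)),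
    (498, .gen 398 (0, false)),
    (497, .gen 397 (0, false)),
    (396, .gen 313 (0, false)),
    (395, .gen 312 (0, false)),
    (311, .gen 246 (0, false)),
    (310, .gen 245 (0, false)),
    (244, .gen 190 (0, false)),
    (930, .gen 755 (0, false)),
    (754, .gen 608 (0, false)),
    (270, .gen 341 (0, false)),
    (607, .gen 487 (0, false)),
    (606, .gen 486 (0, false)),
    (485, .gen 388 (0, false)),
    (598, .gen 604 (0, false)),
    (603, .gen 484 (0, false)),
    (602, .gen 483 (0, false)),
    (482, .gen 386 (0, false)),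
    (600, .gen 481 (0, false)),
    (479, .gen 384 (0, false)),
    (383, .gen 303 (0, false)),
    (595, .gen 475 (0, false)),
    (474, .gen 380 (0, false)),
    (473, .gen 378 (0, false)),
    (377, .gen 297 (0, false)),
    (376, .gen 296 (0, false)),
    (469, .gen 375 (0, false)),
    (468, .gen 374 (0, false)),
    (373, .gen 294 (0, false)),
    (466, .gen 372 (0, false)),
    (370, .gen 292 (0, false)),
    (291, .gen 228 (0, false)),
    (443, .gen 352 (0, false)),
    (351, .gen 278 (0, false)),
    (350, .gen 277 (0, false)),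
    (276, .gen 217 (0, false)),
    (348, .gen 275 (0, false)),
    (274, .gen 216 (0, false)),
    (273, .gen 215 (0, false)),
    (214, .gen 167 (0, false)),
    (271, .gen 213 (0, false)),
    (212, .gen 166 (0, false)),
    (211, .gen 165 (0, false)),
    (164, .gen 129 (0, false)),
    (891, .gen 579 (1, false)),
    (722, .gen 579 (1, true)),
    (721, .gen 461 (1, false)),
    (578, .gen 461 (1, true)),
    (719, .gen 460 (1, false)),
    (577, .gen 460 (1, true)),
    (576, .gen 364 (1, false)),
    (459, .gen 364 (1, true)),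
    (574, .gen 363 (1, false)),
    (458, .gen 363 (1, true)),
    (457, .gen 286 (1, false)),
    (362, .gen 286 (1, true)),
    (710, .gen 455 (1, false)),
    (570, .gen 455 (1, true)),
    (569, .gen 360 (1, false)),
    (454, .gen 360 (1, true)),
    (453, .gen 359 (1, true)),
    (452, .gen 283 (1, false)),
    (358, .gen 283 (1, true)),
    (565, .gen 357 (1, false)),
    (450, .gen 357 (1, true)),
    (449, .gen 281 (1, false)),
    (356, .gen 281 (1, true)),
    (447, .gen 280 (1, false)),
    (355, .gen 280 (1, true)),
    (354, .gen 219 (1, false)),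
    (279, .gen 219 (1, true)),
    (632, .gen 788 (1, false)),
    (1217, .gen 820 (1, false)),
    (1002, .gen 820 (1, true)),
    (1001, .gen 658 (1, false)),
    (819, .gen 658 (1, true)),
    (818, .gen 657 (1, true)),
    (817, .gen 527 (1, false)),
    (656, .gen 527 (1, true)),
    (1163, .gen 815 (1, false)),
    (998, .gen 815 (1, true)),
    (653, .gen 525 (1, true)),
    (996, .gen 652 (1, false)),
    (813, .gen 652 (1, true)),
    (812, .gen 523 (1, false)),
    (651, .gen 523 (1, true)),
    (810, .gen 522 (1, false)),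
    (650, .gen 522 (1, true)),
    (649, .gen 416 (1, false)),
    (521, .gen 416 (1, true)),
    (1206, .gen 806 (1, false)),
    (990, .gen 806 (1, true)),
    (989, .gen 646 (1, false)),
    (805, .gen 646 (1, true)),
    (987, .gen 645 (1, false)),
    (804, .gen 645 (1, true)),
    (803, .gen 518 (1, false)),
    (644, .gen 518 (1, true)),
    (983, .gen 643 (1, false)),
    (801, .gen 643 (1, true)),
    (800, .gen 516 (1, false)),
    (642, .gen 516 (1, true)),
    (641, .gen 411 (1, false)),
    (515, .gen 411 (1, true)),
    (639, .gen 410 (1, false)),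
    (514, .gen 410 (1, true)),
    (513, .gen 324 (1, false)),
    (409, .gen 324 (1, true)),
    (1182, .gen 791 (1, false)),
    (970, .gen 791 (1, true)),
    (589, .gen 634 (1, false)),
    (790, .gen 634 (1, true)),
    (968, .gen 633 (1, false)),
    (789, .gen 633 (1, true)),
    (965, .gen 631 (1, false)),
    (786, .gen 631 (1, true)),
    (785, .gen 507 (1, false)),
    (630, .gen 507 (1, true)),
    (783, .gen 506 (1, false)),
    (629, .gen 506 (1, true)),
    (601, .gen 404 (1, false)),
    (960, .gen 628 (1, false)),
    (781, .gen 628 (1, true)),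
    (780, .gen 504 (1, false)),
    (627, .gen 504 (1, true)),
    (778, .gen 503 (1, false)),
    (626, .gen 503 (1, true)),
    (625, .gen 401 (1, false)),
    (502, .gen 401 (1, true)),
    (743, .gen 476 (1, false)),
    (596, .gen 476 (1, true)),
    (623, .gen 400 (1, false)),
    (501, .gen 400 (1, true)),
    (772, .gen 499 (1, false)),
    (621, .gen 499 (1, true)),
    (770, .gen 498 (1, false)),
    (620, .gen 498 (1, true)),
    (768, .gen 497 (1, false)),
    (619, .gen 497 (1, true)),
    (618, .gen 396 (1, false)),
    (496, .gen 396 (1, true)),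
    (617, .gen 395 (1, false)),
    (495, .gen 395 (1, true)),
    (494, .gen 311 (1, false)),
    (394, .gen 311 (1, true)),
    (492, .gen 310 (1, false)),
    (393, .gen 310 (1, true)),
    (392, .gen 244 (1, false)),
    (309, .gen 244 (1, true)),
    (1379, .gen 930 (1, false)),
    (1134, .gen 930 (1, true)),
    (716, .gen 754 (1, false)),
    (575, .gen 754 (1, true)),
    (342, .gen 270 (1, true)),
    (929, .gen 606 (1, false)),
    (753, .gen 606 (1, true)),
    (752, .gen 485 (1, false)),
    (605, .gen 485 (1, true)),
    (478, .gen 598 (1, false)),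
    (925, .gen 603 (1, false)),
    (750, .gen 603 (1, true)),
    (923, .gen 602 (1, false)),
    (749, .gen 602 (1, true)),
    (920, .gen 600 (1, false)),
    (747, .gen 600 (1, true))]

/-- Visits. -/
def v0_2 : List (ℕ × Src) :=
  [(746, .gen 479 (1, false)),
    (599, .gen 479 (1, true)),
    (541, .gen 595 (1, false)),
    (742, .gen 595 (1, true)),
    (741, .gen 474 (1, false)),
    (594, .gen 474 (1, true)),
    (739, .gen 473 (1, false)),
    (593, .gen 473 (1, true)),
    (592, .gen 377 (1, false)),
    (472, .gen 377 (1, true)),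
    (590, .gen 376 (1, false)),
    (471, .gen 376 (1, true)),
    (734, .gen 469 (1, false)),
    (588, .gen 469 (1, true)),
    (732, .gen 468 (1, false)),
    (587, .gen 468 (1, true)),
    (586, .gen 373 (1, false)),
    (467, .gen 373 (1, true)),
    (728, .gen 466 (1, false)),
    (584, .gen 466 (1, true)),
    (583, .gen 370 (1, false)),
    (465, .gen 370 (1, true)),
    (464, .gen 291 (1, false)),
    (369, .gen 291 (1, true)),
    (691, .gen 443 (1, false)),
    (556, .gen 443 (1, true)),
    (555, .gen 351 (1, false)),
    (442, .gen 351 (1, true)),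
    (553, .gen 350 (1, false)),
    (441, .gen 350 (1, true)),
    (440, .gen 276 (1, false)),
    (349, .gen 276 (1, true)),
    (549, .gen 348 (1, false)),
    (438, .gen 348 (1, true)),
    (437, .gen 274 (1, false)),
    (347, .gen 274 (1, true)),
    (435, .gen 273 (1, false)),
    (346, .gen 273 (1, true)),
    (345, .gen 214 (1, false)),
    (272, .gen 214 (1, true)),
    (431, .gen 271 (1, false)),
    (343, .gen 271 (1, true)),
    (340, .gen 211 (1, false)),
    (269, .gen 211 (1, true)),
    (268, .gen 164 (1, false)),
    (210, .gen 164 (1, true)),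
    (1090, .gen 891 (0, false)),
    (726, .gen 721 (0, false)),
    (720, .gen 578 (0, false)),
    (889, .gen 719 (0, false)),
    (718, .gen 577 (0, false)),
    (717, .gen 576 (0, false)),
    (715, .gen 574 (0, false)),
    (573, .gen 458 (0, false)),
    (572, .gen 457 (0, false)),
    (456, .gen 362 (0, false)),
    (879, .gen 710 (0, false)),
    (709, .gen 570 (0, false)),
    (708, .gen 569 (0, false)),
    (568, .gen 454 (0, false)),
    (567, .gen 453 (0, false)),
    (451, .gen 358 (0, false)),
    (703, .gen 565 (0, false)),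
    (564, .gen 450 (0, false)),
    (563, .gen 449 (0, false)),
    (448, .gen 356 (0, false)),
    (561, .gen 447 (0, false)),
    (446, .gen 355 (0, false)),
    (445, .gen 354 (0, false)),
    (353, .gen 279 (0, false)),
    (787, .gen 632 (0, false)),
    (1471, .gen 1217 (0, false)),
    (954, .gen 1002 (0, false)),
    (1216, .gen 1001 (0, false)),
    (1000, .gen 819 (0, false)),
    (763, .gen 817 (0, false)),
    (816, .gen 656 (0, false)),
    (955, .gen 1163 (0, false)),
    (904, .gen 998 (0, false)),
    (814, .gen 653 (0, false)),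
    (941, .gen 813 (0, false)),
    (811, .gen 651 (0, false)),
    (809, .gen 650 (0, false)),
    (808, .gen 649 (0, false)),
    (648, .gen 521 (0, false)),
    (1463, .gen 1206 (0, false)),
    (892, .gen 990 (0, false)),
    (1205, .gen 989 (0, false)),
    (988, .gen 805 (0, false)),
    (1203, .gen 987 (0, false)),
    (986, .gen 804 (0, false)),
    (985, .gen 803 (0, false)),
    (802, .gen 644 (0, false)),
    (1199, .gen 983 (0, false)),
    (902, .gen 801 (0, false)),
    (982, .gen 800 (0, false)),
    (799, .gen 642 (0, false)),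
    (798, .gen 641 (0, false)),
    (640, .gen 515 (0, false)),
    (796, .gen 639 (0, false)),
    (638, .gen 514 (0, false)),
    (637, .gen 513 (0, false)),
    (512, .gen 409 (0, false)),
    (1435, .gen 1182 (0, false)),
    (1181, .gen 970 (0, false)),
    (969, .gen 790 (0, false)),
    (1179, .gen 968 (0, false)),
    (967, .gen 789 (0, false)),
    (934, .gen 965 (0, false)),
    (964, .gen 786 (0, false)),
    (784, .gen 630 (0, false)),
    (962, .gen 783 (0, false)),
    (782, .gen 629 (0, false)),
    (748, .gen 601 (0, false)),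
    (1171, .gen 960 (0, false)),
    (959, .gen 781 (0, false)),
    (779, .gen 627 (0, false)),
    (957, .gen 778 (0, false)),
    (777, .gen 626 (0, false)),
    (776, .gen 625 (0, false)),
    (624, .gen 502 (0, false)),
    (914, .gen 743 (0, false)),
    (774, .gen 623 (0, false)),
    (622, .gen 501 (0, false)),
    (949, .gen 772 (0, false)),
    (771, .gen 621 (0, false)),
    (947, .gen 770 (0, false)),
    (769, .gen 620 (0, false)),
    (945, .gen 768 (0, false)),
    (767, .gen 619 (0, false)),
    (766, .gen 618 (0, false)),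
    (539, .gen 496 (0, false)),
    (765, .gen 617 (0, false)),
    (616, .gen 495 (0, false)),
    (615, .gen 494 (0, false)),
    (493, .gen 394 (0, false)),
    (613, .gen 492 (0, false)),
    (491, .gen 393 (0, false)),
    (490, .gen 392 (0, false)),
    (391, .gen 309 (0, false)),
    (1659, .gen 1379 (0, false)),
    (1378, .gen 1134 (0, false)),
    (886, .gen 716 (0, false)),
    (429, .gen 342 (0, false)),
    (1133, .gen 929 (0, false)),
    (928, .gen 753 (0, false)),
    (927, .gen 752 (0, false)),
    (751, .gen 605 (0, false)),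
    (597, .gen 478 (0, false)),
    (1128, .gen 925 (0, false)),
    (924, .gen 750 (0, false)),
    (1126, .gen 923 (0, false)),
    (922, .gen 749 (0, false)),
    (1123, .gen 920 (0, false)),
    (919, .gen 747 (0, false)),
    (918, .gen 746 (0, false)),
    (745, .gen 599 (0, false)),
    (432, .gen 541 (0, false)),
    (913, .gen 742 (0, false)),
    (912, .gen 741 (0, false)),
    (740, .gen 594 (0, false)),
    (910, .gen 739 (0, false)),
    (738, .gen 593 (0, false)),
    (737, .gen 592 (0, false)),
    (591, .gen 472 (0, false)),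
    (735, .gen 590 (0, false)),
    (672, .gen 734 (0, false)),
    (733, .gen 588 (0, false)),
    (903, .gen 732 (0, false)),
    (731, .gen 587 (0, false)),
    (730, .gen 586 (0, false)),
    (585, .gen 467 (0, false)),
    (898, .gen 728 (0, false)),
    (727, .gen 584 (0, false)),
    (680, .gen 583 (0, false)),
    (582, .gen 465 (0, false)),
    (581, .gen 464 (0, false)),
    (463, .gen 369 (0, false)),
    (858, .gen 691 (0, false)),
    (690, .gen 556 (0, false)),
    (689, .gen 555 (0, false)),
    (554, .gen 442 (0, false)),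
    (687, .gen 553 (0, false)),
    (552, .gen 441 (0, false)),
    (551, .gen 440 (0, false)),
    (439, .gen 349 (0, false)),
    (683, .gen 549 (0, false)),
    (548, .gen 438 (0, false)),
    (547, .gen 437 (0, false)),
    (436, .gen 347 (0, false)),
    (545, .gen 435 (0, false)),
    (434, .gen 346 (0, false)),
    (433, .gen 345 (0, false)),
    (344, .gen 272 (0, false)),
    (540, .gen 431 (0, false)),
    (430, .gen 343 (0, false)),
    (428, .gen 340 (0, false)),
    (339, .gen 269 (0, false)),
    (338, .gen 268 (0, false)),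
    (267, .gen 210 (0, false)),
    (1472, .gen 1090 (1, false)),
    (1323, .gen 1090 (1, true)),
    (896, .gen 726 (1, true)),
    (1089, .gen 720 (1, false)),
    (890, .gen 720 (1, true)),
    (1320, .gen 889 (1, false)),
    (1087, .gen 889 (1, true)),
    (1086, .gen 718 (1, false)),
    (888, .gen 718 (1, true)),
    (1084, .gen 717 (1, false)),
    (887, .gen 717 (1, true)),
    (866, .gen 715 (1, false)),
    (699, .gen 715 (1, true)),
    (885, .gen 573 (1, false)),
    (714, .gen 573 (1, true)),
    (883, .gen 572 (1, false)),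
    (713, .gen 572 (1, true)),
    (712, .gen 456 (1, false)),
    (571, .gen 456 (1, true)),
    (1304, .gen 879 (1, false)),
    (1075, .gen 879 (1, true)),
    (1074, .gen 709 (1, false)),
    (878, .gen 709 (1, true)),
    (1072, .gen 708 (1, false)),
    (877, .gen 708 (1, true)),
    (876, .gen 568 (1, false)),
    (707, .gen 568 (1, true)),
    (874, .gen 567 (1, false)),
    (706, .gen 567 (1, true)),
    (705, .gen 451 (1, false)),
    (566, .gen 451 (1, true)),
    (1063, .gen 703 (1, false)),
    (870, .gen 703 (1, true)),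
    (869, .gen 564 (1, false)),
    (702, .gen 564 (1, true)),
    (868, .gen 563 (1, false)),
    (701, .gen 563 (1, true)),
    (700, .gen 448 (1, false)),
    (562, .gen 448 (1, true)),
    (865, .gen 561 (1, false)),
    (698, .gen 561 (1, true)),
    (697, .gen 446 (1, false)),
    (560, .gen 446 (1, true)),
    (695, .gen 445 (1, false)),
    (559, .gen 445 (1, true)),
    (558, .gen 353 (1, false)),
    (444, .gen 353 (1, true)),
    (1177, .gen 787 (1, false)),
    (966, .gen 787 (1, true)),
    (1968, .gen 1471 (1, false)),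
    (1660, .gen 1471 (1, true)),
    (775, .gen 954 (1, false)),
    (1606, .gen 1216 (1, false)),
    (1327, .gen 1216 (1, true)),
    (1470, .gen 1000 (1, false)),
    (1215, .gen 1000 (1, true)),
    (614, .gen 763 (1, false)),
    (1214, .gen 816 (1, false)),
    (999, .gen 816 (1, true)),
    (1164, .gen 955 (1, true)),
    (1103, .gen 904 (1, true)),
    (863, .gen 814 (1, false)),
    (997, .gen 814 (1, true)),
    (764, .gen 941 (1, false)),
    (1211, .gen 811 (1, false)),
    (995, .gen 811 (1, true)),
    (1210, .gen 809 (1, false)),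
    (994, .gen 809 (1, true)),
    (1208, .gen 808 (1, false)),
    (993, .gen 808 (1, true)),
    (992, .gen 648 (1, false)),
    (807, .gen 648 (1, true)),
    (1711, .gen 1463 (1, false)),
    (1428, .gen 1463 (1, true)),
    (723, .gen 892 (1, false)),
    (1091, .gen 892 (1, true)),
    (1749, .gen 1205 (1, false)),
    (1462, .gen 1205 (1, true)),
    (1461, .gen 988 (1, false)),
    (1204, .gen 988 (1, true)),
    (1721, .gen 1203 (1, false)),
    (1459, .gen 1203 (1, true)),
    (1458, .gen 986 (1, false)),
    (1202, .gen 986 (1, true)),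
    (1456, .gen 985 (1, false)),
    (1201, .gen 985 (1, true)),
    (826, .gen 802 (1, false)),
    (984, .gen 802 (1, true)),
    (1741, .gen 1199 (1, false)),
    (1454, .gen 1199 (1, true)),
    (1101, .gen 902 (1, true)),
    (1453, .gen 982 (1, false)),
    (1198, .gen 982 (1, true)),
    (1197, .gen 799 (1, false)),
    (981, .gen 799 (1, true)),
    (1195, .gen 798 (1, false)),
    (980, .gen 798 (1, true)),
    (979, .gen 640 (1, false)),
    (797, .gen 640 (1, true)),
    (1191, .gen 796 (1, false))]

/-- Visits. -/
def v0_3 : List (ℕ × Src) :=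
  [(977, .gen 796 (1, true)),
    (976, .gen 638 (1, false)),
    (795, .gen 638 (1, true)),
    (974, .gen 637 (1, false)),
    (794, .gen 637 (1, true)),
    (793, .gen 512 (1, false)),
    (636, .gen 512 (1, true)),
    (2025, .gen 1435 (1, false)),
    (1717, .gen 1435 (1, true)),
    (1716, .gen 1181 (1, false)),
    (1434, .gen 1181 (1, true)),
    (1433, .gen 969 (1, false)),
    (1180, .gen 969 (1, true)),
    (1714, .gen 1179 (1, false)),
    (1431, .gen 1179 (1, true)),
    (1430, .gen 967 (1, false)),
    (1178, .gen 967 (1, true)),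
    (758, .gen 934 (1, false)),
    (1139, .gen 934 (1, true)),
    (1418, .gen 964 (1, false)),
    (1168, .gen 964 (1, true)),
    (1175, .gen 784 (1, false)),
    (963, .gen 784 (1, true)),
    (1424, .gen 962 (1, false)),
    (1173, .gen 962 (1, true)),
    (1172, .gen 782 (1, false)),
    (961, .gen 782 (1, true)),
    (1125, .gen 748 (1, false)),
    (921, .gen 748 (1, true)),
    (1703, .gen 1171 (1, false)),
    (1422, .gen 1171 (1, true)),
    (1421, .gen 959 (1, false)),
    (1170, .gen 959 (1, true)),
    (1169, .gen 779 (1, false)),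
    (958, .gen 779 (1, true)),
    (1417, .gen 957 (1, false)),
    (1167, .gen 957 (1, true)),
    (1166, .gen 777 (1, false)),
    (956, .gen 777 (1, true)),
    (1061, .gen 914 (1, false)),
    (1116, .gen 914 (1, true)),
    (1161, .gen 774 (1, false)),
    (952, .gen 774 (1, true)),
    (951, .gen 622 (1, false)),
    (773, .gen 622 (1, true)),
    (1405, .gen 949 (1, false)),
    (1157, .gen 949 (1, true)),
    (1119, .gen 771 (1, false)),
    (948, .gen 771 (1, true)),
    (1402, .gen 947 (1, false)),
    (1155, .gen 947 (1, true)),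
    (1154, .gen 769 (1, false)),
    (946, .gen 769 (1, true)),
    (1400, .gen 945 (1, false)),
    (1152, .gen 945 (1, true)),
    (1151, .gen 767 (1, false)),
    (944, .gen 767 (1, true)),
    (1149, .gen 766 (1, false)),
    (943, .gen 766 (1, true)),
    (671, .gen 539 (1, true)),
    (1147, .gen 765 (1, false)),
    (942, .gen 765 (1, true)),
    (909, .gen 615 (1, false)),
    (939, .gen 613 (1, false)),
    (762, .gen 613 (1, true)),
    (761, .gen 491 (1, false)),
    (612, .gen 491 (1, true)),
    (759, .gen 490 (1, false)),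
    (611, .gen 490 (1, true)),
    (610, .gen 391 (1, false)),
    (489, .gen 391 (1, true)),
    (1863, .gen 1659 (1, false)),
    (1967, .gen 1659 (1, true)),
    (1308, .gen 1378 (1, false)),
    (1658, .gen 1378 (1, true)),
    (1314, .gen 886 (1, false)),
    (1082, .gen 886 (1, true)),
    (670, .gen 429 (1, false)),
    (538, .gen 429 (1, true)),
    (1657, .gen 1133 (1, false)),
    (1377, .gen 1133 (1, true)),
    (1376, .gen 928 (1, false)),
    (1132, .gen 928 (1, true)),
    (1374, .gen 927 (1, false)),
    (1131, .gen 927 (1, true)),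
    (1130, .gen 751 (1, false)),
    (926, .gen 751 (1, true)),
    (916, .gen 597 (1, false)),
    (744, .gen 597 (1, true)),
    (1035, .gen 1128 (1, false)),
    (1370, .gen 1128 (1, true)),
    (1369, .gen 924 (1, false)),
    (1127, .gen 924 (1, true)),
    (991, .gen 1126 (1, false)),
    (1367, .gen 1126 (1, true)),
    (1645, .gen 1123 (1, false)),
    (1364, .gen 1123 (1, true)),
    (1363, .gen 919 (1, false)),
    (1122, .gen 919 (1, true)),
    (1361, .gen 918 (1, false)),
    (1121, .gen 918 (1, true)),
    (1120, .gen 745 (1, false)),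
    (917, .gen 745 (1, true)),
    (542, .gen 432 (1, true)),
    (1354, .gen 913 (1, false)),
    (1115, .gen 913 (1, true)),
    (1352, .gen 912 (1, false)),
    (1114, .gen 912 (1, true)),
    (1113, .gen 740 (1, false)),
    (911, .gen 740 (1, true)),
    (1349, .gen 910 (1, false)),
    (1111, .gen 910 (1, true)),
    (1109, .gen 737 (1, false)),
    (908, .gen 737 (1, true)),
    (907, .gen 591 (1, false)),
    (736, .gen 591 (1, true)),
    (1105, .gen 735 (1, false)),
    (905, .gen 735 (1, true)),
    (837, .gen 672 (1, true)),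
    (1338, .gen 903 (1, false)),
    (1102, .gen 903 (1, true)),
    (940, .gen 730 (1, false)),
    (901, .gen 730 (1, true)),
    (900, .gen 585 (1, false)),
    (729, .gen 585 (1, true)),
    (1332, .gen 898 (1, false)),
    (1098, .gen 898 (1, true)),
    (1097, .gen 727 (1, false)),
    (897, .gen 727 (1, true)),
    (546, .gen 680 (1, false)),
    (895, .gen 581 (1, false)),
    (725, .gen 581 (1, true)),
    (724, .gen 463 (1, false)),
    (580, .gen 463 (1, true)),
    (1275, .gen 858 (1, false)),
    (1050, .gen 858 (1, true)),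
    (1049, .gen 690 (1, false)),
    (857, .gen 690 (1, true)),
    (1047, .gen 689 (1, false)),
    (856, .gen 689 (1, true)),
    (855, .gen 554 (1, false)),
    (688, .gen 554 (1, true)),
    (1043, .gen 687 (1, false)),
    (853, .gen 687 (1, true)),
    (839, .gen 552 (1, false)),
    (674, .gen 552 (1, true)),
    (852, .gen 551 (1, false)),
    (686, .gen 551 (1, true)),
    (685, .gen 439 (1, false)),
    (550, .gen 439 (1, true)),
    (1038, .gen 683 (1, false)),
    (849, .gen 683 (1, true)),
    (696, .gen 548 (1, false)),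
    (682, .gen 548 (1, true)),
    (847, .gen 547 (1, false)),
    (681, .gen 547 (1, true)),
    (844, .gen 545 (1, false)),
    (678, .gen 545 (1, true)),
    (677, .gen 434 (1, false)),
    (544, .gen 434 (1, true)),
    (675, .gen 433 (1, false)),
    (543, .gen 433 (1, true)),
    (668, .gen 428 (1, false)),
    (537, .gen 428 (1, true)),
    (536, .gen 339 (1, false)),
    (427, .gen 339 (1, true)),
    (534, .gen 338 (1, false)),
    (426, .gen 338 (1, true)),
    (425, .gen 267 (1, false)),
    (337, .gen 267 (1, true)),
    (1218, .gen 1472 (0, false)),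
    (1602, .gen 1323 (0, false)),
    (1095, .gen 896 (0, false)),
    (1322, .gen 1089 (0, false)),
    (1088, .gen 890 (0, false)),
    (1598, .gen 1320 (0, false)),
    (1319, .gen 1087 (0, false)),
    (1318, .gen 1086 (0, false)),
    (1085, .gen 888 (0, false)),
    (1316, .gen 1084 (0, false)),
    (1083, .gen 887 (0, false)),
    (1058, .gen 866 (0, false)),
    (1081, .gen 885 (0, false)),
    (884, .gen 714 (0, false)),
    (882, .gen 713 (0, false)),
    (881, .gen 712 (0, false)),
    (711, .gen 571 (0, false)),
    (1581, .gen 1304 (0, false)),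
    (1303, .gen 1075 (0, false)),
    (1302, .gen 1074 (0, false)),
    (1073, .gen 878 (0, false)),
    (1301, .gen 1072 (0, false)),
    (1071, .gen 877 (0, false)),
    (1070, .gen 876 (0, false)),
    (875, .gen 707 (0, false)),
    (1068, .gen 874 (0, false)),
    (873, .gen 706 (0, false)),
    (872, .gen 705 (0, false)),
    (704, .gen 566 (0, false)),
    (1289, .gen 1063 (0, false)),
    (1062, .gen 870 (0, false)),
    (1060, .gen 868 (0, false)),
    (867, .gen 701 (0, false)),
    (1057, .gen 865 (0, false)),
    (864, .gen 698 (0, false)),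
    (694, .gen 559 (0, false)),
    (693, .gen 558 (0, false)),
    (557, .gen 444 (0, false)),
    (1176, .gen 966 (0, false)),
    (2298, .gen 1968 (0, false)),
    (1381, .gen 1660 (0, false)),
    (953, .gen 775 (0, false)),
    (1911, .gen 1606 (0, false)),
    (1093, .gen 1327 (0, false)),
    (1756, .gen 1470 (0, false)),
    (1469, .gen 1215 (0, false)),
    (1213, .gen 999 (0, false)),
    (1413, .gen 1164 (0, false)),
    (1339, .gen 1103 (0, false)),
    (1212, .gen 997 (0, false)),
    (1466, .gen 1210 (0, false)),
    (1209, .gen 994 (0, false)),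
    (1207, .gen 993 (0, false)),
    (2020, .gen 1711 (0, false)),
    (1324, .gen 1091 (0, false)),
    (2057, .gen 1749 (0, false)),
    (1748, .gen 1462 (0, false)),
    (1747, .gen 1461 (0, false)),
    (1460, .gen 1204 (0, false)),
    (1440, .gen 1721 (0, false)),
    (1535, .gen 1459 (0, false)),
    (1745, .gen 1458 (0, false)),
    (1457, .gen 1202 (0, false)),
    (1250, .gen 1201 (0, false)),
    (663, .gen 826 (0, false)),
    (1200, .gen 984 (0, false)),
    (2049, .gen 1741 (0, false)),
    (1740, .gen 1454 (0, false)),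
    (1336, .gen 1101 (0, false)),
    (1739, .gen 1453 (0, false)),
    (1452, .gen 1198 (0, false)),
    (1451, .gen 1197 (0, false)),
    (1196, .gen 981 (0, false)),
    (1194, .gen 980 (0, false)),
    (1193, .gen 979 (0, false)),
    (978, .gen 797 (0, false)),
    (1445, .gen 1191 (0, false)),
    (1190, .gen 977 (0, false)),
    (1189, .gen 976 (0, false)),
    (975, .gen 795 (0, false)),
    (1187, .gen 974 (0, false)),
    (973, .gen 794 (0, false)),
    (972, .gen 793 (0, false)),
    (792, .gen 636 (0, false)),
    (2356, .gen 2025 (0, false)),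
    (2024, .gen 1717 (0, false)),
    (2023, .gen 1716 (0, false)),
    (1715, .gen 1434 (0, false)),
    (1432, .gen 1180 (0, false)),
    (1713, .gen 1431 (0, false)),
    (1186, .gen 1430 (0, false)),
    (1429, .gen 1178 (0, false)),
    (1385, .gen 1139 (0, false)),
    (1578, .gen 1418 (0, false)),
    (1426, .gen 1175 (0, false)),
    (1174, .gen 963 (0, false)),
    (1705, .gen 1424 (0, false)),
    (1423, .gen 1172 (0, false)),
    (1366, .gen 1125 (0, false)),
    (1124, .gen 921 (0, false)),
    (1680, .gen 1703 (0, false)),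
    (1287, .gen 1422 (0, false)),
    (1702, .gen 1421 (0, false)),
    (1420, .gen 1170 (0, false)),
    (1419, .gen 1169 (0, false)),
    (1701, .gen 1417 (0, false)),
    (1416, .gen 1167 (0, false)),
    (1415, .gen 1166 (0, false)),
    (1165, .gen 956 (0, false)),
    (1355, .gen 1116 (0, false)),
    (1410, .gen 1161 (0, false)),
    (1160, .gen 952 (0, false)),
    (1159, .gen 951 (0, false)),
    (950, .gen 773 (0, false)),
    (1687, .gen 1405 (0, false)),
    (1404, .gen 1157 (0, false)),
    (1156, .gen 948 (0, false)),
    (1401, .gen 1155 (0, false)),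
    (1299, .gen 1154 (0, false)),
    (1153, .gen 946 (0, false)),
    (1683, .gen 1400 (0, false)),
    (1399, .gen 1152 (0, false)),
    (1398, .gen 1151 (0, false)),
    (1150, .gen 944 (0, false)),
    (1396, .gen 1149 (0, false)),
    (1148, .gen 943 (0, false)),
    (836, .gen 671 (0, false)),
    (1394, .gen 1147 (0, false)),
    (1146, .gen 942 (0, false)),
    (1110, .gen 909 (0, false))]

/-- Visits. -/
def v0_4 : List (ℕ × Src) :=
  [(1145, .gen 939 (0, false)),
    (938, .gen 762 (0, false)),
    (937, .gen 761 (0, false)),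
    (760, .gen 612 (0, false)),
    (935, .gen 759 (0, false)),
    (757, .gen 610 (0, false)),
    (609, .gen 489 (0, false)),
    (1565, .gen 1863 (0, false)),
    (2297, .gen 1967 (0, false)),
    (1079, .gen 1308 (0, false)),
    (1590, .gen 1314 (0, false)),
    (1313, .gen 1082 (0, false)),
    (835, .gen 670 (0, false)),
    (669, .gen 538 (0, false)),
    (1966, .gen 1657 (0, false)),
    (1656, .gen 1377 (0, false)),
    (1655, .gen 1376 (0, false)),
    (1375, .gen 1132 (0, false)),
    (1653, .gen 1374 (0, false)),
    (1373, .gen 1131 (0, false)),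
    (1372, .gen 1130 (0, false)),
    (1129, .gen 926 (0, false)),
    (1118, .gen 916 (0, false)),
    (915, .gen 744 (0, false)),
    (1368, .gen 1127 (0, false)),
    (1649, .gen 1367 (0, false)),
    (1951, .gen 1645 (0, false)),
    (1644, .gen 1364 (0, false)),
    (1643, .gen 1363 (0, false)),
    (1362, .gen 1122 (0, false)),
    (1468, .gen 1361 (0, false)),
    (1360, .gen 1121 (0, false)),
    (1359, .gen 1120 (0, false)),
    (673, .gen 542 (0, false)),
    (1635, .gen 1354 (0, false)),
    (1353, .gen 1115 (0, false)),
    (1634, .gen 1352 (0, false)),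
    (1351, .gen 1114 (0, false)),
    (1112, .gen 911 (0, false)),
    (1631, .gen 1349 (0, false)),
    (1348, .gen 1111 (0, false)),
    (1346, .gen 1109 (0, false)),
    (1108, .gen 908 (0, false)),
    (1107, .gen 907 (0, false)),
    (906, .gen 736 (0, false)),
    (1341, .gen 1105 (0, false)),
    (1104, .gen 905 (0, false)),
    (1022, .gen 837 (0, false)),
    (1618, .gen 1338 (0, false)),
    (1337, .gen 1102 (0, false)),
    (1006, .gen 901 (0, false)),
    (1100, .gen 900 (0, false)),
    (899, .gen 729 (0, false)),
    (1613, .gen 1332 (0, false)),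
    (1331, .gen 1098 (0, false)),
    (1096, .gen 897 (0, false)),
    (679, .gen 546 (0, false)),
    (1094, .gen 895 (0, false)),
    (894, .gen 725 (0, false)),
    (893, .gen 724 (0, false)),
    (1548, .gen 1275 (0, false)),
    (1274, .gen 1050 (0, false)),
    (1273, .gen 1049 (0, false)),
    (1048, .gen 857 (0, false)),
    (1271, .gen 1047 (0, false)),
    (1046, .gen 856 (0, false)),
    (1045, .gen 855 (0, false)),
    (854, .gen 688 (0, false)),
    (1266, .gen 1043 (0, false)),
    (1042, .gen 853 (0, false)),
    (1025, .gen 839 (0, false)),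
    (1041, .gen 852 (0, false)),
    (851, .gen 686 (0, false)),
    (850, .gen 685 (0, false)),
    (684, .gen 550 (0, false)),
    (1259, .gen 1038 (0, false)),
    (1037, .gen 849 (0, false)),
    (848, .gen 682 (0, false)),
    (846, .gen 681 (0, false)),
    (1031, .gen 844 (0, false)),
    (843, .gen 678 (0, false)),
    (842, .gen 677 (0, false)),
    (676, .gen 544 (0, false)),
    (840, .gen 675 (0, false)),
    (833, .gen 668 (0, false)),
    (667, .gen 537 (0, false)),
    (666, .gen 536 (0, false)),
    (535, .gen 427 (0, false)),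
    (664, .gen 534 (0, false)),
    (533, .gen 426 (0, false)),
    (532, .gen 425 (0, false)),
    (424, .gen 337 (0, false)),
    (1003, .gen 1218 (1, false)),
    (1473, .gen 1218 (1, true)),
    (2230, .gen 1602 (1, false)),
    (1905, .gen 1602 (1, true)),
    (1611, .gen 1095 (1, false)),
    (1330, .gen 1095 (1, true)),
    (1904, .gen 1322 (1, false)),
    (1601, .gen 1322 (1, true)),
    (1600, .gen 1088 (1, false)),
    (1321, .gen 1088 (1, true)),
    (2224, .gen 1598 (1, false)),
    (1900, .gen 1598 (1, true)),
    (1899, .gen 1319 (1, false)),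
    (1597, .gen 1319 (1, true)),
    (1897, .gen 1318 (1, false)),
    (1596, .gen 1318 (1, true)),
    (1595, .gen 1085 (1, false)),
    (1317, .gen 1085 (1, true)),
    (1593, .gen 1316 (1, true)),
    (1592, .gen 1083 (1, false)),
    (1315, .gen 1083 (1, true)),
    (1562, .gen 1058 (1, false)),
    (1285, .gen 1058 (1, true)),
    (1588, .gen 1081 (1, false)),
    (1312, .gen 1081 (1, true)),
    (1311, .gen 884 (1, false)),
    (1080, .gen 884 (1, true)),
    (1309, .gen 882 (1, false)),
    (1307, .gen 881 (1, false)),
    (1078, .gen 881 (1, true)),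
    (1077, .gen 711 (1, false)),
    (880, .gen 711 (1, true)),
    (2202, .gen 1581 (1, false)),
    (1881, .gen 1581 (1, true)),
    (1573, .gen 1303 (1, false)),
    (1580, .gen 1303 (1, true)),
    (1879, .gen 1302 (1, false)),
    (1579, .gen 1302 (1, true)),
    (1026, .gen 1073 (1, false)),
    (1877, .gen 1301 (1, false)),
    (1577, .gen 1071 (1, false)),
    (1300, .gen 1071 (1, true)),
    (1575, .gen 1070 (1, false)),
    (1298, .gen 875 (1, false)),
    (1069, .gen 875 (1, true)),
    (1574, .gen 1068 (1, false)),
    (1296, .gen 1068 (1, true)),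
    (1295, .gen 873 (1, false)),
    (1067, .gen 873 (1, true)),
    (1293, .gen 872 (1, false)),
    (1066, .gen 872 (1, true)),
    (1065, .gen 704 (1, false)),
    (871, .gen 704 (1, true)),
    (1865, .gen 1289 (1, false)),
    (1566, .gen 1289 (1, true)),
    (1288, .gen 1062 (1, true)),
    (1059, .gen 867 (1, true)),
    (1560, .gen 1057 (1, false)),
    (1284, .gen 1057 (1, true)),
    (1283, .gen 864 (1, false)),
    (1056, .gen 864 (1, true)),
    (1055, .gen 694 (1, false)),
    (862, .gen 694 (1, true)),
    (1053, .gen 693 (1, false)),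
    (861, .gen 693 (1, true)),
    (860, .gen 557 (1, false)),
    (692, .gen 557 (1, true)),
    (1710, .gen 1176 (1, false)),
    (1427, .gen 1176 (1, true)),
    (2964, .gen 2298 (1, false)),
    (2635, .gen 2298 (1, true)),
    (1135, .gen 1381 (1, false)),
    (931, .gen 1381 (1, true)),
    (1412, .gen 953 (1, false)),
    (1162, .gen 953 (1, true)),
    (2577, .gen 1911 (1, false)),
    (2236, .gen 1911 (1, true)),
    (1328, .gen 1093 (1, true)),
    (2402, .gen 1756 (1, false)),
    (2064, .gen 1756 (1, true)),
    (2063, .gen 1469 (1, false)),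
    (1755, .gen 1469 (1, true)),
    (2006, .gen 1413 (1, false)),
    (1696, .gen 1413 (1, true)),
    (1926, .gen 1339 (1, false)),
    (1619, .gen 1339 (1, true)),
    (1754, .gen 1212 (1, false)),
    (1467, .gen 1212 (1, true)),
    (2060, .gen 1466 (1, false)),
    (1752, .gen 1466 (1, true)),
    (1465, .gen 1209 (1, true)),
    (1464, .gen 1207 (1, true)),
    (1777, .gen 2020 (1, false)),
    (1491, .gen 2020 (1, true)),
    (1907, .gen 1324 (1, false)),
    (1603, .gen 1324 (1, true)),
    (1788, .gen 2057 (1, false)),
    (1500, .gen 2057 (1, true)),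
    (1679, .gen 1748 (1, false)),
    (2056, .gen 1748 (1, true)),
    (2394, .gen 1747 (1, false)),
    (2055, .gen 1747 (1, true)),
    (2054, .gen 1460 (1, false)),
    (1746, .gen 1460 (1, true)),
    (1722, .gen 1440 (1, true)),
    (1265, .gen 1535 (1, false)),
    (2391, .gen 1745 (1, false)),
    (2053, .gen 1745 (1, true)),
    (1744, .gen 1457 (1, true)),
    (1030, .gen 1250 (1, false)),
    (827, .gen 663 (1, true)),
    (1743, .gen 1200 (1, false)),
    (1455, .gen 1200 (1, true)),
    (2725, .gen 2049 (1, false)),
    (2385, .gen 2049 (1, true)),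
    (2384, .gen 1740 (1, false)),
    (2048, .gen 1740 (1, true)),
    (1922, .gen 1336 (1, false)),
    (1616, .gen 1336 (1, true)),
    (2382, .gen 1739 (1, false)),
    (2047, .gen 1739 (1, true)),
    (1569, .gen 1452 (1, false)),
    (1292, .gen 1452 (1, true)),
    (2046, .gen 1451 (1, false)),
    (1738, .gen 1451 (1, true)),
    (1737, .gen 1196 (1, false)),
    (1450, .gen 1196 (1, true)),
    (1735, .gen 1194 (1, false)),
    (1449, .gen 1194 (1, true)),
    (1733, .gen 1193 (1, false)),
    (1448, .gen 1193 (1, true)),
    (1447, .gen 978 (1, false)),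
    (1192, .gen 978 (1, true)),
    (2037, .gen 1445 (1, false)),
    (1729, .gen 1445 (1, true)),
    (1728, .gen 1190 (1, false)),
    (1444, .gen 1190 (1, true)),
    (1726, .gen 1189 (1, false)),
    (1443, .gen 1189 (1, true)),
    (1442, .gen 975 (1, false)),
    (1188, .gen 975 (1, true)),
    (1439, .gen 973 (1, false)),
    (1185, .gen 972 (1, true)),
    (1184, .gen 792 (1, false)),
    (971, .gen 792 (1, true)),
    (3016, .gen 2356 (1, false)),
    (2692, .gen 2356 (1, true)),
    (2624, .gen 2024 (1, false)),
    (2355, .gen 2024 (1, true)),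
    (2125, .gen 2023 (1, false)),
    (1810, .gen 2023 (1, true)),
    (2059, .gen 1715 (1, false)),
    (1751, .gen 1715 (1, true)),
    (1584, .gen 1432 (1, false)),
    (1306, .gen 1432 (1, true)),
    (2354, .gen 1713 (1, false)),
    (2022, .gen 1713 (1, true)),
    (2021, .gen 1429 (1, false)),
    (1712, .gen 1429 (1, true)),
    (1974, .gen 1385 (1, false)),
    (1665, .gen 1385 (1, true)),
    (2017, .gen 1426 (1, false)),
    (1708, .gen 1426 (1, true)),
    (1707, .gen 1174 (1, false)),
    (1425, .gen 1174 (1, true)),
    (1668, .gen 1705 (1, false)),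
    (2013, .gen 1705 (1, true)),
    (2012, .gen 1423 (1, false)),
    (1704, .gen 1423 (1, true)),
    (1955, .gen 1366 (1, false)),
    (1648, .gen 1366 (1, true)),
    (1647, .gen 1124 (1, false)),
    (1365, .gen 1124 (1, true)),
    (1397, .gen 1680 (1, false)),
    (2089, .gen 1702 (1, false)),
    (1775, .gen 1702 (1, true)),
    (1964, .gen 1419 (1, false)),
    (2342, .gen 1701 (1, false)),
    (2011, .gen 1701 (1, true)),
    (2010, .gen 1416 (1, false)),
    (1700, .gen 1416 (1, true)),
    (2008, .gen 1415 (1, false)),
    (1699, .gen 1415 (1, true)),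
    (1698, .gen 1165 (1, false)),
    (1414, .gen 1165 (1, true)),
    (1941, .gen 1355 (1, false)),
    (1636, .gen 1355 (1, true)),
    (1808, .gen 1410 (1, false)),
    (1694, .gen 1410 (1, true)),
    (1693, .gen 1160 (1, false)),
    (1409, .gen 1160 (1, true)),
    (1691, .gen 1159 (1, false)),
    (1408, .gen 1159 (1, true)),
    (1407, .gen 950 (1, false)),
    (1158, .gen 950 (1, true)),
    (1686, .gen 1156 (1, false)),
    (1403, .gen 1156 (1, true)),
    (1996, .gen 1401 (1, false)),
    (1684, .gen 1401 (1, true)),
    (1344, .gen 1153 (1, false)),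
    (2326, .gen 1683 (1, false)),
    (1994, .gen 1683 (1, true)),
    (1993, .gen 1399 (1, false)),
    (1682, .gen 1399 (1, true)),
    (1991, .gen 1398 (1, false)),
    (1681, .gen 1398 (1, true)),
    (1990, .gen 1396 (1, false)),
    (1678, .gen 1396 (1, true))]

/-- Visits. -/
def v0_5 : List (ℕ × Src) :=
  [(1677, .gen 1148 (1, false)),
    (1395, .gen 1148 (1, true)),
    (1021, .gen 836 (1, true)),
    (1986, .gen 1394 (1, false)),
    (1675, .gen 1394 (1, true)),
    (1674, .gen 1146 (1, false)),
    (1393, .gen 1146 (1, true)),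
    (1630, .gen 1110 (1, false)),
    (1347, .gen 1110 (1, true)),
    (1549, .gen 1145 (1, false)),
    (1276, .gen 1145 (1, true)),
    (1392, .gen 938 (1, false)),
    (1144, .gen 938 (1, true)),
    (1391, .gen 937 (1, false)),
    (1143, .gen 937 (1, true)),
    (1142, .gen 760 (1, false)),
    (936, .gen 760 (1, true)),
    (1387, .gen 935 (1, false)),
    (1140, .gen 935 (1, true)),
    (1138, .gen 757 (1, false)),
    (933, .gen 757 (1, true)),
    (932, .gen 609 (1, false)),
    (756, .gen 609 (1, true)),
    (2337, .gen 2297 (1, false)),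
    (2005, .gen 2297 (1, true)),
    (2215, .gen 1590 (1, false)),
    (1891, .gen 1590 (1, true)),
    (1890, .gen 1313 (1, false)),
    (1589, .gen 1313 (1, true)),
    (1238, .gen 835 (1, false)),
    (1020, .gen 835 (1, true)),
    (1019, .gen 669 (1, false)),
    (834, .gen 669 (1, true)),
    (2096, .gen 1966 (1, false)),
    (2296, .gen 1966 (1, true)),
    (2295, .gen 1656 (1, false)),
    (1965, .gen 1656 (1, true)),
    (1963, .gen 1375 (1, false)),
    (1654, .gen 1375 (1, true)),
    (2234, .gen 1653 (1, false)),
    (1961, .gen 1653 (1, true)),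
    (1798, .gen 1373 (1, false)),
    (1510, .gen 1373 (1, true)),
    (1960, .gen 1372 (1, false)),
    (1652, .gen 1372 (1, true)),
    (1333, .gen 1129 (1, false)),
    (1371, .gen 1129 (1, true)),
    (1640, .gen 1118 (1, false)),
    (1358, .gen 1118 (1, true)),
    (1357, .gen 915 (1, false)),
    (1117, .gen 915 (1, true)),
    (1958, .gen 1368 (1, false)),
    (1650, .gen 1368 (1, true)),
    (2287, .gen 1649 (1, false)),
    (1956, .gen 1649 (1, true)),
    (2340, .gen 1951 (1, false)),
    (2009, .gen 1951 (1, true)),
    (2280, .gen 1644 (1, false)),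
    (1950, .gen 1644 (1, true)),
    (2278, .gen 1643 (1, false)),
    (1949, .gen 1643 (1, true)),
    (1948, .gen 1362 (1, false)),
    (1642, .gen 1362 (1, true)),
    (1411, .gen 1359 (1, false)),
    (1641, .gen 1359 (1, true)),
    (1024, .gen 673 (1, false)),
    (838, .gen 673 (1, true)),
    (2269, .gen 1635 (1, false)),
    (1939, .gen 1635 (1, true)),
    (2267, .gen 1634 (1, false)),
    (1938, .gen 1634 (1, true)),
    (1937, .gen 1351 (1, false)),
    (1633, .gen 1351 (1, true)),
    (1632, .gen 1112 (1, false)),
    (1350, .gen 1112 (1, true)),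
    (2263, .gen 1631 (1, false)),
    (1934, .gen 1631 (1, true)),
    (1933, .gen 1346 (1, false)),
    (1628, .gen 1346 (1, true)),
    (1627, .gen 1108 (1, false)),
    (1345, .gen 1108 (1, true)),
    (1343, .gen 906 (1, false)),
    (1106, .gen 906 (1, true)),
    (1928, .gen 1341 (1, false)),
    (1622, .gen 1341 (1, true)),
    (1621, .gen 1104 (1, false)),
    (1340, .gen 1104 (1, true)),
    (1503, .gen 1022 (1, false)),
    (1240, .gen 1022 (1, true)),
    (2252, .gen 1618 (1, false)),
    (1924, .gen 1618 (1, true)),
    (1923, .gen 1337 (1, false)),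
    (1617, .gen 1337 (1, true)),
    (824, .gen 1006 (1, false)),
    (1221, .gen 1006 (1, true)),
    (1615, .gen 1100 (1, false)),
    (1335, .gen 1100 (1, true)),
    (1334, .gen 899 (1, false)),
    (1099, .gen 899 (1, true)),
    (2246, .gen 1613 (1, false)),
    (1918, .gen 1613 (1, true)),
    (1917, .gen 1331 (1, false)),
    (1612, .gen 1331 (1, true)),
    (1498, .gen 1096 (1, false)),
    (1236, .gen 1096 (1, true)),
    (1033, .gen 679 (1, false)),
    (845, .gen 679 (1, true)),
    (1609, .gen 1094 (1, false)),
    (1329, .gen 1094 (1, true)),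
    (1326, .gen 893 (1, false)),
    (1092, .gen 893 (1, true)),
    (2160, .gen 1548 (1, false)),
    (1844, .gen 1548 (1, true)),
    (1843, .gen 1274 (1, false)),
    (1547, .gen 1274 (1, true)),
    (1841, .gen 1273 (1, false)),
    (1546, .gen 1273 (1, true)),
    (1545, .gen 1048 (1, false)),
    (1272, .gen 1048 (1, true)),
    (1837, .gen 1271 (1, false)),
    (1543, .gen 1271 (1, true)),
    (1542, .gen 1046 (1, false)),
    (1270, .gen 1046 (1, true)),
    (1540, .gen 1045 (1, false)),
    (1269, .gen 1045 (1, true)),
    (1268, .gen 854 (1, false)),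
    (1044, .gen 854 (1, true)),
    (1829, .gen 1266 (1, false)),
    (1536, .gen 1266 (1, true)),
    (1508, .gen 1025 (1, false)),
    (1243, .gen 1025 (1, true)),
    (1533, .gen 1041 (1, false)),
    (1264, .gen 1041 (1, true)),
    (1263, .gen 851 (1, false)),
    (1040, .gen 851 (1, true)),
    (1261, .gen 850 (1, false)),
    (1039, .gen 850 (1, true)),
    (1820, .gen 1259 (1, false)),
    (1527, .gen 1259 (1, true)),
    (1526, .gen 1037 (1, false)),
    (1258, .gen 1037 (1, true)),
    (1257, .gen 848 (1, false)),
    (1036, .gen 848 (1, true)),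
    (1255, .gen 846 (1, false)),
    (1034, .gen 846 (1, true)),
    (1517, .gen 1031 (1, false)),
    (1251, .gen 1031 (1, true)),
    (1248, .gen 842 (1, false)),
    (1029, .gen 842 (1, true)),
    (1028, .gen 676 (1, false)),
    (841, .gen 676 (1, true)),
    (1234, .gen 833 (1, false)),
    (1017, .gen 833 (1, true)),
    (1016, .gen 667 (1, false)),
    (832, .gen 667 (1, true)),
    (1014, .gen 666 (1, false)),
    (831, .gen 666 (1, true)),
    (830, .gen 535 (1, false)),
    (665, .gen 535 (1, true)),
    (1010, .gen 664 (1, false)),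
    (828, .gen 664 (1, true)),
    (825, .gen 532 (1, false)),
    (662, .gen 532 (1, true)),
    (661, .gen 424 (1, false)),
    (531, .gen 424 (1, true)),
    (822, .gen 1003 (0, false)),
    (1757, .gen 1473 (0, false)),
    (2259, .gen 2230 (0, false)),
    (2229, .gen 1905 (0, false)),
    (1915, .gen 1611 (0, false)),
    (1610, .gen 1330 (0, false)),
    (2228, .gen 1904 (0, false)),
    (1903, .gen 1601 (0, false)),
    (1902, .gen 1600 (0, false)),
    (1599, .gen 1321 (0, false)),
    (2271, .gen 2224 (0, false)),
    (2223, .gen 1900 (0, false)),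
    (1898, .gen 1597 (0, false)),
    (2144, .gen 1897 (0, false)),
    (1896, .gen 1596 (0, false)),
    (1594, .gen 1317 (0, false)),
    (1894, .gen 1593 (0, false)),
    (1893, .gen 1592 (0, false)),
    (1591, .gen 1315 (0, false)),
    (1860, .gen 1562 (0, false)),
    (1561, .gen 1285 (0, false)),
    (1824, .gen 1588 (0, false)),
    (1587, .gen 1312 (0, false)),
    (1310, .gen 1080 (0, false)),
    (1523, .gen 1309 (0, false)),
    (1585, .gen 1307 (0, false)),
    (1076, .gen 880 (0, false)),
    (2533, .gen 2202 (0, false)),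
    (2201, .gen 1881 (0, false)),
    (1880, .gen 1580 (0, false)),
    (2199, .gen 1879 (0, false)),
    (1878, .gen 1579 (0, false)),
    (1244, .gen 1026 (0, false)),
    (2197, .gen 1877 (0, false)),
    (1876, .gen 1577 (0, false)),
    (1576, .gen 1300 (0, false)),
    (1874, .gen 1575 (0, false)),
    (1297, .gen 1069 (0, false)),
    (1873, .gen 1574 (0, false)),
    (1572, .gen 1295 (0, false)),
    (1294, .gen 1067 (0, false)),
    (1570, .gen 1293 (0, false)),
    (1291, .gen 1065 (0, false)),
    (1064, .gen 871 (0, false)),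
    (2181, .gen 1865 (0, false)),
    (1864, .gen 1566 (0, false)),
    (1564, .gen 1288 (0, false)),
    (1286, .gen 1059 (0, false)),
    (1859, .gen 1560 (0, false)),
    (1559, .gen 1284 (0, false)),
    (1558, .gen 1283 (0, false)),
    (1282, .gen 1056 (0, false)),
    (1281, .gen 1055 (0, false)),
    (1054, .gen 862 (0, false)),
    (1279, .gen 1053 (0, false)),
    (1052, .gen 861 (0, false)),
    (859, .gen 692 (0, false)),
    (2019, .gen 1710 (0, false)),
    (1709, .gen 1427 (0, false)),
    (3240, .gen 2964 (0, false)),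
    (2963, .gen 2635 (0, false)),
    (1380, .gen 1135 (0, false)),
    (1695, .gen 1412 (0, false)),
    (2576, .gen 2236 (0, false)),
    (1607, .gen 1328 (0, false)),
    (2741, .gen 2402 (0, false)),
    (2401, .gen 2064 (0, false)),
    (2400, .gen 2063 (0, false)),
    (2254, .gen 1926 (0, false)),
    (1925, .gen 1619 (0, false)),
    (2062, .gen 1754 (0, false)),
    (1753, .gen 1467 (0, false)),
    (2398, .gen 2060 (0, false)),
    (1750, .gen 1464 (0, false)),
    (2091, .gen 1777 (0, false)),
    (1231, .gen 1491 (0, false)),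
    (2232, .gen 1907 (0, false)),
    (1906, .gen 1603 (0, false)),
    (2102, .gen 1788 (0, false)),
    (2395, .gen 2056 (0, false)),
    (2736, .gen 2394 (0, false)),
    (2393, .gen 2055 (0, false)),
    (2392, .gen 2054 (0, false)),
    (1484, .gen 1746 (0, false)),
    (1850, .gen 1722 (0, false)),
    (1534, .gen 1265 (0, false)),
    (2733, .gen 2391 (0, false)),
    (2390, .gen 2053 (0, false)),
    (2052, .gen 1744 (0, false)),
    (1249, .gen 1030 (0, false)),
    (1008, .gen 827 (0, false)),
    (2051, .gen 1743 (0, false)),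
    (1742, .gen 1455 (0, false)),
    (3040, .gen 2725 (0, false)),
    (2724, .gen 2385 (0, false)),
    (2723, .gen 2384 (0, false)),
    (2383, .gen 2048 (0, false)),
    (1921, .gen 1616 (0, false)),
    (2700, .gen 2382 (0, false)),
    (2381, .gen 2047 (0, false)),
    (1868, .gen 1569 (0, false)),
    (2380, .gen 2046 (0, false)),
    (2045, .gen 1738 (0, false)),
    (1528, .gen 1737 (0, false)),
    (1736, .gen 1450 (0, false)),
    (2043, .gen 1735 (0, false)),
    (1734, .gen 1449 (0, false)),
    (2041, .gen 1733 (0, false)),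
    (1732, .gen 1448 (0, false)),
    (1731, .gen 1447 (0, false)),
    (1446, .gen 1192 (0, false)),
    (2370, .gen 2037 (0, false)),
    (2036, .gen 1729 (0, false)),
    (2035, .gen 1728 (0, false)),
    (1727, .gen 1444 (0, false)),
    (2033, .gen 1726 (0, false)),
    (1725, .gen 1443 (0, false)),
    (1724, .gen 1442 (0, false)),
    (1441, .gen 1188 (0, false)),
    (1438, .gen 1185 (0, false)),
    (1437, .gen 1184 (0, false)),
    (1183, .gen 971 (0, false)),
    (2693, .gen 3016 (0, false)),
    (3015, .gen 2692 (0, false)),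
    (2284, .gen 2624 (0, false)),
    (2691, .gen 2355 (0, false)),
    (2466, .gen 2125 (0, false)),
    (1519, .gen 1810 (0, false)),
    (2397, .gen 2059 (0, false)),
    (1884, .gen 1584 (0, false)),
    (2690, .gen 2354 (0, false)),
    (2353, .gen 2022 (0, false)),
    (2352, .gen 2021 (0, false)),
    (1772, .gen 1712 (0, false)),
    (2305, .gen 1974 (0, false))]

/-- Visits. -/
def v0_6 : List (ℕ × Src) :=
  [(1973, .gen 1665 (0, false)),
    (2348, .gen 2017 (0, false)),
    (2016, .gen 1708 (0, false)),
    (2015, .gen 1707 (0, false)),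
    (1706, .gen 1425 (0, false)),
    (1388, .gen 1668 (0, false)),
    (2343, .gen 2012 (0, false)),
    (1931, .gen 1704 (0, false)),
    (2285, .gen 1955 (0, false)),
    (1954, .gen 1648 (0, false)),
    (1953, .gen 1647 (0, false)),
    (1646, .gen 1365 (0, false)),
    (2428, .gen 2089 (0, false)),
    (1489, .gen 1775 (0, false)),
    (2293, .gen 1964 (0, false)),
    (2682, .gen 2342 (0, false)),
    (2341, .gen 2011 (0, false)),
    (1909, .gen 2010 (0, false)),
    (2339, .gen 2008 (0, false)),
    (2007, .gen 1699 (0, false)),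
    (1997, .gen 1698 (0, false)),
    (1697, .gen 1414 (0, false)),
    (1940, .gen 1636 (0, false)),
    (2003, .gen 1694 (0, false)),
    (1789, .gen 1693 (0, false)),
    (1692, .gen 1409 (0, false)),
    (1690, .gen 1408 (0, false)),
    (1689, .gen 1407 (0, false)),
    (1406, .gen 1158 (0, false)),
    (1998, .gen 1686 (0, false)),
    (1685, .gen 1403 (0, false)),
    (2328, .gen 1996 (0, false)),
    (1995, .gen 1684 (0, false)),
    (1625, .gen 1344 (0, false)),
    (2667, .gen 2326 (0, false)),
    (2325, .gen 1994 (0, false)),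
    (2324, .gen 1993 (0, false)),
    (1992, .gen 1682 (0, false)),
    (2322, .gen 1991 (0, false)),
    (2321, .gen 1990 (0, false)),
    (1989, .gen 1678 (0, false)),
    (1988, .gen 1677 (0, false)),
    (1676, .gen 1395 (0, false)),
    (1239, .gen 1021 (0, false)),
    (2319, .gen 1986 (0, false)),
    (1985, .gen 1675 (0, false)),
    (1984, .gen 1674 (0, false)),
    (1673, .gen 1393 (0, false)),
    (1629, .gen 1347 (0, false)),
    (1845, .gen 1549 (0, false)),
    (1051, .gen 1276 (0, false)),
    (1672, .gen 1392 (0, false)),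
    (1005, .gen 1144 (0, false)),
    (1671, .gen 1391 (0, false)),
    (1390, .gen 1143 (0, false)),
    (1389, .gen 1142 (0, false)),
    (1141, .gen 936 (0, false)),
    (1667, .gen 1387 (0, false)),
    (1386, .gen 1140 (0, false)),
    (1384, .gen 1138 (0, false)),
    (1137, .gen 933 (0, false)),
    (1136, .gen 932 (0, false)),
    (2678, .gen 2337 (0, false)),
    (2558, .gen 2215 (0, false)),
    (2214, .gen 1891 (0, false)),
    (2213, .gen 1890 (0, false)),
    (1889, .gen 1589 (0, false)),
    (1237, .gen 1020 (0, false)),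
    (1018, .gen 834 (0, false)),
    (1783, .gen 2096 (0, false)),
    (2634, .gen 2296 (0, false)),
    (2633, .gen 2295 (0, false)),
    (2294, .gen 1965 (0, false)),
    (1962, .gen 1654 (0, false)),
    (1910, .gen 2234 (0, false)),
    (2205, .gen 1961 (0, false)),
    (2111, .gen 1798 (0, false)),
    (1245, .gen 1510 (0, false)),
    (2291, .gen 1960 (0, false)),
    (1762, .gen 1652 (0, false)),
    (1651, .gen 1371 (0, false)),
    (1945, .gen 1640 (0, false)),
    (1639, .gen 1358 (0, false)),
    (1638, .gen 1357 (0, false)),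
    (1356, .gen 1117 (0, false)),
    (2288, .gen 1958 (0, false)),
    (1957, .gen 1650 (0, false)),
    (2286, .gen 1956 (0, false)),
    (2681, .gen 2340 (0, false)),
    (2279, .gen 1950 (0, false)),
    (2166, .gen 2278 (0, false)),
    (2264, .gen 1949 (0, false)),
    (2193, .gen 1948 (0, false)),
    (1947, .gen 1642 (0, false)),
    (1946, .gen 1641 (0, false)),
    (1242, .gen 1024 (0, false)),
    (1023, .gen 838 (0, false)),
    (2610, .gen 2269 (0, false)),
    (2268, .gen 1939 (0, false)),
    (2608, .gen 2267 (0, false)),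
    (1790, .gen 1938 (0, false)),
    (2266, .gen 1937 (0, false)),
    (1936, .gen 1633 (0, false)),
    (1935, .gen 1632 (0, false)),
    (2604, .gen 2263 (0, false)),
    (2262, .gen 1934 (0, false)),
    (2261, .gen 1933 (0, false)),
    (1501, .gen 1628 (0, false)),
    (1932, .gen 1627 (0, false)),
    (1626, .gen 1345 (0, false)),
    (1624, .gen 1343 (0, false)),
    (1342, .gen 1106 (0, false)),
    (2256, .gen 1928 (0, false)),
    (1927, .gen 1621 (0, false)),
    (1620, .gen 1340 (0, false)),
    (1502, .gen 1240 (0, false)),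
    (2592, .gen 2252 (0, false)),
    (2251, .gen 1924 (0, false)),
    (2099, .gen 1923 (0, false)),
    (1826, .gen 1617 (0, false)),
    (1476, .gen 1221 (0, false)),
    (1920, .gen 1615 (0, false)),
    (1563, .gen 1335 (0, false)),
    (1614, .gen 1334 (0, false)),
    (2192, .gen 2246 (0, false)),
    (2245, .gen 1918 (0, false)),
    (2244, .gen 1917 (0, false)),
    (1916, .gen 1612 (0, false)),
    (1786, .gen 1498 (0, false)),
    (1253, .gen 1033 (0, false)),
    (1032, .gen 845 (0, false)),
    (1794, .gen 1609 (0, false)),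
    (1608, .gen 1329 (0, false)),
    (1605, .gen 1326 (0, false)),
    (1325, .gen 1092 (0, false)),
    (2500, .gen 2160 (0, false)),
    (2159, .gen 1844 (0, false)),
    (2158, .gen 1843 (0, false)),
    (1842, .gen 1547 (0, false)),
    (1840, .gen 1546 (0, false)),
    (1839, .gen 1545 (0, false)),
    (1544, .gen 1272 (0, false)),
    (2154, .gen 1837 (0, false)),
    (1836, .gen 1543 (0, false)),
    (1835, .gen 1542 (0, false)),
    (1541, .gen 1270 (0, false)),
    (1834, .gen 1540 (0, false)),
    (1539, .gen 1269 (0, false)),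
    (1538, .gen 1268 (0, false)),
    (1267, .gen 1044 (0, false)),
    (2145, .gen 1829 (0, false)),
    (1507, .gen 1243 (0, false)),
    (1827, .gen 1533 (0, false)),
    (1532, .gen 1264 (0, false)),
    (1531, .gen 1263 (0, false)),
    (1262, .gen 1040 (0, false)),
    (1529, .gen 1261 (0, false)),
    (1260, .gen 1039 (0, false)),
    (1976, .gen 1820 (0, false)),
    (1819, .gen 1527 (0, false)),
    (1818, .gen 1526 (0, false)),
    (1525, .gen 1258 (0, false)),
    (1524, .gen 1257 (0, false)),
    (1256, .gen 1036 (0, false)),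
    (1522, .gen 1255 (0, false)),
    (1254, .gen 1034 (0, false)),
    (1516, .gen 1251 (0, false)),
    (1514, .gen 1248 (0, false)),
    (1247, .gen 1029 (0, false)),
    (1246, .gen 1028 (0, false)),
    (1027, .gen 841 (0, false)),
    (1495, .gen 1234 (0, false)),
    (1233, .gen 1017 (0, false)),
    (1232, .gen 1016 (0, false)),
    (1015, .gen 832 (0, false)),
    (1230, .gen 1014 (0, false)),
    (1013, .gen 831 (0, false)),
    (1012, .gen 830 (0, false)),
    (829, .gen 665 (0, false)),
    (1225, .gen 1010 (0, false)),
    (1009, .gen 828 (0, false)),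
    (1007, .gen 825 (0, false)),
    (823, .gen 661 (0, false)),
    (660, .gen 531 (0, false)),
    (1004, .gen 822 (1, true)),
    (2404, .gen 1757 (1, false)),
    (2065, .gen 1757 (1, true)),
    (2061, .gen 2229 (1, false)),
    (2581, .gen 1915 (1, false)),
    (2242, .gen 1915 (1, true)),
    (2241, .gen 1610 (1, false)),
    (1914, .gen 1610 (1, true)),
    (2904, .gen 2228 (1, false)),
    (2570, .gen 2228 (1, true)),
    (2569, .gen 1903 (1, false)),
    (2227, .gen 1903 (1, true)),
    (2411, .gen 1902 (1, false)),
    (2226, .gen 1902 (1, true)),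
    (2225, .gen 1599 (1, false)),
    (1901, .gen 1599 (1, true)),
    (1942, .gen 2271 (1, false)),
    (2612, .gen 2271 (1, true)),
    (2899, .gen 2223 (1, false)),
    (2565, .gen 2223 (1, true)),
    (2564, .gen 1898 (1, false)),
    (2222, .gen 1898 (1, true)),
    (1828, .gen 2144 (1, false)),
    (2221, .gen 1594 (1, false)),
    (1895, .gen 1594 (1, true)),
    (2562, .gen 1894 (1, false)),
    (2219, .gen 1894 (1, true)),
    (2560, .gen 1893 (1, false)),
    (2218, .gen 1893 (1, true)),
    (2217, .gen 1591 (1, false)),
    (1892, .gen 1591 (1, true)),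
    (2520, .gen 1860 (1, false)),
    (2178, .gen 1860 (1, true)),
    (1530, .gen 1824 (1, false)),
    (2211, .gen 1587 (1, false)),
    (1888, .gen 1587 (1, true)),
    (1887, .gen 1310 (1, false)),
    (1586, .gen 1310 (1, true)),
    (1815, .gen 1523 (1, true)),
    (2207, .gen 1585 (1, false)),
    (1885, .gen 1585 (1, true)),
    (1583, .gen 1076 (1, false)),
    (1305, .gen 1076 (1, true)),
    (2190, .gen 2533 (1, false)),
    (2871, .gen 2533 (1, true)),
    (2275, .gen 2201 (1, false)),
    (2545, .gen 1880 (1, false)),
    (2200, .gen 1880 (1, true)),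
    (2882, .gen 2199 (1, false)),
    (2544, .gen 2199 (1, true)),
    (2543, .gen 1878 (1, false)),
    (2198, .gen 1878 (1, true)),
    (1797, .gen 1244 (1, false)),
    (1509, .gen 1244 (1, true)),
    (2864, .gen 2197 (1, false)),
    (2541, .gen 2197 (1, true)),
    (2540, .gen 1876 (1, false)),
    (2196, .gen 1876 (1, true)),
    (2195, .gen 1576 (1, false)),
    (1875, .gen 1576 (1, true)),
    (2536, .gen 1874 (1, false)),
    (1666, .gen 1297 (1, false)),
    (2535, .gen 1873 (1, false)),
    (2191, .gen 1572 (1, false)),
    (1872, .gen 1572 (1, true)),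
    (1871, .gen 1294 (1, false)),
    (1571, .gen 1294 (1, true)),
    (2187, .gen 1570 (1, false)),
    (1869, .gen 1570 (1, true)),
    (1568, .gen 1064 (1, false)),
    (1290, .gen 1064 (1, true)),
    (2815, .gen 2181 (1, false)),
    (2476, .gen 2181 (1, true)),
    (2347, .gen 1864 (1, false)),
    (1862, .gen 1564 (1, true)),
    (1861, .gen 1286 (1, false)),
    (2177, .gen 1859 (1, true)),
    (2176, .gen 1559 (1, false)),
    (1858, .gen 1559 (1, true)),
    (2174, .gen 1558 (1, false)),
    (1857, .gen 1558 (1, true)),
    (1856, .gen 1282 (1, false)),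
    (1557, .gen 1282 (1, true)),
    (1854, .gen 1281 (1, false)),
    (1556, .gen 1281 (1, true)),
    (1555, .gen 1054 (1, false)),
    (1280, .gen 1054 (1, true)),
    (1553, .gen 1279 (1, true)),
    (1552, .gen 1052 (1, false)),
    (1278, .gen 1052 (1, true)),
    (1277, .gen 859 (1, false)),
    (2676, .gen 2019 (1, false)),
    (2351, .gen 2019 (1, true)),
    (2350, .gen 1709 (1, false)),
    (2018, .gen 1709 (1, true)),
    (3590, .gen 3240 (1, false)),
    (3446, .gen 3240 (1, true)),
    (3187, .gen 2963 (1, false)),
    (3239, .gen 2963 (1, true)),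
    (2336, .gen 1695 (1, false)),
    (2004, .gen 1695 (1, true)),
    (2658, .gen 2576 (1, false)),
    (2444, .gen 2576 (1, true)),
    (2238, .gen 1607 (1, false)),
    (1912, .gen 1607 (1, true)),
    (3307, .gen 2741 (1, false)),
    (3052, .gen 2741 (1, true)),
    (2977, .gen 2401 (1, false)),
    (2649, .gen 2401 (1, true)),
    (2849, .gen 2400 (1, false)),
    (2513, .gen 2400 (1, true)),
    (2926, .gen 2254 (1, false)),
    (2595, .gen 2254 (1, true)),
    (2594, .gen 1925 (1, false)),
    (2253, .gen 1925 (1, true)),
    (2445, .gen 2062 (1, false))]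

/-- Visits. -/
def v0_7 : List (ℕ × Src) :=
  [(2104, .gen 2062 (1, true)),
    (2835, .gen 2398 (1, false)),
    (2739, .gen 2398 (1, true)),
    (2396, .gen 1750 (1, false)),
    (2058, .gen 1750 (1, true)),
    (2431, .gen 2091 (1, true)),
    (1492, .gen 1231 (1, true)),
    (2907, .gen 2232 (1, false)),
    (2573, .gen 2232 (1, true)),
    (2572, .gen 1906 (1, false)),
    (2231, .gen 1906 (1, true)),
    (2782, .gen 2102 (1, false)),
    (2443, .gen 2102 (1, true)),
    (3048, .gen 2395 (1, false)),
    (2737, .gen 2395 (1, true)),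
    (3117, .gen 2736 (1, false)),
    (3001, .gen 2736 (1, true)),
    (2485, .gen 2393 (1, false)),
    (2735, .gen 2393 (1, true)),
    (3046, .gen 2392 (1, false)),
    (2734, .gen 2392 (1, true)),
    (1226, .gen 1484 (1, false)),
    (1770, .gen 1484 (1, true)),
    (3302, .gen 2733 (1, false)),
    (3045, .gen 2733 (1, true)),
    (2898, .gen 2390 (1, false)),
    (2732, .gen 2390 (1, true)),
    (2731, .gen 2052 (1, false)),
    (2389, .gen 2052 (1, true)),
    (1806, .gen 1249 (1, false)),
    (1515, .gen 1249 (1, true)),
    (1480, .gen 1008 (1, false)),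
    (1223, .gen 1008 (1, true)),
    (2729, .gen 2051 (1, false)),
    (2388, .gen 2051 (1, true)),
    (2387, .gen 1742 (1, false)),
    (2050, .gen 1742 (1, true)),
    (3175, .gen 3040 (1, false)),
    (3300, .gen 3040 (1, true)),
    (2559, .gen 2724 (1, false)),
    (3299, .gen 2723 (1, false)),
    (3039, .gen 2723 (1, true)),
    (3038, .gen 2383 (1, false)),
    (2722, .gen 2383 (1, true)),
    (2590, .gen 1921 (1, false)),
    (2250, .gen 1921 (1, true)),
    (2362, .gen 2700 (1, false)),
    (2147, .gen 2700 (1, true)),
    (3036, .gen 2381 (1, false)),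
    (2721, .gen 2381 (1, true)),
    (2527, .gen 1868 (1, false)),
    (2185, .gen 1868 (1, true)),
    (2776, .gen 2380 (1, false)),
    (2720, .gen 2380 (1, true)),
    (2719, .gen 2045 (1, false)),
    (2379, .gen 2045 (1, true)),
    (1821, .gen 1528 (1, true)),
    (2378, .gen 1736 (1, false)),
    (2044, .gen 1736 (1, true)),
    (2715, .gen 2043 (1, false)),
    (2376, .gen 2043 (1, true)),
    (2375, .gen 1734 (1, false)),
    (2042, .gen 1734 (1, true)),
    (2334, .gen 2041 (1, false)),
    (1499, .gen 1732 (1, false)),
    (2040, .gen 1731 (1, true)),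
    (2039, .gen 1446 (1, false)),
    (1730, .gen 1446 (1, true)),
    (3026, .gen 2370 (1, false)),
    (2707, .gen 2370 (1, true)),
    (2706, .gen 2036 (1, false)),
    (2369, .gen 2036 (1, true)),
    (2135, .gen 2035 (1, false)),
    (2087, .gen 2035 (1, true)),
    (2368, .gen 1727 (1, false)),
    (2034, .gen 1727 (1, true)),
    (1784, .gen 2033 (1, false)),
    (1496, .gen 2033 (1, true)),
    (2366, .gen 1725 (1, false)),
    (2032, .gen 1725 (1, true)),
    (2364, .gen 1724 (1, false)),
    (2031, .gen 1724 (1, true)),
    (2030, .gen 1441 (1, false)),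
    (1723, .gen 1441 (1, true)),
    (2028, .gen 1438 (1, false)),
    (1720, .gen 1438 (1, true)),
    (1719, .gen 1437 (1, true)),
    (1436, .gen 1183 (1, true)),
    (2357, .gen 2693 (1, false)),
    (3099, .gen 3015 (1, false)),
    (3283, .gen 3015 (1, true)),
    (2625, .gen 2284 (1, true)),
    (2598, .gen 2691 (1, false)),
    (2257, .gen 2691 (1, true)),
    (2579, .gen 2466 (1, false)),
    (2618, .gen 2466 (1, true)),
    (1252, .gen 1519 (1, false)),
    (2811, .gen 2397 (1, false)),
    (2471, .gen 2397 (1, true)),
    (2548, .gen 1884 (1, false)),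
    (2701, .gen 2690 (1, false)),
    (2363, .gen 2690 (1, true)),
    (3014, .gen 2353 (1, false)),
    (2689, .gen 2353 (1, true)),
    (3013, .gen 2352 (1, false)),
    (2688, .gen 2352 (1, true)),
    (1486, .gen 1772 (1, false)),
    (2085, .gen 1772 (1, true)),
    (2435, .gen 2305 (1, false)),
    (2095, .gen 2305 (1, true)),
    (2643, .gen 1973 (1, false)),
    (2304, .gen 1973 (1, true)),
    (2503, .gen 2348 (1, false)),
    (2162, .gen 2348 (1, true)),
    (2539, .gen 2015 (1, false)),
    (2346, .gen 2015 (1, true)),
    (2345, .gen 1706 (1, false)),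
    (2014, .gen 1706 (1, true)),
    (2954, .gen 2285 (1, false)),
    (2626, .gen 2285 (1, true)),
    (2623, .gen 1953 (1, false)),
    (2283, .gen 1953 (1, true)),
    (2282, .gen 1646 (1, false)),
    (1952, .gen 1646 (1, true)),
    (2563, .gen 2428 (1, false)),
    (2675, .gen 2428 (1, true)),
    (1229, .gen 1489 (1, false)),
    (2753, .gen 2293 (1, false)),
    (2412, .gen 2293 (1, true)),
    (3012, .gen 2682 (1, false)),
    (2687, .gen 2682 (1, true)),
    (2076, .gen 2341 (1, false)),
    (1765, .gen 2341 (1, true)),
    (1604, .gen 1909 (1, false)),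
    (3005, .gen 2339 (1, false)),
    (2680, .gen 2339 (1, true)),
    (2679, .gen 2007 (1, false)),
    (2338, .gen 2007 (1, true)),
    (1987, .gen 1697 (1, false)),
    (1811, .gen 1940 (1, false)),
    (2270, .gen 1940 (1, true)),
    (2333, .gen 1692 (1, false)),
    (2002, .gen 1692 (1, true)),
    (2332, .gen 1690 (1, false)),
    (2001, .gen 1690 (1, true)),
    (2330, .gen 1689 (1, false)),
    (2000, .gen 1689 (1, true)),
    (1999, .gen 1406 (1, false)),
    (1688, .gen 1406 (1, true)),
    (2672, .gen 1998 (1, false)),
    (2329, .gen 1998 (1, true)),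
    (2999, .gen 2328 (1, false)),
    (2670, .gen 2328 (1, true)),
    (2669, .gen 1995 (1, false)),
    (2327, .gen 1995 (1, true)),
    (3267, .gen 2667 (1, false)),
    (2996, .gen 2667 (1, true)),
    (2940, .gen 2325 (1, false)),
    (2995, .gen 2324 (1, false)),
    (2666, .gen 2324 (1, true)),
    (2665, .gen 1992 (1, false)),
    (2323, .gen 1992 (1, true)),
    (2415, .gen 2322 (1, false)),
    (2663, .gen 2322 (1, true)),
    (2991, .gen 2321 (1, false)),
    (2662, .gen 2321 (1, true)),
    (2661, .gen 1989 (1, false)),
    (2320, .gen 1989 (1, true)),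
    (2653, .gen 1988 (1, false)),
    (2313, .gen 1988 (1, true)),
    (2441, .gen 2319 (1, false)),
    (2660, .gen 2319 (1, true)),
    (2659, .gen 1985 (1, false)),
    (2318, .gen 1985 (1, true)),
    (2657, .gen 1984 (1, false)),
    (2317, .gen 1984 (1, true)),
    (2316, .gen 1673 (1, false)),
    (1983, .gen 1673 (1, true)),
    (2502, .gen 1845 (1, false)),
    (2161, .gen 1845 (1, true)),
    (2314, .gen 1672 (1, false)),
    (1982, .gen 1672 (1, true)),
    (1220, .gen 1005 (1, true)),
    (2312, .gen 1671 (1, false)),
    (1981, .gen 1671 (1, true)),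
    (1980, .gen 1390 (1, false)),
    (1670, .gen 1390 (1, true)),
    (1978, .gen 1389 (1, false)),
    (1669, .gen 1389 (1, true)),
    (2307, .gen 1667 (1, false)),
    (1664, .gen 1137 (1, false)),
    (1383, .gen 1137 (1, true)),
    (1662, .gen 1136 (1, false)),
    (1382, .gen 1136 (1, true)),
    (2911, .gen 2678 (1, false)),
    (2580, .gen 2678 (1, true)),
    (3182, .gen 2558 (1, false)),
    (2893, .gen 2558 (1, true)),
    (2892, .gen 2214 (1, false)),
    (2557, .gen 2214 (1, true)),
    (2891, .gen 2213 (1, false)),
    (2556, .gen 2213 (1, true)),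
    (2179, .gen 1889 (1, false)),
    (2212, .gen 1889 (1, true)),
    (1497, .gen 1018 (1, false)),
    (1235, .gen 1018 (1, true)),
    (2097, .gen 1783 (1, true)),
    (3238, .gen 2634 (1, false)),
    (2962, .gen 2634 (1, true)),
    (3146, .gen 2633 (1, false)),
    (2847, .gen 2633 (1, true)),
    (2961, .gen 2294 (1, false)),
    (2632, .gen 2294 (1, true)),
    (2631, .gen 1962 (1, false)),
    (2292, .gen 1962 (1, true)),
    (2235, .gen 1910 (1, true)),
    (1883, .gen 2111 (1, false)),
    (2452, .gen 2111 (1, true)),
    (1511, .gen 1245 (1, true)),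
    (2957, .gen 2291 (1, false)),
    (2629, .gen 2291 (1, true)),
    (1477, .gen 1762 (1, false)),
    (2072, .gen 1762 (1, true)),
    (2290, .gen 1651 (1, false)),
    (1959, .gen 1651 (1, true)),
    (1852, .gen 1639 (1, false)),
    (1944, .gen 1639 (1, true)),
    (2273, .gen 1638 (1, false)),
    (1943, .gen 1638 (1, true)),
    (1796, .gen 1356 (1, false)),
    (1637, .gen 1356 (1, true)),
    (2853, .gen 2288 (1, false)),
    (2516, .gen 2288 (1, true)),
    (2789, .gen 2286 (1, false)),
    (2627, .gen 2286 (1, true)),
    (2879, .gen 2681 (1, false)),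
    (2542, .gen 2681 (1, true)),
    (2950, .gen 2279 (1, false)),
    (2620, .gen 2279 (1, true)),
    (1849, .gen 2166 (1, false)),
    (2507, .gen 2166 (1, true)),
    (2175, .gen 2264 (1, true)),
    (2619, .gen 1947 (1, false)),
    (2277, .gen 1947 (1, true)),
    (2617, .gen 1946 (1, false)),
    (2276, .gen 1946 (1, true)),
    (1506, .gen 1242 (1, true)),
    (1505, .gen 1023 (1, false)),
    (1241, .gen 1023 (1, true)),
    (2939, .gen 2268 (1, false)),
    (2609, .gen 2268 (1, true)),
    (2103, .gen 1790 (1, true)),
    (2938, .gen 2266 (1, false)),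
    (2607, .gen 2266 (1, true)),
    (2606, .gen 1936 (1, false)),
    (2265, .gen 1936 (1, true)),
    (2936, .gen 2604 (1, false)),
    (2934, .gen 2604 (1, true)),
    (2933, .gen 2262 (1, false)),
    (2603, .gen 2262 (1, true)),
    (2647, .gen 2261 (1, false)),
    (2602, .gen 2261 (1, true)),
    (2601, .gen 1932 (1, false)),
    (2260, .gen 1932 (1, true)),
    (1520, .gen 1626 (1, false)),
    (2110, .gen 1624 (1, false)),
    (1930, .gen 1624 (1, true)),
    (1929, .gen 1342 (1, false)),
    (1623, .gen 1342 (1, true)),
    (2927, .gen 2256 (1, false)),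
    (2597, .gen 2256 (1, true)),
    (2596, .gen 1927 (1, false)),
    (2255, .gen 1927 (1, true)),
    (3211, .gen 2592 (1, false)),
    (2924, .gen 2592 (1, true)),
    (2923, .gen 2251 (1, false)),
    (2591, .gen 2251 (1, true)),
    (1785, .gen 2099 (1, false)),
    (2438, .gen 2099 (1, true)),
    (2141, .gen 1826 (1, true)),
    (2071, .gen 1476 (1, false)),
    (1761, .gen 1476 (1, true)),
    (2588, .gen 1920 (1, false)),
    (2249, .gen 1920 (1, true)),
    (2248, .gen 1614 (1, false)),
    (1919, .gen 1614 (1, true)),
    (2915, .gen 2245 (1, false)),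
    (2584, .gen 2245 (1, true)),
    (2583, .gen 1916 (1, false)),
    (2243, .gen 1916 (1, true)),
    (2440, .gen 1786 (1, false)),
    (2100, .gen 1786 (1, true)),
    (2239, .gen 1608 (1, false)),
    (1913, .gen 1608 (1, true)),
    (3135, .gen 2500 (1, false)),
    (2837, .gen 2500 (1, true)),
    (2836, .gen 2159 (1, false)),
    (2499, .gen 2159 (1, true)),
    (2834, .gen 2158 (1, false)),
    (2498, .gen 2158 (1, true))]

/-- Visits. -/
def v0_8 : List (ℕ × Src) :=
  [(2497, .gen 1840 (1, false)),
    (2157, .gen 1840 (1, true)),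
    (2495, .gen 1839 (1, false)),
    (2156, .gen 1839 (1, true)),
    (1781, .gen 1544 (1, false)),
    (1838, .gen 1544 (1, true)),
    (2828, .gen 2154 (1, false)),
    (2492, .gen 2154 (1, true)),
    (2491, .gen 1836 (1, false)),
    (2153, .gen 1836 (1, true)),
    (2489, .gen 1835 (1, false)),
    (2152, .gen 1835 (1, true)),
    (1490, .gen 1541 (1, false)),
    (2488, .gen 1834 (1, false)),
    (2151, .gen 1834 (1, true)),
    (2150, .gen 1539 (1, false)),
    (1833, .gen 1539 (1, true)),
    (2148, .gen 1538 (1, false)),
    (1832, .gen 1538 (1, true)),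
    (1831, .gen 1267 (1, false)),
    (1537, .gen 1267 (1, true)),
    (2470, .gen 2145 (1, false)),
    (2128, .gen 2145 (1, true)),
    (2109, .gen 1507 (1, false)),
    (1795, .gen 1507 (1, true)),
    (2483, .gen 1827 (1, false)),
    (2142, .gen 1827 (1, true)),
    (2140, .gen 1531 (1, false)),
    (1825, .gen 1531 (1, true)),
    (2137, .gen 1529 (1, false)),
    (1822, .gen 1529 (1, true)),
    (2477, .gen 1819 (1, false)),
    (2134, .gen 1819 (1, true)),
    (2475, .gen 1818 (1, false)),
    (2133, .gen 1818 (1, true)),
    (2132, .gen 1525 (1, false)),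
    (1817, .gen 1525 (1, true)),
    (2131, .gen 1524 (1, false)),
    (1816, .gen 1524 (1, true)),
    (2129, .gen 1522 (1, false)),
    (1814, .gen 1522 (1, true)),
    (1813, .gen 1254 (1, false)),
    (1521, .gen 1254 (1, true)),
    (2122, .gen 1516 (1, false)),
    (1807, .gen 1516 (1, true)),
    (2118, .gen 1514 (1, false)),
    (1804, .gen 1514 (1, true)),
    (1803, .gen 1247 (1, false)),
    (1513, .gen 1247 (1, true)),
    (1801, .gen 1246 (1, false)),
    (1512, .gen 1246 (1, true)),
    (1782, .gen 1233 (1, false)),
    (1494, .gen 1233 (1, true)),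
    (1780, .gen 1232 (1, false)),
    (1493, .gen 1232 (1, true)),
    (1487, .gen 1012 (1, false)),
    (1228, .gen 1012 (1, true)),
    (1227, .gen 829 (1, false)),
    (1011, .gen 829 (1, true)),
    (1769, .gen 1225 (1, false)),
    (1483, .gen 1225 (1, true)),
    (1482, .gen 1009 (1, false)),
    (1224, .gen 1009 (1, true)),
    (1478, .gen 1007 (1, false)),
    (1222, .gen 1007 (1, true)),
    (1219, .gen 1004 (0, false)),
    (2743, .gen 2404 (0, false)),
    (2403, .gen 2065 (0, false)),
    (2399, .gen 2061 (0, false)),
    (2912, .gen 2581 (0, false)),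
    (2240, .gen 1914 (0, false)),
    (3190, .gen 2904 (0, false)),
    (2903, .gen 2570 (0, false)),
    (2902, .gen 2569 (0, false)),
    (2568, .gen 2227 (0, false)),
    (2567, .gen 2226 (0, false)),
    (2566, .gen 2225 (0, false)),
    (2092, .gen 1901 (0, false)),
    (2941, .gen 2612 (0, false)),
    (3186, .gen 2899 (0, false)),
    (2897, .gen 2564 (0, false)),
    (2469, .gen 2222 (0, false)),
    (2143, .gen 1828 (0, false)),
    (2220, .gen 1895 (0, false)),
    (2896, .gen 2562 (0, false)),
    (2561, .gen 2219 (0, false)),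
    (2894, .gen 2560 (0, false)),
    (2216, .gen 1892 (0, false)),
    (2856, .gen 2520 (0, false)),
    (2519, .gen 2178 (0, false)),
    (1823, .gen 1530 (0, false)),
    (2554, .gen 2211 (0, false)),
    (2210, .gen 1888 (0, false)),
    (2209, .gen 1887 (0, false)),
    (1886, .gen 1586 (0, false)),
    (2130, .gen 1815 (0, false)),
    (2549, .gen 2207 (0, false)),
    (2206, .gen 1885 (0, false)),
    (1582, .gen 1305 (0, false)),
    (3170, .gen 2871 (0, false)),
    (2615, .gen 2275 (0, false)),
    (2881, .gen 2544 (0, false)),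
    (2880, .gen 2543 (0, false)),
    (2878, .gen 2541 (0, false)),
    (2877, .gen 2540 (0, false)),
    (2538, .gen 2195 (0, false)),
    (2194, .gen 1875 (0, false)),
    (2874, .gen 2536 (0, false)),
    (1975, .gen 1666 (0, false)),
    (2873, .gen 2535 (0, false)),
    (2534, .gen 2191 (0, false)),
    (2189, .gen 1871 (0, false)),
    (1870, .gen 1571 (0, false)),
    (2529, .gen 2187 (0, false)),
    (2186, .gen 1869 (0, false)),
    (1867, .gen 1568 (0, false)),
    (1567, .gen 1290 (0, false)),
    (3114, .gen 2815 (0, false)),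
    (2685, .gen 2347 (0, false)),
    (2180, .gen 1862 (0, false)),
    (2518, .gen 2177 (0, false)),
    (2517, .gen 2176 (0, false)),
    (2173, .gen 1857 (0, false)),
    (2172, .gen 1856 (0, false)),
    (1855, .gen 1557 (0, false)),
    (2170, .gen 1854 (0, false)),
    (1853, .gen 1556 (0, false)),
    (1554, .gen 1280 (0, false)),
    (1848, .gen 1552 (0, false)),
    (1551, .gen 1278 (0, false)),
    (1550, .gen 1277 (0, false)),
    (2080, .gen 2350 (0, false)),
    (2349, .gen 2018 (0, false)),
    (3615, .gen 3590 (0, false)),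
    (3533, .gen 3446 (0, false)),
    (2900, .gen 3187 (0, false)),
    (3445, .gen 3239 (0, false)),
    (2335, .gen 2004 (0, false)),
    (2442, .gen 2238 (0, false)),
    (2237, .gen 1912 (0, false)),
    (3219, .gen 3307 (0, false)),
    (3002, .gen 3052 (0, false)),
    (3252, .gen 2977 (0, false)),
    (2309, .gen 2649 (0, false)),
    (3148, .gen 2849 (0, false)),
    (2171, .gen 2513 (0, false)),
    (3212, .gen 2926 (0, false)),
    (2697, .gen 2595 (0, false)),
    (2593, .gen 2253 (0, false)),
    (2783, .gen 2445 (0, false)),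
    (1791, .gen 2104 (0, false)),
    (2980, .gen 2739 (0, false)),
    (2738, .gen 2396 (0, false)),
    (2770, .gen 2431 (0, false)),
    (1778, .gen 1492 (0, false)),
    (3193, .gen 2907 (0, false)),
    (2906, .gen 2573 (0, false)),
    (2905, .gen 2572 (0, false)),
    (2571, .gen 2231 (0, false)),
    (3087, .gen 2782 (0, false)),
    (2781, .gen 2443 (0, false)),
    (3047, .gen 2737 (0, false)),
    (2818, .gen 3117 (0, false)),
    (2146, .gen 2485 (0, false)),
    (3303, .gen 3046 (0, false)),
    (3011, .gen 2734 (0, false)),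
    (2082, .gen 1770 (0, false)),
    (3489, .gen 3302 (0, false)),
    (2785, .gen 3045 (0, false)),
    (3044, .gen 2732 (0, false)),
    (2730, .gen 2389 (0, false)),
    (2120, .gen 1806 (0, false)),
    (1805, .gen 1515 (0, false)),
    (1479, .gen 1223 (0, false)),
    (2749, .gen 2729 (0, false)),
    (2728, .gen 2388 (0, false)),
    (2727, .gen 2387 (0, false)),
    (2386, .gen 2050 (0, false)),
    (3487, .gen 3300 (0, false)),
    (3235, .gen 3299 (0, false)),
    (3172, .gen 3039 (0, false)),
    (3021, .gen 3038 (0, false)),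
    (3037, .gen 2722 (0, false)),
    (2922, .gen 2590 (0, false)),
    (2589, .gen 2250 (0, false)),
    (2526, .gen 2185 (0, false)),
    (2437, .gen 2776 (0, false)),
    (3035, .gen 2720 (0, false)),
    (3032, .gen 2719 (0, false)),
    (2718, .gen 2379 (0, false)),
    (2717, .gen 2378 (0, false)),
    (2377, .gen 2044 (0, false)),
    (2714, .gen 2376 (0, false)),
    (2713, .gen 2375 (0, false)),
    (2374, .gen 2042 (0, false)),
    (1787, .gen 1499 (0, false)),
    (2373, .gen 2040 (0, false)),
    (2372, .gen 2039 (0, false)),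
    (2038, .gen 1730 (0, false)),
    (3292, .gen 3026 (0, false)),
    (3025, .gen 2707 (0, false)),
    (2965, .gen 2706 (0, false)),
    (2705, .gen 2369 (0, false)),
    (1774, .gen 2087 (0, false)),
    (2704, .gen 2368 (0, false)),
    (2367, .gen 2034 (0, false)),
    (2098, .gen 1784 (0, false)),
    (2365, .gen 2032 (0, false)),
    (2702, .gen 2364 (0, false)),
    (2029, .gen 1723 (0, false)),
    (2360, .gen 2028 (0, false)),
    (2027, .gen 1719 (0, false)),
    (1718, .gen 1436 (0, false)),
    (2026, .gen 2357 (0, false)),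
    (2799, .gen 3099 (0, false)),
    (3097, .gen 3283 (0, false)),
    (2952, .gen 2625 (0, false)),
    (2928, .gen 2598 (0, false)),
    (1518, .gen 1252 (0, false)),
    (3110, .gen 2811 (0, false)),
    (2768, .gen 2548 (0, false)),
    (3020, .gen 2701 (0, false)),
    (3078, .gen 3014 (0, false)),
    (3023, .gen 3013 (0, false)),
    (2774, .gen 2435 (0, false)),
    (2972, .gen 2643 (0, false)),
    (2642, .gen 2304 (0, false)),
    (1846, .gen 2162 (0, false)),
    (2684, .gen 2345 (0, false)),
    (2344, .gen 2014 (0, false)),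
    (3056, .gen 2954 (0, false)),
    (2953, .gen 2626 (0, false)),
    (2622, .gen 2283 (0, false)),
    (2621, .gen 2282 (0, false)),
    (2281, .gen 1952 (0, false)),
    (1488, .gen 1229 (0, false)),
    (2416, .gen 2076 (0, false)),
    (1908, .gen 1604 (0, false)),
    (3275, .gen 3005 (0, false)),
    (3004, .gen 2680 (0, false)),
    (2611, .gen 2270 (0, false)),
    (2674, .gen 2332 (0, false)),
    (2331, .gen 2001 (0, false)),
    (2673, .gen 2330 (0, false)),
    (1969, .gen 1999 (0, false)),
    (2671, .gen 2329 (0, false)),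
    (2752, .gen 2999 (0, false)),
    (2998, .gen 2670 (0, false)),
    (2668, .gen 2327 (0, false)),
    (3461, .gen 3267 (0, false)),
    (3178, .gen 2996 (0, false)),
    (3223, .gen 2940 (0, false)),
    (3266, .gen 2995 (0, false)),
    (2942, .gen 2666 (0, false)),
    (2994, .gen 2665 (0, false)),
    (2664, .gen 2323 (0, false)),
    (2075, .gen 2415 (0, false)),
    (2992, .gen 2663 (0, false)),
    (3125, .gen 2991 (0, false)),
    (2461, .gen 2662 (0, false)),
    (2990, .gen 2661 (0, false)),
    (2233, .gen 2320 (0, false)),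
    (2982, .gen 2653 (0, false)),
    (2101, .gen 2441 (0, false)),
    (2989, .gen 2660 (0, false)),
    (2988, .gen 2659 (0, false)),
    (2987, .gen 2657 (0, false)),
    (2656, .gen 2317 (0, false)),
    (2655, .gen 2316 (0, false)),
    (2315, .gen 1983 (0, false)),
    (2839, .gen 2502 (0, false)),
    (2501, .gen 2161 (0, false)),
    (2456, .gen 2314 (0, false)),
    (1475, .gen 1220 (0, false)),
    (2652, .gen 2312 (0, false)),
    (2311, .gen 1981 (0, false)),
    (2310, .gen 1980 (0, false)),
    (1979, .gen 1670 (0, false)),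
    (1977, .gen 1669 (0, false)),
    (2646, .gen 2307 (0, false)),
    (1972, .gen 1664 (0, false)),
    (1663, .gen 1383 (0, false)),
    (1970, .gen 1662 (0, false)),
    (1661, .gen 1382 (0, false)),
    (3198, .gen 2911 (0, false)),
    (3402, .gen 3182 (0, false)),
    (3181, .gen 2892 (0, false)),
    (2677, .gen 2557 (0, false)),
    (3127, .gen 2891 (0, false)),
    (2890, .gen 2556 (0, false)),
    (2555, .gen 2212 (0, false)),
    (2436, .gen 2097 (0, false)),
    (3444, .gen 3238 (0, false)),
    (3237, .gen 2962 (0, false)),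
    (3352, .gen 3146 (0, false)),
    (2512, .gen 2847 (0, false)),
    (3085, .gen 2961 (0, false)),
    (2960, .gen 2632 (0, false)),
    (2959, .gen 2631 (0, false)),
    (2630, .gen 2292 (0, false))]

/-- Visits. -/
def v0_9 : List (ℕ × Src) :=
  [(2575, .gen 2235 (0, false)),
    (2791, .gen 2452 (0, false)),
    (1799, .gen 1511 (0, false)),
    (2956, .gen 2629 (0, false)),
    (2628, .gen 2290 (0, false)),
    (2289, .gen 1959 (0, false)),
    (2274, .gen 1944 (0, false)),
    (2422, .gen 2273 (0, false)),
    (2272, .gen 1943 (0, false)),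
    (3152, .gen 2853 (0, false)),
    (2451, .gen 2789 (0, false)),
    (2955, .gen 2627 (0, false)),
    (2860, .gen 2950 (0, false)),
    (2949, .gen 2620 (0, false)),
    (2843, .gen 2507 (0, false)),
    (2948, .gen 2619 (0, false)),
    (2947, .gen 2617 (0, false)),
    (2616, .gen 2276 (0, false)),
    (1793, .gen 1506 (0, false)),
    (1792, .gen 1505 (0, false)),
    (1504, .gen 1241 (0, false)),
    (3222, .gen 2939 (0, false)),
    (3221, .gen 2938 (0, false)),
    (2937, .gen 2607 (0, false)),
    (2605, .gen 2265 (0, false)),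
    (2696, .gen 2934 (0, false)),
    (3217, .gen 2933 (0, false)),
    (2932, .gen 2603 (0, false)),
    (2308, .gen 2647 (0, false)),
    (2931, .gen 2601 (0, false)),
    (2600, .gen 2260 (0, false)),
    (2258, .gen 1930 (0, false)),
    (3196, .gen 3211 (0, false)),
    (3210, .gen 2923 (0, false)),
    (2778, .gen 2438 (0, false)),
    (2482, .gen 2141 (0, false)),
    (2070, .gen 1761 (0, false)),
    (2920, .gen 2588 (0, false)),
    (2587, .gen 2249 (0, false)),
    (2586, .gen 2248 (0, false)),
    (2247, .gen 1919 (0, false)),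
    (3049, .gen 2915 (0, false)),
    (2914, .gen 2584 (0, false)),
    (2823, .gen 2583 (0, false)),
    (2582, .gen 2243 (0, false)),
    (2780, .gen 2440 (0, false)),
    (2439, .gen 2100 (0, false)),
    (2838, .gen 3135 (0, false)),
    (3134, .gen 2837 (0, false)),
    (2854, .gen 2836 (0, false)),
    (2742, .gen 2834 (0, false)),
    (2833, .gen 2498 (0, false)),
    (2496, .gen 2157 (0, false)),
    (2831, .gen 2495 (0, false)),
    (2494, .gen 2156 (0, false)),
    (2155, .gen 1838 (0, false)),
    (3128, .gen 2828 (0, false)),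
    (2827, .gen 2492 (0, false)),
    (2819, .gen 2491 (0, false)),
    (2490, .gen 2153 (0, false)),
    (2825, .gen 2489 (0, false)),
    (1776, .gen 1490 (0, false)),
    (2824, .gen 2488 (0, false)),
    (2487, .gen 2151 (0, false)),
    (2149, .gen 1833 (0, false)),
    (2486, .gen 2148 (0, false)),
    (1830, .gen 1537 (0, false)),
    (2810, .gen 2470 (0, false)),
    (2108, .gen 1795 (0, false)),
    (2760, .gen 2483 (0, false)),
    (2481, .gen 2140 (0, false)),
    (2139, .gen 1825 (0, false)),
    (2479, .gen 2137 (0, false)),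
    (2136, .gen 1822 (0, false)),
    (2816, .gen 2477 (0, false)),
    (2814, .gen 2475 (0, false)),
    (2474, .gen 2133 (0, false)),
    (2073, .gen 2132 (0, false)),
    (2473, .gen 2131 (0, false)),
    (2127, .gen 1813 (0, false)),
    (1812, .gen 1521 (0, false)),
    (2432, .gen 2122 (0, false)),
    (2121, .gen 1807 (0, false)),
    (2460, .gen 2118 (0, false)),
    (2117, .gen 1804 (0, false)),
    (2116, .gen 1803 (0, false)),
    (1802, .gen 1513 (0, false)),
    (2114, .gen 1801 (0, false)),
    (1800, .gen 1512 (0, false)),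
    (2094, .gen 1780 (0, false)),
    (1779, .gen 1493 (0, false)),
    (1773, .gen 1487 (0, false)),
    (1485, .gen 1227 (0, false)),
    (2081, .gen 1769 (0, false)),
    (1768, .gen 1483 (0, false)),
    (1767, .gen 1482 (0, false)),
    (1481, .gen 1224 (0, false)),
    (1763, .gen 1478 (0, false)),
    (1759, .gen 1219 (1, false)),
    (1474, .gen 1219 (1, true)),
    (3054, .gen 2743 (1, true)),
    (3053, .gen 2403 (1, false)),
    (3051, .gen 2399 (1, false)),
    (2740, .gen 2399 (1, true)),
    (3312, .gen 2912 (1, false)),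
    (3199, .gen 2912 (1, true)),
    (2165, .gen 2240 (1, false)),
    (3315, .gen 3190 (1, false)),
    (3064, .gen 3190 (1, true)),
    (3409, .gen 2903 (1, false)),
    (3189, .gen 2903 (1, true)),
    (2822, .gen 2902 (1, false)),
    (3112, .gen 2568 (1, false)),
    (2901, .gen 2568 (1, true)),
    (2925, .gen 2566 (1, false)),
    (2913, .gen 2941 (1, false)),
    (3407, .gen 3186 (1, true)),
    (3406, .gen 2897 (1, false)),
    (3185, .gen 2897 (1, true)),
    (2809, .gen 2469 (1, true)),
    (2484, .gen 2143 (1, true)),
    (2138, .gen 2220 (1, false)),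
    (2711, .gen 2896 (1, false)),
    (3184, .gen 2561 (1, false)),
    (2895, .gen 2561 (1, true)),
    (3166, .gen 2894 (1, false)),
    (3183, .gen 2894 (1, true)),
    (2083, .gen 2216 (1, true)),
    (3383, .gen 2856 (1, false)),
    (3155, .gen 2856 (1, true)),
    (3154, .gen 2519 (1, false)),
    (2855, .gen 2519 (1, true)),
    (2886, .gen 2554 (1, true)),
    (2888, .gen 2210 (1, false)),
    (2553, .gen 2210 (1, true)),
    (2552, .gen 2209 (1, true)),
    (2551, .gen 1886 (1, false)),
    (2208, .gen 1886 (1, true)),
    (2813, .gen 2130 (1, false)),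
    (2472, .gen 2130 (1, true)),
    (2303, .gen 2206 (1, false)),
    (2204, .gen 1582 (1, false)),
    (1882, .gen 1582 (1, true)),
    (3500, .gen 3170 (1, false)),
    (3327, .gen 3170 (1, true)),
    (3225, .gen 2615 (1, false)),
    (2945, .gen 2615 (1, true)),
    (2788, .gen 2881 (1, false)),
    (2943, .gen 2880 (1, false)),
    (3397, .gen 2878 (1, false)),
    (3174, .gen 2878 (1, true)),
    (3147, .gen 2877 (1, false)),
    (2865, .gen 2877 (1, true)),
    (2876, .gen 2194 (1, false)),
    (2537, .gen 2194 (1, true)),
    (3395, .gen 2874 (1, false)),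
    (3171, .gen 2874 (1, true)),
    (2645, .gen 1975 (1, false)),
    (2306, .gen 1975 (1, true)),
    (3108, .gen 2873 (1, false)),
    (2872, .gen 2534 (1, true)),
    (2870, .gen 2189 (1, false)),
    (2532, .gen 2189 (1, true)),
    (2531, .gen 1870 (1, false)),
    (2188, .gen 1870 (1, true)),
    (3167, .gen 2529 (1, false)),
    (2867, .gen 2529 (1, true)),
    (2866, .gen 2186 (1, false)),
    (2528, .gen 2186 (1, true)),
    (2525, .gen 1867 (1, false)),
    (2184, .gen 1867 (1, true)),
    (2183, .gen 1567 (1, false)),
    (1866, .gen 1567 (1, true)),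
    (3515, .gen 3114 (1, false)),
    (3354, .gen 3114 (1, true)),
    (3281, .gen 2685 (1, false)),
    (3009, .gen 2685 (1, true)),
    (2797, .gen 2180 (1, false)),
    (2521, .gen 2180 (1, true)),
    (2772, .gen 2518 (1, true)),
    (3153, .gen 2517 (1, false)),
    (2757, .gen 2173 (1, false)),
    (2852, .gen 2172 (1, false)),
    (2515, .gen 2172 (1, true)),
    (2514, .gen 1855 (1, false)),
    (2848, .gen 2170 (1, false)),
    (2511, .gen 1853 (1, false)),
    (2169, .gen 1853 (1, true)),
    (2168, .gen 1554 (1, false)),
    (1851, .gen 1554 (1, true)),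
    (2164, .gen 1551 (1, false)),
    (1847, .gen 1551 (1, true)),
    (2163, .gen 1550 (1, false)),
    (2421, .gen 2080 (1, true)),
    (2686, .gen 2349 (1, true)),
    (3490, .gen 3615 (1, false)),
    (3308, .gen 3615 (1, true)),
    (3372, .gen 3533 (1, false)),
    (3138, .gen 3533 (1, true)),
    (3597, .gen 3445 (1, false)),
    (3589, .gen 3445 (1, true)),
    (3003, .gen 2335 (1, false)),
    (2910, .gen 2237 (1, false)),
    (2578, .gen 2237 (1, true)),
    (2935, .gen 3219 (1, false)),
    (3272, .gen 3002 (1, true)),
    (3028, .gen 3252 (1, false)),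
    (2650, .gen 2309 (1, true)),
    (3142, .gen 3148 (1, false)),
    (3229, .gen 3148 (1, true)),
    (3578, .gen 3212 (1, false)),
    (3426, .gen 3212 (1, true)),
    (3338, .gen 2783 (1, false)),
    (3088, .gen 2783 (1, true)),
    (2105, .gen 1791 (1, true)),
    (2651, .gen 2980 (1, false)),
    (3305, .gen 2738 (1, false)),
    (3328, .gen 2770 (1, false)),
    (3076, .gen 2770 (1, true)),
    (3565, .gen 3193 (1, false)),
    (3412, .gen 3193 (1, true)),
    (3411, .gen 2906 (1, false)),
    (3192, .gen 2906 (1, true)),
    (3096, .gen 2905 (1, false)),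
    (3191, .gen 2905 (1, true)),
    (2971, .gen 2571 (1, false)),
    (3188, .gen 3087 (1, false)),
    (3136, .gen 3087 (1, true)),
    (3086, .gen 2781 (1, true)),
    (3438, .gen 3047 (1, false)),
    (3304, .gen 3047 (1, true)),
    (2478, .gen 2818 (1, false)),
    (2764, .gen 2082 (1, false)),
    (2423, .gen 2082 (1, true)),
    (3704, .gen 3489 (1, false)),
    (3613, .gen 3489 (1, true)),
    (2447, .gen 2785 (1, false)),
    (3091, .gen 2785 (1, true)),
    (3366, .gen 3044 (1, false)),
    (3301, .gen 3044 (1, true)),
    (2966, .gen 2730 (1, false)),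
    (3043, .gen 2730 (1, true)),
    (2801, .gen 2120 (1, false)),
    (2462, .gen 2120 (1, true)),
    (2119, .gen 1805 (1, true)),
    (1764, .gen 1479 (1, true)),
    (2408, .gen 2749 (1, false)),
    (2068, .gen 2749 (1, true)),
    (3130, .gen 2728 (1, false)),
    (3140, .gen 2727 (1, false)),
    (3042, .gen 2727 (1, true)),
    (2419, .gen 2386 (1, false)),
    (2726, .gen 2386 (1, true)),
    (2958, .gen 3235 (1, false)),
    (2875, .gen 3172 (1, false)),
    (3396, .gen 3172 (1, true)),
    (3287, .gen 3021 (1, true)),
    (3298, .gen 3037 (1, true)),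
    (3425, .gen 2922 (1, false)),
    (3209, .gen 2922 (1, true)),
    (3208, .gen 2589 (1, false)),
    (2921, .gen 2589 (1, true)),
    (3164, .gen 2526 (1, false)),
    (2863, .gen 2526 (1, true)),
    (2777, .gen 2437 (1, true)),
    (3297, .gen 3035 (1, true)),
    (2716, .gen 3032 (1, false)),
    (3296, .gen 2718 (1, false)),
    (3034, .gen 2718 (1, true)),
    (3295, .gen 2717 (1, false)),
    (3033, .gen 2717 (1, true)),
    (2429, .gen 2713 (1, false)),
    (3031, .gen 2713 (1, true)),
    (2712, .gen 2374 (1, true)),
    (3030, .gen 2372 (1, false)),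
    (2710, .gen 2372 (1, true)),
    (2709, .gen 2038 (1, false)),
    (2371, .gen 2038 (1, true)),
    (3610, .gen 3292 (1, false)),
    (3483, .gen 3292 (1, true)),
    (3408, .gen 3025 (1, false)),
    (3291, .gen 3025 (1, true)),
    (2637, .gen 2965 (1, false)),
    (3241, .gen 2965 (1, true)),
    (3290, .gen 2705 (1, false)),
    (3024, .gen 2705 (1, true)),
    (2088, .gen 1774 (1, true)),
    (3289, .gen 2704 (1, false)),
    (3022, .gen 2367 (1, false)),
    (2703, .gen 2367 (1, true)),
    (2093, .gen 2365 (1, false)),
    (2699, .gen 2029 (1, false)),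
    (2361, .gen 2029 (1, true)),
    (2359, .gen 2027 (1, true)),
    (2358, .gen 1718 (1, false)),
    (3100, .gen 2799 (1, true)),
    (2795, .gen 3097 (1, false)),
    (2457, .gen 3097 (1, true)),
    (3437, .gen 2952 (1, false)),
    (3231, .gen 2952 (1, true))]

/-- Visits. -/
def v0_10 : List (ℕ × Src) :=
  [(3427, .gen 2928 (1, false)),
    (3213, .gen 2928 (1, true)),
    (2124, .gen 1518 (1, false)),
    (1809, .gen 1518 (1, true)),
    (3348, .gen 3110 (1, false)),
    (3350, .gen 3110 (1, true)),
    (2427, .gen 2768 (1, false)),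
    (3075, .gen 2768 (1, true)),
    (3265, .gen 3020 (1, false)),
    (3332, .gen 2774 (1, false)),
    (3080, .gen 2774 (1, true)),
    (3246, .gen 2972 (1, true)),
    (3279, .gen 2684 (1, false)),
    (3008, .gen 2684 (1, true)),
    (3007, .gen 2344 (1, false)),
    (2683, .gen 2344 (1, true)),
    (2744, .gen 3056 (1, false)),
    (2405, .gen 3056 (1, true)),
    (2787, .gen 2953 (1, false)),
    (2449, .gen 2953 (1, true)),
    (3230, .gen 2622 (1, false)),
    (2951, .gen 2622 (1, true)),
    (2807, .gen 2621 (1, false)),
    (2467, .gen 2621 (1, true)),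
    (2574, .gen 1908 (1, false)),
    (3594, .gen 3275 (1, false)),
    (3472, .gen 3275 (1, true)),
    (3268, .gen 3004 (1, false)),
    (3274, .gen 3004 (1, true)),
    (2842, .gen 2673 (1, false)),
    (2506, .gen 2673 (1, true)),
    (2299, .gen 1969 (1, true)),
    (3271, .gen 2671 (1, false)),
    (3000, .gen 2671 (1, true)),
    (2410, .gen 2752 (1, false)),
    (3269, .gen 2668 (1, false)),
    (2997, .gen 2668 (1, true)),
    (3255, .gen 3461 (1, false)),
    (3598, .gen 3461 (1, true)),
    (3293, .gen 3223 (1, false)),
    (3374, .gen 3266 (1, true)),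
    (2613, .gen 2942 (1, false)),
    (3144, .gen 2664 (1, false)),
    (2993, .gen 2664 (1, true)),
    (3129, .gen 2992 (1, false)),
    (2829, .gen 2992 (1, true)),
    (3364, .gen 3125 (1, true)),
    (3462, .gen 2982 (1, false)),
    (3257, .gen 2982 (1, true)),
    (3468, .gen 2989 (1, false)),
    (3264, .gen 2989 (1, true)),
    (3467, .gen 2988 (1, false)),
    (3263, .gen 2988 (1, true)),
    (2887, .gen 2987 (1, false)),
    (3262, .gen 2987 (1, true)),
    (3261, .gen 2656 (1, false)),
    (2986, .gen 2656 (1, true)),
    (3260, .gen 2655 (1, false)),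
    (2985, .gen 2655 (1, true)),
    (2984, .gen 2315 (1, false)),
    (2654, .gen 2315 (1, true)),
    (2889, .gen 2839 (1, false)),
    (2763, .gen 2501 (1, false)),
    (2069, .gen 1475 (1, false)),
    (1760, .gen 1475 (1, true)),
    (3256, .gen 2652 (1, false)),
    (2981, .gen 2652 (1, true)),
    (2970, .gen 2310 (1, false)),
    (2641, .gen 2310 (1, true)),
    (2648, .gen 1977 (1, false)),
    (3250, .gen 2646 (1, false)),
    (2975, .gen 2646 (1, true)),
    (2302, .gen 1663 (1, false)),
    (1971, .gen 1663 (1, true)),
    (2638, .gen 1970 (1, false)),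
    (2300, .gen 1970 (1, true)),
    (3476, .gen 3402 (1, false)),
    (3280, .gen 3402 (1, true)),
    (3365, .gen 3127 (1, true)),
    (3082, .gen 2436 (1, false)),
    (2775, .gen 2436 (1, true)),
    (3455, .gen 3444 (1, false)),
    (3473, .gen 3444 (1, true)),
    (3463, .gen 3237 (1, false)),
    (3258, .gen 3237 (1, true)),
    (3111, .gen 3352 (1, false)),
    (2812, .gen 3352 (1, true)),
    (3336, .gen 3085 (1, true)),
    (3443, .gen 2959 (1, false)),
    (3236, .gen 2959 (1, true)),
    (2909, .gen 2575 (1, true)),
    (2454, .gen 1799 (1, false)),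
    (2112, .gen 1799 (1, true)),
    (3440, .gen 2956 (1, false)),
    (3233, .gen 2956 (1, true)),
    (3027, .gen 2628 (1, false)),
    (2708, .gen 2628 (1, true)),
    (2944, .gen 2274 (1, false)),
    (2614, .gen 2274 (1, true)),
    (2762, .gen 2422 (1, true)),
    (3093, .gen 3152 (1, false)),
    (3381, .gen 3152 (1, true)),
    (2790, .gen 2451 (1, true)),
    (3439, .gen 2955 (1, false)),
    (3232, .gen 2955 (1, true)),
    (2523, .gen 2860 (1, false)),
    (3159, .gen 2860 (1, true)),
    (2769, .gen 2949 (1, false)),
    (3228, .gen 2949 (1, true)),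
    (3375, .gen 2843 (1, false)),
    (3141, .gen 2843 (1, true)),
    (3251, .gen 2947 (1, false)),
    (2976, .gen 2947 (1, true)),
    (3227, .gen 2616 (1, false)),
    (2946, .gen 2616 (1, true)),
    (2450, .gen 1793 (1, false)),
    (2107, .gen 1793 (1, true)),
    (2448, .gen 1792 (1, false)),
    (2106, .gen 1792 (1, true)),
    (3330, .gen 3222 (1, false)),
    (3079, .gen 3222 (1, true)),
    (3582, .gen 3221 (1, false)),
    (3434, .gen 3221 (1, true)),
    (3433, .gen 2937 (1, false)),
    (3220, .gen 2937 (1, true)),
    (3547, .gen 3217 (1, false)),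
    (3393, .gen 3217 (1, true)),
    (3431, .gen 2932 (1, false)),
    (3216, .gen 2932 (1, true)),
    (3201, .gen 2600 (1, false)),
    (2930, .gen 2258 (1, false)),
    (2599, .gen 2258 (1, true)),
    (3335, .gen 2778 (1, false)),
    (3084, .gen 2778 (1, true)),
    (3121, .gen 2482 (1, false)),
    (2821, .gen 2482 (1, true)),
    (3206, .gen 2587 (1, false)),
    (2919, .gen 2587 (1, true)),
    (3205, .gen 2586 (1, false)),
    (2918, .gen 2586 (1, true)),
    (2917, .gen 2247 (1, false)),
    (2585, .gen 2247 (1, true)),
    (3123, .gen 2823 (1, true)),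
    (2794, .gen 2439 (1, false)),
    (2779, .gen 2439 (1, true)),
    (3532, .gen 3134 (1, false)),
    (3371, .gen 3134 (1, true)),
    (3370, .gen 2833 (1, false)),
    (3133, .gen 2833 (1, true)),
    (3132, .gen 2496 (1, false)),
    (2832, .gen 2496 (1, true)),
    (3101, .gen 2494 (1, false)),
    (2800, .gen 2494 (1, true)),
    (2830, .gen 2155 (1, false)),
    (2493, .gen 2155 (1, true)),
    (3118, .gen 2819 (1, true)),
    (3126, .gen 2490 (1, false)),
    (2826, .gen 2490 (1, true)),
    (2430, .gen 1776 (1, false)),
    (2090, .gen 1776 (1, true)),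
    (3363, .gen 2824 (1, false)),
    (3124, .gen 2824 (1, true)),
    (3226, .gen 2810 (1, false)),
    (3109, .gen 2810 (1, true)),
    (2418, .gen 2760 (1, false)),
    (3067, .gen 2760 (1, true)),
    (3119, .gen 2481 (1, false)),
    (2820, .gen 2481 (1, true)),
    (2792, .gen 2139 (1, false)),
    (2453, .gen 2139 (1, true)),
    (3342, .gen 2816 (1, false)),
    (3115, .gen 2816 (1, true)),
    (3029, .gen 2814 (1, false)),
    (3113, .gen 2814 (1, true)),
    (2413, .gen 2073 (1, true)),
    (2468, .gen 1812 (1, false)),
    (2126, .gen 1812 (1, true)),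
    (2803, .gen 2121 (1, false)),
    (2463, .gen 2121 (1, true)),
    (2798, .gen 2116 (1, false)),
    (2459, .gen 2116 (1, true)),
    (2458, .gen 1802 (1, false)),
    (2115, .gen 1802 (1, true)),
    (2455, .gen 1800 (1, false)),
    (2113, .gen 1800 (1, true)),
    (2773, .gen 2094 (1, false)),
    (2434, .gen 2094 (1, true)),
    (2426, .gen 1773 (1, false)),
    (2086, .gen 1773 (1, true)),
    (2084, .gen 1485 (1, false)),
    (1771, .gen 1485 (1, true)),
    (2420, .gen 1767 (1, false)),
    (2079, .gen 1767 (1, true)),
    (2078, .gen 1481 (1, false)),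
    (1766, .gen 1481 (1, true)),
    (2067, .gen 1759 (0, false)),
    (1758, .gen 1474 (0, false)),
    (3050, .gen 2740 (0, false)),
    (3060, .gen 3312 (0, false)),
    (3306, .gen 3199 (0, false)),
    (3561, .gen 3409 (0, false)),
    (3122, .gen 2822 (0, false)),
    (3200, .gen 2913 (0, false)),
    (3560, .gen 3406 (0, false)),
    (3405, .gen 3185 (0, false)),
    (2480, .gen 2138 (0, false)),
    (3404, .gen 3184 (0, false)),
    (3403, .gen 3183 (0, false)),
    (3333, .gen 3383 (0, false)),
    (3382, .gen 3154 (0, false)),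
    (2868, .gen 2855 (0, false)),
    (3179, .gen 2888 (0, false)),
    (2885, .gen 2551 (0, false)),
    (2550, .gen 2208 (0, false)),
    (2547, .gen 2204 (0, false)),
    (2203, .gen 1882 (0, false)),
    (3623, .gen 3500 (0, false)),
    (3550, .gen 3397 (0, false)),
    (3173, .gen 2876 (0, false)),
    (3549, .gen 3395 (0, false)),
    (2974, .gen 2645 (0, false)),
    (2644, .gen 2306 (0, false)),
    (2869, .gen 2532 (0, false)),
    (2530, .gen 2188 (0, false)),
    (3391, .gen 3167 (0, false)),
    (3165, .gen 2866 (0, false)),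
    (2862, .gen 2525 (0, false)),
    (2524, .gen 2184 (0, false)),
    (2182, .gen 1866 (0, false)),
    (3635, .gen 3515 (0, false)),
    (2857, .gen 2521 (0, false)),
    (3151, .gen 2852 (0, false)),
    (2851, .gen 2515 (0, false)),
    (2850, .gen 2514 (0, false)),
    (2510, .gen 2169 (0, false)),
    (2509, .gen 2168 (0, false)),
    (2167, .gen 1851 (0, false)),
    (2505, .gen 2164 (0, false)),
    (2504, .gen 2163 (0, false)),
    (2761, .gen 2421 (0, false)),
    (3010, .gen 2686 (0, false)),
    (3614, .gen 3490 (0, false)),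
    (2841, .gen 3138 (0, false)),
    (3460, .gen 3597 (0, false)),
    (3688, .gen 3589 (0, false)),
    (3273, .gen 3003 (0, false)),
    (3197, .gen 2910 (0, false)),
    (3218, .gen 2935 (0, false)),
    (3470, .gen 3272 (0, false)),
    (2978, .gen 2650 (0, false)),
    (2845, .gen 3142 (0, false)),
    (3664, .gen 3578 (0, false)),
    (3337, .gen 3088 (0, false)),
    (2446, .gen 2105 (0, false)),
    (2979, .gen 2651 (0, false)),
    (3501, .gen 3328 (0, false)),
    (3673, .gen 3565 (0, false)),
    (3564, .gen 3412 (0, false)),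
    (3563, .gen 3411 (0, false)),
    (3410, .gen 3192 (0, false)),
    (3245, .gen 2971 (0, false)),
    (2840, .gen 3136 (0, false)),
    (3063, .gen 3086 (0, false)),
    (2817, .gen 2478 (0, false)),
    (3070, .gen 2764 (0, false)),
    (3619, .gen 3704 (0, false)),
    (3703, .gen 3613 (0, false)),
    (3341, .gen 3091 (0, false)),
    (3488, .gen 3301 (0, false)),
    (3059, .gen 2801 (0, false)),
    (2074, .gen 1764 (0, false)),
    (2748, .gen 2408 (0, false)),
    (3095, .gen 3042 (0, false)),
    (3041, .gen 2726 (0, false)),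
    (3234, .gen 2958 (0, false)),
    (3161, .gen 3287 (0, false)),
    (3486, .gen 3298 (0, false)),
    (3424, .gen 3209 (0, false)),
    (3423, .gen 3208 (0, false)),
    (3207, .gen 2921 (0, false)),
    (3137, .gen 3164 (0, false)),
    (3163, .gen 2863 (0, false)),
    (3083, .gen 2777 (0, false)),
    (3485, .gen 3297 (0, false)),
    (3018, .gen 3034 (0, false)),
    (3484, .gen 3295 (0, false)),
    (3294, .gen 3033 (0, false)),
    (3572, .gen 3483 (0, false)),
    (3162, .gen 3291 (0, false)),
    (3447, .gen 3241 (0, false)),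
    (3482, .gen 3290 (0, false)),
    (3058, .gen 3024 (0, false)),
    (3481, .gen 3289 (0, false)),
    (3288, .gen 3022 (0, false)),
    (2433, .gen 2093 (0, false)),
    (2698, .gen 2361 (0, false)),
    (2695, .gen 2359 (0, false)),
    (2694, .gen 2358 (0, false)),
    (3345, .gen 3100 (0, false)),
    (3585, .gen 3437 (0, false))]

/-- Visits. -/
def v0_11 : List (ℕ × Src) :=
  [(3282, .gen 3231 (0, false)),
    (3579, .gen 3427 (0, false)),
    (3107, .gen 3213 (0, false)),
    (2465, .gen 2124 (0, false)),
    (2123, .gen 1809 (0, false)),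
    (3106, .gen 3348 (0, false)),
    (3326, .gen 3075 (0, false)),
    (3502, .gen 3332 (0, false)),
    (3331, .gen 3080 (0, false)),
    (3334, .gen 3279 (0, false)),
    (3278, .gen 3008 (0, false)),
    (3277, .gen 3007 (0, false)),
    (3006, .gen 2683 (0, false)),
    (3055, .gen 2744 (0, false)),
    (2066, .gen 2405 (0, false)),
    (3436, .gen 3230 (0, false)),
    (2756, .gen 2807 (0, false)),
    (2908, .gen 2574 (0, false)),
    (3451, .gen 3594 (0, false)),
    (2636, .gen 2299 (0, false)),
    (3270, .gen 3000 (0, false)),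
    (2751, .gen 2410 (0, false)),
    (3061, .gen 3269 (0, false)),
    (3694, .gen 3598 (0, false)),
    (2846, .gen 3144 (0, false)),
    (2750, .gen 2993 (0, false)),
    (3525, .gen 3364 (0, false)),
    (3601, .gen 3468 (0, false)),
    (3454, .gen 3467 (0, false)),
    (3466, .gen 3263 (0, false)),
    (3465, .gen 3260 (0, false)),
    (3259, .gen 2985 (0, false)),
    (2983, .gen 2654 (0, false)),
    (3180, .gen 2889 (0, false)),
    (2409, .gen 2069 (0, false)),
    (3249, .gen 2975 (0, false)),
    (2640, .gen 2302 (0, false)),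
    (2301, .gen 1971 (0, false)),
    (3314, .gen 3476 (0, false)),
    (3081, .gen 2775 (0, false)),
    (3276, .gen 3473 (0, false)),
    (3599, .gen 3463 (0, false)),
    (3351, .gen 3111 (0, false)),
    (3505, .gen 3336 (0, false)),
    (3453, .gen 3443 (0, false)),
    (3442, .gen 3236 (0, false)),
    (3195, .gen 2909 (0, false)),
    (2793, .gen 2454 (0, false)),
    (3586, .gen 3440 (0, false)),
    (3224, .gen 2944 (0, false)),
    (3069, .gen 2762 (0, false)),
    (3094, .gen 2790 (0, false)),
    (3346, .gen 3439 (0, false)),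
    (3388, .gen 3159 (0, false)),
    (3456, .gen 3251 (0, false)),
    (2786, .gen 2448 (0, false)),
    (3349, .gen 3330 (0, false)),
    (3681, .gen 3582 (0, false)),
    (3581, .gen 3434 (0, false)),
    (3575, .gen 3433 (0, false)),
    (3495, .gen 3547 (0, false)),
    (3169, .gen 3393 (0, false)),
    (3430, .gen 3216 (0, false)),
    (3215, .gen 2930 (0, false)),
    (2929, .gen 2599 (0, false)),
    (3504, .gen 3335 (0, false)),
    (3019, .gen 3084 (0, false)),
    (3360, .gen 3121 (0, false)),
    (3120, .gen 2821 (0, false)),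
    (3145, .gen 3206 (0, false)),
    (2766, .gen 2919 (0, false)),
    (3248, .gen 3205 (0, false)),
    (3204, .gen 2918 (0, false)),
    (3203, .gen 2917 (0, false)),
    (2916, .gen 2585 (0, false)),
    (3149, .gen 3123 (0, false)),
    (3649, .gen 3532 (0, false)),
    (3531, .gen 3371 (0, false)),
    (3530, .gen 3370 (0, false)),
    (3369, .gen 3133 (0, false)),
    (3368, .gen 3132 (0, false)),
    (3131, .gen 2832 (0, false)),
    (3068, .gen 2830 (0, false)),
    (2508, .gen 2826 (0, false)),
    (3524, .gen 3363 (0, false)),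
    (3362, .gen 3124 (0, false)),
    (3318, .gen 3067 (0, false)),
    (3358, .gen 3119 (0, false)),
    (3092, .gen 3342 (0, false)),
    (3355, .gen 3115 (0, false)),
    (3353, .gen 3113 (0, false)),
    (2754, .gen 2413 (0, false)),
    (2808, .gen 2468 (0, false)),
    (3102, .gen 2803 (0, false)),
    (2802, .gen 2463 (0, false)),
    (3098, .gen 2798 (0, false)),
    (2796, .gen 2458 (0, false)),
    (2767, .gen 2426 (0, false)),
    (2425, .gen 2086 (0, false)),
    (2424, .gen 2084 (0, false)),
    (2077, .gen 1766 (0, false)),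
    (2747, .gen 2067 (1, false)),
    (2407, .gen 2067 (1, true)),
    (2406, .gen 1758 (1, false)),
    (2883, .gen 3050 (1, false)),
    (3512, .gen 3561 (1, false)),
    (3522, .gen 3122 (1, false)),
    (3361, .gen 3122 (1, true)),
    (3571, .gen 3200 (1, false)),
    (3417, .gen 3200 (1, true)),
    (3506, .gen 3560 (1, true)),
    (3329, .gen 3405 (1, false)),
    (3559, .gen 3405 (1, true)),
    (3558, .gen 3404 (1, true)),
    (3557, .gen 3403 (1, true)),
    (3497, .gen 3333 (1, true)),
    (3655, .gen 3382 (1, false)),
    (3538, .gen 3382 (1, true)),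
    (3168, .gen 2868 (1, true)),
    (3450, .gen 3179 (1, false)),
    (3243, .gen 3179 (1, true)),
    (3400, .gen 2885 (1, false)),
    (3177, .gen 2885 (1, true)),
    (2884, .gen 2203 (1, false)),
    (2546, .gen 2203 (1, true)),
    (3536, .gen 3623 (1, false)),
    (3378, .gen 3623 (1, true)),
    (3376, .gen 3173 (1, false)),
    (3160, .gen 3173 (1, true)),
    (3740, .gen 3549 (1, false)),
    (3065, .gen 2974 (1, false)),
    (2758, .gen 2974 (1, true)),
    (2973, .gen 2644 (1, true)),
    (3394, .gen 2869 (1, false)),
    (3247, .gen 3165 (1, true)),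
    (3389, .gen 2862 (1, false)),
    (2861, .gen 2524 (1, true)),
    (2859, .gen 2182 (1, false)),
    (2522, .gen 2182 (1, true)),
    (3685, .gen 3635 (1, false)),
    (3384, .gen 2857 (1, false)),
    (3156, .gen 2857 (1, true)),
    (3380, .gen 3151 (1, true)),
    (3379, .gen 2851 (1, false)),
    (3150, .gen 2851 (1, true)),
    (3377, .gen 2850 (1, false)),
    (3143, .gen 2509 (1, false)),
    (2844, .gen 2167 (1, false)),
    (3139, .gen 2505 (1, false)),
    (3319, .gen 2761 (1, false)),
    (3477, .gen 3010 (1, false)),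
    (3669, .gen 3614 (1, false)),
    (3705, .gen 3614 (1, true)),
    (3254, .gen 3460 (1, false)),
    (3779, .gen 3688 (1, false)),
    (3753, .gen 3688 (1, true)),
    (3471, .gen 3273 (1, true)),
    (3569, .gen 3197 (1, false)),
    (3416, .gen 3197 (1, true)),
    (3432, .gen 3218 (1, true)),
    (3608, .gen 3470 (1, false)),
    (3480, .gen 3470 (1, true)),
    (3458, .gen 2978 (1, false)),
    (3253, .gen 2978 (1, true)),
    (3090, .gen 2446 (1, false)),
    (2784, .gen 2446 (1, true)),
    (3711, .gen 3501 (1, false)),
    (3624, .gen 3501 (1, true)),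
    (3727, .gen 3673 (1, false)),
    (3640, .gen 3564 (1, false)),
    (3672, .gen 3564 (1, true)),
    (3731, .gen 3563 (1, false)),
    (3654, .gen 3563 (1, true)),
    (3671, .gen 3410 (1, false)),
    (3562, .gen 3410 (1, true)),
    (3309, .gen 3245 (1, false)),
    (3452, .gen 3245 (1, true)),
    (2755, .gen 3063 (1, false)),
    (3357, .gen 2817 (1, false)),
    (3116, .gen 2817 (1, true)),
    (3390, .gen 3070 (1, false)),
    (3494, .gen 3619 (1, false)),
    (3706, .gen 3619 (1, true)),
    (3767, .gen 3703 (1, false)),
    (3721, .gen 3703 (1, true)),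
    (3628, .gen 3341 (1, false)),
    (3508, .gen 3341 (1, true)),
    (3696, .gen 3488 (1, false)),
    (3603, .gen 3488 (1, true)),
    (3311, .gen 3059 (1, true)),
    (2414, .gen 2074 (1, true)),
    (3429, .gen 3041 (1, false)),
    (3587, .gen 3234 (1, false)),
    (3441, .gen 3234 (1, true)),
    (3702, .gen 3486 (1, false)),
    (3612, .gen 3486 (1, true)),
    (3605, .gen 3423 (1, false)),
    (3577, .gen 3423 (1, true)),
    (3576, .gen 3207 (1, false)),
    (3422, .gen 3207 (1, true)),
    (3503, .gen 3083 (1, false)),
    (3285, .gen 3018 (1, true)),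
    (3700, .gen 3484 (1, false)),
    (3611, .gen 3484 (1, true)),
    (3324, .gen 3294 (1, true)),
    (3418, .gen 3572 (1, false)),
    (3675, .gen 3572 (1, true)),
    (3690, .gen 3447 (1, false)),
    (3591, .gen 3447 (1, true)),
    (2746, .gen 3058 (1, false)),
    (3699, .gen 3481 (1, false)),
    (3609, .gen 3481 (1, true)),
    (3077, .gen 2433 (1, false)),
    (2771, .gen 2433 (1, true)),
    (3286, .gen 2698 (1, false)),
    (3284, .gen 2694 (1, false)),
    (3017, .gen 2694 (1, true)),
    (3478, .gen 3585 (1, false)),
    (3684, .gen 3585 (1, true)),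
    (3747, .gen 3579 (1, false)),
    (3678, .gen 3579 (1, true)),
    (2806, .gen 2465 (1, true)),
    (2805, .gen 2123 (1, false)),
    (2464, .gen 2123 (1, true)),
    (3713, .gen 3502 (1, false)),
    (3625, .gen 3502 (1, true)),
    (3320, .gen 3331 (1, false)),
    (3606, .gen 3278 (1, false)),
    (3475, .gen 3278 (1, true)),
    (3474, .gen 3277 (1, true)),
    (3414, .gen 2908 (1, false)),
    (3194, .gen 2908 (1, true)),
    (3244, .gen 3451 (1, false)),
    (3602, .gen 3270 (1, false)),
    (3469, .gen 3270 (1, true)),
    (3782, .gen 3694 (1, false)),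
    (3756, .gen 3694 (1, true)),
    (3639, .gen 3525 (1, false)),
    (3519, .gen 3525 (1, true)),
    (3632, .gen 3601 (1, false)),
    (3539, .gen 3601 (1, true)),
    (3555, .gen 3454 (1, true)),
    (3600, .gen 3259 (1, false)),
    (3464, .gen 3259 (1, true)),
    (3556, .gen 3180 (1, false)),
    (3401, .gen 3180 (1, true)),
    (2969, .gen 2640 (1, true)),
    (2968, .gen 2301 (1, false)),
    (2639, .gen 2301 (1, true)),
    (3757, .gen 3599 (1, false)),
    (3695, .gen 3599 (1, true)),
    (3523, .gen 3351 (1, false)),
    (3551, .gen 3505 (1, false)),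
    (3627, .gen 3505 (1, true)),
    (3687, .gen 3442 (1, false)),
    (3588, .gen 3442 (1, true)),
    (3322, .gen 3195 (1, false)),
    (3415, .gen 3195 (1, true)),
    (3584, .gen 3224 (1, false)),
    (3435, .gen 3224 (1, true)),
    (3103, .gen 3346 (1, false)),
    (2804, .gen 3346 (1, true)),
    (3659, .gen 3388 (1, false)),
    (3544, .gen 3388 (1, true)),
    (3343, .gen 2786 (1, false)),
    (3676, .gen 3681 (1, false)),
    (3573, .gen 3681 (1, true)),
    (3750, .gen 3581 (1, false)),
    (3680, .gen 3581 (1, true)),
    (3421, .gen 3575 (1, false)),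
    (3317, .gen 3495 (1, false)),
    (3066, .gen 3495 (1, true)),
    (3428, .gen 2929 (1, false)),
    (3214, .gen 2929 (1, true)),
    (3715, .gen 3504 (1, false)),
    (3626, .gen 3504 (1, true)),
    (3534, .gen 3360 (1, false)),
    (3373, .gen 3360 (1, true)),
    (3520, .gen 3120 (1, false)),
    (3359, .gen 3120 (1, true)),
    (3073, .gen 2766 (1, true)),
    (3574, .gen 3203 (1, false)),
    (3420, .gen 3203 (1, true)),
    (3419, .gen 2916 (1, false)),
    (3202, .gen 2916 (1, true)),
    (3726, .gen 3531 (1, false)),
    (3648, .gen 3531 (1, true)),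
    (3725, .gen 3530 (1, false)),
    (3647, .gen 3530 (1, true)),
    (3529, .gen 3369 (1, true)),
    (3645, .gen 3368 (1, false)),
    (3528, .gen 3368 (1, true)),
    (3527, .gen 3131 (1, false)),
    (3367, .gen 3131 (1, true)),
    (3723, .gen 3524 (1, false)),
    (3642, .gen 3524 (1, true)),
    (3321, .gen 3318 (1, false)),
    (3071, .gen 3318 (1, true)),
    (3638, .gen 3358 (1, false)),
    (3518, .gen 3358 (1, true))]

/-- Visits. -/
def v0_12 : List (ℕ × Src) :=
  [(3634, .gen 3353 (1, false)),
    (3514, .gen 3353 (1, true)),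
    (3313, .gen 2754 (1, false)),
    (3062, .gen 2754 (1, true)),
    (3511, .gen 3098 (1, false)),
    (3344, .gen 3098 (1, true)),
    (3325, .gen 2767 (1, false)),
    (3074, .gen 2767 (1, true)),
    (3072, .gen 2424 (1, false)),
    (2765, .gen 2424 (1, true)),
    (2759, .gen 2077 (1, false)),
    (2417, .gen 2077 (1, true)),
    (2745, .gen 2406 (0, false)),
    (3641, .gen 3522 (0, false)),
    (3521, .gen 3361 (0, false)),
    (3570, .gen 3417 (0, false)),
    (3339, .gen 3506 (0, false)),
    (3670, .gen 3559 (0, false)),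
    (3629, .gen 3558 (0, false)),
    (3732, .gen 3655 (0, false)),
    (3392, .gen 3168 (0, false)),
    (3593, .gen 3450 (0, false)),
    (3554, .gen 3400 (0, false)),
    (3399, .gen 3177 (0, false)),
    (3176, .gen 2884 (0, false)),
    (3652, .gen 3536 (0, false)),
    (3773, .gen 3740 (0, false)),
    (3316, .gen 3065 (0, false)),
    (3548, .gen 3394 (0, false)),
    (3545, .gen 3389 (0, false)),
    (3158, .gen 2859 (0, false)),
    (2858, .gen 2522 (0, false)),
    (3537, .gen 3379 (0, false)),
    (3535, .gen 3377 (0, false)),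
    (3496, .gen 3319 (0, false)),
    (3762, .gen 3705 (0, false)),
    (3459, .gen 3254 (0, false)),
    (3784, .gen 3779 (0, false)),
    (3617, .gen 3569 (0, false)),
    (3568, .gen 3416 (0, false)),
    (3637, .gen 3608 (0, false)),
    (3596, .gen 3458 (0, false)),
    (3457, .gen 3253 (0, false)),
    (3340, .gen 3090 (0, false)),
    (3089, .gen 2784 (0, false)),
    (3736, .gen 3711 (0, false)),
    (3553, .gen 3624 (0, false)),
    (3770, .gen 3727 (0, false)),
    (3744, .gen 3672 (0, false)),
    (3691, .gen 3731 (0, false)),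
    (3739, .gen 3671 (0, false)),
    (3057, .gen 3309 (0, false)),
    (3517, .gen 3357 (0, false)),
    (3356, .gen 3116 (0, false)),
    (3616, .gen 3706 (0, false)),
    (3716, .gen 3628 (0, false)),
    (3758, .gen 3696 (0, false)),
    (3543, .gen 3441 (0, false)),
    (3761, .gen 3702 (0, false)),
    (3701, .gen 3612 (0, false)),
    (3493, .gen 3576 (0, false)),
    (3479, .gen 3285 (0, false)),
    (3745, .gen 3675 (0, false)),
    (3742, .gen 3690 (0, false)),
    (3689, .gen 3591 (0, false)),
    (3760, .gen 3699 (0, false)),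
    (3777, .gen 3747 (0, false)),
    (3622, .gen 3678 (0, false)),
    (3105, .gen 2806 (0, false)),
    (3104, .gen 2805 (0, false)),
    (3712, .gen 3625 (0, false)),
    (3621, .gen 3606 (0, false)),
    (3604, .gen 3474 (0, false)),
    (3567, .gen 3414 (0, false)),
    (3413, .gen 3194 (0, false)),
    (3660, .gen 3602 (0, false)),
    (3498, .gen 3469 (0, false)),
    (3746, .gen 3756 (0, false)),
    (3513, .gen 3632 (0, false)),
    (3679, .gen 3600 (0, false)),
    (3668, .gen 3556 (0, false)),
    (2967, .gen 2639 (0, false)),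
    (3783, .gen 3757 (0, false)),
    (3697, .gen 3695 (0, false)),
    (3398, .gen 3551 (0, false)),
    (3752, .gen 3687 (0, false)),
    (3686, .gen 3588 (0, false)),
    (3683, .gen 3584 (0, false)),
    (3583, .gen 3435 (0, false)),
    (3674, .gen 3659 (0, false)),
    (3658, .gen 3544 (0, false)),
    (3509, .gen 3343 (0, false)),
    (3708, .gen 3750 (0, false)),
    (3749, .gen 3680 (0, false)),
    (3580, .gen 3428 (0, false)),
    (3347, .gen 3214 (0, false)),
    (3714, .gen 3626 (0, false)),
    (3650, .gen 3534 (0, false)),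
    (3323, .gen 3073 (0, false)),
    (3677, .gen 3574 (0, false)),
    (3540, .gen 3419 (0, false)),
    (3769, .gen 3726 (0, false)),
    (3768, .gen 3725 (0, false)),
    (3693, .gen 3647 (0, false)),
    (3646, .gen 3529 (0, false)),
    (3644, .gen 3528 (0, false)),
    (3526, .gen 3367 (0, false)),
    (3730, .gen 3723 (0, false)),
    (3722, .gen 3642 (0, false)),
    (3620, .gen 3518 (0, false)),
    (3719, .gen 3634 (0, false)),
    (3633, .gen 3514 (0, false)),
    (3492, .gen 3313 (0, false)),
    (3631, .gen 3511 (0, false)),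
    (3510, .gen 3344 (0, false)),
    (3499, .gen 3325 (0, false)),
    (3310, .gen 2745 (1, false)),
    (3692, .gen 3641 (1, true)),
    (3728, .gen 3570 (1, false)),
    (3743, .gen 3670 (1, true)),
    (3662, .gen 3392 (1, false)),
    (3546, .gen 3392 (1, true)),
    (3755, .gen 3593 (1, false)),
    (3667, .gen 3554 (1, true)),
    (3666, .gen 3399 (1, false)),
    (3552, .gen 3176 (1, false)),
    (3729, .gen 3652 (1, true)),
    (3618, .gen 3316 (1, false)),
    (3663, .gen 3548 (1, true)),
    (3387, .gen 3158 (1, true)),
    (3386, .gen 2858 (1, false)),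
    (3157, .gen 2858 (1, true)),
    (3653, .gen 3537 (1, true)),
    (3651, .gen 3535 (1, true)),
    (3385, .gen 3459 (1, true)),
    (3759, .gen 3784 (1, false)),
    (3698, .gen 3784 (1, true)),
    (3592, .gen 3568 (1, false)),
    (3448, .gen 3568 (1, true)),
    (3516, .gen 3637 (1, false)),
    (3643, .gen 3596 (1, false)),
    (3595, .gen 3457 (1, true)),
    (3507, .gen 3340 (1, true)),
    (3661, .gen 3736 (1, false)),
    (3724, .gen 3744 (1, false)),
    (3491, .gen 3616 (1, false)),
    (3707, .gen 3616 (1, true)),
    (3717, .gen 3716 (1, false)),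
    (3765, .gen 3716 (1, true)),
    (3733, .gen 3761 (1, false)),
    (3785, .gen 3761 (1, true)),
    (3720, .gen 3701 (1, false)),
    (3636, .gen 3701 (1, true)),
    (3607, .gen 3479 (1, true)),
    (3790, .gen 3745 (1, false)),
    (3775, .gen 3745 (1, true)),
    (3754, .gen 3689 (1, true)),
    (3789, .gen 3777 (1, false)),
    (3788, .gen 3777 (1, true)),
    (3710, .gen 3622 (1, true)),
    (3566, .gen 3413 (1, true)),
    (3776, .gen 3746 (1, true)),
    (3748, .gen 3679 (1, true)),
    (3449, .gen 2967 (1, false)),
    (3242, .gen 2967 (1, true)),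
    (3781, .gen 3783 (1, false)),
    (3787, .gen 3783 (1, true)),
    (3737, .gen 3752 (1, false)),
    (3709, .gen 3686 (1, false)),
    (3738, .gen 3686 (1, true)),
    (3751, .gen 3583 (1, false)),
    (3682, .gen 3583 (1, true)),
    (3718, .gen 3646 (1, false)),
    (3657, .gen 3722 (1, false)),
    (3542, .gen 3722 (1, true)),
    (3778, .gen 3719 (1, false)),
    (3766, .gen 3719 (1, true)),
    (3665, .gen 3510 (1, false)),
    (3630, .gen 3510 (1, true)),
    (3771, .gen 3728 (0, false)),
    (3741, .gen 3667 (0, false)),
    (3772, .gen 3729 (0, false)),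
    (3541, .gen 3386 (0, false)),
    (3763, .gen 3707 (0, false)),
    (3656, .gen 3733 (0, false)),
    (3734, .gen 3720 (0, false)),
    (3780, .gen 3754 (0, false)),
    (3774, .gen 3788 (0, false)),
    (3764, .gen 3710 (0, false)),
    (3791, .gen 3776 (0, false)),
    (3735, .gen 3657 (0, false)),
    (3786, .gen 3764 (1, true)),
    (3793, .gen 3791 (1, false)),
    (3792, .gen 3791 (1, true)),
    (3794, .gen 3793 (0, false))]

/-- The visits of node 0. -/
def visits0 : List (ℕ × Src) :=
  v0_0 ++ v0_1 ++ v0_2 ++ v0_3 ++ v0_4 ++ v0_5 ++ v0_6 ++ v0_7 ++ v0_8 ++ v0_9 ++ v0_10 ++ v0_11 ++ v0_12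

/-- Visits. -/
def v1_0 : List (ℕ × Src) :=
  [(0, .edge 2 true),
    (734, .edge 6 false),
    (1829, .edge 7 false),
    (8, .edge 7 true),
    (1, .edge 8 false),
    (4, .edge 201 false),
    (672, .gen 734 (3, false)),
    (419, .gen 734 (4, false)),
    (3201, .gen 734 (5, false)),
    (1208, .gen 734 (5, true)),
    (2145, .gen 1829 (3, false)),
    (1940, .gen 1829 (5, false)),
    (2451, .gen 1829 (5, true)),
    (11, .gen 8 (3, false)),
    (10, .gen 8 (5, false)),
    (421, .gen 8 (5, true)),
    (2, .gen 1 (3, false)),
    (55, .gen 1 (4, false)),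
    (160, .gen 1 (5, false)),
    (73, .gen 1 (5, true)),
    (6, .gen 4 (3, false)),
    (79, .gen 4 (4, false)),
    (76, .gen 4 (5, false)),
    (294, .gen 4 (5, true)),
    (525, .gen 672 (4, false)),
    (908, .gen 672 (5, false)),
    (991, .gen 672 (5, true)),
    (2602, .gen 2145 (5, false)),
    (499, .gen 2145 (5, true)),
    (1636, .gen 1940 (3, false)),
    (3339, .gen 1940 (5, false)),
    (2789, .gen 2451 (3, false)),
    (381, .gen 11 (5, false)),
    (399, .gen 11 (5, true)),
    (7, .gen 10 (3, false)),
    (929, .gen 10 (5, false)),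
    (527, .gen 421 (3, false)),
    (68, .gen 2 (4, false)),
    (481, .gen 2 (5, false)),
    (80, .gen 2 (5, true)),
    (145, .gen 55 (5, false)),
    (74, .gen 55 (5, true)),
    (205, .gen 160 (3, false)),
    (1654, .gen 160 (5, false)),
    (93, .gen 73 (3, false)),
    (288, .gen 6 (4, false)),
    (52, .gen 6 (5, false)),
    (349, .gen 6 (5, true)),
    (100, .gen 79 (3, false)),
    (234, .gen 79 (5, false)),
    (249, .gen 79 (5, true)),
    (97, .gen 76 (3, false)),
    (1964, .gen 76 (5, false)),
    (373, .gen 294 (3, false)),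
    (71, .gen 525 (5, false)),
    (2947, .gen 525 (5, true)),
    (1108, .gen 908 (3, false)),
    (961, .gen 908 (5, false)),
    (807, .gen 991 (3, false)),
    (2669, .gen 2602 (3, false)),
    (2137, .gen 2602 (5, false)),
    (3506, .gen 3339 (3, false)),
    (1146, .gen 2789 (4, false)),
    (3592, .gen 2789 (5, false)),
    (3277, .gen 2789 (5, true)),
    (476, .gen 381 (3, false)),
    (983, .gen 381 (5, false)),
    (1133, .gen 929 (3, false)),
    (942, .gen 527 (4, false)),
    (2013, .gen 527 (5, false)),
    (1615, .gen 527 (5, true)),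
    (127, .gen 68 (5, false)),
    (681, .gen 68 (5, true)),
    (600, .gen 481 (3, false)),
    (2101, .gen 481 (5, false)),
    (102, .gen 80 (3, false)),
    (185, .gen 145 (3, false)),
    (505, .gen 145 (5, false)),
    (59, .gen 74 (3, false)),
    (1680, .gen 205 (4, false)),
    (322, .gen 205 (5, false)),
    (519, .gen 205 (5, true)),
    (1962, .gen 1654 (3, false)),
    (233, .gen 93 (4, false)),
    (3260, .gen 93 (5, false)),
    (2306, .gen 93 (5, true)),
    (364, .gen 288 (3, false)),
    (1243, .gen 288 (5, false)),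
    (1721, .gen 288 (5, true)),
    (42, .gen 52 (3, false)),
    (2495, .gen 52 (5, false)),
    (439, .gen 349 (3, false)),
    (1098, .gen 100 (4, false)),
    (2926, .gen 100 (5, false)),
    (263, .gen 100 (5, true)),
    (183, .gen 234 (3, false)),
    (189, .gen 234 (5, false)),
    (315, .gen 249 (3, false)),
    (1439, .gen 97 (4, false)),
    (2811, .gen 97 (5, false)),
    (741, .gen 97 (5, true)),
    (2293, .gen 1964 (3, false)),
    (2073, .gen 373 (4, false)),
    (2657, .gen 373 (5, false)),
    (3070, .gen 373 (5, true)),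
    (90, .gen 71 (3, false)),
    (962, .gen 71 (5, false)),
    (2617, .gen 2947 (3, false)),
    (3109, .gen 1108 (5, false)),
    (2619, .gen 1108 (5, true)),
    (995, .gen 961 (3, false)),
    (651, .gen 807 (5, false)),
    (2479, .gen 2137 (3, false)),
    (1920, .gen 3506 (4, false)),
    (1189, .gen 3506 (5, false)),
    (2217, .gen 3506 (5, true)),
    (3449, .gen 1146 (5, false)),
    (3391, .gen 1146 (5, true)),
    (2985, .gen 3592 (5, false)),
    (3007, .gen 3277 (3, false)),
    (1199, .gen 983 (3, false)),
    (536, .gen 1133 (5, false)),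
    (1097, .gen 1133 (5, true)),
    (812, .gen 942 (5, false)),
    (3545, .gen 942 (5, true)),
    (588, .gen 2013 (5, false)),
    (161, .gen 127 (3, false)),
    (316, .gen 127 (5, false)),
    (846, .gen 681 (3, false)),
    (2274, .gen 600 (5, false)),
    (569, .gen 600 (5, true)),
    (2441, .gen 2101 (3, false)),
    (2089, .gen 102 (4, false)),
    (2830, .gen 102 (5, false)),
    (1960, .gen 102 (5, true)),
    (66, .gen 185 (4, false)),
    (237, .gen 185 (5, false)),
    (46, .gen 185 (5, true)),
    (628, .gen 505 (3, false)),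
    (738, .gen 59 (4, false)),
    (271, .gen 59 (5, false)),
    (632, .gen 59 (5, true)),
    (1703, .gen 1680 (3, false)),
    (767, .gen 1680 (5, false)),
    (2076, .gen 1680 (5, true)),
    (256, .gen 322 (3, false)),
    (788, .gen 322 (5, false)),
    (645, .gen 519 (3, false)),
    (2778, .gen 1962 (4, false)),
    (2917, .gen 1962 (5, false)),
    (1728, .gen 1962 (5, true)),
    (182, .gen 233 (3, false)),
    (3275, .gen 233 (5, false)),
    (2193, .gen 233 (5, true)),
    (3465, .gen 3260 (3, false)),
    (2386, .gen 3260 (5, false)),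
    (2644, .gen 2306 (3, false)),
    (1331, .gen 364 (4, false)),
    (2088, .gen 364 (5, false)),
    (3211, .gen 364 (5, true)),
    (1507, .gen 1243 (3, false)),
    (844, .gen 1243 (5, false)),
    (1440, .gen 1721 (3, false)),
    (538, .gen 42 (4, false)),
    (465, .gen 42 (5, false)),
    (78, .gen 42 (5, true)),
    (2831, .gen 2495 (3, false)),
    (2034, .gen 439 (4, false)),
    (856, .gen 439 (5, false)),
    (944, .gen 439 (5, true)),
    (2246, .gen 1098 (5, false)),
    (1405, .gen 1098 (5, true)),
    (3212, .gen 2926 (3, false)),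
    (1619, .gen 2926 (5, false)),
    (332, .gen 263 (3, false)),
    (148, .gen 183 (4, false)),
    (1153, .gen 183 (5, false)),
    (2658, .gen 183 (5, true)),
    (243, .gen 189 (3, false)),
    (901, .gen 315 (4, false)),
    (2576, .gen 315 (5, false)),
    (1360, .gen 315 (5, true)),
    (1681, .gen 1439 (3, false)),
    (3107, .gen 1439 (5, false)),
    (919, .gen 1439 (5, true)),
    (3110, .gen 2811 (3, false)),
    (839, .gen 2811 (5, false)),
    (912, .gen 741 (3, false)),
    (2871, .gen 2293 (4, false)),
    (2443, .gen 2293 (5, false)),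
    (941, .gen 2293 (5, true)),
    (2132, .gen 2073 (3, false)),
    (879, .gen 2073 (5, false)),
    (3347, .gen 2073 (5, true)),
    (2987, .gen 2657 (3, false)),
    (1205, .gen 2657 (5, false)),
    (2764, .gen 3070 (3, false)),
    (477, .gen 90 (5, false)),
    (174, .gen 90 (5, true)),
    (783, .gen 962 (3, false)),
    (815, .gen 2617 (5, false)),
    (1155, .gen 3109 (5, false)),
    (2948, .gen 2619 (3, false)),
    (655, .gen 995 (5, false)),
    (314, .gen 995 (5, true)),
    (811, .gen 651 (3, false)),
    (3389, .gen 2479 (4, false)),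
    (2721, .gen 2479 (5, false)),
    (666, .gen 2479 (5, true)),
    (976, .gen 1189 (3, false)),
    (2660, .gen 3449 (5, false)),
    (3167, .gen 3391 (3, false)),
    (3259, .gen 2985 (3, false)),
    (2280, .gen 1199 (5, false)),
    (1120, .gen 812 (5, false)),
    (733, .gen 588 (3, false)),
    (417, .gen 161 (5, false)),
    (250, .gen 316 (3, false)),
    (1265, .gen 846 (4, false)),
    (2579, .gen 846 (5, false)),
    (2269, .gen 846 (5, true)),
    (1944, .gen 2274 (3, false)),
    (1118, .gen 2274 (5, false)),
    (708, .gen 569 (3, false)),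
    (1732, .gen 2441 (4, false)),
    (2937, .gen 2441 (5, false)),
    (3225, .gen 2441 (5, true)),
    (2428, .gen 2089 (3, false)),
    (881, .gen 2089 (5, false)),
    (1418, .gen 2089 (5, true)),
    (3068, .gen 2830 (3, false)),
    (313, .gen 2830 (5, false)),
    (2291, .gen 1960 (3, false)),
    (84, .gen 66 (3, false)),
    (300, .gen 237 (3, false)),
    (57, .gen 46 (3, false)),
    (585, .gen 628 (4, false)),
    (2782, .gen 628 (5, false)),
    (1621, .gen 628 (5, true)),
    (593, .gen 738 (3, false)),
    (420, .gen 738 (5, false)),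
    (2363, .gen 738 (5, true)),
    (213, .gen 271 (3, false)),
    (1122, .gen 271 (5, false)),
    (787, .gen 632 (3, false)),
    (2827, .gen 1703 (5, false)),
    (998, .gen 1703 (5, true)),
    (619, .gen 767 (3, false)),
    (1701, .gen 767 (5, false)),
    (2416, .gen 2076 (3, false)),
    (2017, .gen 256 (5, false)),
    (297, .gen 256 (5, true)),
    (821, .gen 788 (3, false)),
    (1811, .gen 645 (4, false)),
    (125, .gen 645 (5, false)),
    (113, .gen 645 (5, true)),
    (2438, .gen 2778 (3, false)),
    (3772, .gen 2778 (5, false)),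
    (2606, .gen 2778 (5, true)),
    (3203, .gen 2917 (3, false)),
    (3775, .gen 2917 (5, false)),
    (2035, .gen 1728 (3, false)),
    (2896, .gen 182 (5, false)),
    (972, .gen 182 (5, true)),
    (3005, .gen 3275 (3, false)),
    (1585, .gen 3275 (5, false)),
    (1948, .gen 2193 (3, false)),
    (1316, .gen 3465 (5, false)),
    (2050, .gen 2386 (3, false)),
    (3459, .gen 2644 (4, false)),
    (3676, .gen 2644 (5, false)),
    (3368, .gen 2644 (5, true)),
    (800, .gen 1331 (5, false)),
    (460, .gen 1331 (5, true)),
    (2427, .gen 2088 (3, false)),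
    (3286, .gen 2088 (5, false)),
    (3196, .gen 3211 (3, false)),
    (2450, .gen 1507 (4, false)),
    (992, .gen 1507 (5, false)),
    (3089, .gen 1507 (5, true)),
    (1031, .gen 844 (3, false)),
    (1719, .gen 1440 (4, false)),
    (2641, .gen 1440 (5, false)),
    (2727, .gen 1440 (5, true)),
    (669, .gen 538 (3, false)),
    (139, .gen 538 (5, false)),
    (980, .gen 538 (5, true)),
    (582, .gen 465 (3, false)),
    (819, .gen 465 (5, false)),
    (99, .gen 78 (3, false)),
    (3101, .gen 2831 (4, false)),
    (3245, .gen 2831 (5, false)),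
    (1459, .gen 2831 (5, true)),
    (2367, .gen 2034 (3, false)),
    (77, .gen 2034 (5, false)),
    (3210, .gen 2034 (5, true)),
    (1046, .gen 856 (3, false)),
    (1539, .gen 856 (5, false)),
    (1150, .gen 944 (3, false)),
    (2192, .gen 2246 (3, false))]

/-- Visits. -/
def v1_1 : List (ℕ × Src) :=
  [(621, .gen 2246 (5, false)),
    (1687, .gen 1405 (3, false)),
    (3168, .gen 3212 (4, false)),
    (1587, .gen 3212 (5, false)),
    (1121, .gen 3212 (5, true)),
    (1925, .gen 1619 (3, false)),
    (729, .gen 332 (4, false)),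
    (1986, .gen 332 (5, false)),
    (479, .gen 332 (5, true)),
    (188, .gen 148 (3, false)),
    (254, .gen 148 (5, false)),
    (539, .gen 148 (5, true)),
    (946, .gen 1153 (3, false)),
    (3338, .gen 1153 (5, false)),
    (2318, .gen 2658 (3, false)),
    (2556, .gen 243 (4, false)),
    (955, .gen 243 (5, false)),
    (220, .gen 243 (5, true)),
    (1006, .gen 901 (3, false)),
    (2839, .gen 901 (5, false)),
    (1172, .gen 901 (5, true)),
    (2236, .gen 2576 (3, false)),
    (494, .gen 2576 (5, false)),
    (780, .gen 1681 (5, false)),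
    (2114, .gen 1681 (5, true)),
    (3213, .gen 3107 (3, false)),
    (2544, .gen 3107 (5, false)),
    (747, .gen 919 (3, false)),
    (2955, .gen 3110 (4, false)),
    (1675, .gen 3110 (5, false)),
    (1550, .gen 3110 (5, true)),
    (1025, .gen 839 (3, false)),
    (1113, .gen 912 (4, false)),
    (1716, .gen 912 (5, false)),
    (1843, .gen 912 (5, true)),
    (3170, .gen 2871 (3, false)),
    (2395, .gen 2871 (5, false)),
    (1919, .gen 2871 (5, true)),
    (2781, .gen 2443 (3, false)),
    (3468, .gen 2443 (5, false)),
    (813, .gen 941 (3, false)),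
    (3342, .gen 2132 (5, false)),
    (3097, .gen 2132 (5, true)),
    (710, .gen 879 (3, false)),
    (1607, .gen 879 (5, false)),
    (3214, .gen 3347 (3, false)),
    (3655, .gen 2987 (4, false)),
    (551, .gen 2987 (5, false)),
    (1276, .gen 2987 (5, true)),
    (989, .gen 1205 (3, false)),
    (1144, .gen 2764 (4, false)),
    (2906, .gen 2764 (5, false)),
    (1229, .gen 2764 (5, true)),
    (15, .gen 477 (5, false)),
    (223, .gen 174 (3, false)),
    (23, .gen 783 (5, true)),
    (1401, .gen 1155 (3, false)),
    (1363, .gen 2948 (5, false)),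
    (1852, .gen 2948 (5, true)),
    (877, .gen 655 (5, false)),
    (106, .gen 811 (5, false)),
    (2989, .gen 2660 (3, false)),
    (1359, .gen 1120 (3, false)),
    (522, .gen 417 (3, false)),
    (251, .gen 250 (4, false)),
    (508, .gen 250 (5, false)),
    (311, .gen 250 (5, true)),
    (1534, .gen 1265 (3, false)),
    (709, .gen 1265 (5, false)),
    (968, .gen 1265 (5, true)),
    (2239, .gen 2579 (3, false)),
    (1350, .gen 2579 (5, false)),
    (2610, .gen 2269 (3, false)),
    (2191, .gen 1944 (4, false)),
    (2913, .gen 1944 (5, false)),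
    (355, .gen 1944 (5, true)),
    (916, .gen 1118 (3, false)),
    (2412, .gen 708 (4, false)),
    (642, .gen 708 (5, false)),
    (2196, .gen 708 (5, true)),
    (1448, .gen 1732 (3, false)),
    (1129, .gen 1732 (5, false)),
    (3304, .gen 1732 (5, true)),
    (2607, .gen 2937 (3, false)),
    (2348, .gen 2937 (5, false)),
    (198, .gen 2428 (5, true)),
    (712, .gen 881 (3, false)),
    (393, .gen 881 (5, false)),
    (1578, .gen 1418 (3, false)),
    (663, .gen 3068 (4, false)),
    (2284, .gen 3068 (5, false)),
    (3130, .gen 3068 (5, true)),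
    (396, .gen 313 (3, false)),
    (1419, .gen 2291 (4, false)),
    (3750, .gen 2291 (5, false)),
    (3685, .gen 2291 (5, true)),
    (931, .gen 84 (5, false)),
    (341, .gen 84 (5, true)),
    (2330, .gen 300 (5, false)),
    (238, .gen 300 (5, true)),
    (225, .gen 57 (5, false)),
    (1642, .gen 57 (5, true)),
    (467, .gen 585 (3, false)),
    (2468, .gen 585 (5, false)),
    (3252, .gen 585 (5, true)),
    (3087, .gen 2782 (3, false)),
    (1605, .gen 2782 (5, false)),
    (1927, .gen 1621 (3, false)),
    (2270, .gen 593 (5, false)),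
    (2429, .gen 593 (5, true)),
    (334, .gen 420 (3, false)),
    (1417, .gen 420 (5, false)),
    (2031, .gen 2363 (3, false)),
    (1912, .gen 213 (5, false)),
    (14, .gen 213 (5, true)),
    (1362, .gen 1122 (3, false)),
    (3624, .gen 787 (4, false)),
    (3096, .gen 787 (5, false)),
    (1638, .gen 787 (5, true)),
    (2492, .gen 2827 (3, false)),
    (1610, .gen 2827 (5, false)),
    (904, .gen 998 (3, false)),
    (1165, .gen 619 (5, false)),
    (2843, .gen 619 (5, true)),
    (925, .gen 2416 (4, false)),
    (1755, .gen 2416 (5, false)),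
    (2167, .gen 2416 (5, true)),
    (449, .gen 2017 (5, false)),
    (377, .gen 297 (3, false)),
    (2276, .gen 821 (4, false)),
    (3254, .gen 821 (5, false)),
    (398, .gen 821 (5, true)),
    (1520, .gen 1811 (3, false)),
    (2376, .gen 1811 (5, false)),
    (2260, .gen 1811 (5, true)),
    (98, .gen 125 (3, false)),
    (298, .gen 125 (5, false)),
    (89, .gen 113 (3, false)),
    (1330, .gen 2438 (5, false)),
    (343, .gen 2438 (5, true)),
    (3729, .gen 3772 (3, false)),
    (3746, .gen 3772 (5, false)),
    (2936, .gen 2606 (3, false)),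
    (1671, .gen 3203 (4, false)),
    (3694, .gen 3203 (5, false)),
    (1922, .gen 3203 (5, true)),
    (3789, .gen 3775 (3, false)),
    (277, .gen 2035 (4, false)),
    (1734, .gen 2035 (5, false)),
    (3240, .gen 2035 (5, true)),
    (2562, .gen 2896 (3, false)),
    (794, .gen 2896 (5, false)),
    (793, .gen 972 (3, false)),
    (1389, .gen 3005 (5, false)),
    (1307, .gen 1585 (3, false)),
    (1751, .gen 1948 (4, false)),
    (2283, .gen 1948 (5, false)),
    (637, .gen 1948 (5, true)),
    (1084, .gen 1316 (3, false)),
    (823, .gen 2050 (4, false)),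
    (1806, .gen 2050 (5, false)),
    (2140, .gen 2050 (5, true)),
    (3499, .gen 3459 (5, false)),
    (2674, .gen 3459 (5, true)),
    (2707, .gen 3676 (5, false)),
    (3132, .gen 3368 (3, false)),
    (982, .gen 800 (3, false)),
    (3367, .gen 800 (5, false)),
    (365, .gen 460 (3, false)),
    (1892, .gen 2427 (4, false)),
    (2433, .gen 2427 (5, false)),
    (713, .gen 2427 (5, true)),
    (3480, .gen 3286 (3, false)),
    (2119, .gen 3196 (4, false)),
    (1783, .gen 3196 (5, false)),
    (2011, .gen 3196 (5, true)),
    (2788, .gen 2450 (3, false)),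
    (305, .gen 2450 (5, false)),
    (1181, .gen 2450 (5, true)),
    (1470, .gen 992 (5, false)),
    (2784, .gen 3089 (3, false)),
    (2563, .gen 1031 (4, false)),
    (258, .gen 1031 (5, false)),
    (2339, .gen 1031 (5, true)),
    (2027, .gen 1719 (3, false)),
    (149, .gen 1719 (5, false)),
    (2685, .gen 1719 (5, true)),
    (2303, .gen 2641 (3, false)),
    (3361, .gen 2641 (5, false)),
    (2387, .gen 2727 (3, false)),
    (2724, .gen 669 (5, false)),
    (1780, .gen 669 (5, true)),
    (178, .gen 139 (3, false)),
    (92, .gen 139 (5, false)),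
    (1194, .gen 980 (3, false)),
    (2678, .gen 582 (4, false)),
    (1582, .gen 582 (5, false)),
    (367, .gen 582 (5, true)),
    (1000, .gen 819 (3, false)),
    (2053, .gen 99 (4, false)),
    (2907, .gen 99 (5, false)),
    (594, .gen 99 (5, true)),
    (2820, .gen 3101 (3, false)),
    (3360, .gen 3101 (5, false)),
    (827, .gen 3101 (5, true)),
    (2971, .gen 3245 (3, false)),
    (2214, .gen 3245 (5, false)),
    (1535, .gen 1459 (3, false)),
    (3520, .gen 2367 (5, false)),
    (2032, .gen 2367 (5, true)),
    (61, .gen 77 (3, false)),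
    (340, .gen 77 (5, false)),
    (2923, .gen 3210 (3, false)),
    (3257, .gen 1046 (4, false)),
    (3724, .gen 1046 (5, false)),
    (1692, .gen 1046 (5, true)),
    (1269, .gen 1539 (3, false)),
    (2219, .gen 1150 (4, false)),
    (2873, .gen 1150 (5, false)),
    (1770, .gen 1150 (5, true)),
    (2532, .gen 2192 (4, false)),
    (1864, .gen 2192 (5, false)),
    (1853, .gen 2192 (5, true)),
    (771, .gen 621 (3, false)),
    (2938, .gen 1687 (4, false)),
    (1954, .gen 1687 (5, false)),
    (2517, .gen 1687 (5, true)),
    (3392, .gen 3168 (3, false)),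
    (885, .gen 3168 (5, false)),
    (1358, .gen 3168 (5, true)),
    (1312, .gen 1587 (3, false)),
    (1151, .gen 1587 (5, false)),
    (470, .gen 1925 (4, false)),
    (1761, .gen 1925 (5, false)),
    (727, .gen 1925 (5, true)),
    (899, .gen 729 (3, false)),
    (540, .gen 729 (5, false)),
    (1214, .gen 729 (5, true)),
    (2319, .gen 1986 (3, false)),
    (3469, .gen 1986 (5, false)),
    (384, .gen 479 (3, false)),
    (759, .gen 188 (5, false)),
    (3075, .gen 188 (5, true)),
    (200, .gen 254 (3, false)),
    (760, .gen 254 (5, false)),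
    (496, .gen 539 (3, false)),
    (1034, .gen 946 (4, false)),
    (1070, .gen 946 (5, false)),
    (2254, .gen 946 (5, true)),
    (2578, .gen 2318 (4, false)),
    (3237, .gen 2318 (5, false)),
    (2754, .gen 2318 (5, true)),
    (2890, .gen 2556 (3, false)),
    (781, .gen 2556 (5, false)),
    (2165, .gen 2556 (5, true)),
    (1163, .gen 955 (3, false)),
    (1862, .gen 955 (5, false)),
    (280, .gen 220 (3, false)),
    (2404, .gen 1006 (5, false)),
    (1974, .gen 1006 (5, true)),
    (2502, .gen 2839 (3, false)),
    (2178, .gen 2839 (5, false)),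
    (1423, .gen 1172 (3, false)),
    (2513, .gen 2236 (4, false)),
    (2618, .gen 2236 (5, false)),
    (1367, .gen 2236 (5, true)),
    (615, .gen 494 (3, false)),
    (818, .gen 780 (3, false)),
    (662, .gen 780 (5, false)),
    (1801, .gen 2114 (3, false)),
    (2608, .gen 3213 (4, false)),
    (3747, .gen 3213 (5, false)),
    (2706, .gen 3213 (5, true)),
    (2881, .gen 2544 (3, false)),
    (387, .gen 747 (4, false)),
    (2849, .gen 747 (5, false)),
    (2490, .gen 747 (5, true)),
    (2627, .gen 2955 (3, false)),
    (1221, .gen 2955 (5, false)),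
    (835, .gen 2955 (5, true)),
    (1985, .gen 1675 (3, false)),
    (1945, .gen 1675 (5, false)),
    (1277, .gen 1550 (3, false)),
    (1285, .gen 1025 (4, false)),
    (1994, .gen 1025 (5, false)),
    (1411, .gen 1025 (5, true)),
    (1173, .gen 1113 (3, false)),
    (2739, .gen 1113 (5, false)),
    (3017, .gen 1113 (5, true)),
    (2023, .gen 1716 (3, false)),
    (3163, .gen 1716 (5, false)),
    (2158, .gen 1843 (3, false)),
    (3411, .gen 3170 (5, false)),
    (3442, .gen 3170 (5, true)),
    (2056, .gen 2395 (3, false)),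
    (1518, .gen 2395 (5, false)),
    (2247, .gen 1919 (3, false)),
    (3398, .gen 2781 (4, false)),
    (1531, .gen 2781 (5, false)),
    (2476, .gen 2781 (5, true))]

/-- Visits. -/
def v1_2 : List (ℕ × Src) :=
  [(3601, .gen 3468 (3, false)),
    (993, .gen 813 (4, false)),
    (3092, .gen 3342 (3, false)),
    (3591, .gen 3342 (5, false)),
    (3283, .gen 3097 (3, false)),
    (2271, .gen 710 (4, false)),
    (1656, .gen 710 (5, false)),
    (1067, .gen 710 (5, true)),
    (1328, .gen 1607 (3, false)),
    (1009, .gen 3214 (4, false)),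
    (769, .gen 3214 (5, false)),
    (3102, .gen 3214 (5, true)),
    (3732, .gen 3655 (3, false)),
    (3564, .gen 3655 (5, false)),
    (1669, .gen 3655 (5, true)),
    (440, .gen 551 (3, false)),
    (1771, .gen 551 (5, false)),
    (1051, .gen 1276 (3, false)),
    (3282, .gen 989 (4, false)),
    (1896, .gen 989 (5, false)),
    (2092, .gen 989 (5, true)),
    (1005, .gen 1144 (3, false)),
    (1058, .gen 1144 (5, false)),
    (3125, .gen 1144 (5, true)),
    (2573, .gen 2906 (3, false)),
    (1081, .gen 2906 (5, false)),
    (1488, .gen 1229 (3, false)),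
    (20, .gen 15 (3, false)),
    (1643, .gen 1363 (3, false)),
    (1555, .gen 1852 (3, false)),
    (1071, .gen 877 (3, false)),
    (134, .gen 106 (3, false)),
    (648, .gen 522 (4, false)),
    (3142, .gen 522 (5, false)),
    (808, .gen 522 (5, true)),
    (1865, .gen 251 (5, false)),
    (232, .gen 251 (5, true)),
    (631, .gen 508 (3, false)),
    (176, .gen 508 (5, false)),
    (246, .gen 311 (3, false)),
    (570, .gen 709 (3, false)),
    (482, .gen 709 (5, false)),
    (1179, .gen 968 (3, false)),
    (1878, .gen 2239 (4, false)),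
    (110, .gen 2239 (5, false)),
    (1953, .gen 2239 (5, true)),
    (1503, .gen 1350 (3, false)),
    (2510, .gen 2610 (5, false)),
    (2534, .gen 2191 (3, false)),
    (3642, .gen 2191 (5, false)),
    (285, .gen 2191 (5, true)),
    (3200, .gen 2913 (3, false)),
    (2738, .gen 2913 (5, false)),
    (446, .gen 355 (3, false)),
    (2599, .gen 916 (4, false)),
    (2952, .gen 916 (5, false)),
    (498, .gen 916 (5, true)),
    (2072, .gen 2412 (3, false)),
    (3039, .gen 2412 (5, false)),
    (107, .gen 2412 (5, true)),
    (799, .gen 642 (3, false)),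
    (452, .gen 642 (5, false)),
    (2539, .gen 2196 (3, false)),
    (926, .gen 1129 (3, false)),
    (532, .gen 1129 (5, false)),
    (3261, .gen 3304 (3, false)),
    (143, .gen 2607 (4, false)),
    (1744, .gen 2607 (5, false)),
    (2238, .gen 2607 (5, true)),
    (1511, .gen 712 (4, false)),
    (3552, .gen 712 (5, false)),
    (1379, .gen 712 (5, true)),
    (491, .gen 393 (3, false)),
    (875, .gen 1578 (4, false)),
    (2345, .gen 1578 (5, false)),
    (1868, .gen 1578 (5, true)),
    (826, .gen 663 (3, false)),
    (1759, .gen 663 (5, false)),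
    (3319, .gen 663 (5, true)),
    (2624, .gen 2284 (3, false)),
    (1485, .gen 2284 (5, false)),
    (3366, .gen 3130 (3, false)),
    (938, .gen 396 (4, false)),
    (843, .gen 396 (5, false)),
    (1040, .gen 396 (5, true)),
    (1169, .gen 1419 (3, false)),
    (1707, .gen 1419 (5, false)),
    (1371, .gen 1419 (5, true)),
    (3708, .gen 3750 (3, false)),
    (2975, .gen 3750 (5, false)),
    (756, .gen 931 (3, false)),
    (2006, .gen 931 (5, false)),
    (270, .gen 341 (3, false)),
    (2673, .gen 2330 (3, false)),
    (362, .gen 2330 (5, false)),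
    (301, .gen 238 (3, false)),
    (1947, .gen 1642 (3, false)),
    (111, .gen 467 (5, false)),
    (426, .gen 467 (5, true)),
    (2808, .gen 2468 (3, false)),
    (2281, .gen 2468 (5, false)),
    (2977, .gen 3252 (3, false)),
    (3561, .gen 3087 (4, false)),
    (3512, .gen 3087 (5, false)),
    (1227, .gen 3087 (5, true)),
    (1326, .gen 1605 (3, false)),
    (2332, .gen 1927 (4, false)),
    (2652, .gen 1927 (5, false)),
    (3405, .gen 1927 (5, true)),
    (2611, .gen 2270 (3, false)),
    (317, .gen 2270 (5, false)),
    (2090, .gen 2429 (3, false)),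
    (179, .gen 334 (5, false)),
    (158, .gen 334 (5, true)),
    (1729, .gen 2031 (4, false)),
    (1569, .gen 2031 (5, false)),
    (689, .gen 2031 (5, true)),
    (2237, .gen 1912 (3, false)),
    (186, .gen 1912 (5, false)),
    (19, .gen 14 (3, false)),
    (2616, .gen 1362 (4, false)),
    (1128, .gen 1362 (5, false)),
    (3553, .gen 3624 (3, false)),
    (1651, .gen 3624 (5, false)),
    (3525, .gen 3624 (5, true)),
    (2795, .gen 3096 (3, false)),
    (3501, .gen 3096 (5, false)),
    (1357, .gen 1638 (3, false)),
    (3409, .gen 2492 (5, false)),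
    (2244, .gen 2492 (5, true)),
    (231, .gen 904 (5, false)),
    (1800, .gen 904 (5, true)),
    (956, .gen 1165 (3, false)),
    (953, .gen 1165 (5, false)),
    (2507, .gen 2843 (3, false)),
    (1690, .gen 925 (5, false)),
    (2614, .gen 925 (5, true)),
    (1752, .gen 1755 (3, false)),
    (1645, .gen 1755 (5, false)),
    (1851, .gen 2167 (3, false)),
    (563, .gen 449 (3, false)),
    (2600, .gen 377 (4, false)),
    (947, .gen 377 (5, false)),
    (1074, .gen 377 (5, true)),
    (1465, .gen 2276 (5, false)),
    (2670, .gen 2276 (5, true)),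
    (190, .gen 3254 (5, false)),
    (2714, .gen 2376 (3, false)),
    (1939, .gen 2376 (5, false)),
    (804, .gen 98 (4, false)),
    (26, .gen 98 (5, false)),
    (1272, .gen 98 (5, true)),
    (379, .gen 298 (3, false)),
    (3, .gen 89 (5, false)),
    (382, .gen 89 (5, true)),
    (2925, .gen 1330 (5, false)),
    (430, .gen 343 (3, false)),
    (3768, .gen 3729 (4, false)),
    (3596, .gen 3729 (5, false)),
    (3373, .gen 3729 (5, true)),
    (3756, .gen 3746 (3, false)),
    (513, .gen 2936 (4, false)),
    (1391, .gen 1671 (3, false)),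
    (2717, .gen 1671 (5, true)),
    (3598, .gen 3694 (3, false)),
    (1099, .gen 3694 (5, false)),
    (1963, .gen 1922 (3, false)),
    (3328, .gen 3789 (4, false)),
    (884, .gen 3789 (5, false)),
    (2469, .gen 3789 (5, true)),
    (350, .gen 277 (3, false)),
    (903, .gen 277 (5, false)),
    (1437, .gen 277 (5, true)),
    (1449, .gen 1734 (3, false)),
    (3364, .gen 1734 (5, false)),
    (2964, .gen 3240 (3, false)),
    (2640, .gen 2562 (5, false)),
    (75, .gen 2562 (5, true)),
    (973, .gen 794 (3, false)),
    (3725, .gen 793 (5, false)),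
    (353, .gen 793 (5, true)),
    (1142, .gen 1389 (3, false)),
    (3614, .gen 1307 (4, false)),
    (1928, .gen 1307 (5, false)),
    (459, .gen 1307 (5, true)),
    (255, .gen 1751 (5, false)),
    (2622, .gen 2283 (3, false)),
    (3079, .gen 2283 (5, false)),
    (3743, .gen 1084 (5, false)),
    (571, .gen 1084 (5, true)),
    (661, .gen 823 (3, false)),
    (2241, .gen 823 (5, false)),
    (677, .gen 823 (5, true)),
    (2120, .gen 1806 (3, false)),
    (2481, .gen 2140 (3, false)),
    (3325, .gen 3499 (3, false)),
    (3023, .gen 3499 (5, false)),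
    (3025, .gen 2707 (3, false)),
    (561, .gen 3132 (5, false)),
    (3690, .gen 3132 (5, true)),
    (1765, .gen 982 (4, false)),
    (3287, .gen 982 (5, false)),
    (1866, .gen 982 (5, true)),
    (3526, .gen 3367 (3, false)),
    (1967, .gen 365 (4, false)),
    (3430, .gen 365 (5, false)),
    (171, .gen 365 (5, true)),
    (2216, .gen 1892 (3, false)),
    (1320, .gen 1892 (5, false)),
    (577, .gen 1892 (5, true)),
    (2093, .gen 2433 (3, false)),
    (2205, .gen 2433 (5, false)),
    (882, .gen 713 (3, false)),
    (1735, .gen 3480 (4, false)),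
    (422, .gen 3480 (5, false)),
    (1836, .gen 3480 (5, true)),
    (1847, .gen 2119 (3, false)),
    (2096, .gen 1783 (3, false)),
    (2341, .gen 2011 (3, false)),
    (3455, .gen 2788 (5, false)),
    (1898, .gen 2788 (5, true)),
    (241, .gen 305 (3, false)),
    (262, .gen 305 (5, false)),
    (970, .gen 1181 (3, false)),
    (1756, .gen 1470 (3, false)),
    (1094, .gen 2784 (4, false)),
    (1055, .gen 2784 (5, false)),
    (1416, .gen 2784 (5, true)),
    (2221, .gen 2563 (3, false)),
    (1239, .gen 2563 (5, false)),
    (3184, .gen 2563 (5, true)),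
    (203, .gen 258 (3, false)),
    (778, .gen 258 (5, false)),
    (2008, .gen 2339 (3, false)),
    (3509, .gen 2027 (5, false)),
    (3297, .gen 2027 (5, true)),
    (118, .gen 149 (3, false)),
    (3137, .gen 149 (5, false)),
    (2347, .gen 2685 (3, false)),
    (245, .gen 2303 (4, false)),
    (3216, .gen 2303 (5, false)),
    (3395, .gen 2303 (5, true)),
    (3521, .gen 3361 (3, false)),
    (1758, .gen 2387 (4, false)),
    (2762, .gen 2387 (5, false)),
    (1249, .gen 2387 (5, true)),
    (2385, .gen 2724 (3, false)),
    (1011, .gen 2724 (5, false)),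
    (2094, .gen 1780 (3, false)),
    (2911, .gen 178 (4, false)),
    (3106, .gen 178 (5, false)),
    (927, .gen 178 (5, true)),
    (117, .gen 92 (3, false)),
    (1683, .gen 1194 (4, false)),
    (795, .gen 1194 (5, false)),
    (2337, .gen 2678 (3, false)),
    (3312, .gen 2678 (5, false)),
    (722, .gen 2678 (5, true)),
    (1305, .gen 1582 (3, false)),
    (1753, .gen 1582 (5, false)),
    (302, .gen 367 (3, false)),
    (2349, .gen 1000 (4, false)),
    (2359, .gen 1000 (5, false)),
    (2471, .gen 1000 (5, true)),
    (2390, .gen 2053 (3, false)),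
    (3547, .gen 2053 (5, false)),
    (1506, .gen 2053 (5, true)),
    (3193, .gen 2907 (3, false)),
    (3604, .gen 2907 (5, false)),
    (740, .gen 594 (3, false)),
    (3638, .gen 2820 (5, false)),
    (1782, .gen 2820 (5, true)),
    (3121, .gen 3360 (3, false)),
    (915, .gen 3360 (5, false)),
    (1008, .gen 827 (3, false)),
    (3061, .gen 2971 (4, false)),
    (2307, .gen 2971 (5, false)),
    (2747, .gen 2971 (5, true)),
    (1891, .gen 2214 (3, false)),
    (679, .gen 1535 (4, false)),
    (2736, .gen 1535 (5, false)),
    (3227, .gen 1535 (5, true)),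
    (3640, .gen 3520 (3, false)),
    (1677, .gen 3520 (5, false)),
    (2365, .gen 2032 (3, false)),
    (195, .gen 61 (4, false)),
    (12, .gen 61 (5, false)),
    (1616, .gen 61 (5, true)),
    (428, .gen 340 (3, false)),
    (3045, .gen 2923 (4, false)),
    (1381, .gen 2923 (5, false)),
    (2749, .gen 2923 (5, true)),
    (3171, .gen 3257 (3, false)),
    (1263, .gen 3257 (5, true)),
    (3643, .gen 3724 (3, false)),
    (2855, .gen 3724 (5, false)),
    (1409, .gen 1692 (3, false)),
    (1050, .gen 1269 (4, false)),
    (1136, .gen 1269 (5, false)),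
    (2515, .gen 1269 (5, true))]

/-- Visits. -/
def v1_3 : List (ℕ × Src) :=
  [(2561, .gen 2219 (3, false)),
    (1646, .gen 2219 (5, false)),
    (3027, .gen 2219 (5, true)),
    (2535, .gen 2873 (3, false)),
    (2592, .gen 2873 (5, false)),
    (2082, .gen 1770 (3, false)),
    (2869, .gen 2532 (3, false)),
    (2557, .gen 2532 (5, false)),
    (219, .gen 2532 (5, true)),
    (1566, .gen 1864 (3, false)),
    (424, .gen 1864 (5, false)),
    (1556, .gen 1853 (3, false)),
    (1695, .gen 771 (4, false)),
    (920, .gen 771 (5, false)),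
    (1087, .gen 771 (5, true)),
    (3221, .gen 2938 (3, false)),
    (1460, .gen 2938 (5, false)),
    (1022, .gen 2938 (5, true)),
    (1648, .gen 1954 (3, false)),
    (792, .gen 1954 (5, false)),
    (2176, .gen 2517 (3, false)),
    (2033, .gen 3392 (5, false)),
    (3774, .gen 3392 (5, true)),
    (3439, .gen 885 (5, false)),
    (1639, .gen 1358 (3, false)),
    (109, .gen 1312 (4, false)),
    (217, .gen 1312 (5, false)),
    (441, .gen 1312 (5, true)),
    (1398, .gen 1151 (3, false)),
    (500, .gen 470 (3, false)),
    (165, .gen 470 (5, false)),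
    (228, .gen 470 (5, true)),
    (2070, .gen 1761 (3, false)),
    (1338, .gen 1761 (5, false)),
    (584, .gen 727 (3, false)),
    (3618, .gen 899 (5, false)),
    (1132, .gen 899 (5, true)),
    (431, .gen 540 (3, false)),
    (1141, .gen 540 (5, false)),
    (1211, .gen 1214 (3, false)),
    (1572, .gen 2319 (4, false)),
    (3188, .gen 2319 (5, false)),
    (395, .gen 2319 (5, true)),
    (3498, .gen 3469 (3, false)),
    (1054, .gen 384 (4, false)),
    (2853, .gen 384 (5, false)),
    (2620, .gen 384 (5, true)),
    (935, .gen 759 (3, false)),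
    (537, .gen 759 (5, false)),
    (3326, .gen 3075 (3, false)),
    (590, .gen 200 (4, false)),
    (623, .gen 200 (5, false)),
    (67, .gen 200 (5, true)),
    (612, .gen 760 (3, false)),
    (2666, .gen 496 (4, false)),
    (755, .gen 496 (5, false)),
    (3664, .gen 496 (5, true)),
    (1254, .gen 1034 (3, false)),
    (2129, .gen 1034 (5, true)),
    (876, .gen 1070 (3, false)),
    (2360, .gen 1070 (5, false)),
    (1926, .gen 2254 (3, false)),
    (2872, .gen 2578 (3, false)),
    (2968, .gen 2578 (5, true)),
    (2962, .gen 3237 (3, false)),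
    (3262, .gen 3237 (5, false)),
    (2413, .gen 2754 (3, false)),
    (1337, .gen 2890 (5, true)),
    (959, .gen 781 (3, false)),
    (776, .gen 781 (5, false)),
    (2506, .gen 2165 (3, false)),
    (1438, .gen 1163 (4, false)),
    (153, .gen 1163 (5, false)),
    (897, .gen 1163 (5, true)),
    (2180, .gen 1862 (3, false)),
    (3315, .gen 280 (4, false)),
    (1493, .gen 280 (5, false)),
    (2743, .gen 2404 (3, false)),
    (1135, .gen 2404 (5, false)),
    (2305, .gen 1974 (3, false)),
    (3072, .gen 2502 (5, false)),
    (2519, .gen 2178 (3, false)),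
    (2171, .gen 2513 (3, false)),
    (1210, .gen 2513 (5, false)),
    (2277, .gen 2618 (3, false)),
    (3232, .gen 2618 (5, false)),
    (1649, .gen 1367 (3, false)),
    (1232, .gen 615 (4, false)),
    (1842, .gen 615 (5, true)),
    (659, .gen 818 (4, false)),
    (1630, .gen 818 (5, false)),
    (626, .gen 818 (5, true)),
    (824, .gen 662 (3, false)),
    (1743, .gen 1801 (4, false)),
    (720, .gen 1801 (5, false)),
    (216, .gen 1801 (5, true)),
    (2267, .gen 2608 (3, false)),
    (2824, .gen 2608 (5, false)),
    (1718, .gen 2608 (5, true)),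
    (3777, .gen 3747 (3, false)),
    (1445, .gen 3747 (5, false)),
    (2965, .gen 2706 (3, false)),
    (595, .gen 2881 (4, false)),
    (1219, .gen 2881 (5, false)),
    (1599, .gen 2881 (5, true)),
    (306, .gen 387 (3, false)),
    (3584, .gen 387 (5, false)),
    (2712, .gen 387 (5, true)),
    (3148, .gen 2849 (3, false)),
    (3190, .gen 2849 (5, false)),
    (2153, .gen 2490 (3, false)),
    (116, .gen 2627 (5, false)),
    (2333, .gen 2627 (5, true)),
    (1476, .gen 1221 (3, false)),
    (2290, .gen 1221 (5, false)),
    (670, .gen 835 (3, false)),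
    (3463, .gen 1985 (5, false)),
    (1640, .gen 1945 (3, false)),
    (1890, .gen 1277 (4, false)),
    (3060, .gen 1277 (5, false)),
    (2545, .gen 1277 (5, true)),
    (1561, .gen 1285 (3, false)),
    (1171, .gen 1285 (5, false)),
    (2874, .gen 1285 (5, true)),
    (2325, .gen 1994 (3, false)),
    (1117, .gen 1994 (5, false)),
    (1162, .gen 1411 (3, false)),
    (2061, .gen 1173 (5, false)),
    (1114, .gen 1173 (5, true)),
    (2980, .gen 2739 (3, false)),
    (3028, .gen 2739 (5, false)),
    (1252, .gen 2023 (5, false)),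
    (2863, .gen 3163 (3, false)),
    (3239, .gen 2158 (4, false)),
    (3563, .gen 3411 (3, false)),
    (2077, .gen 3411 (5, false)),
    (3236, .gen 3442 (3, false)),
    (1883, .gen 2056 (4, false)),
    (829, .gen 2056 (5, false)),
    (2249, .gen 2056 (5, true)),
    (3220, .gen 2247 (4, false)),
    (3158, .gen 2247 (5, false)),
    (3701, .gen 2247 (5, true)),
    (3551, .gen 3398 (3, false)),
    (2134, .gen 2476 (3, false)),
    (1033, .gen 3601 (4, false)),
    (2642, .gen 3601 (5, false)),
    (930, .gen 3601 (5, true)),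
    (1207, .gen 993 (3, false)),
    (1212, .gen 3092 (4, false)),
    (3510, .gen 3092 (5, false)),
    (3689, .gen 3591 (3, false)),
    (3585, .gen 3283 (4, false)),
    (1342, .gen 3283 (5, false)),
    (3483, .gen 3283 (5, true)),
    (2224, .gen 2271 (3, false)),
    (1280, .gen 2271 (5, false)),
    (2584, .gen 2271 (5, true)),
    (1377, .gen 1656 (3, false)),
    (3653, .gen 1656 (5, false)),
    (1294, .gen 1067 (3, false)),
    (602, .gen 1328 (4, false)),
    (994, .gen 1328 (5, false)),
    (3152, .gen 1328 (5, true)),
    (828, .gen 1009 (3, false)),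
    (1988, .gen 1009 (5, false)),
    (2263, .gen 1009 (5, true)),
    (620, .gen 769 (3, false)),
    (611, .gen 769 (5, false)),
    (2803, .gen 3102 (3, false)),
    (3003, .gen 3732 (5, false)),
    (1149, .gen 3732 (5, true)),
    (3412, .gen 3564 (3, false)),
    (1490, .gen 3564 (5, false)),
    (1977, .gen 1669 (3, false)),
    (737, .gen 440 (4, false)),
    (3507, .gen 440 (5, false)),
    (2128, .gen 440 (5, true)),
    (2083, .gen 1771 (3, false)),
    (613, .gen 1051 (4, false)),
    (1854, .gen 1051 (5, false)),
    (3476, .gen 1051 (5, true)),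
    (3231, .gen 3282 (3, false)),
    (1596, .gen 1896 (3, false)),
    (1901, .gen 2092 (3, false)),
    (2626, .gen 1005 (5, false)),
    (1048, .gen 1005 (5, true)),
    (866, .gen 1058 (3, false)),
    (2142, .gen 1058 (5, false)),
    (2991, .gen 3125 (3, false)),
    (1491, .gen 2573 (4, false)),
    (2709, .gen 2573 (5, false)),
    (2774, .gen 2573 (5, true)),
    (893, .gen 1488 (4, false)),
    (3372, .gen 1488 (5, false)),
    (2331, .gen 1488 (5, true)),
    (521, .gen 648 (3, false)),
    (3103, .gen 648 (5, false)),
    (1956, .gen 648 (5, true)),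
    (2845, .gen 3142 (3, false)),
    (2954, .gen 3142 (5, false)),
    (649, .gen 808 (3, false)),
    (2181, .gen 1865 (3, false)),
    (1815, .gen 1865 (5, false)),
    (1544, .gen 631 (4, false)),
    (939, .gen 631 (5, false)),
    (1170, .gen 631 (5, true)),
    (196, .gen 246 (4, false)),
    (1978, .gen 246 (5, false)),
    (162, .gen 246 (5, true)),
    (283, .gen 570 (4, false)),
    (2538, .gen 570 (5, false)),
    (386, .gen 482 (3, false)),
    (2688, .gen 1179 (4, false)),
    (2861, .gen 1179 (5, false)),
    (1579, .gen 1878 (3, false)),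
    (445, .gen 1878 (5, false)),
    (1951, .gen 1878 (5, true)),
    (87, .gen 110 (3, false)),
    (2487, .gen 110 (5, false)),
    (1647, .gen 1953 (3, false)),
    (911, .gen 1503 (4, false)),
    (749, .gen 1503 (5, false)),
    (1933, .gen 1503 (5, true)),
    (2169, .gen 2510 (3, false)),
    (1007, .gen 2534 (5, false)),
    (3722, .gen 3642 (3, false)),
    (2961, .gen 3642 (5, false)),
    (360, .gen 285 (3, false)),
    (1442, .gen 3200 (4, false)),
    (2933, .gen 3200 (5, false)),
    (2828, .gen 3200 (5, true)),
    (2396, .gen 2738 (3, false)),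
    (85, .gen 446 (4, false)),
    (1658, .gen 446 (5, false)),
    (845, .gen 446 (5, true)),
    (2929, .gen 2599 (3, false)),
    (2024, .gen 2599 (5, false)),
    (2998, .gen 2599 (5, true)),
    (2625, .gen 2952 (3, false)),
    (1473, .gen 2952 (5, false)),
    (3172, .gen 3039 (3, false)),
    (1290, .gen 3039 (5, false)),
    (1737, .gen 799 (4, false)),
    (3606, .gen 799 (5, false)),
    (2867, .gen 2539 (5, false)),
    (1168, .gen 2539 (5, true)),
    (1432, .gen 926 (4, false)),
    (768, .gen 926 (5, false)),
    (268, .gen 926 (5, true)),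
    (425, .gen 532 (3, false)),
    (3048, .gen 3261 (4, false)),
    (239, .gen 3261 (5, false)),
    (114, .gen 143 (3, false)),
    (2448, .gen 143 (5, false)),
    (1571, .gen 143 (5, true)),
    (2052, .gen 1744 (3, false)),
    (1206, .gen 1744 (5, false)),
    (2442, .gen 2238 (3, false)),
    (1799, .gen 1511 (3, false)),
    (1657, .gen 1511 (5, false)),
    (456, .gen 1511 (5, true)),
    (3665, .gen 3552 (3, false)),
    (834, .gen 3552 (5, false)),
    (1659, .gen 1379 (3, false)),
    (1137, .gen 491 (4, false)),
    (2886, .gen 491 (5, false)),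
    (175, .gen 491 (5, true)),
    (707, .gen 875 (3, false)),
    (2528, .gen 875 (5, false)),
    (321, .gen 875 (5, true)),
    (2684, .gen 2345 (3, false)),
    (2555, .gen 2345 (5, false)),
    (3199, .gen 826 (5, false)),
    (1251, .gen 826 (5, true)),
    (2067, .gen 1759 (3, false)),
    (2417, .gen 1759 (5, false)),
    (3496, .gen 3319 (3, false)),
    (3542, .gen 2624 (5, false)),
    (762, .gen 938 (3, false)),
    (273, .gen 938 (5, false)),
    (1095, .gen 938 (5, true)),
    (678, .gen 843 (3, false)),
    (3140, .gen 843 (5, false)),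
    (1262, .gen 1040 (3, false)),
    (60, .gen 1169 (5, false)),
    (1468, .gen 1169 (5, true)),
    (2015, .gen 1707 (3, false)),
    (2758, .gen 1707 (5, false)),
    (1333, .gen 3708 (4, false)),
    (3062, .gen 3708 (5, false)),
    (3249, .gen 2975 (3, false)),
    (1689, .gen 756 (5, true)),
    (825, .gen 270 (5, false)),
    (728, .gen 270 (5, true)),
    (3309, .gen 2673 (4, false)),
    (434, .gen 2673 (5, false)),
    (436, .gen 2673 (5, true)),
    (86, .gen 301 (5, false)),
    (227, .gen 301 (5, true))]

/-- Visits. -/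
def v1_4 : List (ℕ × Src) :=
  [(2559, .gen 1947 (5, false)),
    (673, .gen 1947 (5, true)),
    (2440, .gen 111 (5, false)),
    (533, .gen 426 (3, false)),
    (1727, .gen 2808 (4, false)),
    (3734, .gen 2808 (5, true)),
    (1952, .gen 2281 (3, false)),
    (2398, .gen 2977 (5, false)),
    (2941, .gen 2977 (5, true)),
    (1268, .gen 3561 (5, false)),
    (3001, .gen 3561 (5, true)),
    (3523, .gen 3512 (3, false)),
    (2705, .gen 3512 (5, false)),
    (3388, .gen 1326 (4, false)),
    (1302, .gen 1326 (5, false)),
    (333, .gen 1326 (5, true)),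
    (3024, .gen 2332 (5, false)),
    (3330, .gen 2332 (5, true)),
    (2312, .gen 2652 (3, false)),
    (3185, .gen 3405 (3, false)),
    (2334, .gen 2611 (5, false)),
    (1699, .gen 2611 (5, true)),
    (400, .gen 317 (3, false)),
    (1444, .gen 2090 (5, false)),
    (2010, .gen 2090 (5, true)),
    (229, .gen 179 (3, false)),
    (1370, .gen 179 (5, false)),
    (202, .gen 158 (3, false)),
    (2036, .gen 1729 (3, false)),
    (3557, .gen 1729 (5, false)),
    (2173, .gen 1729 (5, true)),
    (3159, .gen 1569 (5, false)),
    (555, .gen 689 (3, false)),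
    (524, .gen 19 (5, false)),
    (3246, .gen 3553 (5, false)),
    (3490, .gen 3553 (5, true)),
    (1979, .gen 1651 (5, false)),
    (2735, .gen 2795 (5, false)),
    (2362, .gen 2795 (5, true)),
    (1917, .gen 1357 (4, false)),
    (2882, .gen 1357 (5, false)),
    (3327, .gen 1357 (5, true)),
    (451, .gen 3409 (5, false)),
    (295, .gen 231 (3, false)),
    (1041, .gen 231 (5, false)),
    (1512, .gen 1800 (3, false)),
    (2757, .gen 956 (4, false)),
    (2336, .gen 956 (5, false)),
    (2434, .gen 956 (5, true)),
    (775, .gen 953 (3, false)),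
    (2943, .gen 2507 (4, false)),
    (629, .gen 2507 (5, false)),
    (1536, .gen 2507 (5, true)),
    (1408, .gen 1690 (3, false)),
    (3413, .gen 1690 (5, false)),
    (2474, .gen 1752 (5, true)),
    (448, .gen 563 (4, false)),
    (816, .gen 563 (5, false)),
    (770, .gen 947 (3, false)),
    (996, .gen 1465 (5, false)),
    (244, .gen 190 (3, false)),
    (1682, .gen 2714 (4, false)),
    (700, .gen 2714 (5, true)),
    (2268, .gen 1939 (3, false)),
    (986, .gen 804 (3, false)),
    (346, .gen 804 (5, false)),
    (719, .gen 804 (5, true)),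
    (852, .gen 26 (5, false)),
    (1066, .gen 379 (4, false)),
    (2722, .gen 379 (5, true)),
    (5, .gen 3 (3, false)),
    (235, .gen 3 (5, false)),
    (2779, .gen 2925 (3, false)),
    (3652, .gen 3768 (5, false)),
    (1018, .gen 3768 (5, true)),
    (3458, .gen 3596 (3, false)),
    (3217, .gen 3596 (5, false)),
    (3139, .gen 3373 (3, false)),
    (1670, .gen 3756 (4, false)),
    (714, .gen 3756 (5, false)),
    (1588, .gen 3756 (5, true)),
    (2756, .gen 1391 (5, false)),
    (2378, .gen 2717 (3, false)),
    (2609, .gen 3598 (4, false)),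
    (2007, .gen 3598 (5, false)),
    (1934, .gen 3598 (5, true)),
    (2541, .gen 1963 (5, true)),
    (2222, .gen 2469 (3, false)),
    (299, .gen 350 (5, true)),
    (732, .gen 903 (3, false)),
    (1909, .gen 903 (5, false)),
    (1184, .gen 1437 (3, false)),
    (3076, .gen 1449 (4, false)),
    (3030, .gen 1449 (5, false)),
    (730, .gen 2964 (5, false)),
    (745, .gen 2964 (5, true)),
    (2302, .gen 2640 (3, false)),
    (2002, .gen 2640 (5, false)),
    (805, .gen 973 (5, false)),
    (1427, .gen 973 (5, true)),
    (3112, .gen 3725 (5, false)),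
    (279, .gen 353 (3, false)),
    (457, .gen 1142 (5, false)),
    (2667, .gen 1142 (5, true)),
    (2256, .gen 1928 (3, false)),
    (575, .gen 459 (3, false)),
    (3669, .gen 2622 (4, false)),
    (2908, .gen 2622 (5, false)),
    (2769, .gen 2622 (5, true)),
    (2773, .gen 3079 (3, false)),
    (3759, .gen 3743 (3, false)),
    (905, .gen 3743 (5, false)),
    (711, .gen 571 (3, false)),
    (1526, .gen 661 (5, true)),
    (2580, .gen 2241 (3, false)),
    (842, .gen 677 (3, false)),
    (1992, .gen 2120 (5, false)),
    (3095, .gen 2120 (5, true)),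
    (1709, .gen 2481 (4, false)),
    (3057, .gen 2481 (5, false)),
    (3129, .gen 2481 (5, true)),
    (850, .gen 3325 (5, false)),
    (2151, .gen 3325 (5, true)),
    (3013, .gen 3023 (3, false)),
    (2813, .gen 3025 (4, false)),
    (290, .gen 3025 (5, false)),
    (3444, .gen 3025 (5, true)),
    (447, .gen 561 (3, false)),
    (1407, .gen 561 (5, false)),
    (3742, .gen 3690 (3, false)),
    (1480, .gen 1765 (3, false)),
    (3300, .gen 1765 (5, false)),
    (3026, .gen 1765 (5, true)),
    (3161, .gen 3287 (3, false)),
    (1542, .gen 3287 (5, false)),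
    (2182, .gen 1866 (3, false)),
    (2038, .gen 3526 (4, false)),
    (2868, .gen 3526 (5, false)),
    (723, .gen 3526 (5, true)),
    (2297, .gen 1967 (3, false)),
    (2901, .gen 1967 (5, false)),
    (914, .gen 1967 (5, true)),
    (849, .gen 3430 (5, false)),
    (3437, .gen 2216 (5, false)),
    (2051, .gen 2216 (5, true)),
    (1598, .gen 1320 (3, false)),
    (181, .gen 1320 (5, false)),
    (718, .gen 577 (3, false)),
    (3427, .gen 2093 (4, false)),
    (1368, .gen 2093 (5, false)),
    (1622, .gen 2093 (5, true)),
    (1961, .gen 2205 (3, false)),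
    (1904, .gen 882 (4, false)),
    (682, .gen 882 (5, false)),
    (887, .gen 882 (5, true)),
    (2043, .gen 1735 (3, false)),
    (1644, .gen 1735 (5, false)),
    (864, .gen 1735 (5, true)),
    (336, .gen 422 (3, false)),
    (1543, .gen 1836 (3, false)),
    (997, .gen 1847 (5, false)),
    (820, .gen 1847 (5, true)),
    (3466, .gen 2096 (4, false)),
    (1297, .gen 2096 (5, false)),
    (1477, .gen 2096 (5, true)),
    (2227, .gen 2341 (4, false)),
    (1629, .gen 2341 (5, false)),
    (2726, .gen 2341 (5, true)),
    (3250, .gen 3455 (3, false)),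
    (1597, .gen 1898 (3, false)),
    (28, .gen 241 (4, false)),
    (163, .gen 241 (5, false)),
    (275, .gen 241 (5, true)),
    (206, .gen 262 (3, false)),
    (530, .gen 970 (4, false)),
    (2596, .gen 970 (5, false)),
    (2449, .gen 970 (5, true)),
    (622, .gen 1756 (4, false)),
    (1916, .gen 1756 (5, false)),
    (2651, .gen 1756 (5, true)),
    (895, .gen 1094 (3, false)),
    (3230, .gen 1094 (5, false)),
    (292, .gen 1094 (5, true)),
    (1281, .gen 1055 (3, false)),
    (2681, .gen 1055 (5, false)),
    (1167, .gen 1416 (3, false)),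
    (3781, .gen 2221 (5, false)),
    (1085, .gen 2221 (5, true)),
    (1021, .gen 1239 (3, false)),
    (3404, .gen 3184 (3, false)),
    (1991, .gen 203 (4, false)),
    (3289, .gen 203 (5, false)),
    (129, .gen 203 (5, true)),
    (957, .gen 778 (3, false)),
    (376, .gen 2008 (4, false)),
    (3222, .gen 2008 (5, false)),
    (3343, .gen 3509 (3, false)),
    (351, .gen 3509 (5, false)),
    (3485, .gen 3297 (3, false)),
    (943, .gen 118 (4, false)),
    (253, .gen 118 (5, false)),
    (1057, .gen 118 (5, true)),
    (3164, .gen 3137 (3, false)),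
    (2957, .gen 2347 (5, true)),
    (310, .gen 245 (3, false)),
    (3065, .gen 245 (5, false)),
    (1983, .gen 245 (5, true)),
    (592, .gen 3216 (5, false)),
    (3549, .gen 3395 (3, false)),
    (3066, .gen 3521 (4, false)),
    (3765, .gen 3521 (5, true)),
    (1474, .gen 1758 (3, false)),
    (2582, .gen 1758 (5, false)),
    (2729, .gen 1758 (5, true)),
    (3069, .gen 2762 (3, false)),
    (2166, .gen 2762 (5, false)),
    (1030, .gen 1249 (3, false)),
    (1375, .gen 2385 (4, false)),
    (2723, .gen 2385 (5, false)),
    (643, .gen 2385 (5, true)),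
    (1226, .gen 1011 (3, false)),
    (3788, .gen 2094 (4, false)),
    (3760, .gen 2094 (5, false)),
    (1998, .gen 2094 (5, true)),
    (3198, .gen 2911 (3, false)),
    (2419, .gen 2911 (5, false)),
    (589, .gen 2911 (5, true)),
    (3348, .gen 3106 (3, false)),
    (1513, .gen 3106 (5, false)),
    (752, .gen 927 (3, false)),
    (1020, .gen 117 (4, false)),
    (1584, .gen 117 (5, false)),
    (2632, .gen 117 (5, true)),
    (1400, .gen 1683 (3, false)),
    (3241, .gen 1683 (5, false)),
    (975, .gen 795 (3, false)),
    (371, .gen 2337 (5, false)),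
    (2635, .gen 2337 (5, true)),
    (785, .gen 722 (3, false)),
    (2547, .gen 1305 (4, false)),
    (1256, .gen 1305 (5, false)),
    (2113, .gen 1305 (5, true)),
    (1467, .gen 1753 (3, false)),
    (366, .gen 302 (4, false)),
    (115, .gen 302 (5, false)),
    (259, .gen 302 (5, true)),
    (2018, .gen 2349 (3, false)),
    (2837, .gen 2349 (5, false)),
    (2692, .gen 2349 (5, true)),
    (2695, .gen 2359 (3, false)),
    (1938, .gen 2359 (5, false)),
    (576, .gen 2390 (5, false)),
    (1874, .gen 2390 (5, true)),
    (3495, .gen 3547 (3, false)),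
    (2289, .gen 3547 (5, false)),
    (1793, .gen 1506 (3, false)),
    (3644, .gen 3193 (5, false)),
    (3474, .gen 3604 (3, false)),
    (715, .gen 740 (4, false)),
    (1060, .gen 740 (5, false)),
    (3263, .gen 740 (5, true)),
    (3721, .gen 3638 (3, false)),
    (833, .gen 3638 (5, false)),
    (2095, .gen 1782 (3, false)),
    (1697, .gen 3121 (4, false)),
    (2500, .gen 3121 (5, false)),
    (2138, .gen 3121 (5, true)),
    (744, .gen 915 (3, false)),
    (625, .gen 1008 (5, false)),
    (3269, .gen 3061 (3, false)),
    (2638, .gen 3061 (5, true)),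
    (2646, .gen 2307 (3, false)),
    (1593, .gen 1891 (4, false)),
    (1738, .gen 1891 (5, false)),
    (1900, .gen 1891 (5, true)),
    (546, .gen 679 (3, false)),
    (836, .gen 679 (5, false)),
    (1715, .gen 679 (5, true)),
    (2394, .gen 2736 (3, false)),
    (2062, .gen 2736 (5, false)),
    (3426, .gen 3227 (3, false)),
    (3709, .gen 3640 (4, false)),
    (2380, .gen 3640 (5, false)),
    (3447, .gen 3640 (5, true)),
    (1726, .gen 2365 (4, false)),
    (3611, .gen 2365 (5, false)),
    (2940, .gen 2365 (5, true)),
    (248, .gen 195 (3, false)),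
    (199, .gen 195 (5, false)),
    (141, .gen 195 (5, true)),
    (17, .gen 12 (3, false)),
    (193, .gen 12 (5, false)),
    (1921, .gen 1616 (3, false)),
    (3625, .gen 428 (4, false)),
    (3000, .gen 428 (5, false)),
    (1410, .gen 428 (5, true)),
    (2785, .gen 3045 (3, false)),
    (1660, .gen 1381 (3, false)),
    (1608, .gen 3171 (5, false)),
    (1266, .gen 3171 (5, true))]

/-- Visits. -/
def v1_5 : List (ℕ × Src) :=
  [(857, .gen 3643 (5, false)),
    (3272, .gen 3643 (5, true)),
    (1661, .gen 1409 (5, false)),
    (1395, .gen 1409 (5, true)),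
    (1274, .gen 1050 (3, false)),
    (3645, .gen 1050 (5, false)),
    (2177, .gen 1050 (5, true)),
    (932, .gen 1136 (3, false)),
    (1980, .gen 1136 (5, false)),
    (2851, .gen 2515 (3, false)),
    (2189, .gen 2561 (5, false)),
    (3394, .gen 2561 (5, true)),
    (1365, .gen 1646 (3, false)),
    (1510, .gen 1646 (5, false)),
    (3123, .gen 2535 (4, false)),
    (1581, .gen 2535 (5, true)),
    (2252, .gen 2592 (3, false)),
    (3174, .gen 2082 (4, false)),
    (1386, .gen 2082 (5, false)),
    (2503, .gen 2082 (5, true)),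
    (3131, .gen 2869 (5, false)),
    (3570, .gen 2869 (5, true)),
    (2677, .gen 2557 (3, false)),
    (2161, .gen 2557 (5, false)),
    (565, .gen 1566 (4, false)),
    (716, .gen 1566 (5, false)),
    (168, .gen 1566 (5, true)),
    (337, .gen 424 (3, false)),
    (135, .gen 1556 (4, false)),
    (1412, .gen 1695 (3, false)),
    (1123, .gen 920 (3, false)),
    (1319, .gen 1087 (3, false)),
    (3440, .gen 3221 (5, false)),
    (3473, .gen 3221 (5, true)),
    (1204, .gen 1460 (3, false)),
    (2935, .gen 1460 (5, false)),
    (837, .gen 1022 (3, false)),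
    (1404, .gen 1648 (5, true)),
    (636, .gen 792 (3, false)),
    (469, .gen 2176 (4, false)),
    (2340, .gen 2176 (5, false)),
    (312, .gen 2176 (5, true)),
    (3548, .gen 2033 (5, false)),
    (3346, .gen 3439 (3, false)),
    (1855, .gen 1639 (5, false)),
    (1609, .gen 1639 (5, true)),
    (138, .gen 109 (3, false)),
    (1546, .gen 109 (5, false)),
    (51, .gen 109 (5, true)),
    (276, .gen 217 (3, false)),
    (330, .gen 217 (5, false)),
    (552, .gen 441 (3, false)),
    (2309, .gen 1398 (4, false)),
    (2102, .gen 1398 (5, false)),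
    (1436, .gen 1398 (5, true)),
    (2835, .gen 500 (5, false)),
    (211, .gen 165 (3, false)),
    (3067, .gen 165 (5, false)),
    (291, .gen 228 (3, false)),
    (2550, .gen 2070 (4, false)),
    (1618, .gen 1338 (3, false)),
    (725, .gen 584 (4, false)),
    (2445, .gen 584 (5, false)),
    (3487, .gen 584 (5, true)),
    (784, .gen 3618 (5, false)),
    (1152, .gen 431 (4, false)),
    (2087, .gen 431 (5, false)),
    (665, .gen 431 (5, true)),
    (936, .gen 1141 (3, false)),
    (2259, .gen 1211 (4, false)),
    (965, .gen 1211 (5, false)),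
    (493, .gen 1211 (5, true)),
    (1295, .gen 1572 (3, false)),
    (3205, .gen 1572 (5, false)),
    (3438, .gen 1572 (5, true)),
    (1762, .gen 3188 (5, false)),
    (862, .gen 1054 (3, false)),
    (3149, .gen 1054 (5, false)),
    (1776, .gen 1054 (5, true)),
    (2818, .gen 2853 (5, false)),
    (2949, .gen 2620 (3, false)),
    (1289, .gen 935 (4, false)),
    (3208, .gen 935 (5, true)),
    (667, .gen 537 (3, false)),
    (1003, .gen 3326 (4, false)),
    (2963, .gen 3326 (5, false)),
    (2170, .gen 3326 (5, true)),
    (735, .gen 590 (3, false)),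
    (848, .gen 590 (5, false)),
    (184, .gen 590 (5, true)),
    (774, .gen 623 (3, false)),
    (763, .gen 623 (5, false)),
    (54, .gen 67 (3, false)),
    (860, .gen 612 (4, false)),
    (1662, .gen 612 (5, false)),
    (1479, .gen 612 (5, true)),
    (2942, .gen 2666 (3, false)),
    (3578, .gen 3664 (3, false)),
    (1334, .gen 1254 (5, false)),
    (1591, .gen 1254 (5, true)),
    (2586, .gen 876 (4, false)),
    (3397, .gen 876 (5, true)),
    (2028, .gen 2360 (3, false)),
    (1089, .gen 1926 (4, false)),
    (2079, .gen 1926 (5, false)),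
    (88, .gen 1926 (5, true)),
    (3661, .gen 2872 (5, false)),
    (2401, .gen 2872 (5, true)),
    (3243, .gen 2968 (3, false)),
    (832, .gen 2962 (4, false)),
    (2199, .gen 2962 (5, false)),
    (3475, .gen 2962 (5, true)),
    (3462, .gen 3262 (3, false)),
    (1102, .gen 1337 (3, false)),
    (1190, .gen 959 (4, false)),
    (2497, .gen 959 (5, false)),
    (2725, .gen 959 (5, true)),
    (854, .gen 2506 (4, false)),
    (2439, .gen 2506 (5, true)),
    (1185, .gen 1438 (3, false)),
    (2058, .gen 1438 (5, false)),
    (3305, .gen 1438 (5, true)),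
    (121, .gen 153 (3, false)),
    (526, .gen 153 (5, false)),
    (1096, .gen 897 (3, false)),
    (2155, .gen 2180 (4, false)),
    (2710, .gen 2180 (5, false)),
    (1968, .gen 2180 (5, true)),
    (3118, .gen 3315 (3, false)),
    (210, .gen 3315 (5, false)),
    (1779, .gen 1493 (3, false)),
    (1378, .gen 2743 (4, false)),
    (1347, .gen 2743 (5, false)),
    (891, .gen 2743 (5, true)),
    (1380, .gen 1135 (3, false)),
    (2350, .gen 2305 (4, false)),
    (1676, .gen 2305 (5, false)),
    (1777, .gen 2305 (5, true)),
    (3322, .gen 3072 (3, false)),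
    (1324, .gen 2519 (4, false)),
    (2156, .gen 2519 (5, false)),
    (2496, .gen 2519 (5, true)),
    (3153, .gen 2171 (5, false)),
    (3650, .gen 2171 (5, true)),
    (1466, .gen 1210 (3, false)),
    (1069, .gen 2277 (4, false)),
    (1950, .gen 2277 (5, false)),
    (2945, .gen 2277 (5, true)),
    (1787, .gen 1649 (4, false)),
    (3749, .gen 1649 (5, false)),
    (3197, .gen 1649 (5, true)),
    (1016, .gen 1232 (3, false)),
    (3688, .gen 1232 (5, true)),
    (1547, .gen 1842 (3, false)),
    (2278, .gen 659 (5, false)),
    (22, .gen 659 (5, true)),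
    (1691, .gen 1630 (3, false)),
    (3265, .gen 1630 (5, false)),
    (777, .gen 626 (3, false)),
    (2327, .gen 824 (4, false)),
    (94, .gen 824 (5, true)),
    (1999, .gen 1743 (5, false)),
    (269, .gen 1743 (5, true)),
    (578, .gen 720 (3, false)),
    (1056, .gen 720 (5, false)),
    (274, .gen 216 (3, false)),
    (342, .gen 2267 (5, false)),
    (1668, .gen 2267 (5, true)),
    (2488, .gen 2824 (3, false)),
    (3351, .gen 2824 (5, false)),
    (3038, .gen 3777 (4, false)),
    (3408, .gen 3777 (5, false)),
    (3730, .gen 3777 (5, true)),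
    (1191, .gen 1445 (3, false)),
    (1840, .gen 2965 (5, true)),
    (475, .gen 595 (3, false)),
    (1248, .gen 595 (5, false)),
    (1004, .gen 1219 (3, false)),
    (1664, .gen 1219 (5, false)),
    (1321, .gen 1599 (3, false)),
    (2108, .gen 306 (5, false)),
    (142, .gen 306 (5, true)),
    (3683, .gen 3584 (3, false)),
    (3340, .gen 3584 (5, false)),
    (2716, .gen 2712 (3, false)),
    (2383, .gen 3148 (4, false)),
    (2279, .gen 3148 (5, false)),
    (3674, .gen 3148 (5, true)),
    (2904, .gen 3190 (3, false)),
    (2384, .gen 2153 (4, false)),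
    (1489, .gen 2153 (5, false)),
    (2687, .gen 2153 (5, true)),
    (146, .gen 116 (3, false)),
    (378, .gen 116 (5, false)),
    (2675, .gen 2333 (3, false)),
    (1015, .gen 1476 (4, false)),
    (3778, .gen 1476 (5, false)),
    (3178, .gen 1476 (5, true)),
    (2628, .gen 2290 (3, false)),
    (2141, .gen 670 (4, false)),
    (293, .gen 670 (5, false)),
    (3599, .gen 3463 (3, false)),
    (3583, .gen 1640 (4, false)),
    (2213, .gen 1890 (3, false)),
    (2846, .gen 1890 (5, false)),
    (2473, .gen 1890 (5, true)),
    (2188, .gen 3060 (5, false)),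
    (2753, .gen 2545 (3, false)),
    (601, .gen 1561 (5, false)),
    (684, .gen 1561 (5, true)),
    (960, .gen 1171 (3, false)),
    (2615, .gen 1171 (5, false)),
    (2536, .gen 2874 (3, false)),
    (1458, .gen 2325 (4, false)),
    (2255, .gen 2325 (5, false)),
    (2697, .gen 2325 (5, true)),
    (1356, .gen 1117 (3, false)),
    (966, .gen 1162 (4, false)),
    (1366, .gen 1162 (5, true)),
    (2399, .gen 2061 (3, false)),
    (130, .gen 2061 (5, false)),
    (1351, .gen 1114 (3, false)),
    (2248, .gen 2980 (4, false)),
    (3482, .gen 2980 (5, false)),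
    (3293, .gen 2980 (5, true)),
    (2864, .gen 2863 (4, false)),
    (3453, .gen 2863 (5, false)),
    (3445, .gen 3239 (3, false)),
    (3511, .gen 3563 (4, false)),
    (2463, .gen 3563 (5, false)),
    (2285, .gen 3563 (5, true)),
    (1766, .gen 2077 (3, false)),
    (779, .gen 3236 (4, false)),
    (801, .gen 3236 (5, false)),
    (1072, .gen 3236 (5, true)),
    (1583, .gen 1883 (3, false)),
    (1959, .gen 1883 (5, true)),
    (2597, .gen 829 (5, false)),
    (2587, .gen 2249 (3, false)),
    (3350, .gen 3220 (3, false)),
    (2703, .gen 3220 (5, false)),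
    (3572, .gen 3220 (5, true)),
    (2859, .gen 3158 (3, false)),
    (3737, .gen 3158 (5, false)),
    (3612, .gen 3701 (3, false)),
    (3111, .gen 3551 (5, false)),
    (2456, .gen 3551 (5, true)),
    (934, .gen 2134 (4, false)),
    (1037, .gen 2134 (5, false)),
    (3667, .gen 2134 (5, true)),
    (1253, .gen 1033 (3, false)),
    (3016, .gen 1033 (5, false)),
    (1848, .gen 1033 (5, true)),
    (2304, .gen 2642 (3, false)),
    (2235, .gen 2642 (5, false)),
    (1318, .gen 1207 (5, false)),
    (2783, .gen 1207 (5, true)),
    (2229, .gen 1212 (5, false)),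
    (3344, .gen 3510 (3, false)),
    (3736, .gen 3689 (4, false)),
    (3648, .gen 3689 (5, false)),
    (1745, .gen 3689 (5, true)),
    (2767, .gen 3585 (5, false)),
    (3294, .gen 3585 (5, true)),
    (1106, .gen 1342 (3, false)),
    (2460, .gen 1342 (5, false)),
    (3181, .gen 2224 (5, false)),
    (1686, .gen 2224 (5, true)),
    (1554, .gen 1280 (3, false)),
    (865, .gen 1280 (5, false)),
    (2914, .gen 2584 (3, false)),
    (1652, .gen 1377 (4, false)),
    (1372, .gen 1377 (5, false)),
    (3687, .gen 1294 (4, false)),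
    (2664, .gen 1294 (5, false)),
    (3443, .gen 1294 (5, true)),
    (483, .gen 602 (3, false)),
    (949, .gen 602 (5, false)),
    (1209, .gen 994 (3, false)),
    (2287, .gen 994 (5, false)),
    (2467, .gen 828 (5, false)),
    (3767, .gen 828 (5, true)),
    (495, .gen 1988 (5, false)),
    (2604, .gen 2263 (3, false)),
    (62, .gen 620 (4, false)),
    (1902, .gen 620 (5, true)),
    (758, .gen 611 (3, false)),
    (3244, .gen 2803 (4, false)),
    (1311, .gen 2803 (5, false)),
    (2900, .gen 2803 (5, true)),
    (3273, .gen 3003 (3, false)),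
    (308, .gen 3003 (5, false)),
    (1396, .gen 1149 (3, false)),
    (3452, .gen 3412 (4, false)),
    (3603, .gen 3412 (5, false)),
    (2978, .gen 3412 (5, true)),
    (3456, .gen 1977 (4, false)),
    (1522, .gen 1977 (5, false)),
    (1039, .gen 1977 (5, true)),
    (3566, .gen 3507 (3, false))]

/-- Visits. -/
def v1_6 : List (ℕ × Src) :=
  [(1814, .gen 2128 (3, false)),
    (2711, .gen 2083 (5, false)),
    (492, .gen 613 (3, false)),
    (1100, .gen 613 (5, false)),
    (1090, .gen 613 (5, true)),
    (1399, .gen 1854 (5, false)),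
    (3314, .gen 3476 (3, false)),
    (591, .gen 3231 (5, false)),
    (3332, .gen 3231 (5, true)),
    (224, .gen 1596 (4, false)),
    (278, .gen 1596 (5, false)),
    (170, .gen 1596 (5, true)),
    (940, .gen 1901 (4, false)),
    (2581, .gen 1901 (5, false)),
    (2953, .gen 2626 (3, false)),
    (2422, .gen 2626 (5, false)),
    (1116, .gen 866 (5, false)),
    (2242, .gen 2142 (3, false)),
    (518, .gen 2991 (4, false)),
    (2000, .gen 2991 (5, false)),
    (2549, .gen 2991 (5, true)),
    (1231, .gen 1491 (3, false)),
    (2392, .gen 1491 (5, false)),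
    (2833, .gen 1491 (5, true)),
    (1871, .gen 2709 (5, false)),
    (2435, .gen 2774 (3, false)),
    (724, .gen 893 (3, false)),
    (1923, .gen 893 (5, false)),
    (2696, .gen 893 (5, true)),
    (3365, .gen 3372 (3, false)),
    (2152, .gen 3372 (5, false)),
    (2001, .gen 2331 (3, false)),
    (1913, .gen 3103 (5, false)),
    (2286, .gen 1956 (3, false)),
    (2512, .gen 2845 (4, false)),
    (3160, .gen 2845 (5, false)),
    (3056, .gen 2954 (3, false)),
    (2790, .gen 649 (4, false)),
    (404, .gen 649 (5, false)),
    (2059, .gen 649 (5, true)),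
    (889, .gen 2181 (4, false)),
    (3433, .gen 2181 (5, false)),
    (1024, .gen 2181 (5, true)),
    (2130, .gen 1815 (3, false)),
    (1145, .gen 939 (3, false)),
    (1420, .gen 1170 (3, false)),
    (1402, .gen 196 (5, false)),
    (624, .gen 1978 (5, false)),
    (207, .gen 162 (3, false)),
    (222, .gen 283 (3, false)),
    (2195, .gen 2538 (3, false)),
    (240, .gen 386 (4, false)),
    (484, .gen 386 (5, false)),
    (3621, .gen 2688 (5, false)),
    (597, .gen 1579 (5, false)),
    (2288, .gen 1579 (5, true)),
    (354, .gen 445 (3, false)),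
    (3517, .gen 445 (5, false)),
    (3195, .gen 1647 (4, false)),
    (1112, .gen 911 (3, false)),
    (29, .gen 911 (5, false)),
    (2308, .gen 911 (5, true)),
    (922, .gen 749 (3, false)),
    (2012, .gen 749 (5, false)),
    (2261, .gen 1933 (3, false)),
    (2508, .gen 2169 (5, false)),
    (3790, .gen 3722 (4, false)),
    (3419, .gen 3722 (5, false)),
    (3588, .gen 3722 (5, true)),
    (3085, .gen 2961 (3, false)),
    (2197, .gen 360 (5, false)),
    (1976, .gen 360 (5, true)),
    (1724, .gen 1442 (3, false)),
    (2902, .gen 1442 (5, false)),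
    (1451, .gen 1442 (5, true)),
    (1698, .gen 2933 (5, false)),
    (3128, .gen 2828 (3, false)),
    (169, .gen 2396 (4, false)),
    (3094, .gen 2396 (5, false)),
    (1997, .gen 2396 (5, true)),
    (357, .gen 85 (5, false)),
    (890, .gen 85 (5, true)),
    (1433, .gen 1658 (3, false)),
    (1032, .gen 845 (3, false)),
    (3105, .gen 2929 (5, false)),
    (1717, .gen 2024 (3, false)),
    (156, .gen 2024 (5, false)),
    (790, .gen 2625 (4, false)),
    (1757, .gen 1473 (3, false)),
    (1567, .gen 1290 (3, false)),
    (1528, .gen 1737 (3, false)),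
    (3166, .gen 2867 (3, false)),
    (3575, .gen 2867 (5, false)),
    (958, .gen 1168 (3, false)),
    (1180, .gen 1432 (3, false)),
    (945, .gen 768 (3, false)),
    (338, .gen 268 (3, false)),
    (2976, .gen 3048 (5, false)),
    (368, .gen 114 (5, true)),
    (2786, .gen 2448 (3, false)),
    (3654, .gen 2448 (5, false)),
    (1870, .gen 1571 (3, false)),
    (586, .gen 2052 (5, false)),
    (3792, .gen 2052 (5, true)),
    (1463, .gen 1206 (3, false)),
    (1502, .gen 2442 (4, false)),
    (1564, .gen 2442 (5, false)),
    (2371, .gen 2442 (5, true)),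
    (2842, .gen 1799 (5, false)),
    (1966, .gen 1657 (3, false)),
    (3136, .gen 1657 (5, false)),
    (851, .gen 3665 (5, true)),
    (356, .gen 1659 (4, false)),
    (3590, .gen 1659 (5, false)),
    (933, .gen 1137 (3, false)),
    (2552, .gen 2886 (3, false)),
    (137, .gen 175 (3, false)),
    (2343, .gen 707 (5, true)),
    (2865, .gen 2528 (3, false)),
    (2840, .gen 2528 (5, false)),
    (2212, .gen 2555 (3, false)),
    (3306, .gen 3199 (3, false)),
    (685, .gen 3199 (5, false)),
    (1516, .gen 1251 (3, false)),
    (3291, .gen 2067 (5, true)),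
    (1565, .gen 3496 (4, false)),
    (1076, .gen 3496 (5, false)),
    (3387, .gen 3542 (3, false)),
    (1278, .gen 762 (5, true)),
    (215, .gen 273 (3, false)),
    (951, .gen 273 (5, false)),
    (896, .gen 1095 (3, false)),
    (838, .gen 678 (4, false)),
    (3058, .gen 678 (5, false)),
    (2594, .gen 678 (5, true)),
    (3464, .gen 1262 (5, true)),
    (528, .gen 60 (5, false)),
    (1361, .gen 1468 (3, false)),
    (751, .gen 1333 (5, false)),
    (2672, .gen 3249 (4, false)),
    (1632, .gen 3249 (5, true)),
    (461, .gen 825 (5, false)),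
    (898, .gen 728 (3, false)),
    (3156, .gen 3309 (5, false)),
    (1092, .gen 3309 (5, true)),
    (347, .gen 436 (3, false)),
    (108, .gen 86 (3, false)),
    (358, .gen 86 (5, false)),
    (2218, .gen 2559 (3, false)),
    (542, .gen 673 (3, false)),
    (2780, .gen 2440 (3, false)),
    (3357, .gen 1727 (5, true)),
    (3720, .gen 3734 (3, false)),
    (2198, .gen 1952 (4, false)),
    (1424, .gen 1952 (5, false)),
    (2470, .gen 1952 (5, true)),
    (2060, .gen 2398 (3, false)),
    (2612, .gen 2941 (3, false)),
    (1538, .gen 1268 (3, false)),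
    (1197, .gen 1268 (5, false)),
    (3536, .gen 3523 (4, false)),
    (695, .gen 3523 (5, true)),
    (2369, .gen 2705 (3, false)),
    (264, .gen 333 (3, false)),
    (3349, .gen 3330 (3, false)),
    (331, .gen 2312 (5, false)),
    (2397, .gen 3185 (5, false)),
    (2106, .gen 3185 (5, true)),
    (2676, .gen 2334 (3, false)),
    (2648, .gen 2334 (5, false)),
    (2147, .gen 1444 (5, false)),
    (1932, .gen 229 (5, false)),
    (3324, .gen 202 (5, false)),
    (2542, .gen 3557 (5, false)),
    (1857, .gen 2173 (3, false)),
    (652, .gen 524 (3, false)),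
    (3113, .gen 3246 (5, false)),
    (2689, .gen 2735 (3, false)),
    (3390, .gen 2735 (5, false)),
    (2030, .gen 2362 (3, false)),
    (2812, .gen 1917 (5, false)),
    (412, .gen 1917 (5, true)),
    (2623, .gen 2882 (3, false)),
    (1678, .gen 1512 (5, true)),
    (3064, .gen 2757 (3, false)),
    (3280, .gen 2757 (5, false)),
    (2772, .gen 2434 (3, false)),
    (1863, .gen 775 (4, false)),
    (657, .gen 775 (5, false)),
    (511, .gen 2943 (5, false)),
    (214, .gen 2943 (5, true)),
    (782, .gen 629 (3, false)),
    (2807, .gen 629 (5, false)),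
    (123, .gen 1408 (4, false)),
    (3009, .gen 1408 (5, false)),
    (3194, .gen 3413 (3, false)),
    (2133, .gen 2474 (3, false)),
    (656, .gen 816 (3, false)),
    (1877, .gen 770 (5, false)),
    (999, .gen 770 (5, true)),
    (3538, .gen 1682 (5, true)),
    (614, .gen 700 (3, false)),
    (2485, .gen 2268 (4, false)),
    (3074, .gen 2268 (5, false)),
    (1080, .gen 346 (5, false)),
    (1292, .gen 1066 (3, false)),
    (3037, .gen 2722 (3, false)),
    (282, .gen 5 (5, false)),
    (320, .gen 5 (5, true)),
    (2057, .gen 2779 (5, false)),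
    (2452, .gen 2779 (5, true)),
    (3686, .gen 3652 (5, false)),
    (559, .gen 3139 (5, true)),
    (1705, .gen 1670 (5, false)),
    (3242, .gen 1670 (5, true)),
    (880, .gen 714 (5, false)),
    (1824, .gen 1588 (3, false)),
    (2430, .gen 2378 (4, false)),
    (686, .gen 2378 (5, true)),
    (1159, .gen 2609 (5, true)),
    (3762, .gen 2007 (5, false)),
    (2262, .gen 1934 (3, false)),
    (2878, .gen 2541 (3, false)),
    (634, .gen 2222 (4, false)),
    (287, .gen 2222 (5, false)),
    (3406, .gen 2222 (5, true)),
    (327, .gen 732 (4, false)),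
    (21, .gen 732 (5, true)),
    (3179, .gen 1184 (5, false)),
    (1088, .gen 3076 (5, false)),
    (3191, .gen 3030 (3, false)),
    (38, .gen 730 (5, false)),
    (599, .gen 745 (3, false)),
    (988, .gen 805 (3, false)),
    (572, .gen 457 (3, false)),
    (2326, .gen 2667 (3, false)),
    (1989, .gen 3669 (5, false)),
    (2574, .gen 2908 (3, false)),
    (3540, .gen 2908 (5, false)),
    (1831, .gen 2773 (4, false)),
    (697, .gen 2773 (5, false)),
    (2593, .gen 2773 (5, true)),
    (2446, .gen 3759 (4, false)),
    (3138, .gen 3759 (5, true)),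
    (1104, .gen 905 (3, false)),
    (605, .gen 711 (5, false)),
    (2111, .gen 711 (5, true)),
    (1818, .gen 1526 (3, false)),
    (155, .gen 2580 (5, false)),
    (1053, .gen 2580 (5, true)),
    (3295, .gen 842 (5, true)),
    (3042, .gen 3095 (3, false)),
    (664, .gen 1709 (5, true)),
    (2970, .gen 3129 (3, false)),
    (2569, .gen 850 (5, false)),
    (2346, .gen 2813 (5, false)),
    (1258, .gen 2813 (5, true)),
    (3615, .gen 290 (5, false)),
    (3238, .gen 3444 (3, false)),
    (2472, .gen 447 (4, false)),
    (1820, .gen 447 (5, false)),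
    (1881, .gen 3742 (5, false)),
    (2647, .gen 3742 (5, true)),
    (2080, .gen 1480 (5, false)),
    (822, .gen 1480 (5, true)),
    (2768, .gen 3300 (5, false)),
    (3292, .gen 3026 (3, false)),
    (2514, .gen 3161 (4, false)),
    (3587, .gen 3161 (5, false)),
    (1845, .gen 3161 (5, true)),
    (1835, .gen 1542 (3, false)),
    (2836, .gen 2182 (5, true)),
    (1730, .gen 2038 (3, false)),
    (1225, .gen 2038 (5, false)),
    (2814, .gen 2038 (5, true)),
    (3500, .gen 2868 (5, false)),
    (580, .gen 723 (3, false)),
    (1134, .gen 2297 (5, false)),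
    (1063, .gen 2297 (5, true)),
    (370, .gen 2901 (5, false)),
    (743, .gen 914 (3, false)),
    (3631, .gen 3437 (5, false)),
    (3780, .gen 1598 (4, false)),
    (2324, .gen 1598 (5, false)),
    (2068, .gen 1598 (5, true)),
    (3579, .gen 3427 (3, false)),
    (201, .gen 3427 (5, true)),
    (1127, .gen 1368 (3, false)),
    (3471, .gen 1368 (5, false)),
    (1899, .gen 1622 (3, false)),
    (1500, .gen 1961 (5, false)),
    (2228, .gen 1904 (3, false)),
    (3115, .gen 1904 (5, false)),
    (34, .gen 1904 (5, true)),
    (1626, .gen 682 (5, false)),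
    (1083, .gen 887 (3, false)),
    (2668, .gen 2043 (5, false)),
    (3711, .gen 2043 (5, true)),
    (1364, .gen 1644 (3, false)),
    (698, .gen 864 (3, false))]

/-- Visits. -/
def v1_7 : List (ℕ × Src) :=
  [(418, .gen 336 (4, false)),
    (152, .gen 336 (5, false)),
    (3589, .gen 336 (5, true)),
    (1832, .gen 1543 (4, false)),
    (3728, .gen 1543 (5, true)),
    (627, .gen 997 (5, false)),
    (2585, .gen 3466 (5, false)),
    (1222, .gen 1477 (3, false)),
    (2568, .gen 2227 (3, false)),
    (2131, .gen 2227 (5, true)),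
    (1029, .gen 1629 (5, false)),
    (3041, .gen 2726 (3, false)),
    (3276, .gen 3250 (4, false)),
    (859, .gen 3250 (5, false)),
    (3417, .gen 1597 (4, false)),
    (468, .gen 1597 (5, true)),
    (83, .gen 28 (5, false)),
    (369, .gen 28 (5, true)),
    (208, .gen 163 (3, false)),
    (389, .gen 163 (5, false)),
    (348, .gen 275 (3, false)),
    (504, .gen 206 (4, false)),
    (1704, .gen 206 (5, true)),
    (423, .gen 530 (3, false)),
    (2892, .gen 530 (5, true)),
    (2715, .gen 2596 (3, false)),
    (2342, .gen 2596 (5, false)),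
    (2107, .gen 2449 (3, false)),
    (501, .gen 622 (3, false)),
    (1283, .gen 622 (5, false)),
    (1612, .gen 1916 (3, false)),
    (218, .gen 1916 (5, false)),
    (2979, .gen 2651 (3, false)),
    (797, .gen 895 (5, false)),
    (69, .gen 895 (5, true)),
    (3436, .gen 3230 (3, false)),
    (2243, .gen 3230 (5, false)),
    (606, .gen 1281 (4, false)),
    (1975, .gen 1281 (5, false)),
    (3602, .gen 1281 (5, true)),
    (1217, .gen 1167 (4, false)),
    (1340, .gen 1167 (5, false)),
    (3381, .gen 1167 (5, true)),
    (3755, .gen 3781 (3, false)),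
    (3695, .gen 3781 (5, false)),
    (888, .gen 1085 (3, false)),
    (1837, .gen 1021 (5, true)),
    (2338, .gen 3404 (4, false)),
    (3285, .gen 3404 (5, false)),
    (855, .gen 3404 (5, true)),
    (2322, .gen 1991 (3, false)),
    (2149, .gen 1991 (5, false)),
    (3481, .gen 3289 (3, false)),
    (2713, .gen 3289 (5, false)),
    (164, .gen 129 (3, false)),
    (1723, .gen 957 (5, false)),
    (3228, .gen 957 (5, true)),
    (296, .gen 376 (3, false)),
    (3063, .gen 376 (5, false)),
    (2939, .gen 3222 (3, false)),
    (3586, .gen 3343 (4, false)),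
    (3679, .gen 3343 (5, false)),
    (2832, .gen 3485 (4, false)),
    (937, .gen 3485 (5, false)),
    (1148, .gen 943 (3, false)),
    (1103, .gen 943 (5, false)),
    (1714, .gen 943 (5, true)),
    (319, .gen 253 (3, false)),
    (3556, .gen 3164 (5, false)),
    (3532, .gen 310 (5, false)),
    (1594, .gen 310 (5, true)),
    (3316, .gen 3065 (3, false)),
    (3429, .gen 3065 (5, false)),
    (2315, .gen 1983 (3, false)),
    (2406, .gen 3549 (4, false)),
    (3716, .gen 3549 (5, false)),
    (1354, .gen 3549 (5, true)),
    (2759, .gen 3066 (3, false)),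
    (3706, .gen 3066 (5, true)),
    (3787, .gen 3765 (3, false)),
    (3370, .gen 1474 (5, false)),
    (1906, .gen 1474 (5, true)),
    (1202, .gen 2582 (5, false)),
    (2321, .gen 3069 (4, false)),
    (3082, .gen 3069 (5, false)),
    (3012, .gen 3069 (5, true)),
    (2454, .gen 1030 (5, false)),
    (2164, .gen 1030 (5, true)),
    (2250, .gen 1375 (5, false)),
    (2876, .gen 1375 (5, true)),
    (3441, .gen 2723 (5, false)),
    (517, .gen 643 (3, false)),
    (2499, .gen 1226 (4, false)),
    (1633, .gen 1226 (5, false)),
    (3052, .gen 1226 (5, true)),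
    (2085, .gen 3788 (5, false)),
    (3470, .gen 3788 (5, true)),
    (3699, .gen 3760 (3, false)),
    (1064, .gen 3760 (5, false)),
    (444, .gen 3198 (5, false)),
    (402, .gen 3198 (5, true)),
    (2457, .gen 2419 (5, false)),
    (471, .gen 589 (3, false)),
    (2501, .gen 3348 (4, false)),
    (2693, .gen 3348 (5, false)),
    (2063, .gen 3348 (5, true)),
    (1802, .gen 1513 (3, false)),
    (2918, .gen 752 (4, false)),
    (3424, .gen 752 (5, false)),
    (3258, .gen 752 (5, true)),
    (1237, .gen 1020 (3, false)),
    (1884, .gen 1584 (3, false)),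
    (2960, .gen 2632 (3, false)),
    (3266, .gen 1400 (5, false)),
    (1987, .gen 1400 (5, true)),
    (633, .gen 975 (4, false)),
    (3668, .gen 975 (5, false)),
    (2352, .gen 975 (5, true)),
    (1314, .gen 371 (5, false)),
    (1174, .gen 785 (4, false)),
    (1666, .gen 785 (5, true)),
    (2204, .gen 2547 (3, false)),
    (1036, .gen 1256 (3, false)),
    (2420, .gen 2113 (3, false)),
    (1332, .gen 1467 (5, false)),
    (289, .gen 366 (3, false)),
    (9, .gen 366 (5, false)),
    (226, .gen 366 (5, true)),
    (144, .gen 115 (3, false)),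
    (453, .gen 115 (5, false)),
    (204, .gen 259 (3, false)),
    (480, .gen 2018 (5, false)),
    (1247, .gen 2018 (5, true)),
    (3134, .gen 2837 (3, false)),
    (2264, .gen 2837 (5, false)),
    (3015, .gen 2692 (3, false)),
    (3187, .gen 2695 (4, false)),
    (3637, .gen 2695 (5, false)),
    (1790, .gen 1938 (3, false)),
    (717, .gen 576 (3, false)),
    (147, .gen 576 (5, false)),
    (1575, .gen 1874 (3, false)),
    (840, .gen 1793 (4, false)),
    (3528, .gen 3644 (3, false)),
    (2540, .gen 3474 (4, false)),
    (1452, .gen 3474 (5, false)),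
    (490, .gen 3474 (5, true)),
    (574, .gen 715 (3, false)),
    (1403, .gen 715 (5, false)),
    (764, .gen 715 (5, true)),
    (868, .gen 1060 (3, false)),
    (1287, .gen 1060 (5, false)),
    (3628, .gen 3721 (5, true)),
    (668, .gen 833 (3, false)),
    (630, .gen 2095 (4, false)),
    (1684, .gen 2095 (5, false)),
    (3478, .gen 2095 (5, true)),
    (1414, .gen 1697 (3, false)),
    (830, .gen 1697 (5, false)),
    (2160, .gen 2500 (3, false)),
    (761, .gen 2500 (5, false)),
    (2480, .gen 2138 (3, false)),
    (798, .gen 744 (4, false)),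
    (1001, .gen 744 (5, false)),
    (3126, .gen 744 (5, true)),
    (3558, .gen 3269 (5, false)),
    (1161, .gen 3269 (5, true)),
    (2966, .gen 2638 (3, false)),
    (3581, .gen 2646 (5, false)),
    (1894, .gen 1593 (3, false)),
    (1454, .gen 1593 (5, false)),
    (1273, .gen 1593 (5, true)),
    (2045, .gen 1738 (3, false)),
    (2368, .gen 1738 (5, false)),
    (2223, .gen 1900 (3, false)),
    (13, .gen 546 (5, false)),
    (1606, .gen 546 (5, true)),
    (671, .gen 836 (3, false)),
    (1508, .gen 836 (5, false)),
    (1434, .gen 1715 (3, false)),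
    (2990, .gen 2394 (4, false)),
    (2699, .gen 2394 (5, false)),
    (49, .gen 2394 (5, true)),
    (1754, .gen 2062 (3, false)),
    (3783, .gen 3426 (5, true)),
    (2974, .gen 3709 (5, false)),
    (2770, .gen 3709 (5, true)),
    (2046, .gen 2380 (3, false)),
    (1532, .gen 2380 (5, false)),
    (2375, .gen 1726 (5, false)),
    (971, .gen 1726 (5, true)),
    (3577, .gen 3611 (3, false)),
    (1970, .gen 3611 (5, false)),
    (3223, .gen 2940 (3, false)),
    (680, .gen 248 (5, false)),
    (252, .gen 199 (3, false)),
    (56, .gen 199 (5, false)),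
    (65, .gen 17 (4, false)),
    (644, .gen 17 (5, true)),
    (247, .gen 193 (3, false)),
    (3712, .gen 3625 (3, false)),
    (1746, .gen 3625 (5, false)),
    (2462, .gen 3625 (5, true)),
    (3270, .gen 3000 (3, false)),
    (503, .gen 3000 (5, false)),
    (3088, .gen 2785 (5, false)),
    (265, .gen 1660 (4, false)),
    (948, .gen 1660 (5, false)),
    (1329, .gen 1608 (3, false)),
    (3740, .gen 1608 (5, false)),
    (1043, .gen 1266 (3, false)),
    (2148, .gen 857 (5, false)),
    (1382, .gen 1661 (3, false)),
    (2408, .gen 1661 (5, false)),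
    (3402, .gen 1274 (5, false)),
    (392, .gen 1274 (5, true)),
    (3715, .gen 3645 (3, false)),
    (2605, .gen 3645 (5, false)),
    (2518, .gen 2177 (3, false)),
    (3632, .gen 932 (4, false)),
    (1177, .gen 932 (5, false)),
    (2356, .gen 932 (5, true)),
    (2310, .gen 1980 (3, false)),
    (1282, .gen 2851 (4, false)),
    (2630, .gen 2851 (5, false)),
    (2763, .gen 2851 (5, true)),
    (3505, .gen 2189 (5, false)),
    (2124, .gen 1365 (5, true)),
    (1245, .gen 1510 (3, false)),
    (2852, .gen 3123 (5, true)),
    (1304, .gen 1581 (3, false)),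
    (3461, .gen 2252 (4, false)),
    (3255, .gen 2252 (5, false)),
    (2921, .gen 2252 (5, true)),
    (1140, .gen 1386 (3, false)),
    (2200, .gen 2503 (3, false)),
    (3649, .gen 3131 (5, false)),
    (2215, .gen 2677 (4, false)),
    (303, .gen 2677 (5, false)),
    (3407, .gen 2677 (5, true)),
    (703, .gen 565 (3, false)),
    (2373, .gen 565 (5, false)),
    (548, .gen 565 (5, true)),
    (886, .gen 716 (3, false)),
    (462, .gen 716 (5, false)),
    (132, .gen 168 (3, false)),
    (172, .gen 135 (3, false)),
    (2184, .gen 1123 (5, true)),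
    (3415, .gen 1319 (4, false)),
    (2039, .gen 1319 (5, false)),
    (2074, .gen 1319 (5, true)),
    (3354, .gen 3440 (5, false)),
    (1499, .gen 1204 (4, false)),
    (82, .gen 1204 (5, false)),
    (1441, .gen 1204 (5, true)),
    (3218, .gen 2935 (3, false)),
    (44, .gen 837 (4, false)),
    (1235, .gen 837 (5, true)),
    (1157, .gen 1404 (3, false)),
    (1042, .gen 636 (4, false)),
    (1195, .gen 636 (5, false)),
    (1109, .gen 636 (5, true)),
    (375, .gen 469 (3, false)),
    (1990, .gen 469 (5, false)),
    (194, .gen 469 (5, true)),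
    (96, .gen 2340 (5, false)),
    (2266, .gen 3346 (4, false)),
    (3029, .gen 3346 (5, false)),
    (1557, .gen 1855 (3, false)),
    (2233, .gen 1855 (5, false)),
    (1794, .gen 1609 (3, false)),
    (3051, .gen 138 (5, false)),
    (1515, .gen 1546 (5, false)),
    (63, .gen 51 (3, false)),
    (2139, .gen 276 (4, false)),
    (2750, .gen 276 (5, false)),
    (1694, .gen 276 (5, true)),
    (415, .gen 330 (3, false)),
    (3093, .gen 552 (4, false)),
    (2997, .gen 552 (5, false)),
    (1580, .gen 552 (5, true)),
    (2649, .gen 2309 (3, false)),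
    (1549, .gen 2309 (5, false)),
    (3053, .gen 2309 (5, true)),
    (1788, .gen 2102 (3, false)),
    (1406, .gen 2102 (5, false)),
    (2366, .gen 211 (4, false)),
    (2295, .gen 211 (5, false)),
    (3206, .gen 211 (5, true)),
    (3318, .gen 3067 (3, false)),
    (3416, .gen 291 (4, false)),
    (742, .gen 291 (5, false)),
    (3562, .gen 291 (5, true)),
    (2208, .gen 2550 (3, false)),
    (2755, .gen 1618 (4, false)),
    (1475, .gen 1618 (5, false)),
    (609, .gen 1618 (5, true)),
    (894, .gen 725 (3, false)),
    (3414, .gen 725 (5, false)),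
    (2944, .gen 725 (5, true))]

/-- Visits. -/
def v1_8 : List (ℕ × Src) :=
  [(409, .gen 1152 (5, false)),
    (1774, .gen 2087 (3, false)),
    (1486, .gen 2087 (5, false)),
    (617, .gen 936 (5, false)),
    (2230, .gen 2259 (3, false)),
    (335, .gen 2259 (5, false)),
    (136, .gen 965 (5, false)),
    (394, .gen 493 (3, false)),
    (3248, .gen 3205 (3, false)),
    (2805, .gen 3205 (5, false)),
    (2163, .gen 862 (5, false)),
    (2665, .gen 862 (5, true)),
    (3307, .gen 3149 (5, false)),
    (3117, .gen 2818 (3, false)),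
    (352, .gen 2949 (5, true)),
    (2683, .gen 1289 (5, true)),
    (3423, .gen 3208 (3, false)),
    (2621, .gen 667 (5, false)),
    (2014, .gen 1003 (5, true)),
    (1421, .gen 735 (5, true)),
    (870, .gen 848 (5, false)),
    (236, .gen 184 (3, false)),
    (1192, .gen 774 (4, false)),
    (1823, .gen 774 (5, false)),
    (817, .gen 763 (3, false)),
    (701, .gen 54 (4, false)),
    (1903, .gen 860 (5, false)),
    (324, .gen 860 (5, true)),
    (1524, .gen 1662 (5, false)),
    (1223, .gen 1479 (3, false)),
    (3399, .gen 2942 (5, false)),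
    (1710, .gen 2942 (5, true)),
    (954, .gen 3578 (4, false)),
    (2595, .gen 3578 (5, false)),
    (1614, .gen 1334 (3, false)),
    (2734, .gen 1334 (5, false)),
    (1315, .gen 1591 (3, false)),
    (1301, .gen 2586 (5, true)),
    (3550, .gen 3397 (3, false)),
    (1722, .gen 2028 (5, false)),
    (70, .gen 2028 (5, true)),
    (1322, .gen 1089 (3, false)),
    (3546, .gen 3661 (3, false)),
    (3120, .gen 3661 (5, false)),
    (2064, .gen 2401 (3, false)),
    (3155, .gen 3243 (5, true)),
    (2084, .gen 832 (5, false)),
    (1497, .gen 832 (5, true)),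
    (1879, .gen 2199 (3, false)),
    (2127, .gen 2199 (5, false)),
    (3605, .gen 3475 (3, false)),
    (3055, .gen 3462 (4, false)),
    (1849, .gen 3462 (5, false)),
    (1897, .gen 3462 (5, true)),
    (1335, .gen 1102 (4, false)),
    (2996, .gen 1102 (5, true)),
    (977, .gen 1190 (3, false)),
    (2776, .gen 1190 (5, false)),
    (1942, .gen 1190 (5, true)),
    (1617, .gen 2497 (5, false)),
    (3040, .gen 2725 (3, false)),
    (688, .gen 854 (3, false)),
    (435, .gen 854 (5, true)),
    (2100, .gen 2439 (3, false)),
    (3567, .gen 1185 (5, false)),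
    (2554, .gen 1185 (5, true)),
    (2109, .gen 2058 (3, false)),
    (650, .gen 2058 (5, false)),
    (40, .gen 121 (5, true)),
    (654, .gen 526 (3, false)),
    (676, .gen 1096 (4, false)),
    (2546, .gen 1096 (5, false)),
    (608, .gen 1096 (5, true)),
    (1838, .gen 2155 (3, false)),
    (2003, .gen 2155 (5, false)),
    (1183, .gen 2155 (5, true)),
    (1215, .gen 2710 (5, false)),
    (2298, .gen 1968 (3, false)),
    (831, .gen 3118 (5, false)),
    (267, .gen 210 (3, false)),
    (2209, .gen 1779 (4, false)),
    (2037, .gen 1779 (5, false)),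
    (3078, .gen 1779 (5, true)),
    (48, .gen 1378 (5, true)),
    (45, .gen 1347 (5, false)),
    (3428, .gen 1380 (4, false)),
    (3100, .gen 1380 (5, false)),
    (1611, .gen 1380 (5, true)),
    (545, .gen 2350 (5, true)),
    (1604, .gen 1676 (5, false)),
    (2091, .gen 1777 (3, false)),
    (2912, .gen 3322 (4, false)),
    (3703, .gen 3322 (5, false)),
    (3281, .gen 3322 (5, true)),
    (1091, .gen 1324 (3, false)),
    (1844, .gen 1324 (5, false)),
    (3494, .gen 1324 (5, true)),
    (2494, .gen 2156 (3, false)),
    (3713, .gen 2156 (5, false)),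
    (2157, .gen 2496 (3, false)),
    (2730, .gen 3153 (5, false)),
    (3534, .gen 3650 (3, false)),
    (2916, .gen 1466 (4, false)),
    (3673, .gen 1466 (5, false)),
    (2194, .gen 1466 (5, true)),
    (878, .gen 1069 (5, true)),
    (2880, .gen 1950 (5, false)),
    (2986, .gen 2945 (3, false)),
    (2301, .gen 1787 (5, false)),
    (2344, .gen 1787 (5, true)),
    (3680, .gen 3749 (3, false)),
    (3451, .gen 3749 (5, false)),
    (2910, .gen 3197 (3, false)),
    (2041, .gen 1016 (5, false)),
    (2856, .gen 1016 (5, true)),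
    (3727, .gen 1547 (4, false)),
    (1233, .gen 1547 (5, false)),
    (3752, .gen 1547 (5, true)),
    (16, .gen 22 (3, false)),
    (3034, .gen 1691 (4, false)),
    (3296, .gen 3265 (3, false)),
    (638, .gen 777 (4, false)),
    (1631, .gen 777 (5, false)),
    (1143, .gen 2327 (5, true)),
    (119, .gen 94 (3, false)),
    (1969, .gen 1999 (3, false)),
    (2353, .gen 1999 (5, false)),
    (339, .gen 269 (3, false)),
    (1625, .gen 578 (4, false)),
    (2884, .gen 578 (5, true)),
    (429, .gen 342 (3, false)),
    (1602, .gen 342 (5, false)),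
    (1388, .gen 1668 (3, false)),
    (3288, .gen 2488 (4, false)),
    (2299, .gen 2488 (5, true)),
    (3021, .gen 3038 (3, false)),
    (2179, .gen 3038 (5, false)),
    (3189, .gen 3408 (3, false)),
    (3229, .gen 3408 (5, false)),
    (3723, .gen 3730 (3, false)),
    (967, .gen 1191 (5, true)),
    (1911, .gen 475 (5, false)),
    (736, .gen 475 (5, true)),
    (1514, .gen 1248 (3, false)),
    (2740, .gen 1004 (4, false)),
    (1426, .gen 1004 (5, false)),
    (3145, .gen 1004 (5, true)),
    (1972, .gen 1664 (3, false)),
    (3345, .gen 1321 (4, false)),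
    (1175, .gen 1321 (5, false)),
    (1527, .gen 1321 (5, true)),
    (1795, .gen 2108 (3, false)),
    (1160, .gen 2108 (5, false)),
    (2879, .gen 3683 (4, false)),
    (3435, .gen 3683 (5, false)),
    (3090, .gen 3340 (3, false)),
    (2589, .gen 2716 (4, false)),
    (2048, .gen 2383 (3, false)),
    (1908, .gen 2383 (5, false)),
    (3702, .gen 2383 (5, true)),
    (3659, .gen 3674 (3, false)),
    (3180, .gen 2904 (4, false)),
    (410, .gen 2384 (5, false)),
    (1775, .gen 1489 (3, false)),
    (1869, .gen 1489 (5, false)),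
    (2351, .gen 2687 (3, false)),
    (2523, .gen 146 (5, false)),
    (1650, .gen 146 (5, true)),
    (473, .gen 378 (3, false)),
    (1450, .gen 2675 (5, false)),
    (1673, .gen 1015 (5, false)),
    (411, .gen 1015 (5, true)),
    (3748, .gen 3778 (3, false)),
    (2533, .gen 2628 (4, false)),
    (3634, .gen 2628 (5, false)),
    (2421, .gen 2628 (5, true)),
    (2482, .gen 2141 (3, false)),
    (3302, .gen 3599 (4, false)),
    (1603, .gen 3599 (5, false)),
    (1352, .gen 3599 (5, true)),
    (3144, .gen 2846 (3, false)),
    (2530, .gen 2188 (3, false)),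
    (531, .gen 2753 (4, false)),
    (2234, .gen 2753 (5, false)),
    (1665, .gen 2753 (5, true)),
    (748, .gen 601 (3, false)),
    (390, .gen 601 (5, false)),
    (550, .gen 684 (3, false)),
    (2275, .gen 2615 (3, false)),
    (2009, .gen 2536 (4, false)),
    (1299, .gen 2536 (5, true)),
    (325, .gen 1458 (5, true)),
    (1355, .gen 2255 (5, false)),
    (81, .gen 1356 (5, false)),
    (1176, .gen 966 (3, false)),
    (1558, .gen 966 (5, true)),
    (1125, .gen 1366 (3, false)),
    (3422, .gen 2399 (5, false)),
    (3071, .gen 2399 (5, true)),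
    (103, .gen 130 (3, false)),
    (3793, .gen 1351 (5, false)),
    (2698, .gen 1351 (5, true)),
    (3677, .gen 2248 (5, false)),
    (902, .gen 2248 (5, true)),
    (3290, .gen 3482 (3, false)),
    (2993, .gen 3482 (5, false)),
    (3031, .gen 3293 (3, false)),
    (2527, .gen 2864 (3, false)),
    (3776, .gen 3445 (5, false)),
    (3209, .gen 3445 (5, true)),
    (2794, .gen 3511 (5, false)),
    (3284, .gen 3511 (5, true)),
    (2802, .gen 2463 (3, false)),
    (345, .gen 2463 (5, false)),
    (1955, .gen 2285 (3, false)),
    (2566, .gen 1766 (4, false)),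
    (583, .gen 1766 (5, true)),
    (706, .gen 779 (5, false)),
    (2537, .gen 779 (5, true)),
    (566, .gen 801 (5, false)),
    (3086, .gen 1583 (5, false)),
    (1374, .gen 1583 (5, true)),
    (2893, .gen 2597 (3, false)),
    (2877, .gen 2587 (4, false)),
    (1827, .gen 2587 (5, false)),
    (2590, .gen 2587 (5, true)),
    (2637, .gen 2703 (5, false)),
    (3753, .gen 2859 (4, false)),
    (3541, .gen 2859 (5, false)),
    (3479, .gen 2859 (5, true)),
    (3662, .gen 3737 (3, false)),
    (3035, .gen 3612 (4, false)),
    (1309, .gen 3111 (5, false)),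
    (2314, .gen 2456 (3, false)),
    (1471, .gen 934 (5, false)),
    (2071, .gen 934 (5, true)),
    (3741, .gen 3667 (3, false)),
    (1349, .gen 1253 (5, false)),
    (122, .gen 1253 (5, true)),
    (1028, .gen 3016 (5, false)),
    (1552, .gen 1848 (3, false)),
    (3010, .gen 2304 (4, false)),
    (405, .gen 2304 (5, false)),
    (2575, .gen 2235 (3, false)),
    (1086, .gen 1318 (3, false)),
    (1905, .gen 2229 (3, false)),
    (3099, .gen 3344 (4, false)),
    (3264, .gen 3344 (5, false)),
    (1390, .gen 3344 (5, true)),
    (3192, .gen 3736 (5, false)),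
    (3629, .gen 3736 (5, true)),
    (1049, .gen 3648 (5, false)),
    (2426, .gen 2767 (3, false)),
    (3537, .gen 2767 (5, false)),
    (3033, .gen 3294 (3, false)),
    (568, .gen 1106 (4, false)),
    (2455, .gen 1106 (5, true)),
    (2118, .gen 2460 (3, false)),
    (385, .gen 3181 (5, false)),
    (3104, .gen 1554 (4, false)),
    (2690, .gen 1554 (5, false)),
    (3127, .gen 1554 (5, true)),
    (3574, .gen 1652 (5, false)),
    (1130, .gen 1372 (3, false)),
    (3278, .gen 3687 (5, false)),
    (2323, .gen 2664 (3, false)),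
    (1965, .gen 2664 (5, false)),
    (579, .gen 483 (5, false)),
    (1637, .gen 483 (5, true)),
    (772, .gen 949 (3, false)),
    (2329, .gen 1209 (4, false)),
    (674, .gen 1209 (5, false)),
    (1519, .gen 1209 (5, true)),
    (2577, .gen 2287 (3, false)),
    (2126, .gen 2467 (3, false)),
    (2760, .gen 2467 (5, false)),
    (616, .gen 495 (3, false)),
    (2357, .gen 2604 (4, false)),
    (50, .gen 62 (3, false)),
    (1600, .gen 1902 (3, false)),
    (1973, .gen 758 (4, false)),
    (1943, .gen 758 (5, false)),
    (2969, .gen 3244 (3, false)),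
    (3646, .gen 3244 (5, false)),
    (2551, .gen 3244 (5, true)),
    (2040, .gen 1311 (5, false)),
    (2115, .gen 3273 (5, false)),
    (1339, .gen 3273 (5, true)),
    (442, .gen 1396 (5, false)),
    (1653, .gen 1396 (5, true)),
    (3504, .gen 3452 (5, true)),
    (1792, .gen 3603 (5, false)),
    (2650, .gen 2978 (3, false)),
    (3251, .gen 3456 (3, false)),
    (2464, .gen 3456 (5, false)),
    (853, .gen 3456 (5, true)),
    (1255, .gen 1522 (3, false)),
    (1119, .gen 1522 (5, false)),
    (1260, .gen 1039 (3, false)),
    (3329, .gen 3566 (4, false))]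

/-- Visits. -/
def v1_9 : List (ℕ × Src) :=
  [(2491, .gen 3566 (5, true)),
    (2484, .gen 2711 (3, false)),
    (900, .gen 1100 (3, false)),
    (485, .gen 3314 (4, false)),
    (1461, .gen 3314 (5, false)),
    (2564, .gen 3314 (5, true)),
    (472, .gen 591 (3, false)),
    (2999, .gen 591 (5, false)),
    (3502, .gen 3332 (3, false)),
    (286, .gen 224 (3, false)),
    (1825, .gen 224 (5, true)),
    (272, .gen 278 (5, false)),
    (1010, .gen 940 (5, false)),
    (1296, .gen 2953 (5, false)),
    (2848, .gen 2953 (5, true)),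
    (2273, .gen 2422 (3, false)),
    (1914, .gen 2242 (5, false)),
    (414, .gen 518 (3, false)),
    (1816, .gen 2000 (3, false)),
    (2207, .gen 2549 (3, false)),
    (41, .gen 1231 (5, false)),
    (2054, .gen 2392 (3, false)),
    (3530, .gen 2392 (5, false)),
    (2498, .gen 2833 (3, false)),
    (427, .gen 2435 (4, false)),
    (1655, .gen 2435 (5, true)),
    (3663, .gen 724 (5, false)),
    (344, .gen 724 (5, true)),
    (2099, .gen 1923 (3, false)),
    (105, .gen 1923 (5, false)),
    (2934, .gen 2696 (3, false)),
    (3418, .gen 3365 (5, true)),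
    (1858, .gen 2001 (4, false)),
    (1044, .gen 2001 (5, false)),
    (3253, .gen 2001 (5, true)),
    (2946, .gen 2286 (4, false)),
    (363, .gen 2286 (5, false)),
    (2201, .gen 2286 (5, true)),
    (2847, .gen 2512 (3, false)),
    (3375, .gen 3056 (4, false)),
    (1455, .gen 3056 (5, false)),
    (3571, .gen 3056 (5, true)),
    (3560, .gen 2790 (5, false)),
    (416, .gen 2790 (5, true)),
    (1242, .gen 404 (5, false)),
    (2930, .gen 889 (5, false)),
    (2123, .gen 889 (5, true)),
    (502, .gen 624 (3, false)),
    (694, .gen 2195 (5, false)),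
    (304, .gen 240 (3, false)),
    (603, .gen 484 (3, false)),
    (478, .gen 597 (3, false)),
    (1958, .gen 2288 (3, false)),
    (1935, .gen 354 (5, false)),
    (2909, .gen 3195 (3, false)),
    (1164, .gen 1112 (5, true)),
    (863, .gen 29 (5, false)),
    (1126, .gen 922 (4, false)),
    (1464, .gen 922 (5, true)),
    (120, .gen 2261 (5, true)),
    (2826, .gen 2508 (3, false)),
    (3785, .gen 3790 (3, false)),
    (3421, .gen 3790 (5, true)),
    (3356, .gen 3419 (5, false)),
    (212, .gen 3085 (4, false)),
    (1885, .gen 3085 (5, false)),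
    (2844, .gen 1724 (5, false)),
    (2662, .gen 2902 (5, false)),
    (133, .gen 169 (3, false)),
    (3226, .gen 169 (5, false)),
    (3116, .gen 169 (5, true)),
    (1627, .gen 3094 (5, false)),
    (581, .gen 1032 (4, false)),
    (2806, .gen 3105 (3, false)),
    (1308, .gen 1717 (4, false)),
    (124, .gen 156 (3, false)),
    (969, .gen 790 (3, false)),
    (2791, .gen 1757 (4, false)),
    (3784, .gen 1567 (5, false)),
    (166, .gen 1528 (5, false)),
    (1429, .gen 1528 (5, true)),
    (209, .gen 958 (4, false)),
    (30, .gen 958 (5, false)),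
    (458, .gen 1180 (5, true)),
    (3420, .gen 945 (5, false)),
    (2956, .gen 945 (5, true)),
    (3215, .gen 338 (4, false)),
    (1796, .gen 338 (5, false)),
    (1839, .gen 338 (5, true)),
    (497, .gen 1870 (4, false)),
    (1773, .gen 586 (5, false)),
    (3786, .gen 3792 (3, false)),
    (1240, .gen 1502 (3, false)),
    (266, .gen 1502 (5, false)),
    (2458, .gen 1502 (5, true)),
    (1288, .gen 1564 (3, false)),
    (2206, .gen 1564 (5, false)),
    (2708, .gen 2371 (3, false)),
    (690, .gen 1966 (5, false)),
    (1186, .gen 933 (5, true)),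
    (3274, .gen 2552 (5, true)),
    (2895, .gen 137 (5, true)),
    (450, .gen 2212 (5, true)),
    (1023, .gen 3306 (5, false)),
    (2447, .gen 3306 (5, true)),
    (573, .gen 1516 (5, true)),
    (3162, .gen 3291 (3, false)),
    (1430, .gen 3387 (5, true)),
    (1551, .gen 1278 (3, false)),
    (1817, .gen 215 (5, true)),
    (1941, .gen 896 (5, true)),
    (3627, .gen 838 (5, true)),
    (3488, .gen 3058 (5, false)),
    (91, .gen 1361 (5, false)),
    (140, .gen 2672 (5, true)),
    (1325, .gen 1092 (3, false)),
    (1712, .gen 542 (5, false)),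
    (1882, .gen 2780 (5, false)),
    (192, .gen 2780 (5, true)),
    (1182, .gen 2198 (5, true)),
    (1279, .gen 1424 (5, false)),
    (2810, .gen 2470 (3, false)),
    (3573, .gen 2612 (5, false)),
    (3432, .gen 2369 (5, false)),
    (1509, .gen 3349 (5, false)),
    (3766, .gen 2397 (5, false)),
    (984, .gen 2676 (5, false)),
    (1178, .gen 2676 (5, true)),
    (3353, .gen 3113 (3, false)),
    (2146, .gen 3064 (5, false)),
    (323, .gen 2772 (5, true)),
    (1413, .gen 1863 (5, false)),
    (167, .gen 214 (3, false)),
    (702, .gen 123 (5, false)),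
    (151, .gen 656 (5, true)),
    (1213, .gen 999 (3, false)),
    (397, .gen 614 (5, false)),
    (529, .gen 614 (5, true)),
    (1310, .gen 1080 (3, false)),
    (1749, .gen 2057 (3, false)),
    (1079, .gen 2057 (5, false)),
    (3448, .gen 3242 (3, false)),
    (1545, .gen 1824 (5, false)),
    (3098, .gen 1824 (5, true)),
    (556, .gen 2430 (5, true)),
    (3705, .gen 3762 (3, false)),
    (72, .gen 327 (5, true)),
    (2888, .gen 3179 (3, false)),
    (464, .gen 3191 (4, false)),
    (1742, .gen 3191 (5, false)),
    (408, .gen 3191 (5, true)),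
    (1772, .gen 988 (5, true)),
    (974, .gen 2326 (5, true)),
    (2570, .gen 1831 (5, true)),
    (2253, .gen 2593 (3, false)),
    (2105, .gen 2446 (3, false)),
    (2841, .gen 3138 (3, false)),
    (3472, .gen 1104 (4, false)),
    (1798, .gen 2111 (3, false)),
    (3484, .gen 3295 (3, false)),
    (534, .gen 3042 (4, false)),
    (1525, .gen 1258 (3, false)),
    (2915, .gen 1881 (5, false)),
    (2548, .gen 2768 (3, false)),
    (1867, .gen 3292 (4, false)),
    (2311, .gen 3292 (5, false)),
    (2154, .gen 3292 (5, true)),
    (2850, .gen 2514 (3, false)),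
    (3460, .gen 2514 (5, false)),
    (3609, .gen 3587 (3, false)),
    (3623, .gen 3587 (5, false)),
    (1250, .gen 1835 (4, false)),
    (1494, .gen 1835 (5, false)),
    (1700, .gen 1835 (5, true)),
    (2854, .gen 2836 (3, false)),
    (3580, .gen 1730 (5, true)),
    (3457, .gen 1225 (5, false)),
    (2475, .gen 2814 (3, false)),
    (2466, .gen 580 (4, false)),
    (607, .gen 580 (5, false)),
    (2543, .gen 580 (5, true)),
    (1563, .gen 1134 (5, false)),
    (1158, .gen 743 (5, true)),
    (3754, .gen 3780 (3, false)),
    (693, .gen 3780 (5, false)),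
    (1993, .gen 2324 (3, false)),
    (3044, .gen 2324 (5, false)),
    (1760, .gen 2068 (3, false)),
    (2858, .gen 3579 (5, false)),
    (157, .gen 201 (3, false)),
    (37, .gen 1127 (5, false)),
    (1238, .gen 1127 (5, true)),
    (847, .gen 1899 (4, false)),
    (1624, .gen 1899 (5, true)),
    (3298, .gen 2228 (5, false)),
    (1065, .gen 2228 (5, true)),
    (3355, .gen 3115 (3, false)),
    (869, .gen 3115 (5, false)),
    (27, .gen 34 (3, false)),
    (1345, .gen 1626 (3, false)),
    (466, .gen 1083 (4, false)),
    (1706, .gen 1083 (5, false)),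
    (2951, .gen 1083 (5, true)),
    (2225, .gen 2668 (5, false)),
    (128, .gen 1364 (4, false)),
    (861, .gen 698 (4, false)),
    (1560, .gen 698 (5, false)),
    (523, .gen 418 (3, false)),
    (2410, .gen 418 (5, true)),
    (1688, .gen 1832 (3, false)),
    (2825, .gen 1832 (5, true)),
    (3771, .gen 3728 (3, false)),
    (1886, .gen 1222 (5, false)),
    (2567, .gen 1222 (5, true)),
    (753, .gen 2568 (5, false)),
    (1077, .gen 2568 (5, true)),
    (660, .gen 3041 (4, false)),
    (2598, .gen 3041 (5, true)),
    (1425, .gen 3276 (5, false)),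
    (692, .gen 859 (3, false)),
    (3626, .gen 3417 (5, true)),
    (374, .gen 468 (3, false)),
    (1733, .gen 83 (5, false)),
    (463, .gen 369 (3, false)),
    (403, .gen 504 (3, false)),
    (1931, .gen 1704 (3, false)),
    (604, .gen 423 (5, false)),
    (653, .gen 423 (5, true)),
    (2220, .gen 2715 (5, false)),
    (2682, .gen 2342 (3, false)),
    (1620, .gen 501 (5, false)),
    (1995, .gen 501 (5, true)),
    (3308, .gen 2979 (4, false)),
    (978, .gen 797 (3, false)),
    (33, .gen 797 (5, false)),
    (1763, .gen 3436 (4, false)),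
    (486, .gen 606 (3, false)),
    (3660, .gen 3602 (3, false)),
    (1590, .gen 1217 (5, false)),
    (1492, .gen 1217 (5, true)),
    (2025, .gen 1340 (5, false)),
    (3081, .gen 3755 (5, false)),
    (3697, .gen 3695 (3, false)),
    (2313, .gen 888 (5, true)),
    (766, .gen 2338 (5, false)),
    (2361, .gen 2338 (5, true)),
    (1045, .gen 855 (3, false)),
    (2800, .gen 2322 (5, true)),
    (1833, .gen 2149 (3, false)),
    (2631, .gen 3481 (4, false)),
    (2875, .gen 3481 (5, false)),
    (731, .gen 3481 (5, true)),
    (3011, .gen 164 (5, false)),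
    (3059, .gen 164 (5, true)),
    (2029, .gen 1723 (3, false)),
    (2135, .gen 1723 (5, false)),
    (3600, .gen 3679 (3, false)),
    (2415, .gen 319 (5, false)),
    (1478, .gen 319 (5, true)),
    (1826, .gen 3532 (5, false)),
    (1317, .gen 1594 (3, false)),
    (2883, .gen 3316 (5, false)),
    (1376, .gen 3316 (5, true)),
    (3341, .gen 2315 (4, false)),
    (2775, .gen 2315 (5, false)),
    (2453, .gen 2315 (5, true)),
    (2745, .gen 2406 (3, false)),
    (2294, .gen 2406 (5, false)),
    (757, .gen 2406 (5, true)),
    (544, .gen 3716 (5, false)),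
    (1635, .gen 1354 (3, false)),
    (2436, .gen 2759 (5, true)),
    (3616, .gen 3706 (3, false)),
    (1674, .gen 3787 (4, false)),
    (3568, .gen 3787 (5, true)),
    (1457, .gen 1202 (3, false)),
    (1156, .gen 2321 (5, false)),
    (1807, .gen 2321 (5, true)),
    (1910, .gen 3082 (5, false)),
    (3036, .gen 3012 (3, false)),
    (2793, .gen 2454 (3, false)),
    (2483, .gen 2454 (5, false)),
    (2505, .gen 2164 (3, false)),
    (3299, .gen 2250 (5, false)),
    (3173, .gen 2876 (3, false)),
    (3543, .gen 3441 (3, false)),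
    (2377, .gen 517 (4, false)),
    (1739, .gen 517 (5, false)),
    (257, .gen 517 (5, true)),
    (1384, .gen 2499 (5, false)),
    (809, .gen 2499 (5, true)),
    (1936, .gen 1633 (3, false)),
    (2103, .gen 1633 (5, false)),
    (3002, .gen 3052 (3, false)),
    (2150, .gen 2085 (3, false)),
    (2701, .gen 2085 (5, false)),
    (3165, .gen 3699 (4, false)),
    (2741, .gen 3699 (5, true)),
    (871, .gen 1064 (3, false)),
    (557, .gen 444 (3, false))]

/-- Visits. -/
def v1_10 : List (ℕ × Src) :=
  [(380, .gen 471 (4, false)),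
    (3477, .gen 2501 (5, false)),
    (1559, .gen 2501 (5, true)),
    (2400, .gen 2063 (3, false)),
    (1218, .gen 1802 (4, false)),
    (3204, .gen 2918 (3, false)),
    (3233, .gen 2918 (5, false)),
    (1259, .gen 2918 (5, true)),
    (3008, .gen 3424 (5, false)),
    (2984, .gen 3258 (3, false)),
    (3303, .gen 1237 (5, false)),
    (2797, .gen 1237 (5, true)),
    (2403, .gen 1884 (4, false)),
    (2661, .gen 1884 (5, true)),
    (2995, .gen 3266 (3, false)),
    (1641, .gen 3266 (5, false)),
    (510, .gen 633 (3, false)),
    (1747, .gen 633 (5, false)),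
    (3234, .gen 633 (5, true)),
    (3710, .gen 3668 (5, false)),
    (2021, .gen 2352 (3, false)),
    (963, .gen 1174 (3, false)),
    (3358, .gen 2204 (5, false)),
    (2558, .gen 2204 (5, true)),
    (1284, .gen 1036 (4, false)),
    (2822, .gen 1036 (5, true)),
    (803, .gen 2420 (5, true)),
    (1613, .gen 1332 (3, false)),
    (883, .gen 289 (5, false)),
    (35, .gen 9 (5, false)),
    (177, .gen 226 (3, false)),
    (567, .gen 453 (3, false)),
    (1462, .gen 204 (4, false)),
    (639, .gen 204 (5, false)),
    (1634, .gen 480 (5, false)),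
    (2885, .gen 3134 (4, false)),
    (3410, .gen 3134 (5, false)),
    (3672, .gen 3134 (5, true)),
    (1949, .gen 2264 (3, false)),
    (2047, .gen 3015 (5, false)),
    (1830, .gen 3015 (5, true)),
    (3636, .gen 3187 (5, false)),
    (3608, .gen 3637 (3, false)),
    (506, .gen 1790 (4, false)),
    (191, .gen 1790 (5, true)),
    (1861, .gen 717 (5, false)),
    (2765, .gen 717 (5, true)),
    (187, .gen 147 (3, false)),
    (675, .gen 840 (3, false)),
    (1895, .gen 3528 (4, false)),
    (1589, .gen 3528 (5, false)),
    (1198, .gen 1452 (3, false)),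
    (3119, .gen 574 (5, false)),
    (1685, .gen 1403 (3, false)),
    (1422, .gen 1287 (3, false)),
    (2393, .gen 668 (5, false)),
    (802, .gen 668 (5, true)),
    (2066, .gen 630 (5, true)),
    (1343, .gen 1684 (5, false)),
    (1012, .gen 830 (3, false)),
    (1110, .gen 2160 (5, false)),
    (3047, .gen 2480 (5, false)),
    (641, .gen 798 (3, false)),
    (1856, .gen 798 (5, false)),
    (2950, .gen 798 (5, true)),
    (1216, .gen 1001 (3, false)),
    (3516, .gen 1001 (5, false)),
    (3794, .gen 2966 (5, false)),
    (230, .gen 2966 (5, true)),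
    (3434, .gen 3581 (3, false)),
    (1595, .gen 1894 (5, false)),
    (1740, .gen 1454 (3, false)),
    (1785, .gen 1454 (5, false)),
    (1261, .gen 2045 (4, false)),
    (2591, .gen 2045 (5, false)),
    (2704, .gen 2368 (3, false)),
    (2016, .gen 2223 (4, false)),
    (3050, .gen 2223 (5, false)),
    (3043, .gen 2223 (5, true)),
    (31, .gen 13 (5, false)),
    (1784, .gen 2990 (5, false)),
    (773, .gen 2699 (5, false)),
    (3757, .gen 3783 (3, false)),
    (2645, .gen 2974 (3, false)),
    (2232, .gen 2974 (5, false)),
    (2431, .gen 2770 (3, false)),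
    (2364, .gen 2046 (4, false)),
    (261, .gen 2046 (5, true)),
    (1264, .gen 1532 (3, false)),
    (2292, .gen 3577 (4, false)),
    (2959, .gen 3577 (5, false)),
    (3497, .gen 3577 (5, true)),
    (1047, .gen 3223 (4, false)),
    (2821, .gen 3223 (5, true)),
    (1725, .gen 252 (4, false)),
    (2075, .gen 252 (5, false)),
    (1828, .gen 65 (5, true)),
    (64, .gen 247 (5, true)),
    (2829, .gen 3712 (5, false)),
    (1484, .gen 1746 (3, false)),
    (1667, .gen 3270 (4, false)),
    (3362, .gen 3270 (5, false)),
    (3698, .gen 3270 (5, true)),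
    (3337, .gen 3088 (3, false)),
    (810, .gen 265 (5, false)),
    (1872, .gen 1329 (5, false)),
    (3773, .gen 3740 (3, false)),
    (126, .gen 1043 (5, false)),
    (1530, .gen 1043 (5, true)),
    (2486, .gen 2148 (3, false)),
    (2748, .gen 2408 (3, false)),
    (3182, .gen 3402 (3, false)),
    (1846, .gen 3402 (5, false)),
    (3666, .gen 3715 (4, false)),
    (3531, .gen 3715 (5, false)),
    (3359, .gen 3715 (5, true)),
    (2265, .gen 2605 (3, false)),
    (2022, .gen 2518 (4, false)),
    (3271, .gen 2518 (5, false)),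
    (3513, .gen 3632 (3, false)),
    (3620, .gen 3632 (5, false)),
    (1428, .gen 1177 (3, false)),
    (1447, .gen 1177 (5, false)),
    (1397, .gen 2310 (4, false)),
    (2423, .gen 2763 (3, false)),
    (3336, .gen 3505 (3, false)),
    (2465, .gen 2124 (3, false)),
    (2653, .gen 1245 (4, false)),
    (985, .gen 1245 (5, false)),
    (3151, .gen 2852 (3, false)),
    (928, .gen 1304 (4, false)),
    (159, .gen 1304 (5, false)),
    (1875, .gen 1304 (5, true)),
    (3267, .gen 3461 (3, false)),
    (3202, .gen 3461 (5, false)),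
    (3114, .gen 3461 (5, true)),
    (2981, .gen 3255 (3, false)),
    (3622, .gen 3255 (5, false)),
    (3207, .gen 2921 (3, false)),
    (173, .gen 2200 (4, false)),
    (284, .gen 2200 (5, false)),
    (2958, .gen 2200 (5, true)),
    (383, .gen 303 (3, false)),
    (438, .gen 548 (3, false)),
    (2272, .gen 886 (4, false)),
    (2065, .gen 886 (5, false)),
    (2919, .gen 886 (5, true)),
    (553, .gen 132 (4, false)),
    (2801, .gen 132 (5, false)),
    (43, .gen 132 (5, true)),
    (739, .gen 172 (5, true)),
    (2524, .gen 2184 (3, false)),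
    (3311, .gen 3415 (3, false)),
    (1592, .gen 3415 (5, true)),
    (2372, .gen 2039 (3, false)),
    (646, .gen 2039 (5, false)),
    (1764, .gen 2074 (3, false)),
    (1443, .gen 1499 (5, false)),
    (2382, .gen 1499 (5, true)),
    (1188, .gen 1441 (3, false)),
    (2560, .gen 3218 (5, true)),
    (36, .gen 44 (3, false)),
    (1236, .gen 44 (5, true)),
    (1496, .gen 1235 (3, false)),
    (2251, .gen 1042 (5, false)),
    (1061, .gen 1042 (5, true)),
    (1369, .gen 1195 (3, false)),
    (1346, .gen 1109 (3, false)),
    (413, .gen 375 (5, false)),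
    (39, .gen 375 (5, true)),
    (789, .gen 1990 (5, false)),
    (1937, .gen 2266 (3, false)),
    (1819, .gen 2266 (5, false)),
    (53, .gen 1557 (5, false)),
    (1834, .gen 1557 (5, true)),
    (2320, .gen 2233 (3, false)),
    (3176, .gen 1794 (5, false)),
    (512, .gen 1794 (5, true)),
    (2870, .gen 3051 (3, false)),
    (1805, .gen 1515 (3, false)),
    (1498, .gen 63 (4, false)),
    (180, .gen 63 (5, false)),
    (2787, .gen 3093 (3, false)),
    (3378, .gen 3093 (5, true)),
    (3268, .gen 2997 (3, false)),
    (1880, .gen 1580 (3, false)),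
    (2159, .gen 2649 (5, false)),
    (3684, .gen 2649 (5, true)),
    (2240, .gen 1549 (5, false)),
    (952, .gen 1788 (5, false)),
    (3014, .gen 1788 (5, true)),
    (2679, .gen 2366 (3, false)),
    (2633, .gen 2295 (3, false)),
    (2055, .gen 3318 (5, false)),
    (359, .gen 3416 (5, false)),
    (3717, .gen 3416 (5, true)),
    (913, .gen 742 (3, false)),
    (2414, .gen 2755 (3, false)),
    (3515, .gen 2755 (5, false)),
    (2792, .gen 2755 (5, true)),
    (1220, .gen 1475 (3, false)),
    (3630, .gen 1475 (5, false)),
    (489, .gen 609 (3, false)),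
    (3224, .gen 2944 (3, false)),
    (1234, .gen 1774 (5, false)),
    (1228, .gen 1486 (3, false)),
    (765, .gen 617 (3, false)),
    (1392, .gen 2230 (5, true)),
    (2317, .gen 394 (4, false)),
    (1138, .gen 394 (5, false)),
    (2511, .gen 3248 (5, false)),
    (3714, .gen 3248 (5, true)),
    (2504, .gen 2163 (3, false)),
    (2994, .gen 2665 (3, false)),
    (3219, .gen 3307 (3, false)),
    (2424, .gen 3117 (5, false)),
    (443, .gen 352 (3, false)),
    (3006, .gen 2683 (3, false)),
    (2862, .gen 3423 (4, false)),
    (1876, .gen 3423 (5, false)),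
    (2282, .gen 2621 (3, false)),
    (1702, .gen 1421 (3, false)),
    (1062, .gen 870 (3, false)),
    (520, .gen 236 (4, false)),
    (1241, .gen 236 (5, true)),
    (1446, .gen 1192 (3, false)),
    (562, .gen 817 (4, false)),
    (1107, .gen 817 (5, false)),
    (101, .gen 817 (5, true)),
    (867, .gen 701 (3, false)),
    (1601, .gen 1903 (3, false)),
    (3133, .gen 1903 (5, false)),
    (1257, .gen 1524 (3, false)),
    (1767, .gen 1223 (5, false)),
    (3177, .gen 3399 (3, false)),
    (2231, .gen 3399 (5, false)),
    (2019, .gen 1710 (3, false)),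
    (1002, .gen 954 (3, false)),
    (401, .gen 954 (5, false)),
    (3235, .gen 1614 (5, false)),
    (3761, .gen 1614 (5, true)),
    (2891, .gen 1315 (5, false)),
    (1300, .gen 3550 (4, false)),
    (872, .gen 3550 (5, false)),
    (1139, .gen 3550 (5, true)),
    (1850, .gen 1722 (3, false)),
    (1731, .gen 1722 (5, false)),
    (1821, .gen 1322 (5, false)),
    (3363, .gen 1322 (5, true)),
    (3658, .gen 2064 (5, false)),
    (3682, .gen 1879 (5, false)),
    (1813, .gen 2127 (3, false)),
    (3385, .gen 3605 (4, false)),
    (3735, .gen 3605 (5, false)),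
    (2744, .gen 3055 (3, false)),
    (746, .gen 3055 (5, true)),
    (1553, .gen 1849 (3, false)),
    (1082, .gen 1849 (5, false)),
    (2144, .gen 1897 (3, false)),
    (3186, .gen 1335 (5, true)),
    (3077, .gen 977 (5, false)),
    (2731, .gen 977 (5, true)),
    (2437, .gen 2776 (3, false)),
    (1918, .gen 2100 (4, false)),
    (3503, .gen 2100 (5, false)),
    (1124, .gen 2100 (5, true)),
    (3032, .gen 3567 (5, false)),
    (2211, .gen 2554 (3, false)),
    (2656, .gen 2109 (4, false)),
    (917, .gen 2109 (5, false)),
    (154, .gen 654 (4, false)),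
    (388, .gen 654 (5, false)),
    (32, .gen 654 (5, true)),
    (754, .gen 608 (3, false)),
    (2834, .gen 1838 (5, false)),
    (2659, .gen 2003 (5, false)),
    (1469, .gen 1215 (3, false)),
    (1271, .gen 2298 (4, false)),
    (2897, .gen 2298 (5, false)),
    (3656, .gen 2298 (5, true)),
    (1013, .gen 831 (3, false)),
    (2328, .gen 267 (4, false)),
    (683, .gen 267 (5, false)),
    (1887, .gen 2209 (3, false)),
    (1736, .gen 2209 (5, false)),
    (2370, .gen 2037 (3, false)),
    (2636, .gen 3428 (5, true)),
    (892, .gen 3100 (5, false)),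
    (1915, .gen 1611 (3, false)),
    (2245, .gen 2091 (4, false)),
    (1996, .gen 2091 (5, false)),
    (455, .gen 2091 (5, true)),
    (2732, .gen 2912 (5, false)),
    (1373, .gen 2912 (5, true)),
    (3613, .gen 3703 (3, false)),
    (2521, .gen 3703 (5, false)),
    (3054, .gen 3281 (3, false)),
    (3046, .gen 1091 (5, false)),
    (2816, .gen 1844 (5, false)),
    (3317, .gen 3494 (3, false))]

/-- Visits. -/
def v1_11 : List (ℕ × Src) :=
  [(3639, .gen 3713 (3, false)),
    (2761, .gen 2157 (5, false)),
    (2493, .gen 2157 (5, true)),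
    (2389, .gen 2730 (3, false)),
    (3524, .gen 2916 (5, false)),
    (3565, .gen 3673 (3, false)),
    (1073, .gen 878 (3, false)),
    (3691, .gen 2986 (4, false)),
    (2121, .gen 2986 (5, false)),
    (1971, .gen 2301 (3, false)),
    (2316, .gen 2301 (5, false)),
    (3594, .gen 3451 (3, false)),
    (1573, .gen 2910 (5, false)),
    (3539, .gen 2910 (5, true)),
    (1166, .gen 2041 (5, false)),
    (2520, .gen 2856 (3, false)),
    (3770, .gen 3727 (3, false)),
    (3693, .gen 3727 (5, false)),
    (1017, .gen 1233 (3, false)),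
    (18, .gen 16 (4, false)),
    (3018, .gen 3034 (3, false)),
    (514, .gen 638 (3, false)),
    (2719, .gen 638 (5, false)),
    (1348, .gen 1969 (4, false)),
    (1344, .gen 1625 (3, false)),
    (1472, .gen 1625 (5, true)),
    (1323, .gen 1602 (3, false)),
    (2418, .gen 1388 (5, true)),
    (3022, .gen 3288 (3, false)),
    (2354, .gen 3021 (5, false)),
    (3157, .gen 3021 (5, true)),
    (2478, .gen 3189 (4, false)),
    (2746, .gen 3189 (5, true)),
    (1568, .gen 3723 (4, false)),
    (3764, .gen 3723 (5, false)),
    (3751, .gen 3723 (5, true)),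
    (2104, .gen 1911 (5, false)),
    (906, .gen 736 (3, false)),
    (1803, .gen 1514 (4, false)),
    (2819, .gen 1514 (5, false)),
    (558, .gen 2740 (5, false)),
    (3374, .gen 2740 (5, true)),
    (3108, .gen 1426 (5, false)),
    (1131, .gen 1972 (5, false)),
    (3323, .gen 3345 (5, false)),
    (1570, .gen 1175 (5, false)),
    (1930, .gen 1795 (5, false)),
    (3175, .gen 2879 (3, false)),
    (2202, .gen 2879 (5, false)),
    (2809, .gen 3090 (4, false)),
    (543, .gen 3090 (5, true)),
    (3425, .gen 2048 (5, false)),
    (1576, .gen 2048 (5, true)),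
    (2889, .gen 3180 (3, false)),
    (318, .gen 1775 (4, false)),
    (2186, .gen 1869 (3, false)),
    (2992, .gen 2351 (5, false)),
    (1394, .gen 2351 (5, true)),
    (2183, .gen 2523 (3, false)),
    (1529, .gen 2523 (5, false)),
    (1957, .gen 1650 (3, false)),
    (1393, .gen 1673 (3, false)),
    (326, .gen 411 (3, false)),
    (1147, .gen 3748 (4, false)),
    (806, .gen 2533 (5, true)),
    (3719, .gen 3634 (3, false)),
    (3641, .gen 3634 (5, false)),
    (3489, .gen 3302 (3, false)),
    (2603, .gen 3302 (5, true)),
    (260, .gen 1603 (5, false)),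
    (3529, .gen 2530 (4, false)),
    (3527, .gen 2530 (5, false)),
    (2728, .gen 2530 (5, true)),
    (1014, .gen 531 (5, false)),
    (150, .gen 531 (5, true)),
    (3707, .gen 748 (5, false)),
    (488, .gen 390 (3, false)),
    (1797, .gen 2275 (4, false)),
    (1075, .gen 2009 (5, true)),
    (1154, .gen 1299 (3, false)),
    (1026, .gen 1125 (5, false)),
    (407, .gen 1125 (5, true)),
    (2432, .gen 103 (5, false)),
    (3554, .gen 3793 (5, false)),
    (3681, .gen 3677 (5, false)),
    (610, .gen 3290 (5, true)),
    (2168, .gen 3031 (5, true)),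
    (3352, .gen 2527 (5, false)),
    (2044, .gen 2527 (5, true)),
    (3791, .gen 3776 (3, false)),
    (1720, .gen 2794 (5, false)),
    (433, .gen 345 (3, false)),
    (1929, .gen 1955 (4, false)),
    (2407, .gen 1955 (5, false)),
    (750, .gen 1955 (5, true)),
    (2226, .gen 2566 (5, true)),
    (873, .gen 706 (3, false)),
    (1291, .gen 706 (5, false)),
    (704, .gen 566 (3, false)),
    (487, .gen 3086 (5, false)),
    (1286, .gen 2893 (4, false)),
    (1495, .gen 2877 (5, false)),
    (3739, .gen 2877 (5, true)),
    (1533, .gen 1827 (3, false)),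
    (3738, .gen 1827 (5, false)),
    (2922, .gen 2590 (3, false)),
    (2300, .gen 2637 (3, false)),
    (3700, .gen 3753 (3, false)),
    (3386, .gen 3541 (3, false)),
    (3769, .gen 3662 (5, false)),
    (2720, .gen 3035 (3, false)),
    (1523, .gen 1309 (3, false)),
    (2411, .gen 2071 (3, false)),
    (1548, .gen 3741 (4, false)),
    (3150, .gen 3741 (5, false)),
    (2042, .gen 1349 (5, false)),
    (1246, .gen 1028 (3, false)),
    (329, .gen 1552 (5, true)),
    (2686, .gen 3010 (3, false)),
    (3518, .gen 2575 (5, true)),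
    (2583, .gen 1086 (5, true)),
    (2799, .gen 3099 (3, false)),
    (640, .gen 3099 (5, false)),
    (391, .gen 3099 (5, true)),
    (1327, .gen 3264 (5, false)),
    (1385, .gen 3192 (5, false)),
    (1873, .gen 2426 (4, false)),
    (3379, .gen 3537 (3, false)),
    (2098, .gen 3033 (5, false)),
    (454, .gen 568 (3, false)),
    (242, .gen 2323 (5, false)),
    (3310, .gen 579 (5, false)),
    (3383, .gen 772 (4, false)),
    (918, .gen 772 (5, false)),
    (2671, .gen 2329 (3, false)),
    (687, .gen 2329 (5, false)),
    (1504, .gen 2329 (5, true)),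
    (1789, .gen 674 (5, false)),
    (1810, .gen 1519 (3, false)),
    (1889, .gen 616 (5, true)),
    (2026, .gen 2357 (3, false)),
    (1456, .gen 50 (5, false)),
    (841, .gen 1600 (5, false)),
    (2174, .gen 1600 (5, true)),
    (3382, .gen 2969 (5, false)),
    (131, .gen 2969 (5, true)),
    (924, .gen 3646 (5, false)),
    (1517, .gen 2115 (5, false)),
    (554, .gen 442 (3, false)),
    (3335, .gen 3504 (3, false)),
    (1505, .gen 1792 (3, false)),
    (2804, .gen 2464 (3, false)),
    (2691, .gen 1255 (4, false)),
    (1101, .gen 1260 (5, true)),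
    (2526, .gen 900 (5, false)),
    (1105, .gen 472 (5, false)),
    (1353, .gen 472 (5, true)),
    (2752, .gen 2999 (3, false)),
    (3533, .gen 3502 (5, false)),
    (3147, .gen 2848 (3, false)),
    (874, .gen 414 (5, false)),
    (3508, .gen 414 (5, true)),
    (3670, .gen 1816 (5, true)),
    (3450, .gen 2207 (4, false)),
    (3256, .gen 2207 (5, false)),
    (1078, .gen 2207 (5, true)),
    (535, .gen 427 (3, false)),
    (987, .gen 2934 (4, false)),
    (2175, .gen 1858 (3, false)),
    (3377, .gen 1858 (5, false)),
    (1267, .gen 1044 (3, false)),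
    (1841, .gen 1044 (5, false)),
    (1483, .gen 3375 (5, false)),
    (2461, .gen 3375 (5, true)),
    (2391, .gen 1455 (5, false)),
    (658, .gen 3560 (5, false)),
    (1809, .gen 2123 (3, false)),
    (1750, .gen 603 (5, true)),
    (923, .gen 478 (5, false)),
    (3049, .gen 1126 (5, true)),
    (95, .gen 120 (3, false)),
    (3779, .gen 3784 (3, false)),
    (1487, .gen 166 (5, false)),
    (2629, .gen 2956 (3, false)),
    (3301, .gen 3215 (5, false)),
    (2335, .gen 3215 (5, true)),
    (2796, .gen 3786 (4, false)),
    (1435, .gen 3786 (5, false)),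
    (2903, .gen 3786 (5, true)),
    (1768, .gen 266 (5, false)),
    (564, .gen 450 (3, false)),
    (112, .gen 140 (3, false)),
    (2203, .gen 1882 (3, false)),
    (2004, .gen 2810 (5, false)),
    (1200, .gen 984 (3, false)),
    (2798, .gen 3098 (3, false)),
    (2005, .gen 1742 (5, false)),
    (1187, .gen 974 (3, false)),
    (1696, .gen 2253 (5, false)),
    (3431, .gen 2105 (5, true)),
    (1981, .gen 2311 (3, false)),
    (3597, .gen 3460 (3, false)),
    (3019, .gen 3609 (4, false)),
    (1201, .gen 1250 (3, false)),
    (1781, .gen 1494 (3, false)),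
    (560, .gen 2854 (4, false)),
    (3141, .gen 2854 (5, false)),
    (721, .gen 2475 (4, false)),
    (2125, .gen 2466 (3, false)),
    (2049, .gen 2466 (5, true)),
    (3143, .gen 607 (5, false)),
    (3610, .gen 3754 (5, false)),
    (3073, .gen 1993 (4, false)),
    (2522, .gen 2858 (3, false)),
    (372, .gen 37 (5, false)),
    (1035, .gen 847 (3, false)),
    (432, .gen 847 (5, true)),
    (3486, .gen 3298 (3, false)),
    (1893, .gen 3298 (5, false)),
    (3595, .gen 3355 (5, false)),
    (24, .gen 27 (4, false)),
    (1052, .gen 861 (3, false)),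
    (1859, .gen 1560 (3, false)),
    (406, .gen 523 (5, true)),
    (2751, .gen 2410 (3, false)),
    (1501, .gen 1688 (5, false)),
    (2388, .gen 1688 (5, true)),
    (2489, .gen 2825 (3, false)),
    (2643, .gen 3771 (4, false)),
    (2898, .gen 3771 (5, false)),
    (3744, .gen 3771 (5, true)),
    (1586, .gen 1886 (3, false)),
    (2928, .gen 2598 (3, false)),
    (1693, .gen 403 (5, true)),
    (786, .gen 1931 (5, true)),
    (598, .gen 604 (3, false)),
    (104, .gen 604 (5, false)),
    (814, .gen 653 (3, false)),
    (981, .gen 2682 (4, false)),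
    (2117, .gen 2682 (5, false)),
    (197, .gen 2682 (5, true)),
    (2932, .gen 1620 (5, false)),
    (309, .gen 486 (5, true)),
    (1812, .gen 1590 (5, false)),
    (1778, .gen 1492 (3, false)),
    (3555, .gen 3697 (5, false)),
    (2967, .gen 3697 (5, true)),
    (1982, .gen 2313 (3, false)),
    (618, .gen 766 (3, false)),
    (2823, .gen 1045 (5, true)),
    (587, .gen 731 (3, false)),
    (1482, .gen 3011 (5, false)),
    (1924, .gen 2029 (5, true)),
    (2110, .gen 3600 (4, false)),
    (2887, .gen 3600 (5, false)),
    (3393, .gen 3600 (5, true)),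
    (3333, .gen 2883 (5, false)),
    (3091, .gen 3341 (3, false)),
    (2112, .gen 2453 (3, false)),
    (1541, .gen 1635 (4, false)),
    (1540, .gen 1635 (5, true)),
    (2097, .gen 2436 (3, false)),
    (3696, .gen 3616 (4, false)),
    (1224, .gen 3616 (5, false)),
    (1984, .gen 1674 (3, false)),
    (1808, .gen 3036 (4, false)),
    (3692, .gen 2505 (5, false)),
    (2777, .gen 2505 (5, true)),
    (1453, .gen 1739 (3, false)),
    (2355, .gen 1384 (5, false)),
    (2700, .gen 1936 (5, true)),
    (2444, .gen 2103 (3, false)),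
    (1019, .gen 3002 (5, true)),
    (3124, .gen 2150 (4, false)),
    (3020, .gen 2701 (3, false)),
    (2866, .gen 3165 (3, false)),
    (2402, .gen 2741 (3, false)),
    (3247, .gen 871 (4, false)),
    (1574, .gen 871 (5, false)),
    (3376, .gen 871 (5, true)),
    (1303, .gen 557 (5, false)),
    (474, .gen 380 (3, false)),
    (3320, .gen 3477 (3, false)),
    (791, .gen 3204 (5, false)),
    (858, .gen 3204 (5, true)),
    (2162, .gen 3233 (5, false)),
    (1038, .gen 1259 (3, false)),
    (1888, .gen 2984 (4, false)),
    (2020, .gen 2984 (5, false)),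
    (1415, .gen 2984 (5, true)),
    (1383, .gen 3303 (5, false)),
    (2459, .gen 2797 (3, false)),
    (3758, .gen 2995 (5, false)),
    (1748, .gen 2995 (5, true)),
    (1946, .gen 1641 (3, false)),
    (2257, .gen 510 (5, true)),
    (635, .gen 963 (5, false)),
    (3122, .gen 2822 (3, false)),
    (2190, .gen 1613 (5, false)),
    (1628, .gen 1613 (5, true))]

/-- Visits. -/
def v1_12 : List (ℕ × Src) :=
  [(221, .gen 177 (4, false)),
    (437, .gen 177 (5, true)),
    (1713, .gen 1462 (5, false)),
    (796, .gen 639 (3, false)),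
    (3619, .gen 2885 (5, false)),
    (3084, .gen 3410 (5, false)),
    (2381, .gen 2047 (3, false)),
    (1537, .gen 1830 (3, false)),
    (1244, .gen 187 (5, false)),
    (691, .gen 675 (5, false)),
    (1341, .gen 1895 (5, false)),
    (1193, .gen 1198 (5, true)),
    (2983, .gen 1685 (5, false)),
    (58, .gen 1422 (5, true)),
    (950, .gen 2393 (5, false)),
    (2405, .gen 2066 (3, false)),
    (3745, .gen 1012 (5, false)),
    (909, .gen 1110 (3, false)),
    (2737, .gen 3047 (3, false)),
    (2122, .gen 641 (5, false)),
    (2172, .gen 1856 (3, false)),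
    (3535, .gen 1856 (5, false)),
    (2860, .gen 2950 (3, false)),
    (2509, .gen 1740 (4, false)),
    (1313, .gen 1740 (5, true)),
    (2766, .gen 2704 (5, true)),
    (1708, .gen 2016 (3, false)),
    (2116, .gen 2016 (5, false)),
    (1027, .gen 3050 (5, false)),
    (3635, .gen 3757 (4, false)),
    (3083, .gen 3757 (5, false)),
    (307, .gen 3757 (5, true)),
    (2838, .gen 2645 (5, false)),
    (1907, .gen 2232 (3, false)),
    (2702, .gen 2364 (3, false)),
    (3146, .gen 2292 (5, false)),
    (2531, .gen 2292 (5, true)),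
    (1481, .gen 2959 (5, false)),
    (3321, .gen 3497 (3, false)),
    (2927, .gen 1725 (5, false)),
    (2143, .gen 1828 (3, false)),
    (3671, .gen 1484 (5, true)),
    (1387, .gen 1667 (3, false)),
    (3607, .gen 3698 (3, false)),
    (3519, .gen 2748 (5, true)),
    (3718, .gen 3666 (3, false)),
    (3491, .gen 3666 (5, true)),
    (3371, .gen 3531 (3, false)),
    (3726, .gen 3531 (5, false)),
    (3492, .gen 2265 (4, false)),
    (1679, .gen 1397 (3, false)),
    (2086, .gen 2423 (4, false)),
    (1521, .gen 2465 (4, false)),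
    (3617, .gen 2465 (5, false)),
    (2982, .gen 2653 (3, false)),
    (328, .gen 3151 (5, false)),
    (2185, .gen 928 (5, false)),
    (2187, .gen 928 (5, true)),
    (2588, .gen 3202 (5, false)),
    (2815, .gen 3114 (3, false)),
    (3763, .gen 2981 (5, true)),
    (3678, .gen 3622 (3, false)),
    (2525, .gen 284 (5, false)),
    (910, .gen 739 (3, false)),
    (2718, .gen 2524 (4, false)),
    (2899, .gen 3311 (5, true)),
    (3446, .gen 2372 (5, true)),
    (1431, .gen 1764 (5, true)),
    (2894, .gen 2560 (3, false)),
    (516, .gen 413 (3, false)),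
    (1270, .gen 2320 (5, false)),
    (2639, .gen 3176 (5, false)),
    (3593, .gen 2870 (5, false)),
    (1230, .gen 1805 (4, false)),
    (1786, .gen 1498 (3, false)),
    (2477, .gen 1880 (5, true)),
    (696, .gen 2633 (4, false)),
    (1769, .gen 2414 (5, false)),
    (3704, .gen 3515 (5, false)),
    (1298, .gen 489 (4, false)),
    (1672, .gen 1392 (3, false)),
    (2655, .gen 2317 (5, false)),
    (3647, .gen 443 (4, false)),
    (2742, .gen 3006 (5, false)),
    (1577, .gen 1876 (3, false)),
    (3183, .gen 2282 (4, false)),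
    (1306, .gen 1062 (4, false)),
    (726, .gen 1062 (5, false)),
    (1804, .gen 1062 (5, true)),
    (1093, .gen 520 (5, true)),
    (699, .gen 562 (3, false)),
    (361, .gen 562 (5, false)),
    (907, .gen 1107 (3, false)),
    (47, .gen 1107 (5, false)),
    (3369, .gen 3133 (3, false)),
    (3522, .gen 1257 (5, false)),
    (2571, .gen 2231 (3, false)),
    (3384, .gen 1002 (5, true)),
    (705, .gen 872 (3, false)),
    (2988, .gen 872 (5, false)),
    (3544, .gen 3658 (3, false)),
    (3651, .gen 3682 (3, false)),
    (1115, .gen 1813 (5, false)),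
    (3782, .gen 3385 (5, false)),
    (3657, .gen 3735 (3, false)),
    (2069, .gen 2744 (5, false)),
    (3331, .gen 2744 (5, true)),
    (596, .gen 2144 (5, false)),
    (2771, .gen 2437 (4, false)),
    (2529, .gen 1918 (5, false)),
    (3559, .gen 1918 (5, true)),
    (921, .gen 1124 (3, false)),
    (1059, .gen 2656 (5, false)),
    (3380, .gen 1469 (4, false)),
    (3396, .gen 1469 (5, false)),
    (2817, .gen 1271 (5, false)),
    (3733, .gen 3656 (3, false)),
    (3633, .gen 2328 (5, false)),
    (549, .gen 683 (3, false)),
    (990, .gen 892 (3, false)),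
    (3169, .gen 1915 (4, false)),
    (2425, .gen 1915 (5, false)),
    (3493, .gen 1915 (5, true)),
    (2920, .gen 2245 (5, true)),
    (2572, .gen 3613 (5, true)),
    (2857, .gen 2521 (3, false)),
    (507, .gen 3054 (4, false)),
    (541, .gen 2389 (5, true)),
    (2565, .gen 1073 (4, false)),
    (1791, .gen 1073 (5, true)),
    (3731, .gen 3691 (3, false)),
    (3313, .gen 1573 (5, false)),
    (1623, .gen 3770 (5, false)),
    (2516, .gen 3770 (5, true)),
    (25, .gen 18 (3, false)),
    (1822, .gen 514 (5, true)),
    (1111, .gen 1348 (3, false)),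
    (3279, .gen 1323 (5, false)),
    (2078, .gen 2418 (3, false)),
    (2136, .gen 3022 (5, false)),
    (2081, .gen 906 (5, false)),
    (1293, .gen 1570 (3, false)),
    (2258, .gen 1930 (3, false)),
    (2296, .gen 2186 (5, true)),
    (2663, .gen 2992 (3, false)),
    (2358, .gen 2992 (5, false)),
    (647, .gen 806 (3, false)),
    (3135, .gen 3529 (5, false)),
    (3080, .gen 3527 (5, false)),
    (1203, .gen 1026 (5, false)),
    (509, .gen 407 (3, false)),
    (3400, .gen 3554 (3, false)),
    (3582, .gen 3681 (3, false)),
    (1068, .gen 433 (5, false)),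
    (3154, .gen 1495 (5, false)),
    (2924, .gen 1533 (4, false)),
    (1196, .gen 1533 (5, true)),
    (1275, .gen 1548 (3, false)),
    (2374, .gen 2042 (3, false)),
    (515, .gen 640 (3, false)),
    (3334, .gen 3379 (5, true)),
    (2931, .gen 2026 (5, false)),
    (2210, .gen 2804 (5, false)),
    (3467, .gen 2804 (5, true)),
    (1336, .gen 1101 (3, false)),
    (3514, .gen 2752 (5, true)),
    (2553, .gen 3450 (5, false)),
    (2733, .gen 2391 (3, false)),
    (1562, .gen 1981 (4, false)),
    (1741, .gen 2049 (3, false)),
    (547, .gen 2751 (5, true)),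
    (2680, .gen 2489 (4, false)),
    (2972, .gen 2643 (3, false)),
    (281, .gen 1586 (5, false)),
    (964, .gen 786 (3, false)),
    (3401, .gen 3555 (3, false)),
    (2613, .gen 3696 (5, false)),
    (3569, .gen 2444 (5, false)),
    (2634, .gen 2444 (5, true)),
    (2905, .gen 2402 (5, false)),
    (2973, .gen 3247 (3, false)),
    (1711, .gen 2020 (3, false)),
    (979, .gen 2020 (5, false)),
    (1663, .gen 1383 (3, false)),
    (2654, .gen 2983 (3, false)),
    (3675, .gen 3745 (3, false)),
    (2409, .gen 3146 (5, false)),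
    (2379, .gen 2718 (3, false)),
    (3454, .gen 2894 (4, false)),
    (3403, .gen 3183 (3, false)),
    (2694, .gen 2571 (5, false)),
    (1860, .gen 3169 (5, false)),
    (3576, .gen 3493 (3, false)),
    (2601, .gen 1623 (5, false)),
    (3004, .gen 2680 (3, false))]

/-- The visits of node 1. -/
def visits1 : List (ℕ × Src) :=
  v1_0 ++ v1_1 ++ v1_2 ++ v1_3 ++ v1_4 ++ v1_5 ++ v1_6 ++ v1_7 ++ v1_8 ++ v1_9 ++ v1_10 ++ v1_11 ++ v1_12


end Cfsg.Agent.J4Bound.Data
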