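import Cfsg.Agent.Lib.J4Pres.Bound.Cover

/-! Data of the double coset enumeration for the presented fourth Janko group (tools/j4/bound/emitb.py). -/

set_option autoImplicit false
set_option maxRecDepth 100000
set_option maxHeartbeats 0

namespace Cfsg.Agent.J4Bound.Data

/-- Visits. -/
def v2_0 : List (ℕ × Src) :=
  [(1, .edge 8 true),
    (808, .edge 15 false),
    (2600, .edge 15 true),
    (1126, .edge 16 false),
    (21, .edge 16 true),
    (812, .edge 18 false),
    (995, .edge 19 false),
    (15, .edge 20 false),
    (2625, .edge 22 false),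
    (458, .edge 22 true),
    (3, .edge 23 false),
    (1371, .edge 37 true),
    (1642, .edge 38 true),
    (999, .edge 39 false),
    (29, .edge 40 false),
    (469, .edge 204 false),
    (992, .edge 205 false),
    (2058, .edge 215 true),
    (7, .edge 375 false),
    (6, .edge 490 false),
    (4, .edge 825 false),
    (3602, .edge 915 false),
    (3604, .edge 916 false),
    (480, .edge 1280 true),
    (398, .gen 1 (17, false)),
    (0, .gen 1 (21, false)),
    (783, .gen 1 (21, true)),
    (3226, .gen 808 (9, false)),
    (285, .gen 808 (10, false)),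
    (107, .gen 808 (13, false)),
    (301, .gen 808 (14, false)),
    (2617, .gen 808 (21, false)),
    (1852, .gen 808 (21, true)),
    (2943, .gen 2600 (10, false)),
    (1947, .gen 2600 (13, false)),
    (807, .gen 2600 (21, false)),
    (90, .gen 2600 (21, true)),
    (2976, .gen 1126 (11, false)),
    (1080, .gen 1126 (17, false)),
    (838, .gen 1126 (17, true)),
    (961, .gen 1126 (21, false)),
    (1829, .gen 1126 (21, true)),
    (1402, .gen 21 (11, false)),
    (368, .gen 21 (17, false)),
    (215, .gen 21 (17, true)),
    (3109, .gen 21 (21, false)),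
    (2013, .gen 21 (21, true)),
    (11, .gen 812 (13, false)),
    (734, .gen 812 (21, false)),
    (2925, .gen 15 (17, false)),
    (1526, .gen 15 (17, true)),
    (1308, .gen 2625 (9, false)),
    (2261, .gen 2625 (11, false)),
    (2177, .gen 2625 (17, false)),
    (3758, .gen 2625 (17, true)),
    (528, .gen 2625 (21, false)),
    (498, .gen 2625 (21, true)),
    (852, .gen 458 (9, false)),
    (72, .gen 458 (11, false)),
    (1056, .gen 458 (17, false)),
    (3765, .gen 458 (17, true)),
    (2286, .gen 458 (21, false)),
    (1817, .gen 458 (21, true)),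
    (2559, .gen 3 (9, false)),
    (511, .gen 3 (10, false)),
    (3024, .gen 3 (11, false)),
    (794, .gen 3 (12, false)),
    (1811, .gen 3 (13, false)),
    (2416, .gen 3 (14, false)),
    (1507, .gen 3 (17, false)),
    (543, .gen 3 (17, true)),
    (996, .gen 3 (21, false)),
    (562, .gen 3 (21, true)),
    (3325, .gen 1371 (9, false)),
    (3729, .gen 1371 (10, false)),
    (456, .gen 1371 (11, false)),
    (379, .gen 1371 (13, false)),
    (1696, .gen 1371 (14, false)),
    (1326, .gen 1371 (17, false)),
    (3406, .gen 1371 (21, false)),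
    (2614, .gen 1642 (9, false)),
    (238, .gen 1642 (10, false)),
    (2260, .gen 1642 (11, false)),
    (2239, .gen 1642 (13, false)),
    (712, .gen 1642 (14, false)),
    (663, .gen 1642 (17, false)),
    (1430, .gen 1642 (17, true)),
    (2448, .gen 1642 (21, false)),
    (140, .gen 1642 (21, true)),
    (1433, .gen 999 (9, false)),
    (2796, .gen 999 (10, false)),
    (2773, .gen 999 (12, false)),
    (358, .gen 999 (13, false)),
    (321, .gen 999 (14, false)),
    (3669, .gen 999 (17, true)),
    (3319, .gen 999 (21, false)),
    (923, .gen 29 (9, false)),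
    (1040, .gen 29 (10, false)),
    (175, .gen 29 (11, false)),
    (2648, .gen 29 (12, false)),
    (1169, .gen 29 (13, false)),
    (346, .gen 29 (14, false)),
    (3341, .gen 29 (17, false)),
    (865, .gen 29 (17, true)),
    (2812, .gen 29 (21, false)),
    (3002, .gen 29 (21, true)),
    (837, .gen 469 (9, false)),
    (1054, .gen 469 (10, false)),
    (135, .gen 469 (11, false)),
    (653, .gen 469 (12, false)),
    (3336, .gen 469 (17, false)),
    (1866, .gen 469 (17, true)),
    (1208, .gen 469 (21, false)),
    (1851, .gen 469 (21, true)),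
    (28, .gen 992 (9, false)),
    (1684, .gen 992 (10, false)),
    (1946, .gen 992 (11, false)),
    (115, .gen 992 (13, false)),
    (885, .gen 992 (17, false)),
    (344, .gen 992 (17, true)),
    (2948, .gen 992 (21, false)),
    (271, .gen 992 (21, true)),
    (394, .gen 2058 (9, false)),
    (1771, .gen 2058 (10, false)),
    (312, .gen 2058 (12, false)),
    (284, .gen 2058 (13, false)),
    (3384, .gen 2058 (14, false)),
    (869, .gen 2058 (17, false)),
    (3268, .gen 2058 (17, true)),
    (202, .gen 2058 (21, false)),
    (505, .gen 2058 (21, true)),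
    (476, .gen 7 (9, false)),
    (3259, .gen 7 (10, false)),
    (733, .gen 7 (11, false)),
    (3339, .gen 7 (12, false)),
    (983, .gen 7 (13, false)),
    (666, .gen 7 (14, false)),
    (766, .gen 7 (17, false)),
    (3329, .gen 7 (17, true)),
    (1847, .gen 7 (21, false)),
    (638, .gen 7 (21, true)),
    (1098, .gen 6 (9, false)),
    (1801, .gen 6 (10, false)),
    (200, .gen 6 (11, false)),
    (157, .gen 6 (12, false)),
    (2727, .gen 6 (13, false)),
    (2781, .gen 6 (14, false)),
    (1715, .gen 6 (17, false)),
    (1089, .gen 6 (17, true)),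
    (363, .gen 6 (21, false)),
    (3706, .gen 6 (21, true)),
    (1331, .gen 4 (9, false)),
    (2094, .gen 4 (10, false)),
    (2706, .gen 4 (11, false)),
    (324, .gen 4 (12, false)),
    (3688, .gen 4 (13, false)),
    (950, .gen 4 (14, false)),
    (614, .gen 4 (17, false)),
    (1272, .gen 4 (17, true)),
    (2888, .gen 4 (21, false)),
    (2157, .gen 4 (21, true)),
    (2187, .gen 3602 (9, false)),
    (1073, .gen 3602 (10, false)),
    (3221, .gen 3602 (11, false)),
    (1725, .gen 3602 (12, false)),
    (1320, .gen 3602 (13, false)),
    (2220, .gen 3602 (14, false)),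
    (3043, .gen 3602 (17, false)),
    (2928, .gen 3602 (17, true)),
    (2370, .gen 3602 (21, false)),
    (550, .gen 3602 (21, true)),
    (2587, .gen 3604 (9, false)),
    (265, .gen 3604 (10, false)),
    (2814, .gen 3604 (11, false)),
    (1013, .gen 3604 (12, false)),
    (1369, .gen 3604 (13, false)),
    (684, .gen 3604 (14, false)),
    (3697, .gen 3604 (17, false)),
    (3271, .gen 3604 (17, true)),
    (2314, .gen 3604 (21, false)),
    (748, .gen 3604 (21, true)),
    (1733, .gen 480 (9, false)),
    (2486, .gen 480 (10, false)),
    (3544, .gen 480 (11, false)),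
    (1977, .gen 480 (12, false)),
    (1256, .gen 480 (13, false)),
    (578, .gen 480 (14, false)),
    (3394, .gen 480 (17, false)),
    (2236, .gen 480 (17, true)),
    (1432, .gen 480 (21, false)),
    (935, .gen 480 (21, true)),
    (998, .gen 398 (13, false)),
    (1155, .gen 398 (21, false)),
    (2145, .gen 0 (17, false)),
    (420, .gen 0 (21, false)),
    (3449, .gen 783 (17, false)),
    (1363, .gen 285 (21, false)),
    (877, .gen 285 (21, true)),
    (106, .gen 107 (21, false)),
    (1108, .gen 107 (21, true)),
    (1455, .gen 2617 (17, false)),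
    (1885, .gen 2617 (17, true)),
    (880, .gen 1852 (17, false)),
    (3615, .gen 1852 (17, true)),
    (974, .gen 807 (17, false)),
    (3784, .gen 807 (17, true)),
    (534, .gen 90 (17, false)),
    (1712, .gen 90 (17, true)),
    (962, .gen 2976 (21, false)),
    (3592, .gen 2976 (21, true)),
    (1717, .gen 1080 (13, false)),
    (137, .gen 1080 (21, false)),
    (1262, .gen 838 (13, false)),
    (477, .gen 961 (13, false)),
    (2441, .gen 961 (21, false)),
    (8, .gen 1829 (13, false)),
    (790, .gen 368 (13, false)),
    (251, .gen 3109 (21, false)),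
    (603, .gen 1308 (11, false)),
    (3297, .gen 1308 (17, false)),
    (3302, .gen 1308 (17, true)),
    (2790, .gen 1308 (21, false)),
    (2594, .gen 1308 (21, true)),
    (3462, .gen 2261 (17, false)),
    (2033, .gen 2261 (17, true)),
    (1941, .gen 2261 (21, false)),
    (2539, .gen 2261 (21, true)),
    (616, .gen 2177 (13, false)),
    (922, .gen 2177 (17, false)),
    (1864, .gen 3758 (13, false)),
    (1973, .gen 3758 (21, false)),
    (2797, .gen 3758 (21, true)),
    (656, .gen 528 (9, false)),
    (2, .gen 528 (13, false)),
    (1940, .gen 528 (21, false)),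
    (334, .gen 498 (10, false)),
    (1579, .gen 498 (13, false)),
    (3464, .gen 498 (17, true)),
    (904, .gen 72 (21, false)),
    (611, .gen 3765 (13, false)),
    (33, .gen 3765 (21, true)),
    (2602, .gen 2286 (21, false)),
    (947, .gen 2559 (10, false)),
    (3240, .gen 2559 (11, false)),
    (343, .gen 2559 (12, false)),
    (619, .gen 2559 (13, false)),
    (1091, .gen 2559 (17, false)),
    (2016, .gen 2559 (17, true)),
    (2308, .gen 2559 (21, false)),
    (3414, .gen 2559 (21, true)),
    (3330, .gen 511 (11, false)),
    (317, .gen 511 (12, false)),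
    (300, .gen 511 (14, false)),
    (888, .gen 511 (17, false)),
    (1782, .gen 511 (17, true)),
    (2101, .gen 511 (21, false)),
    (2728, .gen 511 (21, true)),
    (2717, .gen 3024 (12, false)),
    (2031, .gen 3024 (13, false)),
    (2508, .gen 3024 (14, false)),
    (1049, .gen 3024 (17, false)),
    (494, .gen 3024 (17, true)),
    (2072, .gen 3024 (21, false)),
    (1626, .gen 3024 (21, true)),
    (1316, .gen 794 (13, false)),
    (3472, .gen 794 (14, false)),
    (538, .gen 794 (17, false)),
    (132, .gen 794 (17, true)),
    (1023, .gen 794 (21, false)),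
    (1252, .gen 794 (21, true)),
    (3459, .gen 1811 (11, false)),
    (1104, .gen 1811 (12, false)),
    (2234, .gen 1811 (17, false)),
    (432, .gen 1811 (17, true)),
    (3246, .gen 1811 (21, false)),
    (1862, .gen 1811 (21, true)),
    (1948, .gen 2416 (11, false)),
    (2316, .gen 2416 (17, false)),
    (2214, .gen 2416 (17, true)),
    (599, .gen 2416 (21, false)),
    (1945, .gen 2416 (21, true)),
    (1581, .gen 1507 (13, false)),
    (3037, .gen 1507 (17, false)),
    (2962, .gen 1507 (21, false)),
    (3580, .gen 1507 (21, true)),
    (3757, .gen 543 (13, false)),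
    (641, .gen 543 (14, false)),
    (244, .gen 996 (10, false)),
    (3009, .gen 996 (11, false)),
    (3156, .gen 996 (12, false)),
    (3725, .gen 996 (13, false)),
    (461, .gen 996 (14, false)),
    (3408, .gen 996 (17, false)),
    (1346, .gen 996 (17, true)),
    (3186, .gen 996 (21, false)),
    (1062, .gen 562 (9, false)),
    (3574, .gen 562 (10, false)),
    (1293, .gen 562 (11, false)),
    (1124, .gen 562 (12, false)),
    (2957, .gen 562 (13, false))]

/-- Visits. -/
def v2_1 : List (ℕ × Src) :=
  [(3566, .gen 562 (14, false)),
    (1671, .gen 3325 (10, false)),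
    (448, .gen 3325 (11, false)),
    (1545, .gen 3325 (14, false)),
    (1877, .gen 3325 (21, true)),
    (2485, .gen 3729 (13, false)),
    (3013, .gen 3729 (17, false)),
    (2198, .gen 456 (17, false)),
    (2813, .gen 379 (17, false)),
    (1413, .gen 2614 (13, false)),
    (2714, .gen 2614 (21, false)),
    (304, .gen 2614 (21, true)),
    (283, .gen 238 (13, false)),
    (3705, .gen 238 (17, false)),
    (1024, .gen 238 (21, false)),
    (110, .gen 238 (21, true)),
    (652, .gen 2260 (13, false)),
    (176, .gen 2260 (21, false)),
    (597, .gen 2260 (21, true)),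
    (2843, .gen 2239 (14, false)),
    (1750, .gen 2239 (17, false)),
    (3049, .gen 2239 (17, true)),
    (450, .gen 2239 (21, false)),
    (2673, .gen 2239 (21, true)),
    (113, .gen 712 (13, false)),
    (804, .gen 712 (21, false)),
    (1632, .gen 712 (21, true)),
    (2167, .gen 663 (13, false)),
    (768, .gen 663 (21, false)),
    (1350, .gen 663 (21, true)),
    (297, .gen 1430 (13, false)),
    (2757, .gen 1430 (21, false)),
    (445, .gen 1430 (21, true)),
    (323, .gen 2448 (10, false)),
    (1112, .gen 2448 (11, false)),
    (2584, .gen 2448 (17, false)),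
    (1602, .gen 2448 (17, true)),
    (162, .gen 140 (11, false)),
    (2343, .gen 140 (12, false)),
    (2454, .gen 140 (17, false)),
    (1618, .gen 140 (17, true)),
    (2629, .gen 1433 (10, false)),
    (3328, .gen 1433 (13, false)),
    (775, .gen 1433 (17, true)),
    (3756, .gen 2796 (12, false)),
    (3561, .gen 2796 (14, false)),
    (2808, .gen 2796 (17, true)),
    (1953, .gen 2773 (21, true)),
    (3194, .gen 358 (21, false)),
    (1370, .gen 923 (12, false)),
    (2269, .gen 923 (13, false)),
    (434, .gen 923 (14, false)),
    (3395, .gen 923 (17, false)),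
    (2437, .gen 923 (17, true)),
    (1962, .gen 923 (21, false)),
    (1936, .gen 923 (21, true)),
    (969, .gen 1040 (12, false)),
    (1418, .gen 1040 (13, false)),
    (2336, .gen 1040 (14, false)),
    (1057, .gen 1040 (17, false)),
    (3549, .gen 1040 (17, true)),
    (1698, .gen 1040 (21, false)),
    (1943, .gen 1040 (21, true)),
    (2024, .gen 175 (12, false)),
    (2609, .gen 175 (13, false)),
    (702, .gen 175 (14, false)),
    (2776, .gen 175 (17, false)),
    (3091, .gen 175 (17, true)),
    (3373, .gen 175 (21, false)),
    (444, .gen 175 (21, true)),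
    (457, .gen 2648 (13, false)),
    (1610, .gen 2648 (14, false)),
    (2492, .gen 2648 (21, false)),
    (1276, .gen 2648 (21, true)),
    (521, .gen 1169 (12, false)),
    (3366, .gen 1169 (14, false)),
    (571, .gen 1169 (17, true)),
    (3490, .gen 1169 (21, false)),
    (1896, .gen 1169 (21, true)),
    (111, .gen 346 (11, false)),
    (449, .gen 346 (13, false)),
    (1673, .gen 346 (17, false)),
    (2385, .gen 346 (17, true)),
    (585, .gen 346 (21, false)),
    (1237, .gen 346 (21, true)),
    (2424, .gen 3341 (13, false)),
    (470, .gen 3341 (14, false)),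
    (2601, .gen 3341 (21, false)),
    (57, .gen 3341 (21, true)),
    (1191, .gen 865 (13, false)),
    (3276, .gen 865 (14, false)),
    (378, .gen 865 (21, false)),
    (1882, .gen 865 (21, true)),
    (2398, .gen 2812 (9, false)),
    (412, .gen 2812 (10, false)),
    (629, .gen 2812 (11, false)),
    (2840, .gen 2812 (12, false)),
    (2512, .gen 2812 (14, false)),
    (1232, .gen 2812 (17, false)),
    (1139, .gen 2812 (17, true)),
    (3285, .gen 2812 (21, false)),
    (526, .gen 3002 (9, false)),
    (2319, .gen 3002 (10, false)),
    (828, .gen 3002 (11, false)),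
    (69, .gen 3002 (12, false)),
    (2655, .gen 3002 (14, false)),
    (833, .gen 3002 (17, false)),
    (830, .gen 3002 (17, true)),
    (1211, .gen 837 (10, false)),
    (171, .gen 837 (11, false)),
    (371, .gen 837 (12, false)),
    (217, .gen 837 (17, false)),
    (2285, .gen 837 (17, true)),
    (672, .gen 837 (21, false)),
    (1483, .gen 837 (21, true)),
    (1172, .gen 1054 (11, false)),
    (506, .gen 1054 (12, false)),
    (245, .gen 1054 (17, false)),
    (909, .gen 1054 (17, true)),
    (20, .gen 1054 (21, false)),
    (1487, .gen 1054 (21, true)),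
    (1300, .gen 135 (12, false)),
    (1639, .gen 135 (13, false)),
    (2405, .gen 135 (17, false)),
    (170, .gen 135 (17, true)),
    (174, .gen 135 (21, false)),
    (3094, .gen 135 (21, true)),
    (1949, .gen 653 (13, false)),
    (2294, .gen 653 (17, false)),
    (1568, .gen 653 (17, true)),
    (525, .gen 653 (21, false)),
    (3138, .gen 653 (21, true)),
    (1150, .gen 3336 (13, false)),
    (1072, .gen 3336 (17, false)),
    (556, .gen 3336 (21, false)),
    (3199, .gen 3336 (21, true)),
    (261, .gen 1866 (13, false)),
    (3387, .gen 1866 (21, false)),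
    (3201, .gen 1208 (10, false)),
    (314, .gen 1208 (11, false)),
    (23, .gen 1208 (12, false)),
    (908, .gen 1208 (13, false)),
    (1401, .gen 1208 (14, false)),
    (570, .gen 1208 (17, false)),
    (816, .gen 1208 (17, true)),
    (1171, .gen 1208 (21, false)),
    (2507, .gen 1851 (9, false)),
    (89, .gen 1851 (10, false)),
    (377, .gen 1851 (12, false)),
    (1279, .gen 1851 (13, false)),
    (2111, .gen 1851 (14, false)),
    (1511, .gen 1851 (17, false)),
    (1109, .gen 28 (13, false)),
    (138, .gen 28 (17, false)),
    (272, .gen 28 (17, true)),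
    (1071, .gen 28 (21, false)),
    (3275, .gen 28 (21, true)),
    (45, .gen 1684 (13, false)),
    (134, .gen 1684 (21, false)),
    (2896, .gen 1684 (21, true)),
    (1345, .gen 1946 (13, false)),
    (223, .gen 1946 (21, false)),
    (55, .gen 1946 (21, true)),
    (1393, .gen 115 (17, false)),
    (811, .gen 115 (21, false)),
    (341, .gen 115 (21, true)),
    (2564, .gen 885 (13, false)),
    (678, .gen 885 (21, false)),
    (1120, .gen 885 (21, true)),
    (2560, .gen 344 (13, false)),
    (896, .gen 344 (21, false)),
    (2985, .gen 344 (21, true)),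
    (2915, .gen 2948 (17, false)),
    (1464, .gen 2948 (17, true)),
    (2724, .gen 2948 (21, false)),
    (1799, .gen 271 (17, false)),
    (3324, .gen 271 (17, true)),
    (2949, .gen 394 (10, false)),
    (1404, .gen 394 (12, false)),
    (3255, .gen 394 (13, false)),
    (3778, .gen 394 (14, false)),
    (1925, .gen 394 (17, false)),
    (1695, .gen 394 (17, true)),
    (229, .gen 394 (21, false)),
    (1509, .gen 394 (21, true)),
    (829, .gen 1771 (12, false)),
    (3078, .gen 1771 (13, false)),
    (2889, .gen 1771 (14, false)),
    (1336, .gen 1771 (17, false)),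
    (3454, .gen 1771 (17, true)),
    (3039, .gen 1771 (21, false)),
    (3364, .gen 1771 (21, true)),
    (1372, .gen 312 (13, false)),
    (1355, .gen 312 (14, false)),
    (2676, .gen 312 (21, false)),
    (331, .gen 312 (21, true)),
    (1306, .gen 284 (12, false)),
    (763, .gen 284 (14, false)),
    (786, .gen 284 (17, false)),
    (3670, .gen 284 (17, true)),
    (3573, .gen 284 (21, false)),
    (1528, .gen 284 (21, true)),
    (3623, .gen 3384 (13, false)),
    (3438, .gen 3384 (17, false)),
    (121, .gen 3384 (17, true)),
    (2237, .gen 3384 (21, false)),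
    (1857, .gen 3384 (21, true)),
    (1908, .gen 869 (13, false)),
    (161, .gen 869 (21, false)),
    (2936, .gen 869 (21, true)),
    (2656, .gen 3268 (14, false)),
    (1265, .gen 3268 (21, false)),
    (237, .gen 3268 (21, true)),
    (60, .gen 202 (9, false)),
    (19, .gen 202 (10, false)),
    (1099, .gen 202 (12, false)),
    (1707, .gen 202 (13, false)),
    (3103, .gen 202 (14, false)),
    (3020, .gen 202 (17, false)),
    (3737, .gen 202 (17, true)),
    (2438, .gen 505 (9, false)),
    (2827, .gen 505 (10, false)),
    (2847, .gen 505 (11, false)),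
    (1928, .gen 505 (12, false)),
    (519, .gen 505 (13, false)),
    (3179, .gen 505 (14, false)),
    (2922, .gen 505 (17, false)),
    (2046, .gen 505 (17, true)),
    (2989, .gen 476 (10, false)),
    (1359, .gen 476 (11, false)),
    (3545, .gen 476 (12, false)),
    (929, .gen 476 (13, false)),
    (536, .gen 476 (14, false)),
    (3613, .gen 476 (17, false)),
    (3363, .gen 476 (17, true)),
    (2320, .gen 476 (21, false)),
    (3036, .gen 476 (21, true)),
    (1636, .gen 3259 (11, false)),
    (2137, .gen 3259 (12, false)),
    (3277, .gen 3259 (13, false)),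
    (2280, .gen 3259 (14, false)),
    (836, .gen 3259 (17, false)),
    (2360, .gen 3259 (17, true)),
    (854, .gen 3259 (21, false)),
    (727, .gen 3259 (21, true)),
    (1615, .gen 733 (13, false)),
    (2721, .gen 733 (14, false)),
    (3595, .gen 733 (17, false)),
    (803, .gen 733 (17, true)),
    (3526, .gen 733 (21, false)),
    (1591, .gen 733 (21, true)),
    (2669, .gen 3339 (13, false)),
    (942, .gen 3339 (14, false)),
    (2354, .gen 3339 (17, false)),
    (2445, .gen 3339 (17, true)),
    (710, .gen 3339 (21, false)),
    (606, .gen 3339 (21, true)),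
    (421, .gen 983 (14, false)),
    (1431, .gen 983 (21, false)),
    (1100, .gen 983 (21, true)),
    (2789, .gen 666 (11, false)),
    (399, .gen 666 (13, false)),
    (3567, .gen 666 (17, false)),
    (3479, .gen 666 (17, true)),
    (1942, .gen 666 (21, false)),
    (2819, .gen 666 (21, true)),
    (3028, .gen 766 (13, false)),
    (1253, .gen 766 (14, false)),
    (340, .gen 766 (21, false)),
    (2668, .gen 766 (21, true)),
    (3101, .gen 3329 (13, false)),
    (1822, .gen 3329 (14, false)),
    (1595, .gen 3329 (21, false)),
    (1274, .gen 3329 (21, true)),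
    (460, .gen 1847 (9, false)),
    (468, .gen 1847 (10, false)),
    (70, .gen 1847 (11, false)),
    (546, .gen 1847 (12, false)),
    (967, .gen 1847 (13, false)),
    (3220, .gen 1847 (14, false)),
    (878, .gen 1847 (17, false)),
    (2475, .gen 1847 (17, true)),
    (1066, .gen 1847 (21, false)),
    (16, .gen 638 (9, false)),
    (2862, .gen 638 (10, false)),
    (1266, .gen 638 (11, false)),
    (12, .gen 638 (12, false)),
    (3660, .gen 638 (13, false)),
    (2967, .gen 638 (14, false)),
    (2132, .gen 638 (17, false)),
    (2615, .gen 638 (17, true)),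
    (1003, .gen 1098 (10, false)),
    (1034, .gen 1098 (11, false)),
    (847, .gen 1098 (12, false)),
    (375, .gen 1098 (13, false)),
    (1883, .gen 1098 (14, false)),
    (3243, .gen 1098 (17, false)),
    (1259, .gen 1098 (17, true)),
    (1429, .gen 1098 (21, false)),
    (1101, .gen 1098 (21, true))]

/-- Visits. -/
def v2_2 : List (ℕ × Src) :=
  [(257, .gen 1801 (11, false)),
    (2113, .gen 1801 (12, false)),
    (1222, .gen 1801 (13, false)),
    (96, .gen 1801 (14, false)),
    (2009, .gen 1801 (17, false)),
    (701, .gen 1801 (17, true)),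
    (2412, .gen 1801 (21, false)),
    (1412, .gen 1801 (21, true)),
    (27, .gen 200 (12, false)),
    (622, .gen 200 (13, false)),
    (2338, .gen 200 (14, false)),
    (2210, .gen 200 (17, false)),
    (2307, .gen 200 (17, true)),
    (3560, .gen 200 (21, false)),
    (1247, .gen 200 (21, true)),
    (1358, .gen 157 (13, false)),
    (1807, .gen 157 (14, false)),
    (1321, .gen 157 (17, false)),
    (2471, .gen 157 (17, true)),
    (711, .gen 157 (21, false)),
    (1861, .gen 157 (21, true)),
    (814, .gen 2727 (11, false)),
    (3214, .gen 2727 (12, false)),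
    (1205, .gen 2727 (14, false)),
    (1679, .gen 2727 (17, false)),
    (50, .gen 2727 (17, true)),
    (2756, .gen 2727 (21, false)),
    (587, .gen 2727 (21, true)),
    (1702, .gen 2781 (11, false)),
    (2546, .gen 2781 (13, false)),
    (1356, .gen 2781 (17, false)),
    (373, .gen 2781 (17, true)),
    (2326, .gen 2781 (21, false)),
    (3539, .gen 2781 (21, true)),
    (2264, .gen 1715 (13, false)),
    (725, .gen 1715 (14, false)),
    (466, .gen 1715 (17, false)),
    (1709, .gen 1715 (21, false)),
    (414, .gen 1715 (21, true)),
    (219, .gen 1089 (13, false)),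
    (901, .gen 1089 (14, false)),
    (575, .gen 1089 (21, false)),
    (1617, .gen 1089 (21, true)),
    (357, .gen 363 (9, false)),
    (404, .gen 363 (10, false)),
    (2281, .gen 363 (11, false)),
    (2798, .gen 363 (12, false)),
    (2191, .gen 363 (13, false)),
    (648, .gen 363 (14, false)),
    (2002, .gen 363 (17, false)),
    (749, .gen 363 (17, true)),
    (3348, .gen 363 (21, false)),
    (1984, .gen 3706 (9, false)),
    (3055, .gen 3706 (10, false)),
    (2392, .gen 3706 (11, false)),
    (2032, .gen 3706 (12, false)),
    (1456, .gen 3706 (13, false)),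
    (3467, .gen 3706 (14, false)),
    (1651, .gen 3706 (17, false)),
    (2468, .gen 3706 (17, true)),
    (3417, .gen 1331 (10, false)),
    (3308, .gen 1331 (11, false)),
    (130, .gen 1331 (12, false)),
    (319, .gen 1331 (13, false)),
    (3514, .gen 1331 (14, false)),
    (212, .gen 1331 (17, false)),
    (167, .gen 1331 (17, true)),
    (823, .gen 1331 (21, false)),
    (1127, .gen 1331 (21, true)),
    (201, .gen 2094 (11, false)),
    (3516, .gen 2094 (12, false)),
    (3770, .gen 2094 (13, false)),
    (2848, .gen 2094 (14, false)),
    (1544, .gen 2094 (17, false)),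
    (719, .gen 2094 (17, true)),
    (3249, .gen 2094 (21, false)),
    (2121, .gen 2094 (21, true)),
    (3611, .gen 2706 (12, false)),
    (267, .gen 2706 (13, false)),
    (2880, .gen 2706 (14, false)),
    (214, .gen 2706 (17, false)),
    (2396, .gen 2706 (17, true)),
    (2878, .gen 2706 (21, false)),
    (1630, .gen 2706 (21, true)),
    (2701, .gen 324 (13, false)),
    (2794, .gen 324 (14, false)),
    (1206, .gen 324 (17, false)),
    (1865, .gen 324 (17, true)),
    (2616, .gen 324 (21, false)),
    (1271, .gen 324 (21, true)),
    (3622, .gen 3688 (11, false)),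
    (3097, .gen 3688 (12, false)),
    (3107, .gen 3688 (14, false)),
    (1192, .gen 3688 (17, true)),
    (1699, .gen 3688 (21, false)),
    (3633, .gen 3688 (21, true)),
    (1849, .gen 950 (11, false)),
    (1785, .gen 950 (13, false)),
    (3057, .gen 950 (17, false)),
    (911, .gen 950 (17, true)),
    (1307, .gen 950 (21, false)),
    (1281, .gen 950 (21, true)),
    (3301, .gen 614 (13, false)),
    (690, .gen 614 (14, false)),
    (2154, .gen 614 (17, false)),
    (2081, .gen 614 (21, false)),
    (1792, .gen 614 (21, true)),
    (192, .gen 1272 (13, false)),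
    (386, .gen 1272 (14, false)),
    (1624, .gen 1272 (21, false)),
    (2162, .gen 1272 (21, true)),
    (1796, .gen 2888 (9, false)),
    (1621, .gen 2888 (11, false)),
    (2865, .gen 2888 (12, false)),
    (2487, .gen 2888 (14, false)),
    (3555, .gen 2888 (17, false)),
    (3667, .gen 2888 (17, true)),
    (1195, .gen 2888 (21, false)),
    (2455, .gen 2157 (9, false)),
    (1547, .gen 2157 (10, false)),
    (2921, .gen 2157 (11, false)),
    (1523, .gen 2157 (12, false)),
    (1906, .gen 2157 (13, false)),
    (1459, .gen 2157 (14, false)),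
    (1781, .gen 2157 (17, false)),
    (1649, .gen 2157 (17, true)),
    (3691, .gen 2187 (10, false)),
    (263, .gen 2187 (11, false)),
    (17, .gen 2187 (12, false)),
    (3100, .gen 2187 (13, false)),
    (2077, .gen 2187 (14, false)),
    (159, .gen 2187 (17, false)),
    (318, .gen 2187 (17, true)),
    (1160, .gen 2187 (21, false)),
    (517, .gen 2187 (21, true)),
    (2014, .gen 1073 (11, false)),
    (2243, .gen 1073 (12, false)),
    (3579, .gen 1073 (13, false)),
    (1313, .gen 1073 (14, false)),
    (2381, .gen 1073 (17, false)),
    (2062, .gen 1073 (17, true)),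
    (177, .gen 1073 (21, false)),
    (1388, .gen 1073 (21, true)),
    (1688, .gen 3221 (12, false)),
    (31, .gen 3221 (13, false)),
    (3145, .gen 3221 (14, false)),
    (325, .gen 3221 (17, false)),
    (1296, .gen 3221 (17, true)),
    (3732, .gen 3221 (21, false)),
    (785, .gen 3221 (21, true)),
    (79, .gen 1725 (13, false)),
    (2368, .gen 1725 (14, false)),
    (1246, .gen 1725 (17, false)),
    (1075, .gen 1725 (17, true)),
    (3535, .gen 1725 (21, false)),
    (2980, .gen 1725 (21, true)),
    (696, .gen 1320 (11, false)),
    (1597, .gen 1320 (12, false)),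
    (3332, .gen 1320 (14, false)),
    (1614, .gen 1320 (17, false)),
    (1016, .gen 1320 (17, true)),
    (1207, .gen 1320 (21, false)),
    (535, .gen 1320 (21, true)),
    (2686, .gen 2220 (11, false)),
    (1096, .gen 2220 (13, false)),
    (58, .gen 2220 (17, false)),
    (3350, .gen 2220 (17, true)),
    (1479, .gen 2220 (21, false)),
    (1681, .gen 2220 (21, true)),
    (3316, .gen 3043 (14, false)),
    (864, .gen 3043 (17, false)),
    (1794, .gen 3043 (21, false)),
    (1919, .gen 2928 (13, false)),
    (941, .gen 2928 (14, false)),
    (3645, .gen 2928 (21, false)),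
    (626, .gen 2928 (21, true)),
    (2891, .gen 2370 (9, false)),
    (820, .gen 2370 (10, false)),
    (2910, .gen 2370 (11, false)),
    (2877, .gen 2370 (12, false)),
    (3668, .gen 2370 (14, false)),
    (654, .gen 2370 (17, false)),
    (718, .gen 2370 (17, true)),
    (1114, .gen 2370 (21, false)),
    (2571, .gen 550 (9, false)),
    (3110, .gen 550 (10, false)),
    (1580, .gen 550 (11, false)),
    (2149, .gen 550 (12, false)),
    (2501, .gen 550 (13, false)),
    (2491, .gen 550 (14, false)),
    (2164, .gen 550 (17, false)),
    (679, .gen 550 (17, true)),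
    (2134, .gen 2587 (10, false)),
    (2125, .gen 2587 (11, false)),
    (1814, .gen 2587 (12, false)),
    (2984, .gen 2587 (13, false)),
    (2231, .gen 2587 (14, false)),
    (2850, .gen 2587 (17, false)),
    (2003, .gen 2587 (17, true)),
    (2988, .gen 2587 (21, false)),
    (720, .gen 2587 (21, true)),
    (2525, .gen 265 (11, false)),
    (2374, .gen 265 (12, false)),
    (328, .gen 265 (13, false)),
    (1469, .gen 265 (14, false)),
    (3586, .gen 265 (17, false)),
    (3269, .gen 265 (17, true)),
    (765, .gen 265 (21, false)),
    (429, .gen 265 (21, true)),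
    (349, .gen 2814 (12, false)),
    (1931, .gen 2814 (13, false)),
    (2934, .gen 2814 (14, false)),
    (1527, .gen 2814 (17, false)),
    (3300, .gen 2814 (17, true)),
    (764, .gen 2814 (21, false)),
    (2383, .gen 2814 (21, true)),
    (1153, .gen 1013 (13, false)),
    (427, .gen 1013 (14, false)),
    (1600, .gen 1013 (17, false)),
    (2160, .gen 1013 (17, true)),
    (736, .gen 1013 (21, false)),
    (2869, .gen 1013 (21, true)),
    (1718, .gen 1369 (11, false)),
    (1650, .gen 1369 (12, false)),
    (1730, .gen 1369 (14, false)),
    (1471, .gen 1369 (17, false)),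
    (1273, .gen 1369 (17, true)),
    (2521, .gen 1369 (21, false)),
    (1620, .gen 1369 (21, true)),
    (2613, .gen 684 (11, false)),
    (507, .gen 684 (13, false)),
    (3381, .gen 684 (17, false)),
    (2226, .gen 684 (17, true)),
    (3380, .gen 684 (21, false)),
    (860, .gen 684 (21, true)),
    (3248, .gen 3697 (13, false)),
    (3386, .gen 3697 (14, false)),
    (2027, .gen 3697 (17, false)),
    (753, .gen 3697 (21, false)),
    (2804, .gen 3697 (21, true)),
    (1603, .gen 3271 (13, false)),
    (1329, .gen 3271 (14, false)),
    (1014, .gen 3271 (21, false)),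
    (3771, .gen 3271 (21, true)),
    (2591, .gen 2314 (9, false)),
    (1964, .gen 2314 (10, false)),
    (1255, .gen 2314 (11, false)),
    (3403, .gen 2314 (12, false)),
    (3761, .gen 2314 (13, false)),
    (3343, .gen 2314 (14, false)),
    (173, .gen 2314 (17, false)),
    (2122, .gen 2314 (17, true)),
    (849, .gen 2314 (21, false)),
    (1238, .gen 748 (9, false)),
    (1970, .gen 748 (10, false)),
    (1209, .gen 748 (11, false)),
    (2547, .gen 748 (12, false)),
    (2747, .gen 748 (13, false)),
    (1111, .gen 748 (14, false)),
    (3719, .gen 748 (17, false)),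
    (243, .gen 748 (17, true)),
    (472, .gen 1733 (10, false)),
    (3745, .gen 1733 (11, false)),
    (613, .gen 1733 (12, false)),
    (2102, .gen 1733 (13, false)),
    (1348, .gen 1733 (14, false)),
    (1374, .gen 1733 (17, false)),
    (2098, .gen 1733 (17, true)),
    (1992, .gen 1733 (21, false)),
    (1017, .gen 1733 (21, true)),
    (1894, .gen 2486 (11, false)),
    (2914, .gen 2486 (12, false)),
    (2063, .gen 2486 (13, false)),
    (2310, .gen 2486 (14, false)),
    (1226, .gen 2486 (17, false)),
    (2520, .gen 2486 (17, true)),
    (2624, .gen 2486 (21, false)),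
    (3133, .gen 2486 (21, true)),
    (2991, .gen 3544 (12, false)),
    (2951, .gen 3544 (13, false)),
    (3313, .gen 3544 (14, false)),
    (3158, .gen 3544 (17, false)),
    (2554, .gen 3544 (17, true)),
    (2378, .gen 3544 (21, false)),
    (2044, .gen 3544 (21, true)),
    (3326, .gen 1977 (13, false)),
    (1607, .gen 1977 (14, false)),
    (3755, .gen 1977 (17, false)),
    (3724, .gen 1977 (17, true)),
    (2330, .gen 1977 (21, false)),
    (3412, .gen 1977 (21, true)),
    (2713, .gen 1256 (11, false)),
    (288, .gen 1256 (12, false)),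
    (3310, .gen 1256 (14, false)),
    (1184, .gen 1256 (17, false)),
    (533, .gen 1256 (17, true)),
    (1092, .gen 1256 (21, false)),
    (1381, .gen 1256 (21, true)),
    (3396, .gen 578 (11, false)),
    (1812, .gen 578 (13, false))]

/-- Visits. -/
def v2_3 : List (ℕ × Src) :=
  [(1804, .gen 578 (17, false)),
    (2876, .gen 578 (17, true)),
    (125, .gen 578 (21, false)),
    (3401, .gen 578 (21, true)),
    (2110, .gen 3394 (14, false)),
    (893, .gen 3394 (17, false)),
    (3227, .gen 3394 (21, false)),
    (867, .gen 3394 (21, true)),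
    (1854, .gen 2236 (13, false)),
    (342, .gen 2236 (21, false)),
    (1224, .gen 2236 (21, true)),
    (2607, .gen 1432 (9, false)),
    (502, .gen 1432 (10, false)),
    (1536, .gen 1432 (11, false)),
    (133, .gen 1432 (12, false)),
    (464, .gen 1432 (13, false)),
    (112, .gen 1432 (14, false)),
    (221, .gen 1432 (17, false)),
    (2966, .gen 1432 (17, true)),
    (2092, .gen 1432 (21, false)),
    (659, .gen 935 (9, false)),
    (2038, .gen 935 (10, false)),
    (2762, .gen 935 (11, false)),
    (1493, .gen 935 (13, false)),
    (443, .gen 935 (14, false)),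
    (2575, .gen 935 (17, false)),
    (2710, .gen 935 (17, true)),
    (419, .gen 998 (21, false)),
    (2270, .gen 1155 (17, false)),
    (3260, .gen 1155 (17, true)),
    (2647, .gen 962 (21, false)),
    (745, .gen 1717 (17, false)),
    (709, .gen 603 (21, true)),
    (2558, .gen 3302 (13, false)),
    (10, .gen 2790 (21, false)),
    (446, .gen 2594 (13, false)),
    (150, .gen 3462 (13, false)),
    (3167, .gen 1941 (21, false)),
    (1133, .gen 616 (17, false)),
    (3389, .gen 1864 (17, true)),
    (3506, .gen 1973 (17, false)),
    (381, .gen 2797 (17, true)),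
    (2941, .gen 947 (11, false)),
    (426, .gen 947 (12, false)),
    (840, .gen 947 (17, false)),
    (1065, .gen 947 (17, true)),
    (26, .gen 947 (21, false)),
    (799, .gen 3240 (14, false)),
    (3195, .gen 3240 (21, false)),
    (1249, .gen 3240 (21, true)),
    (190, .gen 343 (21, false)),
    (2372, .gen 343 (21, true)),
    (3624, .gen 619 (11, false)),
    (1389, .gen 619 (12, false)),
    (2457, .gen 619 (17, false)),
    (2040, .gen 619 (17, true)),
    (198, .gen 619 (21, false)),
    (1033, .gen 619 (21, true)),
    (1106, .gen 1091 (13, false)),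
    (2366, .gen 1091 (21, false)),
    (3497, .gen 1091 (21, true)),
    (1026, .gen 2016 (14, false)),
    (2860, .gen 2016 (21, true)),
    (273, .gen 2308 (10, false)),
    (968, .gen 2308 (13, false)),
    (3280, .gen 2308 (14, false)),
    (1531, .gen 2308 (17, false)),
    (1143, .gen 2308 (21, false)),
    (3044, .gen 3414 (12, false)),
    (2897, .gen 3414 (13, false)),
    (2202, .gen 3414 (17, true)),
    (3357, .gen 3330 (12, false)),
    (3200, .gen 3330 (14, false)),
    (740, .gen 3330 (17, true)),
    (630, .gen 317 (17, false)),
    (3354, .gen 317 (17, true)),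
    (3603, .gen 317 (21, true)),
    (2829, .gen 300 (17, false)),
    (2183, .gen 300 (17, true)),
    (608, .gen 888 (13, false)),
    (2362, .gen 888 (17, false)),
    (2235, .gen 888 (21, false)),
    (3717, .gen 888 (21, true)),
    (1220, .gen 1782 (13, false)),
    (3656, .gen 1782 (14, false)),
    (1310, .gen 2101 (11, false)),
    (3027, .gen 2101 (17, true)),
    (3284, .gen 2101 (21, false)),
    (2894, .gen 2728 (13, false)),
    (1292, .gen 2717 (21, false)),
    (3790, .gen 2031 (12, false)),
    (2272, .gen 2031 (17, false)),
    (1472, .gen 2031 (17, true)),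
    (707, .gen 2031 (21, false)),
    (1645, .gen 2508 (21, false)),
    (141, .gen 2508 (21, true)),
    (3080, .gen 1049 (13, false)),
    (3693, .gen 494 (13, false)),
    (1633, .gen 494 (14, false)),
    (2694, .gen 494 (21, false)),
    (569, .gen 2072 (9, false)),
    (2667, .gen 2072 (10, false)),
    (3598, .gen 2072 (12, false)),
    (2782, .gen 2072 (14, false)),
    (2131, .gen 2072 (21, false)),
    (2296, .gen 1626 (10, false)),
    (37, .gen 1626 (12, false)),
    (1263, .gen 1626 (14, false)),
    (1826, .gen 1316 (17, false)),
    (1855, .gen 538 (13, false)),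
    (1515, .gen 538 (14, false)),
    (1960, .gen 1023 (13, false)),
    (2942, .gen 1023 (21, false)),
    (144, .gen 1252 (13, false)),
    (1154, .gen 2234 (13, false)),
    (1481, .gen 2234 (21, false)),
    (2553, .gen 2234 (21, true)),
    (3434, .gen 3246 (21, false)),
    (3174, .gen 1862 (13, false)),
    (1939, .gen 1948 (21, false)),
    (1030, .gen 1948 (21, true)),
    (3378, .gen 2316 (13, false)),
    (1221, .gen 2316 (21, true)),
    (2671, .gen 599 (21, false)),
    (1486, .gen 1581 (12, false)),
    (1916, .gen 1581 (14, false)),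
    (1499, .gen 1581 (17, false)),
    (3318, .gen 1581 (17, true)),
    (1873, .gen 1581 (21, false)),
    (1178, .gen 3037 (21, false)),
    (3591, .gen 2962 (12, false)),
    (3410, .gen 2962 (14, false)),
    (2755, .gen 2962 (17, false)),
    (1648, .gen 2962 (17, true)),
    (2070, .gen 3580 (14, false)),
    (949, .gen 3580 (17, false)),
    (3144, .gen 3580 (17, true)),
    (2730, .gen 3757 (17, false)),
    (3102, .gen 3757 (17, true)),
    (2917, .gen 244 (13, false)),
    (579, .gen 244 (21, false)),
    (1982, .gen 3009 (21, false)),
    (44, .gen 3725 (21, false)),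
    (2663, .gen 461 (21, false)),
    (2026, .gen 1346 (21, true)),
    (326, .gen 3186 (9, false)),
    (2161, .gen 3186 (11, false)),
    (1125, .gen 3186 (17, false)),
    (2658, .gen 1293 (21, true)),
    (531, .gen 2957 (21, true)),
    (38, .gen 1413 (17, false)),
    (95, .gen 1413 (17, true)),
    (482, .gen 1413 (21, false)),
    (397, .gen 1413 (21, true)),
    (559, .gen 2714 (11, false)),
    (3182, .gen 2714 (17, false)),
    (3658, .gen 2714 (17, true)),
    (2930, .gen 304 (11, false)),
    (3257, .gen 304 (17, false)),
    (2741, .gen 304 (17, true)),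
    (2541, .gen 283 (21, false)),
    (1408, .gen 283 (21, true)),
    (695, .gen 1024 (11, false)),
    (1937, .gen 1024 (17, false)),
    (591, .gen 1024 (17, true)),
    (532, .gen 110 (11, false)),
    (1343, .gen 110 (17, false)),
    (415, .gen 110 (17, true)),
    (1468, .gen 652 (21, false)),
    (939, .gen 652 (21, true)),
    (2538, .gen 176 (11, false)),
    (724, .gen 176 (17, false)),
    (994, .gen 176 (17, true)),
    (2238, .gen 597 (11, false)),
    (1987, .gen 597 (17, false)),
    (1068, .gen 597 (17, true)),
    (270, .gen 2843 (17, false)),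
    (85, .gen 1750 (13, false)),
    (213, .gen 1750 (14, false)),
    (2946, .gen 3049 (13, false)),
    (3675, .gen 450 (17, false)),
    (2775, .gen 450 (17, true)),
    (649, .gen 450 (21, false)),
    (1230, .gen 2673 (17, false)),
    (1353, .gen 2673 (17, true)),
    (2998, .gen 113 (17, false)),
    (1151, .gen 804 (17, false)),
    (2148, .gen 804 (17, true)),
    (163, .gen 1632 (17, false)),
    (3154, .gen 1632 (17, true)),
    (3125, .gen 768 (17, false)),
    (3333, .gen 768 (17, true)),
    (68, .gen 297 (17, false)),
    (3752, .gen 2757 (17, false)),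
    (1662, .gen 2757 (17, true)),
    (61, .gen 445 (17, false)),
    (2737, .gen 445 (17, true)),
    (3762, .gen 1112 (21, false)),
    (1494, .gen 1602 (13, false)),
    (826, .gen 162 (21, true)),
    (1386, .gen 2343 (17, false)),
    (417, .gen 1370 (13, false)),
    (1330, .gen 1370 (14, false)),
    (1734, .gen 1370 (21, false)),
    (1152, .gen 1370 (21, true)),
    (1659, .gen 2269 (14, false)),
    (2057, .gen 2269 (21, false)),
    (1805, .gen 2269 (21, true)),
    (2006, .gen 434 (11, false)),
    (1565, .gen 434 (13, false)),
    (3190, .gen 434 (17, true)),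
    (303, .gen 434 (21, true)),
    (913, .gen 3395 (13, false)),
    (333, .gen 3395 (21, true)),
    (3202, .gen 2437 (13, false)),
    (3108, .gen 2437 (14, false)),
    (2636, .gen 2437 (21, false)),
    (2386, .gen 2437 (21, true)),
    (793, .gen 1962 (10, false)),
    (925, .gen 1962 (11, false)),
    (3432, .gen 1962 (12, false)),
    (1227, .gen 1962 (14, false)),
    (1286, .gen 1962 (17, false)),
    (2740, .gen 1962 (17, true)),
    (2118, .gen 1962 (21, false)),
    (3251, .gen 1936 (10, false)),
    (2373, .gen 1936 (12, false)),
    (2581, .gen 1936 (17, false)),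
    (1562, .gen 1936 (17, true)),
    (2975, .gen 969 (21, false)),
    (1790, .gen 969 (21, true)),
    (256, .gen 1418 (21, false)),
    (3733, .gen 1418 (21, true)),
    (1950, .gen 1057 (13, false)),
    (3026, .gen 1057 (21, false)),
    (661, .gen 1057 (21, true)),
    (3086, .gen 3549 (13, false)),
    (771, .gen 3549 (14, false)),
    (2568, .gen 3549 (21, false)),
    (2640, .gen 1698 (11, false)),
    (772, .gen 1698 (17, false)),
    (1488, .gen 1698 (17, true)),
    (1830, .gen 1698 (21, false)),
    (2327, .gen 1943 (17, false)),
    (705, .gen 1943 (17, true)),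
    (3062, .gen 2024 (21, false)),
    (819, .gen 2024 (21, true)),
    (86, .gen 2609 (21, false)),
    (3723, .gen 2609 (21, true)),
    (1453, .gen 2776 (13, false)),
    (2523, .gen 2776 (21, false)),
    (3457, .gen 3091 (13, false)),
    (1394, .gen 3091 (14, false)),
    (1910, .gen 3091 (21, false)),
    (289, .gen 3373 (17, false)),
    (3093, .gen 3373 (17, true)),
    (3296, .gen 3373 (21, false)),
    (3477, .gen 444 (17, false)),
    (1497, .gen 444 (17, true)),
    (2283, .gen 457 (14, false)),
    (2334, .gen 457 (21, false)),
    (3738, .gen 457 (21, true)),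
    (3676, .gen 1610 (13, false)),
    (1685, .gen 2492 (17, false)),
    (2357, .gen 2492 (17, true)),
    (2736, .gen 2492 (21, false)),
    (3547, .gen 1276 (17, false)),
    (1216, .gen 1276 (17, true)),
    (645, .gen 521 (21, false)),
    (1903, .gen 521 (21, true)),
    (3096, .gen 3366 (11, false)),
    (1569, .gen 571 (14, false)),
    (2469, .gen 571 (21, false)),
    (3393, .gen 571 (21, true)),
    (1561, .gen 3490 (17, false)),
    (3273, .gen 3490 (17, true)),
    (2659, .gen 1896 (17, false)),
    (3582, .gen 1896 (17, true)),
    (2329, .gen 585 (17, false)),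
    (518, .gen 585 (17, true)),
    (3563, .gen 1237 (17, false)),
    (3531, .gen 1237 (17, true)),
    (2414, .gen 57 (17, false)),
    (392, .gen 57 (17, true)),
    (3070, .gen 378 (14, false)),
    (1585, .gen 1882 (14, false)),
    (722, .gen 2398 (17, false)),
    (63, .gen 2398 (17, true)),
    (2519, .gen 2840 (17, false)),
    (1900, .gen 2840 (17, true)),
    (1314, .gen 2512 (17, false)),
    (2803, .gen 2512 (17, true)),
    (2855, .gen 1232 (13, false)),
    (3334, .gen 1139 (13, false)),
    (3267, .gen 1139 (21, true)),
    (2136, .gen 3285 (9, false)),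
    (2304, .gen 526 (17, false)),
    (3157, .gen 526 (17, true)),
    (1136, .gen 2319 (17, false)),
    (2184, .gen 2319 (17, true))]

/-- Visits. -/
def v2_4 : List (ℕ × Src) :=
  [(617, .gen 69 (17, false)),
    (761, .gen 69 (17, true)),
    (667, .gen 2655 (17, false)),
    (2380, .gen 2655 (17, true)),
    (1382, .gen 833 (13, false)),
    (1514, .gen 830 (13, false)),
    (3587, .gen 830 (21, false)),
    (739, .gen 1211 (17, false)),
    (309, .gen 1211 (17, true)),
    (1643, .gen 171 (21, false)),
    (3042, .gen 171 (21, true)),
    (501, .gen 217 (13, false)),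
    (1657, .gen 217 (21, false)),
    (686, .gen 217 (21, true)),
    (1005, .gen 2285 (13, false)),
    (3162, .gen 2285 (21, false)),
    (762, .gen 2285 (21, true)),
    (815, .gen 672 (13, false)),
    (3129, .gen 672 (17, false)),
    (1053, .gen 672 (17, true)),
    (1683, .gen 672 (21, false)),
    (2196, .gen 1483 (13, false)),
    (1772, .gen 1483 (17, false)),
    (664, .gen 1483 (17, true)),
    (919, .gen 1172 (12, false)),
    (94, .gen 1172 (17, false)),
    (1914, .gen 1172 (17, true)),
    (2970, .gen 1172 (21, true)),
    (118, .gen 506 (17, false)),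
    (1611, .gen 506 (17, true)),
    (3045, .gen 245 (13, false)),
    (1173, .gen 245 (17, false)),
    (1159, .gen 245 (21, false)),
    (313, .gen 245 (21, true)),
    (2996, .gen 909 (13, false)),
    (3095, .gen 20 (17, false)),
    (3295, .gen 20 (17, true)),
    (2784, .gen 20 (21, false)),
    (355, .gen 1487 (13, false)),
    (1555, .gen 1300 (21, false)),
    (3484, .gen 1300 (21, true)),
    (1956, .gen 1639 (21, true)),
    (2011, .gen 2405 (13, false)),
    (1759, .gen 2405 (21, false)),
    (509, .gen 170 (13, false)),
    (3552, .gen 170 (21, false)),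
    (933, .gen 170 (21, true)),
    (2619, .gen 174 (9, false)),
    (651, .gen 174 (12, false)),
    (222, .gen 174 (17, false)),
    (1164, .gen 174 (17, true)),
    (2753, .gen 174 (21, false)),
    (3766, .gen 3094 (17, false)),
    (3627, .gen 3094 (17, true)),
    (2387, .gen 2294 (13, false)),
    (539, .gen 1568 (13, false)),
    (2284, .gen 1568 (21, false)),
    (2842, .gen 1568 (21, true)),
    (713, .gen 525 (21, false)),
    (3590, .gen 3138 (17, false)),
    (1076, .gen 3138 (17, true)),
    (3347, .gen 1150 (11, false)),
    (1504, .gen 1150 (12, false)),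
    (1477, .gen 1150 (14, false)),
    (197, .gen 1150 (17, false)),
    (1744, .gen 1150 (21, false)),
    (1752, .gen 556 (11, false)),
    (744, .gen 556 (17, false)),
    (1138, .gen 556 (17, true)),
    (529, .gen 3199 (11, false)),
    (385, .gen 3199 (17, false)),
    (3312, .gen 3199 (17, true)),
    (262, .gen 261 (11, false)),
    (286, .gen 261 (12, false)),
    (424, .gen 261 (17, true)),
    (268, .gen 261 (21, false)),
    (1815, .gen 261 (21, true)),
    (98, .gen 3387 (11, false)),
    (1934, .gen 3387 (14, false)),
    (917, .gen 3387 (17, false)),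
    (1219, .gen 3387 (17, true)),
    (71, .gen 3201 (13, false)),
    (530, .gen 3201 (21, false)),
    (657, .gen 314 (17, false)),
    (1878, .gen 314 (17, true)),
    (99, .gen 314 (21, false)),
    (957, .gen 23 (21, false)),
    (2841, .gen 908 (17, false)),
    (1745, .gen 1401 (21, false)),
    (3176, .gen 816 (21, false)),
    (2263, .gen 816 (21, true)),
    (3106, .gen 1171 (11, false)),
    (1551, .gen 2507 (17, false)),
    (3074, .gen 89 (17, false)),
    (3068, .gen 377 (17, false)),
    (2611, .gen 1279 (17, false)),
    (1818, .gen 1279 (17, true)),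
    (2726, .gen 1279 (21, true)),
    (1367, .gen 1511 (21, false)),
    (500, .gen 1109 (17, false)),
    (991, .gen 1109 (21, false)),
    (3113, .gen 1109 (21, true)),
    (2634, .gen 138 (13, false)),
    (2552, .gen 138 (21, false)),
    (588, .gen 138 (21, true)),
    (3189, .gen 272 (13, false)),
    (2106, .gen 272 (21, false)),
    (2660, .gen 272 (21, true)),
    (2562, .gen 1071 (17, false)),
    (3005, .gen 1071 (17, true)),
    (2904, .gen 1071 (21, false)),
    (2206, .gen 3275 (17, false)),
    (1187, .gen 3275 (17, true)),
    (1147, .gen 45 (17, false)),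
    (2947, .gen 45 (21, false)),
    (2440, .gen 45 (21, true)),
    (2780, .gen 134 (17, false)),
    (3353, .gen 134 (17, true)),
    (3473, .gen 134 (21, false)),
    (1742, .gen 2896 (17, false)),
    (3779, .gen 2896 (17, true)),
    (621, .gen 1345 (17, false)),
    (655, .gen 1345 (21, false)),
    (2670, .gen 1345 (21, true)),
    (120, .gen 223 (17, false)),
    (30, .gen 223 (17, true)),
    (2809, .gen 223 (21, false)),
    (2830, .gen 55 (17, false)),
    (1278, .gen 55 (17, true)),
    (596, .gen 1393 (13, false)),
    (109, .gen 811 (21, false)),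
    (1732, .gen 2564 (21, false)),
    (3007, .gen 2564 (21, true)),
    (239, .gen 678 (11, false)),
    (2864, .gen 678 (17, false)),
    (1530, .gen 678 (17, true)),
    (1199, .gen 1120 (11, false)),
    (565, .gen 1120 (17, false)),
    (131, .gen 1120 (17, true)),
    (1978, .gen 2560 (21, false)),
    (2479, .gen 2560 (21, true)),
    (250, .gen 896 (11, false)),
    (180, .gen 896 (17, false)),
    (844, .gen 896 (17, true)),
    (1920, .gen 2985 (11, false)),
    (139, .gen 2985 (17, false)),
    (582, .gen 2985 (17, true)),
    (635, .gen 2724 (13, false)),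
    (1776, .gen 2949 (12, false)),
    (3500, .gen 2949 (13, false)),
    (3340, .gen 2949 (14, false)),
    (1375, .gen 2949 (17, false)),
    (3250, .gen 2949 (17, true)),
    (2241, .gen 2949 (21, true)),
    (817, .gen 1404 (13, false)),
    (13, .gen 1404 (14, false)),
    (2007, .gen 1404 (21, false)),
    (972, .gen 1404 (21, true)),
    (3290, .gen 3255 (12, false)),
    (2981, .gen 3255 (14, false)),
    (2199, .gen 3255 (17, false)),
    (3621, .gen 3255 (21, true)),
    (1078, .gen 3778 (13, false)),
    (1128, .gen 3778 (21, true)),
    (2155, .gen 1925 (13, false)),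
    (846, .gen 1925 (21, false)),
    (805, .gen 1925 (21, true)),
    (3351, .gen 1695 (13, false)),
    (152, .gen 1695 (14, false)),
    (1142, .gen 1695 (21, false)),
    (2332, .gen 1695 (21, true)),
    (2302, .gen 229 (10, false)),
    (49, .gen 229 (17, false)),
    (2763, .gen 229 (17, true)),
    (3482, .gen 229 (21, false)),
    (1917, .gen 1509 (12, false)),
    (1407, .gen 1509 (13, false)),
    (2179, .gen 829 (14, false)),
    (2528, .gen 829 (21, false)),
    (625, .gen 3078 (17, true)),
    (2700, .gen 2889 (17, false)),
    (1441, .gen 2889 (17, true)),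
    (2345, .gen 1336 (21, false)),
    (3254, .gen 1336 (21, true)),
    (1235, .gen 3454 (14, false)),
    (605, .gen 3454 (21, false)),
    (3030, .gen 3454 (21, true)),
    (2061, .gen 3039 (17, false)),
    (3411, .gen 3039 (17, true)),
    (359, .gen 3039 (21, false)),
    (2682, .gen 3364 (17, false)),
    (3088, .gen 3364 (17, true)),
    (3222, .gen 1372 (17, false)),
    (253, .gen 331 (17, false)),
    (413, .gen 331 (17, true)),
    (1604, .gen 763 (17, false)),
    (776, .gen 763 (17, true)),
    (2140, .gen 786 (21, false)),
    (2861, .gen 786 (21, true)),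
    (1838, .gen 3670 (14, false)),
    (1032, .gen 3670 (21, false)),
    (1084, .gen 3670 (21, true)),
    (3678, .gen 3573 (17, false)),
    (2731, .gen 3573 (17, true)),
    (2200, .gen 1528 (17, false)),
    (1860, .gen 1528 (17, true)),
    (964, .gen 3623 (17, false)),
    (3111, .gen 3623 (17, true)),
    (2939, .gen 3438 (13, false)),
    (102, .gen 121 (21, false)),
    (632, .gen 121 (21, true)),
    (3399, .gen 2237 (17, false)),
    (3495, .gen 2237 (17, true)),
    (409, .gen 1857 (17, false)),
    (567, .gen 1857 (17, true)),
    (3559, .gen 1908 (14, false)),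
    (600, .gen 161 (9, false)),
    (3142, .gen 161 (12, false)),
    (642, .gen 161 (13, false)),
    (2510, .gen 161 (14, false)),
    (3359, .gen 161 (17, false)),
    (3428, .gen 161 (17, true)),
    (277, .gen 2936 (9, false)),
    (2977, .gen 2936 (10, false)),
    (767, .gen 2936 (14, false)),
    (683, .gen 2936 (17, false)),
    (2049, .gen 2936 (17, true)),
    (209, .gen 2656 (21, true)),
    (2089, .gen 1265 (10, false)),
    (3750, .gen 1265 (13, false)),
    (2826, .gen 1265 (14, false)),
    (3728, .gen 1265 (17, false)),
    (3769, .gen 1265 (17, true)),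
    (2193, .gen 237 (12, false)),
    (1342, .gen 237 (17, false)),
    (3175, .gen 237 (17, true)),
    (3370, .gen 60 (17, false)),
    (3183, .gen 60 (17, true)),
    (3247, .gen 1099 (17, false)),
    (2857, .gen 1099 (17, true)),
    (872, .gen 3103 (17, false)),
    (3639, .gen 3103 (17, true)),
    (1245, .gen 3020 (14, false)),
    (3466, .gen 3020 (21, true)),
    (3469, .gen 3737 (21, false)),
    (977, .gen 3737 (21, true)),
    (3115, .gen 2438 (17, false)),
    (3461, .gen 2438 (17, true)),
    (2817, .gen 2438 (21, false)),
    (774, .gen 2847 (17, true)),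
    (1130, .gen 519 (21, true)),
    (3391, .gen 2989 (13, false)),
    (2217, .gen 2989 (14, false)),
    (2290, .gen 2989 (17, false)),
    (3379, .gen 2989 (17, true)),
    (827, .gen 2989 (21, false)),
    (1443, .gen 2989 (21, true)),
    (1097, .gen 1359 (14, false)),
    (1027, .gen 1359 (21, false)),
    (339, .gen 1359 (21, true)),
    (499, .gen 3545 (14, false)),
    (1655, .gen 3545 (21, false)),
    (3006, .gen 3545 (21, true)),
    (1146, .gen 929 (14, false)),
    (1608, .gen 929 (21, false)),
    (3104, .gen 929 (21, true)),
    (2394, .gen 536 (17, true)),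
    (2249, .gen 536 (21, true)),
    (2518, .gen 3613 (13, false)),
    (3647, .gen 3613 (21, false)),
    (210, .gen 3613 (21, true)),
    (3262, .gen 3363 (13, false)),
    (3265, .gen 3363 (14, false)),
    (1887, .gen 3363 (21, false)),
    (2150, .gen 3363 (21, true)),
    (3655, .gen 2320 (10, false)),
    (1735, .gen 2320 (11, false)),
    (280, .gen 2320 (12, false)),
    (1039, .gen 2320 (13, false)),
    (2298, .gen 2320 (14, false)),
    (1635, .gen 2320 (17, false)),
    (2739, .gen 2320 (17, true)),
    (3685, .gen 2320 (21, false)),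
    (3436, .gen 3036 (10, false)),
    (523, .gen 3036 (11, false)),
    (3568, .gen 3036 (12, false)),
    (435, .gen 3036 (17, false)),
    (47, .gen 3036 (17, true)),
    (976, .gen 1636 (14, false)),
    (2822, .gen 1636 (17, false)),
    (3435, .gen 1636 (17, true)),
    (831, .gen 1636 (21, true)),
    (2451, .gen 2137 (14, false)),
    (2661, .gen 2137 (17, false)),
    (3601, .gen 2137 (17, true)),
    (2940, .gen 2137 (21, false)),
    (3474, .gen 2137 (21, true)),
    (818, .gen 3277 (21, false)),
    (1529, .gen 3277 (21, true)),
    (2460, .gen 2280 (17, false))]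

/-- Visits. -/
def v2_5 : List (ℕ × Src) :=
  [(1640, .gen 2280 (17, true)),
    (2527, .gen 836 (13, false)),
    (3673, .gen 836 (14, false)),
    (3165, .gen 836 (21, false)),
    (2802, .gen 836 (21, true)),
    (1031, .gen 2360 (13, false)),
    (2533, .gen 2360 (14, false)),
    (3317, .gen 2360 (21, false)),
    (1228, .gen 2360 (21, true)),
    (792, .gen 854 (11, false)),
    (779, .gen 854 (17, false)),
    (3447, .gen 854 (17, true)),
    (3203, .gen 854 (21, false)),
    (1668, .gen 727 (11, false)),
    (544, .gen 727 (17, false)),
    (39, .gen 727 (17, true)),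
    (527, .gen 1615 (14, false)),
    (813, .gen 1615 (21, false)),
    (643, .gen 1615 (21, true)),
    (1428, .gen 2721 (21, false)),
    (2529, .gen 2721 (21, true)),
    (3425, .gen 3595 (13, false)),
    (3279, .gen 3595 (21, false)),
    (2301, .gen 3595 (21, true)),
    (2800, .gen 803 (13, false)),
    (3507, .gen 803 (14, false)),
    (2665, .gen 803 (21, false)),
    (1548, .gen 803 (21, true)),
    (1289, .gen 3526 (10, false)),
    (1466, .gen 3526 (14, false)),
    (876, .gen 3526 (17, false)),
    (3446, .gen 3526 (17, true)),
    (1727, .gen 3526 (21, false)),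
    (1454, .gen 1591 (10, false)),
    (3476, .gen 1591 (17, false)),
    (3305, .gen 1591 (17, true)),
    (1189, .gen 2669 (14, false)),
    (1644, .gen 2669 (21, true)),
    (3696, .gen 2354 (13, false)),
    (1518, .gen 2354 (14, false)),
    (440, .gen 2354 (21, false)),
    (3700, .gen 2354 (21, true)),
    (1726, .gen 2445 (13, false)),
    (2703, .gen 2445 (21, false)),
    (1475, .gen 2445 (21, true)),
    (183, .gen 710 (17, false)),
    (802, .gen 710 (17, true)),
    (1379, .gen 710 (21, false)),
    (1377, .gen 606 (11, false)),
    (3188, .gen 606 (17, false)),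
    (3137, .gen 606 (17, true)),
    (3554, .gen 1431 (9, false)),
    (698, .gen 1431 (17, false)),
    (2978, .gen 1431 (17, true)),
    (2622, .gen 1431 (21, false)),
    (2344, .gen 1100 (9, false)),
    (3117, .gen 1100 (17, false)),
    (3038, .gen 1100 (17, true)),
    (2128, .gen 2789 (21, true)),
    (2732, .gen 399 (17, false)),
    (1537, .gen 399 (17, true)),
    (2567, .gen 399 (21, false)),
    (2082, .gen 3567 (13, false)),
    (1616, .gen 3479 (13, false)),
    (1482, .gen 3479 (21, false)),
    (1540, .gen 3479 (21, true)),
    (1102, .gen 1942 (17, false)),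
    (633, .gen 1942 (17, true)),
    (1831, .gen 1942 (21, false)),
    (3065, .gen 2819 (17, false)),
    (2759, .gen 2819 (17, true)),
    (3489, .gen 3028 (11, false)),
    (1823, .gen 3028 (12, false)),
    (2315, .gen 3028 (14, false)),
    (2807, .gen 3028 (17, false)),
    (2708, .gen 3028 (17, true)),
    (2502, .gen 3028 (21, false)),
    (2868, .gen 3028 (21, true)),
    (3653, .gen 1253 (13, false)),
    (3452, .gen 1253 (21, false)),
    (3727, .gen 1253 (21, true)),
    (1560, .gen 340 (11, false)),
    (1501, .gen 340 (12, false)),
    (3540, .gen 340 (17, false)),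
    (279, .gen 340 (17, true)),
    (2388, .gen 340 (21, false)),
    (537, .gen 2668 (9, false)),
    (2411, .gen 2668 (10, false)),
    (2278, .gen 2668 (11, false)),
    (3571, .gen 2668 (17, false)),
    (677, .gen 2668 (17, true)),
    (1282, .gen 3101 (11, false)),
    (230, .gen 3101 (12, false)),
    (1921, .gen 3101 (14, false)),
    (3789, .gen 3101 (17, false)),
    (3166, .gen 3101 (17, true)),
    (2742, .gen 3101 (21, true)),
    (2749, .gen 1822 (13, false)),
    (3609, .gen 1595 (10, false)),
    (3371, .gen 1595 (11, false)),
    (3783, .gen 1595 (13, false)),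
    (3589, .gen 1595 (14, false)),
    (2929, .gen 1595 (17, false)),
    (1654, .gen 1595 (17, true)),
    (1631, .gen 1274 (11, false)),
    (1907, .gen 1274 (12, false)),
    (2288, .gen 1274 (17, false)),
    (1088, .gen 1274 (17, true)),
    (2938, .gen 460 (17, false)),
    (335, .gen 460 (17, true)),
    (287, .gen 460 (21, false)),
    (1069, .gen 468 (11, false)),
    (1670, .gen 468 (21, false)),
    (2476, .gen 70 (17, false)),
    (332, .gen 70 (17, true)),
    (3098, .gen 70 (21, false)),
    (3731, .gen 546 (17, false)),
    (2466, .gen 546 (17, true)),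
    (3786, .gen 546 (21, false)),
    (1951, .gen 967 (21, false)),
    (1439, .gen 3220 (17, false)),
    (437, .gen 3220 (17, true)),
    (282, .gen 3220 (21, false)),
    (2245, .gen 878 (13, false)),
    (806, .gen 878 (14, false)),
    (931, .gen 878 (21, true)),
    (1736, .gen 2475 (13, false)),
    (1427, .gen 2475 (21, false)),
    (958, .gen 2475 (21, true)),
    (2268, .gen 1066 (9, false)),
    (1868, .gen 1066 (11, false)),
    (3087, .gen 1066 (13, false)),
    (2406, .gen 1066 (17, false)),
    (2771, .gen 1066 (17, true)),
    (296, .gen 16 (17, false)),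
    (3551, .gen 16 (17, true)),
    (235, .gen 16 (21, true)),
    (1998, .gen 2862 (17, false)),
    (3298, .gen 2862 (17, true)),
    (2395, .gen 1266 (17, false)),
    (3184, .gen 1266 (17, true)),
    (249, .gen 12 (17, false)),
    (3600, .gen 12 (17, true)),
    (2112, .gen 2132 (13, false)),
    (898, .gen 2132 (21, false)),
    (1749, .gen 2132 (21, true)),
    (2203, .gen 2615 (21, false)),
    (103, .gen 1003 (11, false)),
    (2065, .gen 1003 (12, false)),
    (1022, .gen 1003 (13, false)),
    (193, .gen 1003 (14, false)),
    (1123, .gen 1003 (17, false)),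
    (281, .gen 1003 (17, true)),
    (2335, .gen 1003 (21, false)),
    (3131, .gen 1003 (21, true)),
    (293, .gen 1034 (13, false)),
    (2008, .gen 1034 (14, false)),
    (1200, .gen 1034 (21, false)),
    (515, .gen 1034 (21, true)),
    (1144, .gen 847 (13, false)),
    (1517, .gen 847 (14, false)),
    (2867, .gen 847 (21, false)),
    (3599, .gen 847 (21, true)),
    (206, .gen 375 (11, false)),
    (1423, .gen 375 (12, false)),
    (2883, .gen 375 (14, false)),
    (1677, .gen 375 (17, false)),
    (2192, .gen 375 (17, true)),
    (3694, .gen 375 (21, false)),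
    (1132, .gen 375 (21, true)),
    (2675, .gen 1883 (11, false)),
    (483, .gen 1883 (13, false)),
    (128, .gen 1883 (17, true)),
    (2353, .gen 1883 (21, true)),
    (329, .gen 3243 (13, false)),
    (821, .gen 3243 (21, false)),
    (1546, .gen 3243 (21, true)),
    (944, .gen 1259 (13, false)),
    (336, .gen 1259 (14, false)),
    (1703, .gen 1259 (21, false)),
    (3716, .gen 1259 (21, true)),
    (572, .gen 1429 (10, false)),
    (2688, .gen 1429 (11, false)),
    (708, .gen 1429 (12, false)),
    (2005, .gen 1429 (13, false)),
    (3792, .gen 1429 (14, false)),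
    (593, .gen 1429 (17, false)),
    (233, .gen 1429 (17, true)),
    (1867, .gen 1429 (21, false)),
    (2478, .gen 1101 (10, false)),
    (3090, .gen 1101 (11, false)),
    (1619, .gen 1101 (12, false)),
    (1665, .gen 1101 (13, false)),
    (2105, .gen 1101 (17, false)),
    (2689, .gen 1101 (17, true)),
    (203, .gen 257 (12, false)),
    (1368, .gen 257 (14, false)),
    (259, .gen 257 (17, false)),
    (954, .gen 257 (17, true)),
    (2242, .gen 257 (21, true)),
    (2516, .gen 2113 (14, false)),
    (1162, .gen 2113 (17, false)),
    (236, .gen 2113 (17, true)),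
    (2371, .gen 2113 (21, false)),
    (2515, .gen 2113 (21, true)),
    (990, .gen 1222 (17, false)),
    (1623, .gen 1222 (17, true)),
    (875, .gen 1222 (21, false)),
    (2997, .gen 1222 (21, true)),
    (188, .gen 96 (11, false)),
    (2393, .gen 96 (17, false)),
    (3196, .gen 96 (17, true)),
    (405, .gen 2009 (13, false)),
    (3415, .gen 2009 (14, false)),
    (129, .gen 2009 (17, false)),
    (1258, .gen 2009 (21, false)),
    (2219, .gen 2009 (21, true)),
    (172, .gen 701 (13, false)),
    (1967, .gen 701 (14, false)),
    (2593, .gen 701 (21, false)),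
    (1327, .gen 701 (21, true)),
    (1419, .gen 2412 (11, false)),
    (3304, .gen 2412 (17, false)),
    (3048, .gen 2412 (17, true)),
    (882, .gen 2412 (21, false)),
    (1116, .gen 1412 (11, false)),
    (758, .gen 1412 (13, false)),
    (3523, .gen 1412 (17, false)),
    (2733, .gen 1412 (17, true)),
    (747, .gen 27 (13, false)),
    (3759, .gen 27 (21, false)),
    (147, .gen 27 (21, true)),
    (2578, .gen 622 (12, false)),
    (2019, .gen 622 (14, false)),
    (3168, .gen 622 (17, false)),
    (62, .gen 622 (17, true)),
    (1605, .gen 622 (21, false)),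
    (465, .gen 622 (21, true)),
    (760, .gen 2338 (13, false)),
    (2391, .gen 2338 (21, false)),
    (3508, .gen 2338 (21, true)),
    (862, .gen 2210 (13, false)),
    (988, .gen 2210 (21, false)),
    (1067, .gen 2210 (21, true)),
    (1576, .gen 2307 (13, false)),
    (1797, .gen 2307 (14, false)),
    (2256, .gen 2307 (21, false)),
    (2649, .gen 2307 (21, true)),
    (2197, .gen 3560 (9, false)),
    (1213, .gen 3560 (10, false)),
    (3079, .gen 3560 (11, false)),
    (1839, .gen 3560 (12, false)),
    (1627, .gen 3560 (14, false)),
    (3059, .gen 3560 (17, false)),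
    (2054, .gen 3560 (17, true)),
    (1295, .gen 3560 (21, false)),
    (104, .gen 1247 (9, false)),
    (191, .gen 1247 (10, false)),
    (2215, .gen 1247 (11, false)),
    (703, .gen 1247 (12, false)),
    (3748, .gen 1247 (13, false)),
    (640, .gen 1247 (14, false)),
    (3122, .gen 1247 (17, false)),
    (2990, .gen 1247 (17, true)),
    (1383, .gen 1358 (14, false)),
    (2792, .gen 1358 (17, false)),
    (2924, .gen 1358 (17, true)),
    (1578, .gen 1358 (21, false)),
    (3180, .gen 1358 (21, true)),
    (918, .gen 1807 (13, false)),
    (407, .gen 1321 (13, false)),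
    (291, .gen 1321 (14, false)),
    (1417, .gen 1321 (21, false)),
    (3051, .gen 1321 (21, true)),
    (2341, .gen 2471 (13, false)),
    (160, .gen 2471 (21, false)),
    (2303, .gen 2471 (21, true)),
    (2291, .gen 711 (11, false)),
    (2956, .gen 711 (13, false)),
    (232, .gen 711 (17, false)),
    (246, .gen 711 (17, true)),
    (2240, .gen 711 (21, false)),
    (3455, .gen 1861 (11, false)),
    (2557, .gen 1861 (13, false)),
    (685, .gen 1861 (17, false)),
    (1932, .gen 1861 (17, true)),
    (1720, .gen 814 (17, false)),
    (1542, .gen 814 (17, true)),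
    (3023, .gen 814 (21, false)),
    (178, .gen 814 (21, true)),
    (2605, .gen 3214 (17, false)),
    (1988, .gen 3214 (17, true)),
    (2610, .gen 3214 (21, false)),
    (9, .gen 3214 (21, true)),
    (1663, .gen 1205 (11, false)),
    (3041, .gen 1205 (17, false)),
    (119, .gen 1205 (17, true)),
    (3442, .gen 1679 (13, false)),
    (960, .gen 1679 (14, false)),
    (1113, .gen 1679 (17, false))]

/-- Visits. -/
def v2_6 : List (ℕ × Src) :=
  [(1825, .gen 1679 (21, false)),
    (1588, .gen 1679 (21, true)),
    (1478, .gen 50 (13, false)),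
    (391, .gen 50 (14, false)),
    (1519, .gen 50 (21, false)),
    (145, .gen 50 (21, true)),
    (2707, .gen 2756 (9, false)),
    (2147, .gen 2756 (10, false)),
    (1979, .gen 2756 (12, false)),
    (2735, .gen 2756 (13, false)),
    (1095, .gen 2756 (17, false)),
    (1079, .gen 2756 (17, true)),
    (3702, .gen 2756 (21, false)),
    (3424, .gen 587 (9, false)),
    (2801, .gen 587 (12, false)),
    (1789, .gen 587 (13, false)),
    (1061, .gen 587 (14, false)),
    (362, .gen 587 (17, false)),
    (3413, .gen 587 (17, true)),
    (2446, .gen 1702 (21, false)),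
    (1587, .gen 1702 (21, true)),
    (717, .gen 2546 (11, false)),
    (1110, .gen 2546 (17, false)),
    (154, .gen 2546 (17, true)),
    (1179, .gen 2546 (21, false)),
    (3510, .gen 1356 (13, false)),
    (2580, .gen 1356 (21, false)),
    (490, .gen 1356 (21, true)),
    (2407, .gen 373 (13, false)),
    (2120, .gen 373 (21, false)),
    (83, .gen 373 (21, true)),
    (2458, .gen 2326 (13, false)),
    (3261, .gen 2326 (17, false)),
    (3225, .gen 2326 (17, true)),
    (892, .gen 2326 (21, false)),
    (2574, .gen 3539 (17, false)),
    (3105, .gen 3539 (17, true)),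
    (2785, .gen 2264 (11, false)),
    (1301, .gen 2264 (12, false)),
    (3735, .gen 2264 (14, false)),
    (1625, .gen 2264 (17, false)),
    (2246, .gen 2264 (17, true)),
    (3722, .gen 2264 (21, false)),
    (3050, .gen 2264 (21, true)),
    (1710, .gen 725 (13, false)),
    (2276, .gen 725 (21, false)),
    (1758, .gen 725 (21, true)),
    (496, .gen 466 (13, false)),
    (1658, .gen 466 (21, false)),
    (842, .gen 1709 (9, false)),
    (2778, .gen 1709 (11, false)),
    (916, .gen 1709 (12, false)),
    (3242, .gen 1709 (13, false)),
    (2570, .gen 1709 (14, false)),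
    (2309, .gen 1709 (17, false)),
    (2389, .gen 1709 (17, true)),
    (1915, .gen 1709 (21, false)),
    (1229, .gen 414 (9, false)),
    (3439, .gen 414 (10, false)),
    (3791, .gen 414 (11, false)),
    (1158, .gen 414 (14, false)),
    (2879, .gen 414 (17, false)),
    (3429, .gen 414 (17, true)),
    (3178, .gen 219 (11, false)),
    (1214, .gen 219 (12, false)),
    (3344, .gen 219 (14, false)),
    (3751, .gen 219 (17, false)),
    (2927, .gen 219 (17, true)),
    (3356, .gen 219 (21, false)),
    (1218, .gen 219 (21, true)),
    (576, .gen 901 (13, false)),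
    (84, .gen 901 (21, false)),
    (403, .gen 901 (21, true)),
    (2481, .gen 575 (10, false)),
    (1729, .gen 575 (11, false)),
    (231, .gen 575 (12, false)),
    (2470, .gen 575 (13, false)),
    (3444, .gen 575 (14, false)),
    (1294, .gen 575 (17, false)),
    (1601, .gen 575 (17, true)),
    (3505, .gen 575 (21, false)),
    (2493, .gen 1617 (9, false)),
    (3773, .gen 1617 (10, false)),
    (3119, .gen 1617 (11, false)),
    (541, .gen 1617 (12, false)),
    (943, .gen 1617 (14, false)),
    (2503, .gen 1617 (17, false)),
    (1767, .gen 1617 (17, true)),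
    (3159, .gen 357 (11, false)),
    (522, .gen 357 (14, false)),
    (843, .gen 357 (17, false)),
    (573, .gen 357 (17, true)),
    (1999, .gen 357 (21, false)),
    (3775, .gen 404 (11, false)),
    (1944, .gen 404 (13, false)),
    (3610, .gen 404 (21, false)),
    (299, .gen 2281 (12, false)),
    (2908, .gen 2281 (13, false)),
    (1041, .gen 2281 (17, false)),
    (2447, .gen 2281 (17, true)),
    (2377, .gen 2281 (21, false)),
    (186, .gen 2798 (17, false)),
    (91, .gen 2798 (17, true)),
    (3392, .gen 2798 (21, false)),
    (3652, .gen 2191 (11, false)),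
    (2083, .gen 2191 (17, false)),
    (1496, .gen 2191 (17, true)),
    (1400, .gen 2191 (21, false)),
    (196, .gen 648 (17, false)),
    (311, .gen 648 (17, true)),
    (1344, .gen 648 (21, false)),
    (3743, .gen 2002 (13, false)),
    (182, .gen 2002 (14, false)),
    (2124, .gen 2002 (21, true)),
    (3536, .gen 749 (13, false)),
    (1575, .gen 749 (21, false)),
    (856, .gen 749 (21, true)),
    (337, .gen 3348 (9, false)),
    (149, .gen 3348 (11, false)),
    (3780, .gen 3348 (13, false)),
    (3657, .gen 3348 (17, false)),
    (602, .gen 3348 (17, true)),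
    (2863, .gen 1984 (11, false)),
    (298, .gen 1984 (17, false)),
    (953, .gen 1984 (17, true)),
    (1828, .gen 1984 (21, false)),
    (1835, .gen 1984 (21, true)),
    (255, .gen 3055 (17, false)),
    (1391, .gen 3055 (17, true)),
    (2221, .gen 2392 (12, false)),
    (187, .gen 2392 (13, false)),
    (3496, .gen 2392 (17, false)),
    (2146, .gen 2392 (17, true)),
    (2029, .gen 2392 (21, true)),
    (3499, .gen 2032 (17, false)),
    (3409, .gen 2032 (17, true)),
    (241, .gen 1456 (11, false)),
    (1693, .gen 1456 (12, false)),
    (495, .gen 1456 (14, false)),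
    (2279, .gen 1456 (17, false)),
    (2180, .gen 1456 (17, true)),
    (540, .gen 1456 (21, true)),
    (3458, .gen 3467 (17, false)),
    (984, .gen 3467 (17, true)),
    (74, .gen 1651 (13, false)),
    (2495, .gen 1651 (17, false)),
    (2166, .gen 1651 (21, false)),
    (2216, .gen 1651 (21, true)),
    (59, .gen 2468 (13, false)),
    (3456, .gen 2468 (21, false)),
    (1035, .gen 3417 (11, false)),
    (1267, .gen 3417 (12, false)),
    (512, .gen 3417 (13, false)),
    (2352, .gen 3417 (14, false)),
    (1290, .gen 3417 (17, false)),
    (1074, .gen 3417 (17, true)),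
    (3606, .gen 3417 (21, false)),
    (1505, .gen 3417 (21, true)),
    (361, .gen 3308 (13, false)),
    (3376, .gen 3308 (14, false)),
    (1318, .gen 3308 (21, true)),
    (2080, .gen 130 (13, false)),
    (2496, .gen 130 (14, false)),
    (2201, .gen 130 (21, false)),
    (2410, .gen 130 (21, true)),
    (2209, .gen 319 (11, false)),
    (2973, .gen 319 (12, false)),
    (3385, .gen 319 (14, false)),
    (1225, .gen 319 (17, false)),
    (2425, .gen 319 (17, true)),
    (327, .gen 319 (21, false)),
    (97, .gen 319 (21, true)),
    (3008, .gen 3514 (11, false)),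
    (2627, .gen 3514 (13, false)),
    (408, .gen 3514 (17, true)),
    (1850, .gen 3514 (21, true)),
    (2687, .gen 212 (21, false)),
    (2244, .gen 167 (13, false)),
    (1242, .gen 167 (14, false)),
    (2229, .gen 167 (21, false)),
    (1012, .gen 167 (21, true)),
    (1701, .gen 823 (10, false)),
    (1824, .gen 823 (11, false)),
    (1485, .gen 823 (12, false)),
    (986, .gen 823 (13, false)),
    (2902, .gen 823 (14, false)),
    (260, .gen 823 (17, true)),
    (1584, .gen 823 (21, false)),
    (971, .gen 1127 (10, false)),
    (3236, .gen 1127 (11, false)),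
    (1808, .gen 1127 (12, false)),
    (3124, .gen 1127 (13, false)),
    (1889, .gen 1127 (17, true)),
    (258, .gen 201 (12, false)),
    (1309, .gen 201 (14, false)),
    (1424, .gen 201 (17, false)),
    (1567, .gen 201 (17, true)),
    (2935, .gen 201 (21, true)),
    (2621, .gen 3516 (14, false)),
    (2181, .gen 3516 (17, false)),
    (508, .gen 3516 (17, true)),
    (3588, .gen 3516 (21, false)),
    (2719, .gen 3516 (21, true)),
    (1664, .gen 3770 (17, false)),
    (2953, .gen 3770 (17, true)),
    (2222, .gen 3770 (21, false)),
    (2443, .gen 3770 (21, true)),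
    (1586, .gen 2848 (11, false)),
    (3306, .gen 2848 (17, true)),
    (2195, .gen 1544 (14, false)),
    (164, .gen 1544 (17, false)),
    (1957, .gen 1544 (21, false)),
    (1473, .gen 719 (13, false)),
    (951, .gen 719 (14, false)),
    (489, .gen 719 (21, false)),
    (987, .gen 719 (21, true)),
    (732, .gen 3249 (11, false)),
    (3377, .gen 3249 (17, false)),
    (1899, .gen 3249 (17, true)),
    (1676, .gen 2121 (11, false)),
    (3322, .gen 2121 (13, false)),
    (2768, .gen 2121 (17, false)),
    (948, .gen 2121 (17, true)),
    (3337, .gen 3611 (13, false)),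
    (3503, .gen 3611 (21, true)),
    (2311, .gen 267 (17, false)),
    (3491, .gen 267 (21, true)),
    (2207, .gen 2880 (13, false)),
    (680, .gen 2880 (21, true)),
    (3368, .gen 214 (13, false)),
    (886, .gen 214 (21, false)),
    (2017, .gen 2396 (14, false)),
    (832, .gen 2396 (21, false)),
    (851, .gen 2878 (10, false)),
    (2376, .gen 2878 (12, false)),
    (1196, .gen 2878 (17, true)),
    (902, .gen 2878 (21, false)),
    (1457, .gen 1630 (9, false)),
    (1613, .gen 1630 (11, false)),
    (1763, .gen 1630 (13, false)),
    (64, .gen 1630 (14, false)),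
    (3530, .gen 1630 (17, false)),
    (932, .gen 2701 (14, false)),
    (3699, .gen 2701 (17, false)),
    (3076, .gen 2701 (21, false)),
    (1335, .gen 2701 (21, true)),
    (53, .gen 2794 (13, false)),
    (2413, .gen 1206 (21, false)),
    (14, .gen 1865 (13, false)),
    (1897, .gen 1865 (21, false)),
    (3245, .gen 1865 (21, true)),
    (782, .gen 2616 (11, false)),
    (2765, .gen 2616 (21, false)),
    (148, .gen 1271 (11, false)),
    (3515, .gen 1271 (13, false)),
    (2075, .gen 1271 (17, true)),
    (682, .gen 3097 (17, true)),
    (1525, .gen 3097 (21, false)),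
    (3219, .gen 3097 (21, true)),
    (3205, .gen 3107 (17, true)),
    (3216, .gen 1192 (14, false)),
    (2001, .gen 1192 (21, false)),
    (2799, .gen 1192 (21, true)),
    (2816, .gen 1699 (17, false)),
    (2974, .gen 1699 (17, true)),
    (77, .gen 1699 (21, false)),
    (773, .gen 3633 (9, false)),
    (2189, .gen 3633 (12, false)),
    (721, .gen 3633 (13, false)),
    (1583, .gen 3633 (14, false)),
    (874, .gen 3633 (17, false)),
    (853, .gen 1849 (21, true)),
    (861, .gen 1785 (17, true)),
    (1449, .gen 1785 (21, false)),
    (1675, .gen 3057 (21, false)),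
    (1115, .gen 911 (21, false)),
    (3637, .gen 1307 (17, false)),
    (1704, .gen 1307 (17, true)),
    (3564, .gen 1307 (21, false)),
    (609, .gen 1281 (17, false)),
    (1827, .gen 1281 (17, true)),
    (3525, .gen 3301 (11, false)),
    (959, .gen 3301 (21, false)),
    (3720, .gen 690 (13, false)),
    (2138, .gen 690 (21, false)),
    (2323, .gen 2154 (13, false)),
    (2572, .gen 2081 (9, false)),
    (2702, .gen 2081 (12, false)),
    (2194, .gen 2081 (21, false)),
    (2052, .gen 1792 (17, false)),
    (1438, .gen 192 (17, false)),
    (3382, .gen 192 (21, false)),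
    (1589, .gen 386 (21, false)),
    (3681, .gen 386 (21, true)),
    (924, .gen 1624 (10, false)),
    (1460, .gen 1624 (11, false)),
    (1201, .gen 1624 (14, false)),
    (2163, .gen 1624 (17, false)),
    (1414, .gen 2162 (14, false)),
    (2172, .gen 2865 (17, false))]

/-- Visits. -/
def v2_7 : List (ℕ × Src) :=
  [(3607, .gen 2865 (17, true)),
    (3739, .gen 2865 (21, false)),
    (1760, .gen 2487 (17, true)),
    (2983, .gen 3667 (13, false)),
    (3641, .gen 2455 (11, false)),
    (2494, .gen 2455 (17, true)),
    (592, .gen 2455 (21, true)),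
    (1803, .gen 1547 (17, false)),
    (3171, .gen 1547 (17, true)),
    (580, .gen 2921 (13, false)),
    (858, .gen 2921 (17, false)),
    (1338, .gen 1523 (17, false)),
    (3666, .gen 1906 (17, true)),
    (1156, .gen 1459 (17, true)),
    (32, .gen 1781 (17, false)),
    (1886, .gen 1649 (21, false)),
    (900, .gen 3691 (11, false)),
    (2321, .gen 3691 (12, false)),
    (3426, .gen 3691 (13, false)),
    (1880, .gen 3691 (14, false)),
    (3632, .gen 3691 (17, false)),
    (2186, .gen 3691 (17, true)),
    (2289, .gen 3691 (21, false)),
    (2959, .gen 3691 (21, true)),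
    (3229, .gen 263 (13, false)),
    (859, .gen 263 (14, false)),
    (387, .gen 263 (21, true)),
    (3788, .gen 17 (13, false)),
    (3605, .gen 17 (14, false)),
    (759, .gen 17 (21, false)),
    (2608, .gen 17 (21, true)),
    (887, .gen 3100 (11, false)),
    (364, .gen 3100 (12, false)),
    (1492, .gen 3100 (14, false)),
    (1285, .gen 3100 (17, false)),
    (1793, .gen 3100 (17, true)),
    (2213, .gen 3100 (21, false)),
    (3230, .gen 3100 (21, true)),
    (3016, .gen 2077 (11, false)),
    (3040, .gen 2077 (13, false)),
    (636, .gen 2077 (17, true)),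
    (692, .gen 2077 (21, true)),
    (1660, .gen 159 (13, false)),
    (1853, .gen 159 (21, false)),
    (2170, .gen 318 (13, false)),
    (1260, .gen 318 (14, false)),
    (365, .gen 318 (21, false)),
    (1036, .gen 318 (21, true)),
    (3608, .gen 1160 (10, false)),
    (2351, .gen 1160 (11, false)),
    (1462, .gen 1160 (12, false)),
    (3367, .gen 1160 (13, false)),
    (2892, .gen 1160 (17, false)),
    (1291, .gen 1160 (17, true)),
    (669, .gen 1160 (21, false)),
    (1070, .gen 517 (10, false)),
    (3241, .gen 517 (11, false)),
    (1315, .gen 517 (12, false)),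
    (181, .gen 517 (13, false)),
    (3695, .gen 517 (17, false)),
    (410, .gen 517 (17, true)),
    (22, .gen 2014 (12, false)),
    (2208, .gen 2014 (14, false)),
    (2718, .gen 2014 (17, false)),
    (3715, .gen 2014 (17, true)),
    (2870, .gen 2014 (21, true)),
    (2267, .gen 2243 (14, false)),
    (1893, .gen 2243 (17, false)),
    (3529, .gen 2243 (17, true)),
    (934, .gen 2243 (21, false)),
    (3206, .gen 2243 (21, true)),
    (2918, .gen 3579 (17, false)),
    (1231, .gen 3579 (17, true)),
    (2712, .gen 3579 (21, false)),
    (1364, .gen 3579 (21, true)),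
    (3134, .gen 1313 (11, false)),
    (2043, .gen 1313 (17, false)),
    (3294, .gen 1313 (17, true)),
    (514, .gen 2381 (17, false)),
    (3187, .gen 2381 (21, true)),
    (3612, .gen 2062 (14, false)),
    (1884, .gen 177 (11, false)),
    (42, .gen 177 (17, false)),
    (1243, .gen 177 (17, true)),
    (348, .gen 177 (21, false)),
    (647, .gen 1388 (11, false)),
    (1283, .gen 1388 (17, false)),
    (1592, .gen 1388 (17, true)),
    (2318, .gen 1688 (21, true)),
    (2254, .gen 31 (12, false)),
    (485, .gen 31 (14, false)),
    (715, .gen 31 (17, false)),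
    (2881, .gen 31 (17, true)),
    (1042, .gen 3145 (13, false)),
    (2079, .gen 3145 (21, true)),
    (899, .gen 325 (13, false)),
    (1902, .gen 325 (21, false)),
    (1836, .gen 325 (21, true)),
    (3054, .gen 1296 (14, false)),
    (1324, .gen 1296 (21, false)),
    (879, .gen 3732 (9, false)),
    (165, .gen 3732 (17, false)),
    (366, .gen 785 (9, false)),
    (471, .gen 785 (10, false)),
    (234, .gen 785 (13, false)),
    (912, .gen 785 (14, false)),
    (1086, .gen 79 (14, false)),
    (367, .gen 79 (17, true)),
    (2068, .gen 79 (21, false)),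
    (510, .gen 79 (21, true)),
    (1447, .gen 2368 (13, false)),
    (2901, .gen 1246 (14, false)),
    (1596, .gen 1246 (21, false)),
    (3035, .gen 1075 (13, false)),
    (2073, .gen 1075 (21, false)),
    (2723, .gen 3535 (11, false)),
    (3407, .gen 3535 (17, false)),
    (503, .gen 3535 (17, true)),
    (2950, .gen 3535 (21, false)),
    (486, .gen 2980 (11, false)),
    (2598, .gen 2980 (17, false)),
    (3487, .gen 2980 (17, true)),
    (1058, .gen 696 (17, false)),
    (2178, .gen 1597 (17, true)),
    (3664, .gen 1597 (21, false)),
    (2453, .gen 1597 (21, true)),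
    (2666, .gen 3332 (17, false)),
    (3210, .gen 3332 (17, true)),
    (2400, .gen 1614 (17, false)),
    (3052, .gen 1614 (21, true)),
    (2561, .gen 1016 (14, false)),
    (2119, .gen 1016 (21, true)),
    (3483, .gen 1207 (10, false)),
    (3292, .gen 1207 (17, false)),
    (3628, .gen 1207 (17, true)),
    (376, .gen 1207 (21, false)),
    (2833, .gen 535 (9, false)),
    (3593, .gen 535 (12, false)),
    (479, .gen 535 (13, false)),
    (418, .gen 535 (14, false)),
    (3486, .gen 535 (17, false)),
    (1406, .gen 2686 (21, true)),
    (1390, .gen 1096 (17, true)),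
    (835, .gen 1096 (21, false)),
    (615, .gen 58 (21, false)),
    (3513, .gen 3350 (21, false)),
    (3218, .gen 3350 (21, true)),
    (2450, .gen 1479 (17, false)),
    (504, .gen 1479 (21, false)),
    (1303, .gen 1681 (17, false)),
    (2514, .gen 1681 (17, true)),
    (2227, .gen 3316 (21, false)),
    (3015, .gen 864 (13, false)),
    (1297, .gen 1794 (13, false)),
    (1405, .gen 1919 (12, false)),
    (88, .gen 1919 (17, false)),
    (315, .gen 941 (21, false)),
    (2436, .gen 3645 (13, false)),
    (1210, .gen 3645 (14, false)),
    (1181, .gen 3645 (21, false)),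
    (25, .gen 626 (9, false)),
    (1052, .gen 626 (10, false)),
    (891, .gen 626 (12, false)),
    (3071, .gen 2891 (14, false)),
    (1756, .gen 2891 (17, true)),
    (557, .gen 820 (21, false)),
    (1904, .gen 2877 (17, true)),
    (2095, .gen 3668 (17, false)),
    (3730, .gen 3668 (21, false)),
    (3061, .gen 718 (13, false)),
    (1961, .gen 1114 (9, false)),
    (1008, .gen 1114 (13, false)),
    (1082, .gen 2571 (11, false)),
    (3400, .gen 2571 (17, true)),
    (2811, .gen 2571 (21, false)),
    (2693, .gen 1580 (12, false)),
    (2230, .gen 1580 (13, false)),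
    (1713, .gen 1580 (17, false)),
    (3121, .gen 1580 (21, true)),
    (2818, .gen 2149 (17, false)),
    (1813, .gen 2491 (17, false)),
    (2047, .gen 2491 (17, true)),
    (3010, .gen 2164 (17, false)),
    (2683, .gen 2134 (11, false)),
    (2650, .gen 2134 (12, false)),
    (3617, .gen 2134 (13, false)),
    (2838, .gen 2134 (14, false)),
    (3704, .gen 2134 (17, false)),
    (1558, .gen 2134 (17, true)),
    (2342, .gen 2134 (21, false)),
    (3060, .gen 2134 (21, true)),
    (2979, .gen 2125 (13, false)),
    (1858, .gen 2125 (14, false)),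
    (1924, .gen 2125 (21, false)),
    (952, .gen 2125 (21, true)),
    (801, .gen 1814 (13, false)),
    (2498, .gen 1814 (14, false)),
    (2890, .gen 1814 (21, false)),
    (1323, .gen 1814 (21, true)),
    (1622, .gen 2984 (11, false)),
    (735, .gen 2984 (12, false)),
    (1131, .gen 2984 (14, false)),
    (594, .gen 2984 (17, false)),
    (839, .gen 2984 (17, true)),
    (3320, .gen 2984 (21, false)),
    (1328, .gen 2984 (21, true)),
    (2069, .gen 2231 (11, false)),
    (3286, .gen 2231 (13, false)),
    (220, .gen 2231 (17, true)),
    (1398, .gen 2231 (21, true)),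
    (2565, .gen 2850 (13, false)),
    (3774, .gen 2850 (21, false)),
    (2633, .gen 2850 (21, true)),
    (1577, .gen 2003 (13, false)),
    (688, .gen 2003 (14, false)),
    (1533, .gen 2003 (21, false)),
    (1508, .gen 2003 (21, true)),
    (3120, .gen 2988 (10, false)),
    (1775, .gen 2988 (11, false)),
    (668, .gen 2988 (12, false)),
    (1974, .gen 2988 (13, false)),
    (2463, .gen 2988 (14, false)),
    (1731, .gen 2988 (17, false)),
    (3423, .gen 2988 (17, true)),
    (51, .gen 2988 (21, false)),
    (2926, .gen 720 (10, false)),
    (3767, .gen 720 (11, false)),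
    (2064, .gen 720 (12, false)),
    (1795, .gen 720 (13, false)),
    (1006, .gen 720 (17, false)),
    (796, .gen 720 (17, true)),
    (1043, .gen 2525 (12, false)),
    (2993, .gen 2525 (14, false)),
    (2127, .gen 2525 (17, false)),
    (3648, .gen 2525 (17, true)),
    (2384, .gen 2525 (21, true)),
    (997, .gen 2374 (14, false)),
    (3640, .gen 2374 (17, false)),
    (3360, .gen 2374 (17, true)),
    (3494, .gen 2374 (21, false)),
    (2266, .gen 2374 (21, true)),
    (2635, .gen 328 (17, false)),
    (1085, .gen 328 (17, true)),
    (3493, .gen 328 (21, false)),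
    (278, .gen 328 (21, true)),
    (1833, .gen 1469 (11, false)),
    (1637, .gen 1469 (17, false)),
    (3164, .gen 1469 (17, true)),
    (3430, .gen 3586 (13, false)),
    (1063, .gen 3586 (14, false)),
    (269, .gen 3586 (17, false)),
    (54, .gen 3586 (21, false)),
    (2420, .gen 3586 (21, true)),
    (583, .gen 3269 (13, false)),
    (3066, .gen 3269 (14, false)),
    (3266, .gen 3269 (21, false)),
    (2679, .gen 3269 (21, true)),
    (2885, .gen 765 (11, false)),
    (1090, .gen 765 (17, false)),
    (2987, .gen 765 (17, true)),
    (474, .gen 765 (21, false)),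
    (2532, .gen 429 (11, false)),
    (1175, .gen 429 (13, false)),
    (755, .gen 429 (17, false)),
    (1652, .gen 429 (17, true)),
    (3017, .gen 349 (13, false)),
    (1888, .gen 349 (21, false)),
    (946, .gen 349 (21, true)),
    (2754, .gen 1931 (12, false)),
    (1777, .gen 1931 (14, false)),
    (475, .gen 1931 (17, false)),
    (675, .gen 1931 (17, true)),
    (1672, .gen 1931 (21, false)),
    (2907, .gen 1931 (21, true)),
    (2165, .gen 2934 (13, false)),
    (2190, .gen 2934 (21, false)),
    (3239, .gen 2934 (21, true)),
    (723, .gen 1527 (13, false)),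
    (2884, .gen 1527 (21, false)),
    (1349, .gen 1527 (21, true)),
    (3422, .gen 3300 (13, false)),
    (676, .gen 3300 (14, false)),
    (1332, .gen 3300 (21, false)),
    (35, .gen 3300 (21, true)),
    (1783, .gen 764 (9, false)),
    (3643, .gen 764 (10, false)),
    (2859, .gen 764 (11, false)),
    (3437, .gen 764 (12, false)),
    (1700, .gen 764 (14, false)),
    (2262, .gen 764 (17, false)),
    (207, .gen 764 (17, true)),
    (1498, .gen 764 (21, false)),
    (3683, .gen 2383 (9, false)),
    (2324, .gen 2383 (10, false)),
    (2596, .gen 2383 (11, false)),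
    (3369, .gen 2383 (12, false)),
    (3338, .gen 2383 (13, false)),
    (1223, .gen 2383 (14, false)),
    (158, .gen 2383 (17, false)),
    (2059, .gen 2383 (17, true))]

/-- Visits. -/
def v2_8 : List (ℕ × Src) :=
  [(252, .gen 1153 (14, false)),
    (168, .gen 1153 (17, false)),
    (553, .gen 1153 (17, true)),
    (2695, .gen 1153 (21, false)),
    (3153, .gen 1153 (21, true)),
    (3069, .gen 427 (13, false)),
    (2224, .gen 1600 (13, false)),
    (1450, .gen 1600 (14, false)),
    (2078, .gen 1600 (21, false)),
    (372, .gen 1600 (21, true)),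
    (3521, .gen 2160 (13, false)),
    (433, .gen 2160 (21, false)),
    (1299, .gen 2160 (21, true)),
    (2524, .gen 736 (11, false)),
    (1064, .gen 736 (13, false)),
    (3443, .gen 736 (17, false)),
    (2725, .gen 736 (17, true)),
    (3003, .gen 736 (21, false)),
    (3282, .gen 2869 (11, false)),
    (488, .gen 2869 (13, false)),
    (2586, .gen 2869 (17, false)),
    (101, .gen 2869 (17, true)),
    (784, .gen 1718 (17, false)),
    (369, .gen 1718 (17, true)),
    (3634, .gen 1718 (21, false)),
    (1233, .gen 1718 (21, true)),
    (292, .gen 1650 (17, false)),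
    (1708, .gen 1650 (17, true)),
    (2697, .gen 1650 (21, false)),
    (3212, .gen 1650 (21, true)),
    (2367, .gen 1730 (11, false)),
    (2764, .gen 1730 (17, false)),
    (1810, .gen 1730 (17, true)),
    (1354, .gen 1471 (13, false)),
    (1399, .gen 1471 (14, false)),
    (3445, .gen 1471 (17, false)),
    (2836, .gen 1471 (21, false)),
    (520, .gen 1471 (21, true)),
    (1848, .gen 1273 (13, false)),
    (1093, .gen 1273 (14, false)),
    (1761, .gen 1273 (21, false)),
    (2415, .gen 1273 (21, true)),
    (3662, .gen 2521 (9, false)),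
    (2699, .gen 2521 (10, false)),
    (516, .gen 2521 (12, false)),
    (1284, .gen 2521 (13, false)),
    (3019, .gen 2521 (17, false)),
    (2653, .gen 2521 (17, true)),
    (2056, .gen 2521 (21, false)),
    (868, .gen 1620 (9, false)),
    (1384, .gen 1620 (12, false)),
    (1436, .gen 1620 (13, false)),
    (769, .gen 1620 (14, false)),
    (3749, .gen 1620 (17, false)),
    (1646, .gen 1620 (17, true)),
    (1038, .gen 2613 (21, false)),
    (2716, .gen 2613 (21, true)),
    (1317, .gen 507 (11, false)),
    (1148, .gen 507 (17, false)),
    (3169, .gen 507 (17, true)),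
    (2642, .gen 507 (21, false)),
    (3270, .gen 3381 (13, false)),
    (2626, .gen 3381 (21, false)),
    (2643, .gen 3381 (21, true)),
    (2322, .gen 2226 (13, false)),
    (330, .gen 2226 (21, false)),
    (2994, .gen 2226 (21, true)),
    (3083, .gen 3380 (13, false)),
    (388, .gen 3380 (17, false)),
    (2271, .gen 3380 (17, true)),
    (1474, .gen 3380 (21, false)),
    (1716, .gen 860 (17, false)),
    (422, .gen 860 (17, true)),
    (3208, .gen 3248 (11, false)),
    (1875, .gen 3248 (12, false)),
    (3659, .gen 3248 (14, false)),
    (660, .gen 3248 (17, false)),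
    (980, .gen 3248 (17, true)),
    (1480, .gen 3248 (21, false)),
    (1532, .gen 3248 (21, true)),
    (1176, .gen 3386 (13, false)),
    (3000, .gen 3386 (21, false)),
    (1550, .gen 3386 (21, true)),
    (2480, .gen 2027 (13, false)),
    (2576, .gen 2027 (21, false)),
    (2852, .gen 753 (9, false)),
    (1446, .gen 753 (11, false)),
    (2982, .gen 753 (12, false)),
    (3099, .gen 753 (13, false)),
    (1926, .gen 753 (14, false)),
    (1800, .gen 753 (17, false)),
    (1976, .gen 753 (17, true)),
    (2641, .gen 753 (21, false)),
    (2691, .gen 2804 (9, false)),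
    (2504, .gen 2804 (10, false)),
    (3207, .gen 2804 (11, false)),
    (34, .gen 2804 (14, false)),
    (1137, .gen 2804 (17, false)),
    (3064, .gen 2804 (17, true)),
    (2986, .gen 1603 (11, false)),
    (726, .gen 1603 (12, false)),
    (1239, .gen 1603 (14, false)),
    (36, .gen 1603 (17, false)),
    (2875, .gen 1603 (17, true)),
    (2152, .gen 1603 (21, false)),
    (2535, .gen 1603 (21, true)),
    (2630, .gen 1329 (13, false)),
    (345, .gen 1329 (21, false)),
    (3374, .gen 1329 (21, true)),
    (1513, .gen 1014 (10, false)),
    (3441, .gen 1014 (11, false)),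
    (2793, .gen 1014 (12, false)),
    (2692, .gen 1014 (13, false)),
    (1905, .gen 1014 (14, false)),
    (3143, .gen 1014 (17, false)),
    (1264, .gen 1014 (17, true)),
    (2325, .gen 1014 (21, false)),
    (2680, .gen 3771 (9, false)),
    (1859, .gen 3771 (10, false)),
    (2422, .gen 3771 (11, false)),
    (2835, .gen 3771 (12, false)),
    (2766, .gen 3771 (14, false)),
    (781, .gen 3771 (17, false)),
    (1426, .gen 3771 (17, true)),
    (2444, .gen 2591 (11, false)),
    (3709, .gen 2591 (14, false)),
    (3736, .gen 2591 (17, false)),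
    (3151, .gen 2591 (17, true)),
    (1929, .gen 2591 (21, false)),
    (453, .gen 1964 (11, false)),
    (1045, .gen 1964 (13, false)),
    (2517, .gen 1964 (21, false)),
    (3753, .gen 1255 (12, false)),
    (2490, .gen 1255 (13, false)),
    (928, .gen 1255 (17, false)),
    (1380, .gen 1255 (17, true)),
    (1573, .gen 1255 (21, false)),
    (1198, .gen 3403 (17, false)),
    (3707, .gen 3403 (17, true)),
    (2390, .gen 3403 (21, false)),
    (920, .gen 3761 (11, false)),
    (673, .gen 3761 (17, false)),
    (452, .gen 3761 (17, true)),
    (704, .gen 3761 (21, false)),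
    (3361, .gen 3343 (17, false)),
    (3502, .gen 3343 (17, true)),
    (3478, .gen 3343 (21, false)),
    (294, .gen 173 (13, false)),
    (2945, .gen 173 (14, false)),
    (564, .gen 173 (21, true)),
    (3518, .gen 2122 (13, false)),
    (3278, .gen 2122 (21, false)),
    (3419, .gen 2122 (21, true)),
    (1167, .gen 849 (9, false)),
    (2573, .gen 849 (11, false)),
    (789, .gen 849 (13, false)),
    (2698, .gen 849 (17, false)),
    (3365, .gen 849 (17, true)),
    (3383, .gen 1238 (11, false)),
    (940, .gen 1238 (17, false)),
    (3712, .gen 1238 (17, true)),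
    (2404, .gen 1238 (21, false)),
    (2685, .gen 1238 (21, true)),
    (2920, .gen 1970 (17, false)),
    (2305, .gen 1970 (17, true)),
    (3081, .gen 1209 (12, false)),
    (2651, .gen 1209 (13, false)),
    (1539, .gen 1209 (17, false)),
    (2096, .gen 1209 (17, true)),
    (3646, .gen 1209 (21, true)),
    (2637, .gen 2547 (17, false)),
    (2871, .gen 2547 (17, true)),
    (670, .gen 2747 (11, false)),
    (590, .gen 2747 (12, false)),
    (3546, .gen 2747 (14, false)),
    (447, .gen 2747 (17, false)),
    (3614, .gen 2747 (17, true)),
    (552, .gen 2747 (21, true)),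
    (3311, .gen 1111 (17, false)),
    (1554, .gen 1111 (17, true)),
    (2898, .gen 3719 (13, false)),
    (3402, .gen 3719 (17, false)),
    (454, .gen 3719 (21, false)),
    (658, .gen 3719 (21, true)),
    (1876, .gen 243 (13, false)),
    (2972, .gen 243 (21, false)),
    (915, .gen 472 (11, false)),
    (3687, .gen 472 (12, false)),
    (3372, .gen 472 (13, false)),
    (3492, .gen 472 (14, false)),
    (871, .gen 472 (17, false)),
    (1996, .gen 472 (17, true)),
    (2961, .gen 472 (21, false)),
    (3197, .gen 472 (21, true)),
    (2292, .gen 3745 (13, false)),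
    (1980, .gen 3745 (14, false)),
    (3421, .gen 3745 (21, false)),
    (100, .gen 613 (13, false)),
    (3231, .gen 613 (14, false)),
    (347, .gen 613 (21, false)),
    (3480, .gen 613 (21, true)),
    (560, .gen 2102 (11, false)),
    (1743, .gen 2102 (12, false)),
    (2287, .gen 2102 (14, false)),
    (3058, .gen 2102 (17, false)),
    (185, .gen 2102 (17, true)),
    (491, .gen 2102 (21, false)),
    (3631, .gen 2102 (21, true)),
    (3782, .gen 1348 (11, false)),
    (1166, .gen 1348 (13, false)),
    (3626, .gen 1348 (17, true)),
    (1594, .gen 1348 (21, true)),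
    (2439, .gen 1374 (13, false)),
    (1972, .gen 1374 (21, false)),
    (2588, .gen 1374 (21, true)),
    (1422, .gen 2098 (14, false)),
    (3638, .gen 2098 (21, true)),
    (425, .gen 1992 (10, false)),
    (1145, .gen 1992 (11, false)),
    (2067, .gen 1992 (12, false)),
    (3375, .gen 1992 (14, false)),
    (3170, .gen 1992 (17, false)),
    (2328, .gen 1992 (17, true)),
    (1628, .gen 1992 (21, false)),
    (737, .gen 1017 (10, false)),
    (2477, .gen 1017 (11, false)),
    (390, .gen 1017 (12, false)),
    (3211, .gen 1017 (13, false)),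
    (2839, .gen 1017 (17, false)),
    (2604, .gen 1894 (12, false)),
    (351, .gen 1894 (14, false)),
    (2777, .gen 1894 (17, true)),
    (2511, .gen 2914 (14, false)),
    (1141, .gen 2914 (17, false)),
    (2483, .gen 2914 (17, true)),
    (1913, .gen 2914 (21, false)),
    (274, .gen 2914 (21, true)),
    (3238, .gen 2063 (17, false)),
    (2722, .gen 2063 (17, true)),
    (1870, .gen 2063 (21, false)),
    (2048, .gen 2063 (21, true)),
    (2401, .gen 2310 (11, false)),
    (1541, .gen 2310 (17, false)),
    (894, .gen 2310 (17, true)),
    (965, .gen 1226 (13, false)),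
    (3764, .gen 1226 (14, false)),
    (3244, .gen 1226 (17, false)),
    (3084, .gen 1226 (21, false)),
    (3548, .gen 1226 (21, true)),
    (228, .gen 2520 (14, false)),
    (487, .gen 2520 (21, true)),
    (2012, .gen 2624 (11, false)),
    (1365, .gen 2624 (17, false)),
    (3726, .gen 2624 (21, false)),
    (1015, .gen 3133 (11, false)),
    (1741, .gen 3133 (17, true)),
    (966, .gen 2991 (13, false)),
    (2684, .gen 2991 (21, false)),
    (1680, .gen 2951 (17, false)),
    (2964, .gen 2951 (17, true)),
    (770, .gen 2951 (21, false)),
    (3711, .gen 3313 (13, false)),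
    (2933, .gen 3313 (21, false)),
    (3481, .gen 3158 (21, true)),
    (2720, .gen 2554 (13, false)),
    (2421, .gen 2554 (14, false)),
    (1845, .gen 2554 (21, true)),
    (834, .gen 2378 (10, false)),
    (400, .gen 2378 (12, false)),
    (845, .gen 2378 (14, false)),
    (3682, .gen 2378 (21, false)),
    (1856, .gen 2044 (13, false)),
    (136, .gen 3326 (14, false)),
    (478, .gen 3326 (21, false)),
    (3671, .gen 3326 (21, true)),
    (1691, .gen 1607 (13, false)),
    (1117, .gen 3755 (14, false)),
    (1050, .gen 3724 (21, true)),
    (1502, .gen 2330 (11, false)),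
    (2760, .gen 2330 (17, false)),
    (3625, .gen 2330 (17, true)),
    (3193, .gen 3412 (11, false)),
    (3448, .gen 2713 (17, true)),
    (610, .gen 2713 (21, true)),
    (2312, .gen 288 (17, false)),
    (3215, .gen 288 (21, false)),
    (1985, .gen 288 (21, true)),
    (353, .gen 3310 (17, false)),
    (938, .gen 1184 (13, false)),
    (728, .gen 1184 (14, false)),
    (2536, .gen 1184 (17, false)),
    (1107, .gen 1184 (21, false)),
    (3460, .gen 1184 (21, true)),
    (3160, .gen 533 (14, false)),
    (2834, .gen 533 (21, false)),
    (2474, .gen 1092 (9, false)),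
    (436, .gen 1092 (10, false)),
    (884, .gen 1092 (12, false)),
    (2968, .gen 1092 (17, false)),
    (1747, .gen 1092 (17, true))]

/-- Visits. -/
def v2_9 : List (ℕ × Src) :=
  [(3572, .gen 1381 (12, false)),
    (3584, .gen 1381 (14, false)),
    (3644, .gen 1381 (17, true)),
    (2086, .gen 1812 (11, false)),
    (1534, .gen 1812 (17, false)),
    (2646, .gen 1804 (21, true)),
    (3123, .gen 125 (17, false)),
    (3781, .gen 125 (17, true)),
    (1764, .gen 125 (21, false)),
    (2815, .gen 3401 (17, false)),
    (1135, .gen 2110 (21, false)),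
    (1269, .gen 2110 (21, true)),
    (3345, .gen 893 (13, false)),
    (2212, .gen 893 (21, false)),
    (1981, .gen 3227 (14, false)),
    (80, .gen 3227 (21, false)),
    (184, .gen 867 (9, false)),
    (2099, .gen 867 (10, false)),
    (1779, .gen 867 (14, false)),
    (542, .gen 867 (17, true)),
    (2091, .gen 1854 (11, false)),
    (2887, .gen 1854 (17, false)),
    (1816, .gen 1854 (17, true)),
    (3321, .gen 1224 (9, false)),
    (3352, .gen 1224 (10, false)),
    (1612, .gen 1224 (12, false)),
    (428, .gen 1224 (14, false)),
    (697, .gen 2607 (11, false)),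
    (1935, .gen 2607 (14, false)),
    (1599, .gen 2607 (17, false)),
    (307, .gen 2607 (21, false)),
    (890, .gen 502 (13, false)),
    (624, .gen 1536 (12, false)),
    (1434, .gen 1536 (17, true)),
    (1653, .gen 1536 (21, false)),
    (204, .gen 133 (17, false)),
    (1843, .gen 133 (17, true)),
    (2225, .gen 133 (21, false)),
    (2606, .gen 464 (11, false)),
    (2856, .gen 112 (17, false)),
    (3150, .gen 112 (21, false)),
    (2171, .gen 221 (13, false)),
    (2211, .gen 221 (14, false)),
    (3263, .gen 2092 (9, false)),
    (1975, .gen 2092 (13, false)),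
    (2340, .gen 659 (11, false)),
    (1077, .gen 659 (21, false)),
    (2135, .gen 659 (21, true)),
    (1366, .gen 2038 (17, true)),
    (2297, .gen 1493 (14, false)),
    (2232, .gen 443 (17, false)),
    (384, .gen 3195 (21, false)),
    (1444, .gen 190 (13, false)),
    (2257, .gen 190 (21, false)),
    (2919, .gen 2457 (13, false)),
    (2467, .gen 1106 (12, false)),
    (2774, .gen 1106 (14, false)),
    (554, .gen 1143 (17, false)),
    (2259, .gen 2897 (21, true)),
    (242, .gen 2829 (13, false)),
    (2419, .gen 3717 (17, true)),
    (1059, .gen 1220 (17, true)),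
    (2176, .gen 2894 (21, true)),
    (2711, .gen 3080 (17, true)),
    (1582, .gen 3693 (17, false)),
    (360, .gen 38 (13, false)),
    (881, .gen 559 (21, false)),
    (1186, .gen 2930 (21, true)),
    (2906, .gen 1734 (17, false)),
    (866, .gen 1734 (17, true)),
    (3565, .gen 1734 (21, false)),
    (2549, .gen 1152 (17, false)),
    (3527, .gen 1152 (17, true)),
    (3067, .gen 2057 (17, false)),
    (2544, .gen 333 (17, false)),
    (2449, .gen 333 (17, true)),
    (2484, .gen 3432 (17, false)),
    (1629, .gen 1227 (17, false)),
    (1491, .gen 1227 (17, true)),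
    (3718, .gen 2740 (21, true)),
    (3672, .gen 2118 (9, false)),
    (1510, .gen 3251 (17, false)),
    (2423, .gen 2373 (17, true)),
    (3576, .gen 1562 (21, false)),
    (393, .gen 309 (21, false)),
    (1768, .gen 1643 (17, false)),
    (431, .gen 1643 (21, false)),
    (2779, .gen 3042 (17, false)),
    (3465, .gen 3042 (17, true)),
    (2348, .gen 501 (21, true)),
    (3309, .gen 1657 (11, false)),
    (1500, .gen 1657 (17, false)),
    (1669, .gen 1657 (17, true)),
    (123, .gen 686 (11, false)),
    (2041, .gen 686 (17, false)),
    (2204, .gen 686 (17, true)),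
    (2872, .gen 1005 (12, false)),
    (650, .gen 1005 (17, true)),
    (3433, .gen 1005 (21, false)),
    (1571, .gen 1005 (21, true)),
    (1682, .gen 3162 (11, false)),
    (2018, .gen 3162 (17, false)),
    (2156, .gen 3162 (17, true)),
    (716, .gen 762 (17, false)),
    (1802, .gen 762 (17, true)),
    (3594, .gen 3129 (21, true)),
    (3793, .gen 1053 (21, false)),
    (1572, .gen 2196 (21, true)),
    (1593, .gen 1772 (21, true)),
    (2123, .gen 1159 (11, false)),
    (1340, .gen 313 (17, false)),
    (2969, .gen 313 (17, true)),
    (956, .gen 2996 (21, true)),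
    (2116, .gen 3295 (21, false)),
    (2895, .gen 355 (17, false)),
    (3274, .gen 355 (17, true)),
    (1773, .gen 1555 (17, false)),
    (1240, .gen 2011 (21, false)),
    (750, .gen 1759 (17, false)),
    (1060, .gen 3552 (17, false)),
    (1170, .gen 933 (11, false)),
    (601, .gen 933 (17, false)),
    (492, .gen 933 (17, true)),
    (524, .gen 2619 (17, false)),
    (2579, .gen 2619 (17, true)),
    (1798, .gen 222 (14, false)),
    (3543, .gen 222 (21, true)),
    (1204, .gen 2284 (17, false)),
    (2597, .gen 2842 (17, false)),
    (691, .gen 98 (17, false)),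
    (92, .gen 98 (17, true)),
    (3264, .gen 500 (13, false)),
    (1081, .gen 991 (21, false)),
    (2709, .gen 2552 (17, false)),
    (2462, .gen 2552 (17, true)),
    (2337, .gen 588 (17, false)),
    (2911, .gen 588 (17, true)),
    (3233, .gen 2106 (17, false)),
    (2820, .gen 2106 (17, true)),
    (2677, .gen 2660 (17, false)),
    (1029, .gen 2660 (17, true)),
    (791, .gen 2904 (13, false)),
    (1995, .gen 1147 (13, false)),
    (1641, .gen 621 (13, false)),
    (1820, .gen 1375 (21, true)),
    (1019, .gen 3250 (14, false)),
    (2036, .gen 3250 (21, true)),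
    (3014, .gen 13 (13, false)),
    (1892, .gen 805 (17, false)),
    (1557, .gen 805 (17, true)),
    (1879, .gen 152 (13, false)),
    (3237, .gen 1142 (17, false)),
    (3721, .gen 2332 (17, false)),
    (2853, .gen 2332 (17, true)),
    (2456, .gen 49 (14, false)),
    (455, .gen 1407 (17, false)),
    (955, .gen 2140 (17, false)),
    (1476, .gen 2140 (17, true)),
    (3004, .gen 2861 (17, false)),
    (3114, .gen 2861 (17, true)),
    (1193, .gen 1032 (17, false)),
    (3651, .gen 1032 (17, true)),
    (2126, .gen 1084 (17, false)),
    (982, .gen 1084 (17, true)),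
    (3532, .gen 3678 (21, true)),
    (2873, .gen 2731 (21, false)),
    (2752, .gen 2731 (21, true)),
    (1901, .gen 3399 (21, true)),
    (1574, .gen 3495 (21, true)),
    (3689, .gen 409 (21, false)),
    (2499, .gen 409 (21, true)),
    (2849, .gen 600 (17, false)),
    (2958, .gen 3379 (21, true)),
    (563, .gen 827 (21, false)),
    (1863, .gen 1027 (21, false)),
    (1719, .gen 1655 (17, false)),
    (1990, .gen 1655 (17, true)),
    (3768, .gen 1655 (21, false)),
    (2488, .gen 3006 (17, false)),
    (2505, .gen 3006 (17, true)),
    (3744, .gen 1146 (17, true)),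
    (1087, .gen 1608 (17, false)),
    (3130, .gen 1608 (21, false)),
    (2497, .gen 2394 (13, false)),
    (3787, .gen 2518 (12, false)),
    (1692, .gen 2518 (14, false)),
    (320, .gen 2518 (17, false)),
    (2358, .gen 2518 (21, false)),
    (1846, .gen 2518 (21, true)),
    (2356, .gen 3647 (11, false)),
    (2913, .gen 3647 (17, false)),
    (459, .gen 3647 (17, true)),
    (2103, .gen 210 (11, false)),
    (3128, .gen 210 (17, false)),
    (3132, .gen 210 (17, true)),
    (3485, .gen 3262 (12, false)),
    (3025, .gen 3262 (17, true)),
    (2350, .gen 3262 (21, false)),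
    (3073, .gen 3262 (21, true)),
    (1983, .gen 3265 (13, false)),
    (1522, .gen 1887 (11, false)),
    (2791, .gen 1887 (17, false)),
    (1881, .gen 1887 (17, true)),
    (295, .gen 2150 (17, false)),
    (3553, .gen 2150 (17, true)),
    (439, .gen 2298 (17, false)),
    (2582, .gen 2298 (17, true)),
    (2042, .gen 1635 (14, false)),
    (3488, .gen 1635 (21, true)),
    (513, .gen 2739 (21, false)),
    (2363, .gen 2739 (21, true)),
    (2795, .gen 3685 (9, false)),
    (2909, .gen 3685 (13, false)),
    (2729, .gen 3685 (17, false)),
    (3033, .gen 3436 (17, false)),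
    (2004, .gen 523 (21, true)),
    (3281, .gen 3568 (17, true)),
    (905, .gen 435 (21, false)),
    (124, .gen 435 (21, true)),
    (1757, .gen 47 (21, false)),
    (1832, .gen 2940 (17, true)),
    (3534, .gen 3474 (17, false)),
    (2823, .gen 3474 (17, true)),
    (1770, .gen 2460 (13, false)),
    (2465, .gen 2527 (21, false)),
    (2556, .gen 2527 (21, true)),
    (1714, .gen 3673 (13, false)),
    (3331, .gen 3165 (11, false)),
    (2461, .gen 3165 (17, false)),
    (1520, .gen 3165 (17, true)),
    (2569, .gen 2802 (17, false)),
    (2035, .gen 2802 (17, true)),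
    (3388, .gen 1031 (17, true)),
    (1304, .gen 1031 (21, true)),
    (1409, .gen 2533 (13, false)),
    (3283, .gen 3317 (11, false)),
    (730, .gen 3317 (17, true)),
    (1465, .gen 1228 (17, true)),
    (2397, .gen 779 (21, true)),
    (1927, .gen 3447 (21, false)),
    (2306, .gen 3447 (21, true)),
    (151, .gen 544 (21, true)),
    (1552, .gen 813 (17, true)),
    (3701, .gen 643 (17, false)),
    (3541, .gen 643 (17, true)),
    (2745, .gen 3425 (14, false)),
    (1952, .gen 3425 (17, true)),
    (2912, .gen 3425 (21, false)),
    (2104, .gen 3279 (11, false)),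
    (1997, .gen 3279 (17, false)),
    (607, .gen 2301 (11, false)),
    (3217, .gen 2301 (17, false)),
    (1909, .gen 2301 (17, true)),
    (2273, .gen 2800 (21, false)),
    (3018, .gen 2800 (21, true)),
    (1251, .gen 2665 (17, false)),
    (1118, .gen 1548 (17, false)),
    (467, .gen 1548 (17, true)),
    (1288, .gen 876 (21, true)),
    (1512, .gen 3305 (21, false)),
    (558, .gen 3696 (21, false)),
    (1007, .gen 440 (17, false)),
    (2664, .gen 3700 (11, false)),
    (2293, .gen 1726 (21, false)),
    (3686, .gen 2703 (17, false)),
    (3785, .gen 1475 (17, false)),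
    (1806, .gen 1475 (17, true)),
    (3116, .gen 3188 (21, false)),
    (2705, .gen 3137 (21, false)),
    (2076, .gen 698 (21, true)),
    (2408, .gen 2082 (21, false)),
    (1001, .gen 2082 (21, true)),
    (3642, .gen 1482 (17, false)),
    (322, .gen 1482 (17, true)),
    (2513, .gen 1540 (11, false)),
    (3390, .gen 1540 (17, false)),
    (1357, .gen 1540 (17, true)),
    (2429, .gen 1102 (21, true)),
    (754, .gen 1823 (21, false)),
    (581, .gen 1560 (17, false)),
    (1197, .gen 1501 (17, false)),
    (555, .gen 1501 (17, true)),
    (3431, .gen 3540 (14, false)),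
    (1724, .gen 2411 (17, false)),
    (46, .gen 2411 (17, true)),
    (1524, .gen 3571 (17, false)),
    (1535, .gen 103 (14, false)),
    (1298, .gen 1022 (17, false)),
    (1234, .gen 1022 (17, true)),
    (1410, .gen 1022 (21, true)),
    (76, .gen 193 (11, false)),
    (2117, .gen 193 (17, true)),
    (1912, .gen 1123 (21, false)),
    (1046, .gen 1123 (21, true)),
    (2761, .gen 281 (14, false)),
    (127, .gen 281 (21, false)),
    (1874, .gen 281 (21, true)),
    (910, .gen 2335 (21, false)),
    (612, .gen 293 (14, false)),
    (850, .gen 293 (21, false))]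

/-- Visits. -/
def v2_10 : List (ℕ × Src) :=
  [(2142, .gen 293 (21, true)),
    (146, .gen 2008 (13, false)),
    (3596, .gen 1200 (11, false)),
    (2109, .gen 1200 (17, false)),
    (2317, .gen 1200 (17, true)),
    (1955, .gen 1200 (21, false)),
    (883, .gen 515 (11, false)),
    (921, .gen 515 (17, false)),
    (3063, .gen 515 (17, true)),
    (1105, .gen 1144 (14, false)),
    (2932, .gen 1517 (13, false)),
    (2806, .gen 2867 (13, false)),
    (1933, .gen 2867 (17, false)),
    (1448, .gen 2867 (17, true)),
    (778, .gen 2867 (21, false)),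
    (1647, .gen 3599 (17, false)),
    (356, .gen 3599 (17, true)),
    (305, .gen 206 (21, true)),
    (598, .gen 2883 (11, false)),
    (218, .gen 2883 (17, false)),
    (423, .gen 2883 (17, true)),
    (1563, .gen 1677 (13, false)),
    (179, .gen 1677 (21, true)),
    (1055, .gen 2192 (13, false)),
    (3089, .gen 2192 (14, false)),
    (738, .gen 3694 (17, false)),
    (2589, .gen 3694 (21, false)),
    (41, .gen 1132 (13, false)),
    (2603, .gen 483 (11, false)),
    (989, .gen 128 (13, false)),
    (1241, .gen 329 (12, false)),
    (746, .gen 329 (14, false)),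
    (1495, .gen 329 (17, false)),
    (2882, .gen 329 (21, false)),
    (2537, .gen 329 (21, true)),
    (1122, .gen 821 (9, false)),
    (2151, .gen 821 (11, false)),
    (825, .gen 821 (13, false)),
    (752, .gen 821 (17, false)),
    (589, .gen 821 (17, true)),
    (1458, .gen 821 (21, false)),
    (306, .gen 1546 (11, false)),
    (1706, .gen 1546 (17, false)),
    (2566, .gen 1546 (17, true)),
    (224, .gen 944 (12, false)),
    (1969, .gen 944 (17, true)),
    (2652, .gen 944 (21, false)),
    (1556, .gen 944 (21, true)),
    (857, .gen 336 (13, false)),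
    (3001, .gen 1703 (11, false)),
    (2599, .gen 1703 (13, false)),
    (402, .gen 1703 (17, false)),
    (463, .gen 1703 (17, true)),
    (2097, .gen 3716 (9, false)),
    (1360, .gen 3716 (11, false)),
    (2331, .gen 3716 (17, false)),
    (906, .gen 3716 (17, true)),
    (2542, .gen 2688 (13, false)),
    (3710, .gen 2688 (21, false)),
    (73, .gen 708 (17, false)),
    (3746, .gen 2005 (11, false)),
    (2832, .gen 2005 (17, false)),
    (3463, .gen 2005 (17, true)),
    (484, .gen 3792 (17, false)),
    (316, .gen 3792 (17, true)),
    (2952, .gen 593 (14, false)),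
    (3029, .gen 593 (21, true)),
    (1351, .gen 233 (21, false)),
    (1037, .gen 233 (21, true)),
    (2182, .gen 1867 (9, false)),
    (2158, .gen 1867 (13, false)),
    (1341, .gen 1867 (17, false)),
    (2534, .gen 2478 (17, false)),
    (2459, .gen 3090 (13, false)),
    (3173, .gen 3090 (21, true)),
    (1678, .gen 1619 (17, true)),
    (2678, .gen 1665 (11, false)),
    (3077, .gen 1665 (17, false)),
    (3703, .gen 1665 (17, true)),
    (2066, .gen 1665 (21, true)),
    (2551, .gen 2105 (21, false)),
    (3161, .gen 2105 (21, true)),
    (548, .gen 2689 (21, false)),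
    (1470, .gen 259 (21, true)),
    (3620, .gen 954 (14, false)),
    (2347, .gen 954 (21, true)),
    (3677, .gen 2242 (17, false)),
    (3418, .gen 2242 (17, true)),
    (930, .gen 1162 (14, false)),
    (1661, .gen 1162 (21, true)),
    (1244, .gen 236 (21, true)),
    (2886, .gen 2371 (17, true)),
    (3557, .gen 2515 (17, false)),
    (3772, .gen 2515 (17, true)),
    (3747, .gen 990 (13, false)),
    (195, .gen 990 (21, false)),
    (2618, .gen 1623 (13, false)),
    (1965, .gen 1623 (14, false)),
    (481, .gen 1623 (21, true)),
    (1566, .gen 2997 (13, false)),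
    (2746, .gen 2393 (13, false)),
    (1182, .gen 3196 (21, false)),
    (3082, .gen 405 (17, false)),
    (3734, .gen 405 (21, false)),
    (1094, .gen 405 (21, true)),
    (116, .gen 3415 (13, false)),
    (561, .gen 1258 (11, false)),
    (1174, .gen 1258 (17, false)),
    (1786, .gen 1258 (17, true)),
    (276, .gen 1258 (21, false)),
    (2923, .gen 2219 (9, false)),
    (2053, .gen 2219 (11, false)),
    (3146, .gen 2219 (17, false)),
    (1378, .gen 2219 (17, true)),
    (1397, .gen 172 (17, true)),
    (2758, .gen 172 (21, false)),
    (3629, .gen 172 (21, true)),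
    (604, .gen 1967 (13, false)),
    (1437, .gen 2593 (11, false)),
    (52, .gen 2593 (17, true)),
    (2228, .gen 1327 (11, false)),
    (2955, .gen 1327 (17, true)),
    (3112, .gen 1419 (13, false)),
    (2020, .gen 1419 (21, false)),
    (1311, .gen 3304 (21, true)),
    (595, .gen 3048 (21, false)),
    (574, .gen 3048 (21, true)),
    (2023, .gen 1116 (21, true)),
    (3198, .gen 758 (11, false)),
    (2628, .gen 758 (17, false)),
    (2028, .gen 758 (17, true)),
    (78, .gen 758 (21, true)),
    (1821, .gen 3523 (21, true)),
    (1268, .gen 747 (21, false)),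
    (3684, .gen 747 (21, true)),
    (1989, .gen 3759 (11, false)),
    (3232, .gen 3759 (17, false)),
    (1157, .gen 3759 (17, true)),
    (310, .gen 3759 (21, false)),
    (1312, .gen 147 (11, false)),
    (742, .gen 147 (17, false)),
    (870, .gen 147 (17, true)),
    (3512, .gen 2578 (21, false)),
    (795, .gen 3168 (13, false)),
    (2045, .gen 62 (13, false)),
    (1674, .gen 1605 (17, false)),
    (2022, .gen 1605 (17, true)),
    (1666, .gen 1605 (21, false)),
    (3468, .gen 465 (17, false)),
    (3583, .gen 465 (17, true)),
    (2620, .gen 2391 (17, false)),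
    (1188, .gen 2391 (17, true)),
    (1739, .gen 3508 (17, false)),
    (699, .gen 3508 (17, true)),
    (1048, .gen 862 (14, false)),
    (2265, .gen 862 (17, true)),
    (2845, .gen 862 (21, false)),
    (1844, .gen 862 (21, true)),
    (2644, .gen 988 (11, false)),
    (3663, .gen 988 (17, false)),
    (2115, .gen 1067 (11, false)),
    (1275, .gen 1067 (17, false)),
    (3177, .gen 1067 (17, true)),
    (810, .gen 1576 (17, false)),
    (3172, .gen 1576 (21, false)),
    (3235, .gen 1576 (21, true)),
    (2090, .gen 2256 (11, false)),
    (2992, .gen 2256 (17, false)),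
    (1248, .gen 2649 (11, false)),
    (2085, .gen 2649 (17, false)),
    (3519, .gen 2649 (17, true)),
    (451, .gen 2197 (11, false)),
    (2365, .gen 2197 (17, false)),
    (2744, .gen 2197 (17, true)),
    (3501, .gen 3079 (12, false)),
    (1762, .gen 3079 (21, false)),
    (1161, .gen 1839 (17, false)),
    (3163, .gen 1839 (17, true)),
    (194, .gen 1627 (17, false)),
    (395, .gen 1627 (17, true)),
    (1570, .gen 3059 (13, false)),
    (2382, .gen 3059 (14, false)),
    (3355, .gen 3059 (21, true)),
    (3471, .gen 2054 (13, false)),
    (2251, .gen 1295 (13, false)),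
    (618, .gen 104 (17, false)),
    (3524, .gen 104 (17, true)),
    (2783, .gen 191 (17, false)),
    (985, .gen 191 (17, true)),
    (3692, .gen 2215 (17, false)),
    (2690, .gen 2215 (17, true)),
    (1149, .gen 2215 (21, true)),
    (3537, .gen 703 (17, false)),
    (671, .gen 703 (17, true)),
    (2274, .gen 3748 (17, false)),
    (1538, .gen 3748 (17, true)),
    (2039, .gen 640 (17, false)),
    (3253, .gen 640 (17, true)),
    (1236, .gen 3122 (13, false)),
    (153, .gen 2990 (13, false)),
    (3776, .gen 2990 (21, false)),
    (809, .gen 1383 (17, true)),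
    (1183, .gen 2792 (13, false)),
    (3307, .gen 2924 (13, false)),
    (855, .gen 1578 (21, false)),
    (2545, .gen 918 (17, false)),
    (903, .gen 407 (21, false)),
    (741, .gen 407 (21, true)),
    (1922, .gen 1417 (11, false)),
    (1334, .gen 1417 (17, false)),
    (3550, .gen 3051 (11, false)),
    (3690, .gen 2341 (21, false)),
    (1467, .gen 2341 (21, true)),
    (2555, .gen 160 (11, false)),
    (1217, .gen 160 (17, false)),
    (914, .gen 2303 (11, false)),
    (3618, .gen 2303 (17, false)),
    (1697, .gen 2303 (17, true)),
    (93, .gen 2291 (17, false)),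
    (2851, .gen 2956 (17, false)),
    (3616, .gen 2956 (17, true)),
    (2093, .gen 2240 (13, false)),
    (43, .gen 685 (21, false)),
    (3181, .gen 1932 (21, false)),
    (1395, .gen 1720 (13, false)),
    (1047, .gen 1542 (13, false)),
    (731, .gen 3023 (17, false)),
    (2563, .gen 3023 (17, true)),
    (2509, .gen 2605 (13, false)),
    (2431, .gen 1988 (13, false)),
    (873, .gen 3041 (13, false)),
    (1277, .gen 119 (13, false)),
    (2585, .gen 3442 (11, false)),
    (2295, .gen 3442 (14, false)),
    (3272, .gen 3442 (17, false)),
    (3327, .gen 3442 (21, true)),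
    (1837, .gen 960 (13, false)),
    (2944, .gen 1825 (17, false)),
    (2000, .gen 1825 (17, true)),
    (142, .gen 1588 (17, false)),
    (1416, .gen 1588 (17, true)),
    (3022, .gen 1478 (11, false)),
    (2141, .gen 1478 (14, false)),
    (757, .gen 1478 (17, true)),
    (2965, .gen 391 (13, false)),
    (577, .gen 1519 (11, false)),
    (3509, .gen 1519 (17, false)),
    (2971, .gen 1519 (17, true)),
    (1609, .gen 145 (17, false)),
    (1025, .gen 145 (17, true)),
    (639, .gen 2707 (21, false)),
    (2248, .gen 2147 (21, false)),
    (1559, .gen 2735 (21, false)),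
    (441, .gen 1095 (21, true)),
    (2821, .gen 1079 (21, false)),
    (3092, .gen 1079 (21, true)),
    (2854, .gen 3702 (17, false)),
    (1780, .gen 3702 (17, true)),
    (1872, .gen 1789 (21, true)),
    (370, .gen 362 (21, false)),
    (302, .gen 362 (21, true)),
    (2526, .gen 3413 (21, false)),
    (665, .gen 2446 (17, true)),
    (1445, .gen 1587 (17, true)),
    (3577, .gen 1110 (13, false)),
    (1737, .gen 3510 (21, false)),
    (1590, .gen 3510 (21, true)),
    (756, .gen 2580 (11, false)),
    (2846, .gen 2580 (17, false)),
    (389, .gen 2580 (17, true)),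
    (308, .gen 490 (11, false)),
    (3148, .gen 490 (17, false)),
    (551, .gen 490 (17, true)),
    (2662, .gen 2407 (21, false)),
    (2734, .gen 2407 (21, true)),
    (787, .gen 2120 (11, false)),
    (2159, .gen 2120 (17, false)),
    (1000, .gen 2120 (17, true)),
    (798, .gen 83 (11, false)),
    (2071, .gen 83 (17, false)),
    (2399, .gen 83 (17, true)),
    (2025, .gen 3261 (21, true)),
    (1606, .gen 3225 (21, false)),
    (1954, .gen 3225 (21, true)),
    (2590, .gen 2574 (21, false)),
    (800, .gen 2574 (21, true)),
    (2931, .gen 3105 (21, false)),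
    (1911, .gen 2785 (21, true)),
    (2769, .gen 1301 (21, false)),
    (1194, .gen 1301 (21, true)),
    (1287, .gen 1625 (13, false)),
    (1442, .gen 3722 (9, false)),
    (1018, .gen 3722 (13, false)),
    (970, .gen 3050 (14, false)),
    (2999, .gen 3050 (17, false)),
    (2866, .gen 3050 (17, true)),
    (3141, .gen 1758 (17, false)),
    (3528, .gen 1758 (17, true)),
    (2831, .gen 1658 (17, false)),
    (3209, .gen 1658 (17, true))]

/-- Visits. -/
def v2_11 : List (ℕ × Src) :=
  [(628, .gen 842 (11, false)),
    (3299, .gen 842 (17, false)),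
    (1787, .gen 2778 (17, false)),
    (3346, .gen 916 (17, false)),
    (462, .gen 916 (17, true)),
    (3405, .gen 3242 (11, false)),
    (380, .gen 2570 (17, false)),
    (3204, .gen 2570 (17, true)),
    (2074, .gen 2309 (13, false)),
    (3126, .gen 2309 (14, false)),
    (3323, .gen 3439 (17, false)),
    (1163, .gen 3439 (17, true)),
    (1994, .gen 3791 (13, false)),
    (3289, .gen 1158 (17, false)),
    (566, .gen 2879 (13, false)),
    (3046, .gen 2879 (17, false)),
    (1280, .gen 2927 (13, false)),
    (751, .gen 3356 (10, false)),
    (1051, .gen 3356 (17, true)),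
    (1387, .gen 3356 (21, false)),
    (1891, .gen 1218 (12, false)),
    (687, .gen 84 (17, false)),
    (2788, .gen 84 (17, true)),
    (1203, .gen 403 (17, false)),
    (1751, .gen 2481 (11, false)),
    (1020, .gen 1729 (17, false)),
    (3358, .gen 1729 (17, true)),
    (3740, .gen 231 (17, false)),
    (473, .gen 231 (17, true)),
    (275, .gen 3444 (17, false)),
    (2963, .gen 3444 (17, true)),
    (2595, .gen 1601 (13, false)),
    (3570, .gen 3505 (13, false)),
    (1791, .gen 2493 (17, true)),
    (3034, .gen 3773 (17, false)),
    (623, .gen 3773 (17, true)),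
    (1257, .gen 3119 (17, false)),
    (3713, .gen 3119 (17, true)),
    (40, .gen 541 (17, false)),
    (1841, .gen 541 (17, true)),
    (2359, .gen 943 (17, false)),
    (3213, .gen 943 (17, true)),
    (2205, .gen 1767 (13, false)),
    (2638, .gen 3159 (21, false)),
    (1506, .gen 573 (21, true)),
    (493, .gen 1944 (17, false)),
    (2153, .gen 299 (21, false)),
    (2188, .gen 186 (21, true)),
    (1549, .gen 1400 (13, false)),
    (105, .gen 311 (21, false)),
    (1489, .gen 182 (21, false)),
    (248, .gen 856 (9, false)),
    (1305, .gen 856 (11, false)),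
    (1044, .gen 3780 (17, false)),
    (2084, .gen 1693 (17, false)),
    (1461, .gen 540 (13, false)),
    (3581, .gen 984 (21, true)),
    (1415, .gen 512 (17, true)),
    (1871, .gen 2352 (11, false)),
    (1420, .gen 1074 (14, false)),
    (3556, .gen 3606 (21, false)),
    (897, .gen 361 (21, true)),
    (2185, .gen 1318 (17, true)),
    (1543, .gen 2209 (21, true)),
    (1778, .gen 2425 (14, false)),
    (937, .gen 2627 (11, false)),
    (3578, .gen 2687 (9, false)),
    (1634, .gen 1824 (21, false)),
    (2144, .gen 1808 (17, true)),
    (1004, .gen 2719 (17, false)),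
    (963, .gen 3426 (17, true)),
    (2750, .gen 3426 (21, true)),
    (48, .gen 1880 (17, true)),
    (3314, .gen 2186 (14, false)),
    (895, .gen 3229 (21, true)),
    (2313, .gen 387 (11, false)),
    (3335, .gen 3788 (14, false)),
    (81, .gen 3605 (13, false)),
    (2583, .gen 2608 (17, true)),
    (743, .gen 1660 (17, false)),
    (3404, .gen 365 (11, false)),
    (401, .gen 1315 (17, true)),
    (3450, .gen 2683 (14, false)),
    (674, .gen 3617 (17, false)),
    (438, .gen 3617 (17, true)),
    (3451, .gen 3617 (21, true)),
    (2631, .gen 2838 (11, false)),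
    (1918, .gen 2838 (17, true)),
    (3072, .gen 3704 (21, false)),
    (3032, .gen 3704 (21, true)),
    (545, .gen 1558 (14, false)),
    (1119, .gen 1558 (21, false)),
    (1971, .gen 1558 (21, true)),
    (2107, .gen 2342 (21, false)),
    (3118, .gen 2979 (14, false)),
    (2250, .gen 2979 (21, false)),
    (1748, .gen 2979 (21, true)),
    (2100, .gen 1858 (13, false)),
    (1322, .gen 1924 (11, false)),
    (2937, .gen 1924 (17, false)),
    (143, .gen 1924 (17, true)),
    (2223, .gen 1924 (21, false)),
    (3258, .gen 952 (11, false)),
    (2060, .gen 952 (17, false)),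
    (788, .gen 952 (17, true)),
    (2681, .gen 801 (14, false)),
    (65, .gen 2498 (13, false)),
    (1411, .gen 2890 (13, false)),
    (2427, .gen 2890 (17, false)),
    (2577, .gen 2890 (17, true)),
    (927, .gen 2890 (21, false)),
    (3149, .gen 1323 (17, false)),
    (1392, .gen 1323 (17, true)),
    (1890, .gen 1622 (21, true)),
    (216, .gen 1131 (11, false)),
    (1121, .gen 1131 (17, false)),
    (1938, .gen 1131 (17, true)),
    (3533, .gen 594 (13, false)),
    (1010, .gen 594 (21, true)),
    (1319, .gen 839 (13, false)),
    (383, .gen 839 (14, false)),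
    (777, .gen 3320 (17, false)),
    (1686, .gen 3320 (21, false)),
    (2426, .gen 1328 (13, false)),
    (1721, .gen 3286 (11, false)),
    (1788, .gen 220 (13, false)),
    (2657, .gen 2565 (12, false)),
    (2051, .gen 2565 (14, false)),
    (3397, .gen 2565 (17, false)),
    (1083, .gen 2565 (21, false)),
    (706, .gen 2565 (21, true)),
    (1898, .gen 3774 (9, false)),
    (3674, .gen 3774 (11, false)),
    (1140, .gen 3774 (13, false)),
    (2218, .gen 3774 (17, false)),
    (2672, .gen 3774 (17, true)),
    (1986, .gen 3774 (21, false)),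
    (254, .gen 2633 (11, false)),
    (227, .gen 2633 (17, false)),
    (2738, .gen 2633 (17, true)),
    (3453, .gen 1577 (12, false)),
    (2473, .gen 1577 (17, true)),
    (2548, .gen 1577 (21, false)),
    (3342, .gen 1577 (21, true)),
    (646, .gen 688 (13, false)),
    (978, .gen 1533 (11, false)),
    (2592, .gen 1533 (13, false)),
    (3777, .gen 1533 (17, false)),
    (247, .gen 1533 (17, true)),
    (2530, .gen 1508 (9, false)),
    (442, .gen 1508 (11, false)),
    (2034, .gen 1508 (17, false)),
    (2540, .gen 1508 (17, true)),
    (3680, .gen 1775 (13, false)),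
    (1754, .gen 1775 (21, false)),
    (3504, .gen 668 (17, false)),
    (936, .gen 1974 (11, false)),
    (3575, .gen 1974 (17, false)),
    (87, .gen 1974 (17, true)),
    (1765, .gen 2463 (17, false)),
    (1521, .gen 2463 (17, true)),
    (2252, .gen 1731 (14, false)),
    (631, .gen 1731 (21, true)),
    (2168, .gen 3423 (21, false)),
    (973, .gen 3423 (21, true)),
    (2787, .gen 51 (9, false)),
    (1376, .gen 51 (13, false)),
    (3075, .gen 51 (17, false)),
    (3470, .gen 2926 (17, false)),
    (568, .gen 3767 (13, false)),
    (126, .gen 3767 (21, true)),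
    (1711, .gen 2064 (17, true)),
    (352, .gen 1795 (11, false)),
    (156, .gen 1795 (17, false)),
    (416, .gen 1795 (17, true)),
    (1385, .gen 1795 (21, true)),
    (1687, .gen 1006 (21, false)),
    (2434, .gen 1006 (21, true)),
    (2255, .gen 796 (21, false)),
    (1425, .gen 2127 (21, true)),
    (2233, .gen 3648 (14, false)),
    (2482, .gen 3648 (21, true)),
    (108, .gen 2384 (17, false)),
    (1963, .gen 2384 (17, true)),
    (780, .gen 3640 (14, false)),
    (2489, .gen 3640 (21, true)),
    (3498, .gen 3360 (21, true)),
    (3597, .gen 3494 (17, true)),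
    (907, .gen 2266 (17, false)),
    (3585, .gen 2266 (17, true)),
    (2639, .gen 2635 (13, false)),
    (1722, .gen 2635 (21, false)),
    (1261, .gen 1085 (13, false)),
    (3558, .gen 1085 (14, false)),
    (2893, .gen 1085 (21, true)),
    (824, .gen 278 (13, false)),
    (2418, .gen 1637 (13, false)),
    (797, .gen 3164 (21, false)),
    (2899, .gen 3430 (17, false)),
    (2361, .gen 3430 (21, false)),
    (2114, .gen 3430 (21, true)),
    (2874, .gen 1063 (13, false)),
    (24, .gen 54 (11, false)),
    (2253, .gen 54 (17, false)),
    (2030, .gen 54 (17, true)),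
    (1753, .gen 54 (21, false)),
    (2403, .gen 2420 (9, false)),
    (1667, .gen 2420 (11, false)),
    (1302, .gen 2420 (17, false)),
    (2954, .gen 2420 (17, true)),
    (1840, .gen 583 (17, true)),
    (2995, .gen 583 (21, false)),
    (3192, .gen 583 (21, true)),
    (2375, .gen 3066 (13, false)),
    (1250, .gen 3266 (11, false)),
    (2277, .gen 3266 (17, true)),
    (3287, .gen 2679 (11, false)),
    (82, .gen 2679 (17, true)),
    (2300, .gen 2885 (13, false)),
    (1694, .gen 2885 (21, false)),
    (3654, .gen 1090 (21, true)),
    (1421, .gen 2987 (21, false)),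
    (205, .gen 2987 (21, true)),
    (3440, .gen 2532 (21, true)),
    (3511, .gen 1175 (11, false)),
    (1728, .gen 1175 (17, false)),
    (2015, .gen 1175 (17, true)),
    (3228, .gen 1175 (21, true)),
    (700, .gen 755 (21, true)),
    (1002, .gen 3017 (21, false)),
    (3569, .gen 3017 (21, true)),
    (2960, .gen 1888 (11, false)),
    (382, .gen 1888 (17, false)),
    (169, .gen 1888 (17, true)),
    (1347, .gen 1888 (21, false)),
    (226, .gen 946 (11, false)),
    (2810, .gen 946 (17, false)),
    (3136, .gen 946 (17, true)),
    (2129, .gen 2754 (21, false)),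
    (584, .gen 475 (13, false)),
    (1656, .gen 675 (13, false)),
    (2130, .gen 1672 (17, false)),
    (1503, .gen 1672 (17, true)),
    (841, .gen 1672 (21, false)),
    (1333, .gen 2907 (17, false)),
    (637, .gen 2907 (17, true)),
    (714, .gen 2190 (17, false)),
    (2844, .gen 2190 (17, true)),
    (2903, .gen 3239 (17, false)),
    (3139, .gen 3239 (17, true)),
    (67, .gen 723 (14, false)),
    (2139, .gen 723 (17, true)),
    (2349, .gen 723 (21, false)),
    (2748, .gen 723 (21, true)),
    (3047, .gen 2884 (11, false)),
    (1103, .gen 2884 (17, false)),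
    (3152, .gen 1349 (11, false)),
    (2108, .gen 1349 (17, false)),
    (3741, .gen 1349 (17, true)),
    (411, .gen 3422 (17, false)),
    (3760, .gen 3422 (21, false)),
    (3522, .gen 3422 (21, true)),
    (2432, .gen 1332 (11, false)),
    (2674, .gen 1332 (17, false)),
    (1930, .gen 35 (11, false)),
    (945, .gen 35 (17, false)),
    (3665, .gen 35 (17, true)),
    (1784, .gen 1783 (11, false)),
    (338, .gen 1783 (17, false)),
    (354, .gen 1783 (17, true)),
    (1011, .gen 2859 (12, false)),
    (3155, .gen 2859 (21, false)),
    (3140, .gen 3437 (17, false)),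
    (1690, .gen 3437 (17, true)),
    (2346, .gen 1700 (17, false)),
    (3085, .gen 1700 (17, true)),
    (2472, .gen 2262 (13, false)),
    (114, .gen 2262 (14, false)),
    (2905, .gen 2262 (21, true)),
    (2050, .gen 207 (13, false)),
    (2275, .gen 1498 (13, false)),
    (2173, .gen 3683 (17, false)),
    (2369, .gen 3683 (17, true)),
    (2452, .gen 2324 (17, false)),
    (3420, .gen 2324 (17, true)),
    (2828, .gen 2596 (17, false)),
    (1689, .gen 2596 (17, true)),
    (3619, .gen 2596 (21, true)),
    (75, .gen 3369 (17, false)),
    (586, .gen 3369 (17, true)),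
    (1396, .gen 3338 (17, false)),
    (2055, .gen 3338 (17, true)),
    (264, .gen 1223 (17, false)),
    (2430, .gen 1223 (17, true)),
    (1129, .gen 158 (13, false)),
    (926, .gen 2059 (13, false)),
    (1638, .gen 2059 (21, false)),
    (2299, .gen 252 (17, true)),
    (547, .gen 168 (13, false)),
    (1337, .gen 553 (13, false))]

/-- Visits. -/
def v2_12 : List (ℕ × Src) :=
  [(3398, .gen 2695 (21, false)),
    (1009, .gen 3069 (17, false)),
    (1991, .gen 2224 (21, false)),
    (1254, .gen 2224 (21, true)),
    (1598, .gen 2078 (11, false)),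
    (3185, .gen 2078 (17, false)),
    (3031, .gen 372 (11, false)),
    (2522, .gen 3521 (21, false)),
    (2435, .gen 3521 (21, true)),
    (2654, .gen 433 (11, false)),
    (2174, .gen 433 (17, false)),
    (1134, .gen 1299 (11, false)),
    (3127, .gen 1299 (17, false)),
    (2506, .gen 1299 (17, true)),
    (18, .gen 2524 (17, false)),
    (240, .gen 1064 (17, false)),
    (1165, .gen 1064 (17, true)),
    (56, .gen 3003 (13, false)),
    (406, .gen 2586 (21, false)),
    (2770, .gen 101 (21, false)),
    (627, .gen 784 (13, false)),
    (644, .gen 369 (13, false)),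
    (3291, .gen 3634 (17, false)),
    (497, .gen 3634 (17, true)),
    (2805, .gen 292 (13, false)),
    (3416, .gen 1708 (13, false)),
    (2175, .gen 2764 (13, false)),
    (1215, .gen 1810 (13, false)),
    (1740, .gen 1354 (11, false)),
    (1212, .gen 1354 (14, false)),
    (3562, .gen 1354 (17, false)),
    (1021, .gen 1354 (21, true)),
    (1895, .gen 1399 (13, false)),
    (3538, .gen 2836 (17, false)),
    (889, .gen 2836 (17, true)),
    (3742, .gen 520 (17, false)),
    (430, .gen 520 (17, true)),
    (3012, .gen 1848 (11, false)),
    (3135, .gen 1848 (14, false)),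
    (2379, .gen 1848 (17, true)),
    (3475, .gen 1093 (13, false)),
    (3224, .gen 1761 (11, false)),
    (2037, .gen 1761 (17, false)),
    (3315, .gen 1761 (17, true)),
    (975, .gen 2415 (17, false)),
    (2333, .gen 2415 (17, true)),
    (1819, .gen 3662 (21, false)),
    (3520, .gen 2699 (21, false)),
    (3021, .gen 1284 (21, false)),
    (3517, .gen 3019 (21, true)),
    (1959, .gen 2653 (21, false)),
    (3056, .gen 2653 (21, true)),
    (2743, .gen 2056 (17, false)),
    (2550, .gen 2056 (17, true)),
    (3679, .gen 1436 (21, true)),
    (2143, .gen 3749 (21, false)),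
    (1435, .gen 3749 (21, true)),
    (1373, .gen 1646 (21, false)),
    (2133, .gen 1038 (17, true)),
    (1362, .gen 2716 (17, true)),
    (1766, .gen 1148 (13, false)),
    (3362, .gen 3270 (21, false)),
    (1774, .gen 3270 (21, true)),
    (3763, .gen 2626 (11, false)),
    (2428, .gen 2626 (17, false)),
    (1564, .gen 2626 (17, true)),
    (1842, .gen 2643 (11, false)),
    (396, .gen 2643 (17, false)),
    (225, .gen 2643 (17, true)),
    (208, .gen 2322 (21, false)),
    (3234, .gen 2322 (21, true)),
    (3794, .gen 330 (11, false)),
    (2282, .gen 330 (17, false)),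
    (2464, .gen 330 (17, true)),
    (979, .gen 2994 (11, false)),
    (3661, .gen 2994 (17, false)),
    (3698, .gen 2994 (17, true)),
    (694, .gen 388 (21, true)),
    (2021, .gen 2271 (21, false)),
    (2169, .gen 2271 (21, true)),
    (2645, .gen 1716 (21, false)),
    (1809, .gen 1716 (21, true)),
    (2087, .gen 422 (21, false)),
    (1834, .gen 3208 (21, true)),
    (3427, .gen 1875 (21, false)),
    (1484, .gen 1875 (21, true)),
    (1028, .gen 660 (13, false)),
    (2088, .gen 1480 (9, false)),
    (1352, .gen 1480 (13, false)),
    (822, .gen 1532 (14, false)),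
    (1966, .gen 1532 (17, false)),
    (2786, .gen 1532 (17, true)),
    (290, .gen 1550 (17, false)),
    (166, .gen 1550 (17, true)),
    (2442, .gen 2576 (17, false)),
    (3542, .gen 2576 (17, true)),
    (848, .gen 2852 (11, false)),
    (2010, .gen 2852 (17, false)),
    (3708, .gen 1446 (17, false)),
    (1958, .gen 2982 (17, false)),
    (266, .gen 2982 (17, true)),
    (2858, .gen 3099 (11, false)),
    (5, .gen 1926 (17, false)),
    (2417, .gen 1926 (17, true)),
    (1463, .gen 1800 (13, false)),
    (3349, .gen 1800 (14, false)),
    (863, .gen 2504 (17, false)),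
    (155, .gen 2504 (17, true)),
    (3630, .gen 3207 (13, false)),
    (1705, .gen 34 (17, false)),
    (2612, .gen 1137 (13, false)),
    (2751, .gen 1137 (17, false)),
    (2500, .gen 2875 (13, false)),
    (117, .gen 2152 (10, false)),
    (2825, .gen 2152 (17, true)),
    (2531, .gen 2152 (21, false)),
    (549, .gen 2535 (12, false)),
    (2339, .gen 345 (17, false)),
    (2916, .gen 345 (17, true)),
    (1440, .gen 3374 (17, false)),
    (2402, .gen 1513 (11, false)),
    (2355, .gen 3441 (17, false)),
    (981, .gen 3441 (17, true)),
    (2543, .gen 2793 (17, false)),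
    (2258, .gen 2793 (17, true)),
    (3288, .gen 1905 (17, false)),
    (122, .gen 1905 (17, true)),
    (2247, .gen 1264 (13, false)),
    (211, .gen 2325 (13, false)),
    (662, .gen 2680 (17, true)),
    (2767, .gen 1859 (17, false)),
    (1769, .gen 1859 (17, true)),
    (2715, .gen 2422 (17, false)),
    (2364, .gen 2422 (17, true)),
    (1185, .gen 2835 (17, false)),
    (1993, .gen 2835 (17, true)),
    (729, .gen 2766 (17, false)),
    (199, .gen 2766 (17, true)),
    (1738, .gen 1426 (13, false)),
    (374, .gen 2444 (21, false)),
    (66, .gen 3151 (21, true)),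
    (1180, .gen 1045 (17, false)),
    (3650, .gen 3753 (21, false)),
    (2772, .gen 1198 (21, true)),
    (3223, .gen 704 (13, false)),
    (1553, .gen 3502 (21, false)),
    (993, .gen 2945 (21, false)),
    (1451, .gen 3419 (9, false)),
    (681, .gen 3419 (11, false)),
    (2837, .gen 789 (17, false)),
    (2623, .gen 590 (17, false)),
    (1177, .gen 552 (13, false)),
    (3252, .gen 1554 (21, true)),
    (620, .gen 915 (14, false)),
    (634, .gen 3372 (17, false)),
    (689, .gen 2292 (21, false)),
    (3635, .gen 1980 (13, false)),
    (1452, .gen 3421 (17, false)),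
    (1202, .gen 100 (14, false)),
    (3191, .gen 347 (13, false)),
    (3754, .gen 347 (17, false)),
    (350, .gen 2287 (17, false)),
    (1516, .gen 1972 (21, false)),
    (3649, .gen 3638 (9, false)),
    (189, .gen 2067 (17, false)),
    (2433, .gen 3375 (17, false)),
    (1723, .gen 1141 (14, false)),
    (3303, .gen 1912 (17, true)),
    (693, .gen 1046 (17, false)),
    (1190, .gen 1046 (17, true)),
    (3011, .gen 127 (17, true)),
    (1490, .gen 2806 (17, true)),
    (3293, .gen 218 (13, false)),
    (3714, .gen 1055 (17, true)),
    (3053, .gen 3089 (13, false)),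
    (2632, .gen 41 (21, true)),
    (1403, .gen 1241 (21, true)),
    (1270, .gen 1495 (13, false)),
    (1746, .gen 2652 (21, false)),
    (3636, .gen 2158 (17, false)),
    (1923, .gen 2066 (13, false)),
    (1168, .gen 3072 (17, true)),
    (1361, .gen 3032 (17, false)),
    (1755, .gen 3032 (17, true)),
    (3147, .gen 1119 (17, true)),
    (1325, .gen 1411 (17, true)),
    (2696, .gen 1121 (13, false)),
    (3256, .gen 1319 (17, true)),
    (2704, .gen 383 (13, false)),
    (2824, .gen 2426 (21, true)),
    (1339, .gen 2657 (21, true)),
    (1869, .gen 3397 (13, false)),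
    (2409, .gen 2548 (21, false)),
    (2900, .gen 1376 (17, false)),
    (1968, .gen 1385 (13, false))]

/-- The visits of node 2. -/
def visits2 : List (ℕ × Src) :=
  v2_0 ++ v2_1 ++ v2_2 ++ v2_3 ++ v2_4 ++ v2_5 ++ v2_6 ++ v2_7 ++ v2_8 ++ v2_9 ++ v2_10 ++ v2_11 ++ v2_12

/-- Visits. -/
def v3_0 : List (ℕ × Src) :=
  [(3, .edge 23 true),
    (10, .edge 27 false),
    (2602, .edge 29 false),
    (2647, .edge 30 false),
    (30, .edge 31 false),
    (2829, .edge 32 true),
    (2860, .edge 33 true),
    (3102, .edge 37 false),
    (1112, .edge 38 false),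
    (1582, .edge 39 true),
    (588, .edge 44 false),
    (333, .edge 210 false),
    (3251, .edge 211 false),
    (2, .edge 313 false),
    (1464, .edge 318 true),
    (540, .edge 377 false),
    (1043, .edge 384 true),
    (607, .edge 492 false),
    (648, .edge 493 false),
    (2642, .edge 511 true),
    (657, .edge 533 true),
    (222, .edge 534 true),
    (1424, .edge 827 false),
    (1576, .edge 837 true),
    (566, .edge 855 true),
    (840, .edge 857 true),
    (120, .edge 858 true),
    (302, .edge 859 true),
    (3126, .edge 861 true),
    (1878, .edge 862 true),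
    (1571, .edge 931 false),
    (3634, .edge 932 false),
    (825, .edge 1156 false),
    (947, .gen 3 (26, false)),
    (0, .gen 3 (28, false)),
    (506, .gen 3 (28, true)),
    (2792, .gen 3 (36, false)),
    (3457, .gen 3 (36, true)),
    (15, .gen 10 (28, false)),
    (21, .gen 10 (28, true)),
    (1081, .gen 10 (36, false)),
    (3473, .gen 10 (36, true)),
    (2261, .gen 2602 (28, false)),
    (424, .gen 2602 (36, false)),
    (1278, .gen 30 (24, false)),
    (500, .gen 30 (25, false)),
    (596, .gen 30 (25, true)),
    (1517, .gen 30 (26, false)),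
    (1358, .gen 30 (26, true)),
    (2919, .gen 30 (28, false)),
    (2974, .gen 30 (28, true)),
    (1798, .gen 30 (36, false)),
    (1486, .gen 2829 (24, false)),
    (3414, .gen 2829 (25, false)),
    (2957, .gen 2829 (25, true)),
    (1610, .gen 2829 (26, false)),
    (417, .gen 2829 (26, true)),
    (2281, .gen 2829 (28, false)),
    (2133, .gen 2829 (28, true)),
    (53, .gen 2829 (36, false)),
    (1179, .gen 2829 (36, true)),
    (2235, .gen 2860 (24, false)),
    (996, .gen 2860 (25, false)),
    (1178, .gen 2860 (25, true)),
    (2406, .gen 2860 (26, false)),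
    (766, .gen 2860 (26, true)),
    (1642, .gen 2860 (28, false)),
    (2892, .gen 2860 (28, true)),
    (1000, .gen 2860 (36, true)),
    (531, .gen 3102 (25, false)),
    (2640, .gen 3102 (28, false)),
    (445, .gen 1112 (25, false)),
    (1632, .gen 1112 (26, false)),
    (1350, .gen 1112 (28, false)),
    (197, .gen 1112 (36, false)),
    (431, .gen 1112 (36, true)),
    (2419, .gen 1582 (25, false)),
    (1882, .gen 1582 (28, false)),
    (811, .gen 588 (25, false)),
    (783, .gen 588 (28, false)),
    (469, .gen 588 (28, true)),
    (3156, .gen 588 (36, false)),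
    (2431, .gen 588 (36, true)),
    (629, .gen 333 (25, false)),
    (995, .gen 333 (28, false)),
    (1402, .gen 333 (28, true)),
    (3610, .gen 333 (36, false)),
    (2377, .gen 333 (36, true)),
    (526, .gen 3251 (25, false)),
    (2319, .gen 3251 (26, false)),
    (2947, .gen 3251 (28, false)),
    (3472, .gen 3251 (28, true)),
    (2968, .gen 3251 (36, false)),
    (1224, .gen 3251 (36, true)),
    (2286, .gen 2 (24, false)),
    (2797, .gen 2 (25, false)),
    (2033, .gen 2 (25, true)),
    (548, .gen 2 (26, false)),
    (2551, .gen 2 (26, true)),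
    (1537, .gen 2 (28, false)),
    (2875, .gen 2 (28, true)),
    (3131, .gen 2 (36, false)),
    (2739, .gen 2 (36, true)),
    (3324, .gen 1464 (24, false)),
    (1147, .gen 1464 (25, false)),
    (1641, .gen 1464 (25, true)),
    (3214, .gen 1464 (26, false)),
    (2516, .gen 1464 (26, true)),
    (1653, .gen 1464 (28, false)),
    (1497, .gen 1464 (28, true)),
    (3295, .gen 1464 (36, false)),
    (3273, .gen 1464 (36, true)),
    (1280, .gen 540 (24, false)),
    (1163, .gen 540 (25, false)),
    (248, .gen 540 (25, true)),
    (1377, .gen 540 (26, false)),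
    (2862, .gen 540 (26, true)),
    (1555, .gen 540 (28, false)),
    (1553, .gen 540 (28, true)),
    (3580, .gen 540 (36, false)),
    (3068, .gen 540 (36, true)),
    (1721, .gen 1043 (24, false)),
    (3538, .gen 1043 (25, false)),
    (3742, .gen 1043 (25, true)),
    (1534, .gen 1043 (26, false)),
    (2012, .gen 1043 (26, true)),
    (971, .gen 1043 (28, false)),
    (2696, .gen 1043 (28, true)),
    (1274, .gen 1043 (36, false)),
    (3609, .gen 1043 (36, true)),
    (2278, .gen 607 (24, false)),
    (523, .gen 607 (25, false)),
    (16, .gen 607 (25, true)),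
    (551, .gen 607 (26, false)),
    (1954, .gen 607 (26, true)),
    (1643, .gen 607 (28, false)),
    (2310, .gen 607 (28, true)),
    (2461, .gen 607 (36, false)),
    (3603, .gen 607 (36, true)),
    (1627, .gen 648 (24, false)),
    (1122, .gen 648 (25, false)),
    (84, .gen 648 (25, true)),
    (145, .gen 648 (26, false)),
    (2276, .gen 648 (26, true)),
    (807, .gen 648 (28, false)),
    (1072, .gen 648 (28, true)),
    (2594, .gen 648 (36, false)),
    (1149, .gen 648 (36, true)),
    (2960, .gen 2642 (24, false)),
    (2489, .gen 2642 (25, false)),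
    (3771, .gen 2642 (25, true)),
    (1836, .gen 2642 (26, false)),
    (1688, .gen 2642 (26, true)),
    (1406, .gen 2642 (28, false)),
    (2881, .gen 2642 (28, true)),
    (370, .gen 2642 (36, false)),
    (1735, .gen 2642 (36, true)),
    (1551, .gen 657 (24, false)),
    (245, .gen 657 (25, false)),
    (1477, .gen 657 (25, true)),
    (1317, .gen 657 (26, false)),
    (269, .gen 657 (26, true)),
    (2075, .gen 657 (28, false)),
    (1261, .gen 657 (28, true)),
    (1773, .gen 657 (36, false)),
    (1157, .gen 657 (36, true)),
    (3766, .gen 222 (24, false)),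
    (1568, .gen 222 (25, false)),
    (2011, .gen 222 (25, true)),
    (2410, .gen 222 (26, false)),
    (3515, .gen 222 (26, true)),
    (3617, .gen 222 (28, false)),
    (3352, .gen 222 (28, true)),
    (1053, .gen 222 (36, false)),
    (246, .gen 222 (36, true)),
    (782, .gen 1424 (24, false)),
    (361, .gen 1424 (25, false)),
    (2880, .gen 1424 (25, true)),
    (673, .gen 1424 (26, false)),
    (108, .gen 1424 (26, true)),
    (134, .gen 1424 (28, false)),
    (1266, .gen 1424 (28, true)),
    (3227, .gen 1424 (36, false)),
    (3652, .gen 1424 (36, true)),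
    (1356, .gen 1576 (24, false)),
    (1933, .gen 1576 (25, false)),
    (1647, .gen 1576 (25, true)),
    (2313, .gen 1576 (26, false)),
    (3241, .gen 1576 (26, true)),
    (1770, .gen 1576 (28, false)),
    (871, .gen 1576 (28, true)),
    (535, .gen 1576 (36, false)),
    (3731, .gen 1576 (36, true)),
    (2074, .gen 566 (24, false)),
    (466, .gen 566 (25, false)),
    (598, .gen 566 (25, true)),
    (1128, .gen 566 (26, false)),
    (3573, .gen 566 (26, true)),
    (3527, .gen 566 (28, false)),
    (1090, .gen 566 (28, true)),
    (1438, .gen 566 (36, false)),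
    (2684, .gen 566 (36, true)),
    (2774, .gen 840 (24, false)),
    (1945, .gen 840 (25, false)),
    (3174, .gen 840 (25, true)),
    (479, .gen 840 (26, false)),
    (1364, .gen 840 (26, true)),
    (830, .gen 840 (28, false)),
    (3654, .gen 840 (28, true)),
    (449, .gen 840 (36, false)),
    (3224, .gen 840 (36, true)),
    (2830, .gen 120 (24, false)),
    (138, .gen 120 (25, false)),
    (2560, .gen 120 (25, true)),
    (3317, .gen 120 (26, false)),
    (3165, .gen 120 (26, true)),
    (1450, .gen 120 (28, false)),
    (3228, .gen 120 (28, true)),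
    (2145, .gen 120 (36, false)),
    (582, .gen 120 (36, true)),
    (3141, .gen 302 (24, false)),
    (200, .gen 302 (25, false)),
    (146, .gen 302 (25, true)),
    (2936, .gen 302 (26, false)),
    (3254, .gen 302 (26, true)),
    (3743, .gen 302 (28, false)),
    (2092, .gen 302 (28, true)),
    (3599, .gen 302 (36, false)),
    (3033, .gen 302 (36, true)),
    (3161, .gen 3126 (24, false)),
    (1535, .gen 3126 (25, false)),
    (206, .gen 3126 (25, true)),
    (2338, .gen 3126 (26, false)),
    (293, .gen 3126 (26, true)),
    (372, .gen 3126 (28, false)),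
    (2324, .gen 3126 (28, true)),
    (592, .gen 3126 (36, false)),
    (1741, .gen 3126 (36, true)),
    (3074, .gen 1878 (24, false)),
    (1914, .gen 1878 (25, false)),
    (262, .gen 1878 (25, true)),
    (2312, .gen 1878 (26, false)),
    (1092, .gen 1878 (26, true)),
    (279, .gen 1878 (28, false)),
    (1301, .gen 1878 (28, true)),
    (3095, .gen 1878 (36, false)),
    (2317, .gen 1878 (36, true)),
    (2348, .gen 1571 (24, false)),
    (1487, .gen 1571 (25, false)),
    (3484, .gen 1571 (25, true)),
    (305, .gen 1571 (26, false)),
    (9, .gen 1571 (26, true)),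
    (1849, .gen 1571 (28, false)),
    (3201, .gen 1571 (28, true)),
    (1124, .gen 1571 (36, false)),
    (3426, .gen 1571 (36, true)),
    (3753, .gen 3634 (24, false)),
    (2835, .gen 3634 (25, false)),
    (2504, .gen 3634 (25, true)),
    (942, .gen 3634 (26, false)),
    (1359, .gen 3634 (26, true)),
    (2662, .gen 3634 (28, false)),
    (1440, .gen 3634 (28, true)),
    (12, .gen 3634 (36, false)),
    (223, .gen 3634 (36, true)),
    (2599, .gen 825 (24, false)),
    (711, .gen 825 (25, false)),
    (1200, .gen 825 (25, true)),
    (1159, .gen 825 (26, false)),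
    (762, .gen 825 (26, true)),
    (2111, .gen 825 (28, false)),
    (662, .gen 825 (28, true)),
    (1789, .gen 825 (36, false)),
    (1474, .gen 825 (36, true)),
    (1155, .gen 947 (28, false)),
    (371, .gen 947 (28, true)),
    (1988, .gen 947 (36, false)),
    (1939, .gen 947 (36, true)),
    (1940, .gen 0 (26, false)),
    (239, .gen 0 (28, false)),
    (2760, .gen 0 (36, false)),
    (2138, .gen 0 (36, true)),
    (92, .gen 506 (25, false)),
    (3293, .gen 2792 (24, false)),
    (3496, .gen 2792 (25, false)),
    (2886, .gen 2792 (25, true)),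
    (2096, .gen 2792 (26, false)),
    (1380, .gen 2792 (26, true)),
    (1673, .gen 3457 (24, false)),
    (2906, .gen 3457 (25, false)),
    (2549, .gen 3457 (25, true)),
    (2417, .gen 3457 (26, false)),
    (889, .gen 3457 (26, true)),
    (922, .gen 15 (28, false)),
    (1683, .gen 15 (36, false)),
    (1745, .gen 15 (36, true)),
    (2820, .gen 1081 (25, false)),
    (1029, .gen 1081 (25, true)),
    (2726, .gen 2261 (36, false)),
    (2204, .gen 424 (25, false))]

/-- Visits. -/
def v3_1 : List (ℕ × Src) :=
  [(630, .gen 1278 (28, false)),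
    (1338, .gen 1278 (28, true)),
    (1794, .gen 1278 (36, false)),
    (2715, .gen 1278 (36, true)),
    (1217, .gen 500 (26, false)),
    (3618, .gen 500 (26, true)),
    (2340, .gen 500 (28, false)),
    (1574, .gen 500 (28, true)),
    (1235, .gen 500 (36, false)),
    (1546, .gen 500 (36, true)),
    (3764, .gen 596 (28, false)),
    (3651, .gen 596 (28, true)),
    (3349, .gen 596 (36, false)),
    (1093, .gen 596 (36, true)),
    (2135, .gen 1517 (28, false)),
    (1651, .gen 1517 (28, true)),
    (721, .gen 1517 (36, false)),
    (3321, .gen 1517 (36, true)),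
    (1975, .gen 1358 (28, false)),
    (2002, .gen 1358 (28, true)),
    (1617, .gen 1358 (36, false)),
    (2889, .gen 1358 (36, true)),
    (1030, .gen 2919 (25, false)),
    (3566, .gen 2919 (25, true)),
    (549, .gen 2919 (26, false)),
    (2751, .gen 2919 (26, true)),
    (212, .gen 2974 (25, false)),
    (2616, .gen 2974 (25, true)),
    (3014, .gen 2974 (26, false)),
    (312, .gen 2974 (26, true)),
    (2611, .gen 1798 (24, false)),
    (309, .gen 1798 (25, false)),
    (2996, .gen 1798 (25, true)),
    (1127, .gen 1798 (26, false)),
    (1906, .gen 1798 (26, true)),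
    (3746, .gen 1486 (28, false)),
    (3139, .gen 1486 (28, true)),
    (542, .gen 1486 (36, false)),
    (977, .gen 1486 (36, true)),
    (1216, .gen 3414 (26, false)),
    (2740, .gen 3414 (26, true)),
    (3705, .gen 3414 (28, false)),
    (1926, .gen 3414 (28, true)),
    (3200, .gen 3414 (36, false)),
    (1696, .gen 3414 (36, true)),
    (283, .gen 2957 (28, false)),
    (797, .gen 2957 (28, true)),
    (496, .gen 2957 (36, false)),
    (1151, .gen 1610 (28, false)),
    (2183, .gen 1610 (28, true)),
    (2112, .gen 1610 (36, false)),
    (3734, .gen 1610 (36, true)),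
    (163, .gen 417 (28, false)),
    (1220, .gen 417 (28, true)),
    (3564, .gen 417 (36, false)),
    (1085, .gen 417 (36, true)),
    (1470, .gen 2281 (25, true)),
    (240, .gen 2281 (26, false)),
    (156, .gen 2281 (26, true)),
    (550, .gen 2281 (28, false)),
    (2390, .gen 2281 (36, false)),
    (3416, .gen 2133 (25, true)),
    (2190, .gen 2133 (26, false)),
    (3380, .gen 2133 (26, true)),
    (130, .gen 53 (24, false)),
    (2443, .gen 53 (25, false)),
    (3054, .gen 53 (26, false)),
    (1660, .gen 53 (26, true)),
    (1989, .gen 1179 (24, false)),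
    (1661, .gen 1179 (25, false)),
    (1586, .gen 1179 (26, false)),
    (3530, .gen 1179 (26, true)),
    (2167, .gen 2235 (28, false)),
    (3695, .gen 2235 (28, true)),
    (1857, .gen 2235 (36, false)),
    (3104, .gen 2235 (36, true)),
    (2245, .gen 996 (26, false)),
    (2061, .gen 996 (36, false)),
    (1622, .gen 996 (36, true)),
    (3500, .gen 2406 (28, true)),
    (2454, .gen 1642 (25, false)),
    (2584, .gen 1642 (25, true)),
    (2966, .gen 1642 (26, true)),
    (1841, .gen 1000 (24, false)),
    (1867, .gen 1000 (25, false)),
    (2020, .gen 1000 (25, true)),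
    (2813, .gen 1000 (26, false)),
    (1371, .gen 1000 (26, true)),
    (2386, .gen 531 (28, false)),
    (695, .gen 445 (26, false)),
    (713, .gen 445 (36, false)),
    (2538, .gen 1632 (28, true)),
    (420, .gen 1632 (36, false)),
    (2441, .gen 1632 (36, true)),
    (559, .gen 1350 (25, false)),
    (3594, .gen 197 (25, false)),
    (1669, .gen 431 (25, false)),
    (661, .gen 2419 (28, false)),
    (419, .gen 811 (28, false)),
    (1211, .gen 811 (28, true)),
    (3091, .gen 811 (36, false)),
    (1183, .gen 811 (36, true)),
    (603, .gen 783 (26, false)),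
    (303, .gen 783 (28, false)),
    (3555, .gen 783 (36, false)),
    (1599, .gen 783 (36, true)),
    (917, .gen 469 (25, false)),
    (1367, .gen 469 (26, false)),
    (3598, .gen 3156 (24, false)),
    (3080, .gen 3156 (25, false)),
    (1026, .gen 3156 (25, true)),
    (3644, .gen 3156 (26, false)),
    (391, .gen 2431 (24, false)),
    (665, .gen 2431 (25, false)),
    (699, .gen 2431 (25, true)),
    (1781, .gen 2431 (26, false)),
    (734, .gen 629 (28, false)),
    (1, .gen 629 (28, true)),
    (1999, .gen 629 (36, false)),
    (2029, .gen 629 (36, true)),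
    (745, .gen 995 (26, false)),
    (44, .gen 995 (28, false)),
    (1020, .gen 995 (36, false)),
    (1025, .gen 995 (36, true)),
    (251, .gen 1402 (25, false)),
    (2270, .gen 1402 (26, false)),
    (3702, .gen 3610 (24, false)),
    (1767, .gen 3610 (25, false)),
    (1575, .gen 3610 (25, true)),
    (2788, .gen 3610 (26, false)),
    (2971, .gen 3610 (26, true)),
    (910, .gen 2377 (24, false)),
    (2205, .gen 2377 (25, false)),
    (3213, .gen 2377 (25, true)),
    (3011, .gen 2377 (26, false)),
    (1257, .gen 2377 (26, true)),
    (2655, .gen 526 (26, false)),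
    (655, .gen 526 (28, false)),
    (343, .gen 526 (28, true)),
    (3518, .gen 526 (36, false)),
    (3502, .gen 526 (36, true)),
    (2660, .gen 2319 (28, false)),
    (317, .gen 2319 (28, true)),
    (3382, .gen 2319 (36, false)),
    (3667, .gen 2319 (36, true)),
    (2985, .gen 2947 (25, false)),
    (3275, .gen 2947 (28, false)),
    (2983, .gen 2947 (36, false)),
    (1760, .gen 2947 (36, true)),
    (1389, .gen 3472 (25, false)),
    (1516, .gen 2968 (25, false)),
    (938, .gen 2968 (25, true)),
    (1463, .gen 2968 (26, false)),
    (2612, .gen 2968 (26, true)),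
    (2527, .gen 2286 (28, false)),
    (1177, .gen 2286 (28, true)),
    (1335, .gen 2286 (36, false)),
    (1899, .gen 2286 (36, true)),
    (1222, .gen 2797 (26, false)),
    (193, .gen 2797 (26, true)),
    (1774, .gen 2797 (28, false)),
    (2395, .gen 2797 (28, true)),
    (3643, .gen 2797 (36, false)),
    (2102, .gen 2797 (36, true)),
    (3234, .gen 2033 (28, false)),
    (1832, .gen 2033 (28, true)),
    (1618, .gen 2033 (36, false)),
    (573, .gen 2033 (36, true)),
    (2532, .gen 548 (28, false)),
    (3096, .gen 548 (28, true)),
    (1565, .gen 548 (36, false)),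
    (1724, .gen 548 (36, true)),
    (2651, .gen 2551 (28, false)),
    (2024, .gen 2551 (28, true)),
    (2213, .gen 2551 (36, false)),
    (1192, .gen 2551 (36, true)),
    (544, .gen 1537 (25, false)),
    (779, .gen 1537 (25, true)),
    (1117, .gen 1537 (26, false)),
    (1381, .gen 1537 (26, true)),
    (2977, .gen 1537 (28, false)),
    (2691, .gen 1537 (36, false)),
    (2109, .gen 1537 (36, true)),
    (2738, .gen 2875 (25, false)),
    (973, .gen 2875 (25, true)),
    (1409, .gen 2875 (26, false)),
    (3601, .gen 2875 (26, true)),
    (758, .gen 3131 (24, false)),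
    (1922, .gen 3131 (25, false)),
    (3405, .gen 3131 (25, true)),
    (1573, .gen 3131 (26, false)),
    (2107, .gen 3131 (26, true)),
    (3137, .gen 2739 (24, false)),
    (2360, .gen 2739 (25, false)),
    (1921, .gen 2739 (25, true)),
    (3285, .gen 2739 (26, false)),
    (1057, .gen 2739 (26, true)),
    (2171, .gen 3324 (28, false)),
    (2544, .gen 3324 (28, true)),
    (2043, .gen 3324 (36, false)),
    (2442, .gen 3324 (36, true)),
    (43, .gen 1147 (26, false)),
    (3181, .gen 1147 (26, true)),
    (3574, .gen 1147 (28, false)),
    (647, .gen 1147 (28, true)),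
    (1708, .gen 1147 (36, false)),
    (1958, .gen 1147 (36, true)),
    (3408, .gen 1641 (28, false)),
    (2230, .gen 1641 (28, true)),
    (2649, .gen 1641 (36, false)),
    (1336, .gen 1641 (36, true)),
    (1515, .gen 3214 (28, false)),
    (1451, .gen 3214 (28, true)),
    (2987, .gen 3214 (36, false)),
    (1337, .gen 3214 (36, true)),
    (1581, .gen 2516 (28, false)),
    (155, .gen 2516 (28, true)),
    (2042, .gen 2516 (36, false)),
    (2242, .gen 2516 (36, true)),
    (3394, .gen 1653 (25, false)),
    (2048, .gen 1653 (25, true)),
    (296, .gen 1653 (26, false)),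
    (439, .gen 1653 (26, true)),
    (1606, .gen 1653 (28, false)),
    (2901, .gen 1653 (36, false)),
    (38, .gen 1653 (36, true)),
    (111, .gen 1497 (25, false)),
    (521, .gen 1497 (25, true)),
    (1725, .gen 1497 (26, false)),
    (81, .gen 1497 (26, true)),
    (3590, .gen 3295 (24, false)),
    (3336, .gen 3295 (25, false)),
    (2387, .gen 3295 (25, true)),
    (3017, .gen 3295 (26, false)),
    (2613, .gen 3295 (26, true)),
    (617, .gen 3273 (24, false)),
    (3395, .gen 3273 (25, false)),
    (3672, .gen 3273 (25, true)),
    (3728, .gen 3273 (26, false)),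
    (1342, .gen 3273 (26, true)),
    (672, .gen 1280 (28, false)),
    (1769, .gen 1280 (28, true)),
    (3622, .gen 1280 (36, false)),
    (3120, .gen 1280 (36, true)),
    (1631, .gen 1163 (26, false)),
    (2912, .gen 1163 (26, true)),
    (815, .gen 1163 (28, false)),
    (2168, .gen 1163 (28, true)),
    (1246, .gen 1163 (36, false)),
    (1959, .gen 1163 (36, true)),
    (314, .gen 248 (28, false)),
    (2540, .gen 248 (28, true)),
    (1494, .gen 248 (36, false)),
    (1496, .gen 248 (36, true)),
    (686, .gen 1377 (28, false)),
    (1421, .gen 1377 (28, true)),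
    (65, .gen 1377 (36, false)),
    (3362, .gen 1377 (36, true)),
    (2284, .gen 2862 (28, false)),
    (82, .gen 2862 (28, true)),
    (730, .gen 2862 (36, false)),
    (2283, .gen 2862 (36, true)),
    (393, .gen 1555 (25, false)),
    (933, .gen 1555 (25, true)),
    (575, .gen 1555 (26, false)),
    (1709, .gen 1555 (26, true)),
    (1276, .gen 1555 (28, false)),
    (1088, .gen 1555 (36, false)),
    (3345, .gen 1555 (36, true)),
    (474, .gen 1553 (25, false)),
    (1754, .gen 1553 (25, true)),
    (980, .gen 1553 (26, false)),
    (1686, .gen 1553 (26, true)),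
    (641, .gen 3580 (24, false)),
    (3195, .gen 3580 (25, false)),
    (1023, .gen 3580 (25, true)),
    (2046, .gen 3580 (26, false)),
    (253, .gen 3580 (26, true)),
    (816, .gen 3068 (24, false)),
    (509, .gen 3068 (25, false)),
    (217, .gen 3068 (25, true)),
    (3058, .gen 3068 (26, false)),
    (624, .gen 3068 (26, true)),
    (680, .gen 1721 (28, false)),
    (168, .gen 1721 (28, true)),
    (918, .gen 1721 (36, false)),
    (847, .gen 1721 (36, true)),
    (1843, .gen 3538 (26, false)),
    (3481, .gen 3538 (26, true)),
    (3739, .gen 3538 (28, false)),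
    (2271, .gen 3538 (28, true)),
    (3090, .gen 3538 (36, false)),
    (883, .gen 3538 (36, true)),
    (858, .gen 3742 (28, false)),
    (1711, .gen 3742 (28, true)),
    (2228, .gen 3742 (36, false)),
    (970, .gen 3742 (36, true)),
    (1547, .gen 1534 (28, false)),
    (547, .gen 1534 (28, true)),
    (2113, .gen 1534 (36, false))]

/-- Visits. -/
def v3_2 : List (ℕ × Src) :=
  [(1383, .gen 1534 (36, true)),
    (3699, .gen 2012 (28, false)),
    (1121, .gen 2012 (28, true)),
    (2301, .gen 2012 (36, false)),
    (1482, .gen 2012 (36, true)),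
    (1704, .gen 971 (25, false)),
    (2144, .gen 971 (25, true)),
    (2474, .gen 971 (28, false)),
    (1423, .gen 971 (36, false)),
    (1828, .gen 971 (36, true)),
    (3597, .gen 2696 (25, false)),
    (1539, .gen 2696 (25, true)),
    (2567, .gen 1274 (25, false)),
    (2298, .gen 1274 (25, true)),
    (1475, .gen 1274 (26, false)),
    (2802, .gen 1274 (26, true)),
    (525, .gen 2278 (28, false)),
    (3372, .gen 2278 (28, true)),
    (3558, .gen 2278 (36, false)),
    (3320, .gen 2278 (36, true)),
    (310, .gen 523 (26, false)),
    (757, .gen 523 (26, true)),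
    (651, .gen 523 (28, false)),
    (472, .gen 523 (28, true)),
    (3061, .gen 523 (36, false)),
    (861, .gen 523 (36, true)),
    (23, .gen 16 (28, false)),
    (2287, .gen 16 (28, true)),
    (3243, .gen 16 (36, false)),
    (2807, .gen 16 (36, true)),
    (1657, .gen 551 (28, false)),
    (480, .gen 551 (28, true)),
    (288, .gen 551 (36, false)),
    (753, .gen 551 (36, true)),
    (3162, .gen 1954 (28, false)),
    (1166, .gen 1954 (28, true)),
    (722, .gen 1954 (36, false)),
    (2841, .gen 1954 (36, true)),
    (1934, .gen 1643 (25, false)),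
    (3199, .gen 1643 (25, true)),
    (2256, .gen 1643 (26, false)),
    (988, .gen 1643 (26, true)),
    (2026, .gen 1643 (28, false)),
    (3385, .gen 1643 (36, false)),
    (3539, .gen 1643 (36, true)),
    (1854, .gen 2310 (25, false)),
    (2876, .gen 2310 (25, true)),
    (390, .gen 2310 (26, false)),
    (2236, .gen 2310 (26, true)),
    (2569, .gen 2461 (24, false)),
    (1146, .gen 2461 (25, false)),
    (2989, .gen 2461 (25, true)),
    (3218, .gen 2461 (26, false)),
    (900, .gen 2461 (26, true)),
    (1626, .gen 3603 (24, false)),
    (1916, .gen 3603 (25, false)),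
    (888, .gen 3603 (25, true)),
    (685, .gen 3603 (26, false)),
    (232, .gen 3603 (26, true)),
    (1108, .gen 1627 (28, false)),
    (1639, .gen 1627 (28, true)),
    (885, .gen 1627 (36, false)),
    (1762, .gen 1627 (36, true)),
    (1944, .gen 1122 (26, false)),
    (708, .gen 1122 (26, true)),
    (877, .gen 1122 (28, false)),
    (919, .gen 1122 (28, true)),
    (3082, .gen 1122 (36, false)),
    (2564, .gen 1122 (36, true)),
    (1852, .gen 84 (28, false)),
    (135, .gen 84 (28, true)),
    (1969, .gen 84 (36, false)),
    (446, .gen 84 (36, true)),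
    (90, .gen 145 (28, false)),
    (115, .gen 145 (28, true)),
    (1677, .gen 145 (36, false)),
    (1563, .gen 145 (36, true)),
    (2617, .gen 2276 (28, false)),
    (1946, .gen 2276 (28, true)),
    (1623, .gen 2276 (36, false)),
    (2618, .gen 2276 (36, true)),
    (106, .gen 807 (25, false)),
    (1363, .gen 807 (25, true)),
    (450, .gen 807 (26, false)),
    (2541, .gen 807 (26, true)),
    (306, .gen 807 (28, false)),
    (2839, .gen 807 (36, false)),
    (2887, .gen 807 (36, true)),
    (601, .gen 1072 (25, false)),
    (1060, .gen 1072 (25, true)),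
    (744, .gen 1072 (26, false)),
    (385, .gen 1072 (26, true)),
    (1579, .gen 2594 (24, false)),
    (3758, .gen 2594 (25, false)),
    (611, .gen 2594 (25, true)),
    (710, .gen 2594 (26, false)),
    (1027, .gen 2594 (26, true)),
    (2066, .gen 1149 (24, false)),
    (1416, .gen 1149 (25, false)),
    (3092, .gen 1149 (25, true)),
    (3373, .gen 1149 (26, false)),
    (1734, .gen 1149 (26, true)),
    (2491, .gen 2960 (28, false)),
    (2571, .gen 2960 (28, true)),
    (1294, .gen 2960 (36, false)),
    (280, .gen 2960 (36, true)),
    (2928, .gen 2489 (26, false)),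
    (1884, .gen 2489 (26, true)),
    (1970, .gen 2489 (28, false)),
    (3110, .gen 2489 (28, true)),
    (564, .gen 2489 (36, false)),
    (2433, .gen 2489 (36, true)),
    (3546, .gen 3771 (28, false)),
    (1614, .gen 3771 (28, true)),
    (1004, .gen 3771 (36, false)),
    (1716, .gen 3771 (36, true)),
    (2349, .gen 1836 (28, false)),
    (2361, .gen 1836 (28, true)),
    (808, .gen 1836 (36, false)),
    (1408, .gen 1836 (36, true)),
    (848, .gen 1688 (28, false)),
    (2522, .gen 1688 (28, true)),
    (530, .gen 1688 (36, false)),
    (3233, .gen 1688 (36, true)),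
    (3400, .gen 1406 (25, false)),
    (1904, .gen 1406 (25, true)),
    (3486, .gen 1406 (26, false)),
    (3292, .gen 1406 (26, true)),
    (2859, .gen 1406 (28, false)),
    (2709, .gen 1406 (36, false)),
    (957, .gen 1406 (36, true)),
    (410, .gen 2881 (25, false)),
    (503, .gen 2881 (25, true)),
    (1243, .gen 2881 (26, false)),
    (3121, .gen 2881 (26, true)),
    (2526, .gen 370 (24, false)),
    (1003, .gen 370 (25, false)),
    (2883, .gen 370 (25, true)),
    (3509, .gen 370 (26, false)),
    (1609, .gen 370 (26, true)),
    (460, .gen 1735 (24, false)),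
    (2668, .gen 1735 (25, false)),
    (1501, .gen 1735 (25, true)),
    (1289, .gen 1735 (26, false)),
    (468, .gen 1735 (26, true)),
    (260, .gen 1551 (28, false)),
    (2325, .gen 1551 (28, true)),
    (3668, .gen 1551 (36, false)),
    (3231, .gen 1551 (36, true)),
    (1809, .gen 245 (26, false)),
    (3252, .gen 245 (26, true)),
    (3315, .gen 245 (28, false)),
    (2436, .gen 245 (28, true)),
    (1776, .gen 245 (36, false)),
    (2750, .gen 245 (36, true)),
    (2916, .gen 1477 (28, false)),
    (1297, .gen 1477 (28, true)),
    (3736, .gen 1477 (36, false)),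
    (2952, .gen 1477 (36, true)),
    (927, .gen 1317 (28, false)),
    (3725, .gen 1317 (28, true)),
    (1687, .gen 1317 (36, false)),
    (3686, .gen 1317 (36, true)),
    (1819, .gen 269 (28, false)),
    (1310, .gen 269 (28, true)),
    (1550, .gen 269 (36, false)),
    (484, .gen 269 (36, true)),
    (2157, .gen 2075 (25, false)),
    (3124, .gen 2075 (25, true)),
    (909, .gen 2075 (26, false)),
    (3347, .gen 2075 (26, true)),
    (731, .gen 2075 (28, false)),
    (636, .gen 2075 (36, false)),
    (438, .gen 2075 (36, true)),
    (2844, .gen 1261 (25, false)),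
    (1362, .gen 1261 (25, true)),
    (3732, .gen 1261 (26, false)),
    (759, .gen 1261 (26, true)),
    (3465, .gen 1773 (24, false)),
    (1866, .gen 1773 (25, false)),
    (1005, .gen 1773 (25, true)),
    (369, .gen 1773 (26, false)),
    (2175, .gen 1773 (26, true)),
    (3063, .gen 1157 (24, false)),
    (50, .gen 1157 (25, false)),
    (1277, .gen 1157 (25, true)),
    (3532, .gen 1157 (26, false)),
    (2849, .gen 1157 (26, true)),
    (1469, .gen 3766 (28, false)),
    (2646, .gen 3766 (28, true)),
    (365, .gen 3766 (36, false)),
    (2001, .gen 3766 (36, true)),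
    (948, .gen 1568 (26, false)),
    (2765, .gen 1568 (26, true)),
    (1490, .gen 1568 (28, false)),
    (3182, .gen 1568 (28, true)),
    (73, .gen 1568 (36, false)),
    (3443, .gen 1568 (36, true)),
    (3418, .gen 2011 (28, false)),
    (3257, .gen 2011 (28, true)),
    (3230, .gen 2011 (36, false)),
    (2179, .gen 2011 (36, true)),
    (1780, .gen 2410 (28, false)),
    (3525, .gen 2410 (28, true)),
    (3388, .gen 2410 (36, false)),
    (2401, .gen 2410 (36, true)),
    (1234, .gen 3515 (28, false)),
    (2052, .gen 3515 (28, true)),
    (242, .gen 3515 (36, false)),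
    (2501, .gen 3515 (36, true)),
    (2972, .gen 3617 (25, false)),
    (454, .gen 3617 (25, true)),
    (1974, .gen 3617 (26, false)),
    (3494, .gen 3617 (26, true)),
    (316, .gen 3617 (28, false)),
    (2650, .gen 3617 (36, false)),
    (669, .gen 3617 (36, true)),
    (697, .gen 3352 (25, false)),
    (770, .gen 3352 (25, true)),
    (2260, .gen 3352 (26, false)),
    (297, .gen 3352 (26, true)),
    (1076, .gen 1053 (24, false)),
    (739, .gen 1053 (25, false)),
    (1504, .gen 1053 (25, true)),
    (478, .gen 1053 (26, false)),
    (728, .gen 1053 (26, true)),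
    (2689, .gen 246 (24, false)),
    (62, .gen 246 (25, false)),
    (3577, .gen 246 (25, true)),
    (3744, .gen 246 (26, false)),
    (1282, .gen 246 (26, true)),
    (1071, .gen 782 (28, false)),
    (3568, .gen 782 (28, true)),
    (2165, .gen 782 (36, false)),
    (2800, .gen 782 (36, true)),
    (726, .gen 361 (26, false)),
    (545, .gen 361 (26, true)),
    (3109, .gen 361 (28, false)),
    (2999, .gen 361 (28, true)),
    (2369, .gen 361 (36, false)),
    (2708, .gen 361 (36, true)),
    (477, .gen 2880 (28, false)),
    (389, .gen 2880 (28, true)),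
    (1285, .gen 2880 (36, false)),
    (2083, .gen 2880 (36, true)),
    (838, .gen 673 (28, false)),
    (462, .gen 673 (28, true)),
    (1106, .gen 673 (36, false)),
    (2383, .gen 673 (36, true)),
    (137, .gen 108 (28, false)),
    (2025, .gen 108 (28, true)),
    (2306, .gen 108 (36, false)),
    (1981, .gen 108 (36, true)),
    (678, .gen 134 (25, false)),
    (896, .gen 134 (25, true)),
    (1316, .gen 134 (26, false)),
    (1104, .gen 134 (26, true)),
    (1410, .gen 134 (28, false)),
    (931, .gen 134 (36, false)),
    (571, .gen 134 (36, true)),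
    (2103, .gen 1266 (25, false)),
    (558, .gen 1266 (25, true)),
    (1287, .gen 1266 (26, false)),
    (1955, .gen 1266 (26, true)),
    (342, .gen 3227 (24, false)),
    (3191, .gen 3227 (25, false)),
    (2624, .gen 3227 (25, true)),
    (2073, .gen 3227 (26, false)),
    (1596, .gen 3227 (26, true)),
    (2688, .gen 3652 (24, false)),
    (1244, .gen 3652 (25, false)),
    (414, .gen 3652 (25, true)),
    (2472, .gen 3652 (26, false)),
    (1129, .gen 3652 (26, true)),
    (3435, .gen 1356 (28, false)),
    (3671, .gen 1356 (28, true)),
    (2084, .gen 1356 (36, false)),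
    (2232, .gen 1356 (36, true)),
    (1073, .gen 1933 (26, false)),
    (3332, .gen 1933 (26, true)),
    (3287, .gen 1933 (28, false)),
    (869, .gen 1933 (28, true)),
    (1544, .gen 1933 (36, false)),
    (3595, .gen 1933 (36, true)),
    (822, .gen 1647 (28, false)),
    (964, .gen 1647 (28, true)),
    (2307, .gen 1647 (36, false)),
    (352, .gen 2313 (28, false)),
    (1862, .gen 2313 (28, true)),
    (2768, .gen 2313 (36, true)),
    (1384, .gen 3241 (28, false)),
    (2296, .gen 3241 (28, true)),
    (3579, .gen 3241 (36, false)),
    (3476, .gen 3241 (36, true)),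
    (1998, .gen 1770 (25, true)),
    (3648, .gen 1770 (26, false)),
    (2418, .gen 1770 (26, true)),
    (3010, .gen 1770 (28, false)),
    (1990, .gen 1770 (36, false)),
    (2856, .gen 871 (25, true))]

/-- Visits. -/
def v3_3 : List (ℕ × Src) :=
  [(2857, .gen 871 (26, false)),
    (3461, .gen 871 (26, true)),
    (715, .gen 535 (24, false)),
    (3602, .gen 535 (25, false)),
    (3040, .gen 535 (25, true)),
    (1873, .gen 535 (26, false)),
    (1826, .gen 535 (26, true)),
    (1198, .gen 3731 (26, false)),
    (2920, .gen 3731 (26, true)),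
    (1139, .gen 2074 (28, false)),
    (755, .gen 2074 (28, true)),
    (152, .gen 2074 (36, false)),
    (2652, .gen 2074 (36, true)),
    (277, .gen 466 (26, false)),
    (632, .gen 466 (26, true)),
    (1347, .gen 466 (28, false)),
    (2763, .gen 466 (28, true)),
    (3035, .gen 466 (36, false)),
    (3205, .gen 466 (36, true)),
    (2379, .gen 598 (28, false)),
    (413, .gen 598 (28, true)),
    (1169, .gen 598 (36, false)),
    (124, .gen 598 (36, true)),
    (2169, .gen 1128 (28, false)),
    (2628, .gen 1128 (28, true)),
    (2581, .gen 1128 (36, false)),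
    (1511, .gen 1128 (36, true)),
    (225, .gen 3573 (28, false)),
    (2831, .gen 3573 (28, true)),
    (2903, .gen 3573 (36, false)),
    (3608, .gen 3573 (36, true)),
    (1330, .gen 3527 (25, false)),
    (457, .gen 3527 (25, true)),
    (3335, .gen 3527 (26, false)),
    (2321, .gen 3527 (26, true)),
    (2257, .gen 3527 (28, false)),
    (349, .gen 3527 (36, false)),
    (1193, .gen 3527 (36, true)),
    (780, .gen 1090 (25, false)),
    (3430, .gen 1090 (25, true)),
    (3351, .gen 1090 (26, false)),
    (3438, .gen 1090 (26, true)),
    (1460, .gen 1438 (24, false)),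
    (2935, .gen 1438 (25, false)),
    (1271, .gen 1438 (25, true)),
    (539, .gen 1438 (26, false)),
    (2405, .gen 1438 (26, true)),
    (1992, .gen 2684 (24, false)),
    (3313, .gen 2684 (25, false)),
    (2292, .gen 2684 (25, true)),
    (345, .gen 2684 (26, false)),
    (1898, .gen 2684 (26, true)),
    (866, .gen 2774 (28, false)),
    (2672, .gen 2774 (28, true)),
    (704, .gen 2774 (36, false)),
    (3469, .gen 2774 (36, true)),
    (2077, .gen 1945 (26, false)),
    (1320, .gen 1945 (26, true)),
    (3562, .gen 1945 (28, false)),
    (3175, .gen 1945 (28, true)),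
    (1771, .gen 1945 (36, false)),
    (2907, .gen 1945 (36, true)),
    (694, .gen 479 (28, false)),
    (2380, .gen 479 (28, true)),
    (610, .gen 479 (36, false)),
    (1823, .gen 479 (36, true)),
    (266, .gen 1364 (28, false)),
    (1514, .gen 1364 (28, true)),
    (2117, .gen 1364 (36, false)),
    (346, .gen 830 (25, false)),
    (2269, .gen 830 (25, true)),
    (1890, .gen 830 (26, false)),
    (3212, .gen 830 (26, true)),
    (1396, .gen 830 (28, false)),
    (1637, .gen 830 (36, false)),
    (2922, .gen 830 (36, true)),
    (3223, .gen 3654 (25, false)),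
    (2139, .gen 3654 (25, true)),
    (3340, .gen 3654 (26, false)),
    (3078, .gen 3654 (26, true)),
    (923, .gen 449 (24, false)),
    (3522, .gen 449 (26, false)),
    (2748, .gen 449 (26, true)),
    (1484, .gen 3224 (24, false)),
    (3248, .gen 2830 (28, false)),
    (3256, .gen 2830 (28, true)),
    (768, .gen 2830 (36, false)),
    (837, .gen 2830 (36, true)),
    (818, .gen 138 (26, false)),
    (1847, .gen 138 (26, true)),
    (1191, .gen 138 (28, false)),
    (3307, .gen 138 (28, true)),
    (1114, .gen 138 (36, false)),
    (2351, .gen 138 (36, true)),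
    (2385, .gen 2560 (28, false)),
    (809, .gen 2560 (28, true)),
    (899, .gen 2560 (36, false)),
    (1756, .gen 2560 (36, true)),
    (3718, .gen 3317 (28, false)),
    (2468, .gen 3317 (28, true)),
    (64, .gen 3317 (36, false)),
    (2814, .gen 3317 (36, true)),
    (2449, .gen 3165 (28, false)),
    (1448, .gen 3165 (28, true)),
    (1502, .gen 3165 (36, false)),
    (1399, .gen 3165 (36, true)),
    (3719, .gen 1450 (25, false)),
    (173, .gen 1450 (25, true)),
    (2214, .gen 1450 (26, false)),
    (3757, .gen 1450 (26, true)),
    (2562, .gen 1450 (28, false)),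
    (2683, .gen 1450 (36, false)),
    (594, .gen 1450 (36, true)),
    (166, .gen 3228 (25, false)),
    (66, .gen 3228 (25, true)),
    (395, .gen 3228 (26, false)),
    (3471, .gen 3228 (26, true)),
    (3449, .gen 2145 (24, false)),
    (398, .gen 2145 (25, false)),
    (998, .gen 2145 (25, true)),
    (3312, .gen 2145 (26, false)),
    (2263, .gen 2145 (26, true)),
    (844, .gen 582 (24, false)),
    (109, .gen 582 (25, false)),
    (2809, .gen 582 (25, true)),
    (534, .gen 582 (26, false)),
    (974, .gen 582 (26, true)),
    (74, .gen 3141 (28, false)),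
    (189, .gen 3141 (28, true)),
    (553, .gen 3141 (36, false)),
    (3749, .gen 3141 (36, true)),
    (519, .gen 200 (26, false)),
    (1509, .gen 200 (26, true)),
    (2017, .gen 200 (28, false)),
    (2354, .gen 200 (28, true)),
    (1730, .gen 200 (36, false)),
    (1011, .gen 200 (36, true)),
    (3606, .gen 146 (28, false)),
    (3653, .gen 146 (28, true)),
    (3339, .gen 146 (36, false)),
    (930, .gen 146 (36, true)),
    (2687, .gen 2936 (28, false)),
    (2467, .gen 2936 (28, true)),
    (1119, .gen 2936 (36, false)),
    (1414, .gen 2936 (36, true)),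
    (2229, .gen 3254 (28, false)),
    (2457, .gen 3254 (28, true)),
    (1386, .gen 3254 (36, false)),
    (671, .gen 3254 (36, true)),
    (3657, .gen 3743 (25, false)),
    (1715, .gen 3743 (25, true)),
    (3081, .gen 3743 (26, false)),
    (1233, .gen 3743 (26, true)),
    (412, .gen 3743 (28, false)),
    (3112, .gen 3743 (36, false)),
    (2143, .gen 3743 (36, true)),
    (1985, .gen 2092 (25, false)),
    (1141, .gen 2092 (25, true)),
    (3038, .gen 2092 (26, false)),
    (2938, .gen 2092 (26, true)),
    (2557, .gen 3599 (24, false)),
    (561, .gen 3599 (25, false)),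
    (3001, .gen 3599 (25, true)),
    (3480, .gen 3599 (26, false)),
    (3626, .gen 3599 (26, true)),
    (3446, .gen 3033 (24, false)),
    (1714, .gen 3033 (25, false)),
    (2661, .gen 3033 (25, true)),
    (190, .gen 3033 (26, false)),
    (2072, .gen 3033 (26, true)),
    (2679, .gen 3161 (28, false)),
    (1398, .gen 3161 (28, true)),
    (2674, .gen 3161 (36, false)),
    (2577, .gen 3161 (36, true)),
    (1334, .gen 1535 (26, false)),
    (1821, .gen 1535 (26, true)),
    (35, .gen 1535 (28, false)),
    (366, .gen 1535 (28, true)),
    (1039, .gen 1535 (36, false)),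
    (1143, .gen 1535 (36, true)),
    (1971, .gen 206 (28, false)),
    (2149, .gen 206 (28, true)),
    (2320, .gen 206 (36, false)),
    (2671, .gen 206 (36, true)),
    (2524, .gen 2338 (28, false)),
    (376, .gen 2338 (28, true)),
    (1593, .gen 2338 (36, false)),
    (2753, .gen 2338 (36, true)),
    (2490, .gen 293 (28, false)),
    (557, .gen 293 (28, true)),
    (2625, .gen 293 (36, false)),
    (285, .gen 293 (36, true)),
    (3680, .gen 372 (25, false)),
    (516, .gen 372 (25, true)),
    (1255, .gen 372 (26, false)),
    (936, .gen 372 (26, true)),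
    (1084, .gen 372 (28, false)),
    (812, .gen 372 (36, false)),
    (2448, .gen 372 (36, true)),
    (2402, .gen 2324 (25, false)),
    (1480, .gen 2324 (25, true)),
    (3487, .gen 2324 (26, false)),
    (1291, .gen 2324 (26, true)),
    (1649, .gen 592 (24, false)),
    (1457, .gen 592 (25, false)),
    (1523, .gen 592 (25, true)),
    (422, .gen 592 (26, false)),
    (777, .gen 592 (26, true)),
    (2588, .gen 1741 (24, false)),
    (1536, .gen 1741 (25, false)),
    (3448, .gen 1741 (25, true)),
    (487, .gen 1741 (26, false)),
    (2328, .gen 1741 (26, true)),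
    (467, .gen 3074 (28, false)),
    (2393, .gen 3074 (28, true)),
    (1533, .gen 3074 (36, false)),
    (1689, .gen 3074 (36, true)),
    (184, .gen 1914 (26, false)),
    (2710, .gen 1914 (26, true)),
    (3166, .gen 1914 (28, false)),
    (944, .gen 1914 (28, true)),
    (2178, .gen 1914 (36, false)),
    (2407, .gen 1914 (36, true)),
    (1066, .gen 262 (28, false)),
    (128, .gen 262 (28, true)),
    (409, .gen 262 (36, false)),
    (411, .gen 262 (36, true)),
    (2363, .gen 2312 (28, false)),
    (1333, .gen 2312 (28, true)),
    (935, .gen 2312 (36, false)),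
    (873, .gen 2312 (36, true)),
    (3132, .gen 1092 (28, false)),
    (2130, .gen 1092 (28, true)),
    (3000, .gen 1092 (36, false)),
    (213, .gen 1092 (36, true)),
    (2004, .gen 279 (25, false)),
    (2268, .gen 279 (25, true)),
    (1175, .gen 279 (26, false)),
    (3060, .gen 279 (26, true)),
    (91, .gen 279 (28, false)),
    (3222, .gen 279 (36, false)),
    (1665, .gen 279 (36, true)),
    (182, .gen 1301 (25, false)),
    (2274, .gen 1301 (25, true)),
    (3232, .gen 1301 (26, false)),
    (742, .gen 1301 (26, true)),
    (664, .gen 3095 (24, false)),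
    (118, .gen 3095 (25, false)),
    (3045, .gen 3095 (25, true)),
    (2631, .gen 3095 (26, false)),
    (2754, .gen 3095 (26, true)),
    (870, .gen 2317 (24, false)),
    (1720, .gen 2317 (25, false)),
    (1746, .gen 2317 (25, true)),
    (2732, .gen 2317 (26, false)),
    (230, .gen 2317 (26, true)),
    (3337, .gen 2348 (28, false)),
    (174, .gen 2348 (28, true)),
    (2720, .gen 2348 (36, false)),
    (3678, .gen 2348 (36, true)),
    (1194, .gen 1487 (26, false)),
    (577, .gen 1487 (26, true)),
    (2160, .gen 1487 (28, false)),
    (127, .gen 1487 (28, true)),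
    (2223, .gen 1487 (36, false)),
    (2388, .gen 1487 (36, true)),
    (2630, .gen 3484 (28, false)),
    (1912, .gen 3484 (28, true)),
    (3178, .gen 3484 (36, false)),
    (2114, .gen 3484 (36, true)),
    (1503, .gen 305 (28, false)),
    (3387, .gen 305 (28, true)),
    (2888, .gen 305 (36, false)),
    (3237, .gen 305 (36, true)),
    (75, .gen 9 (28, false)),
    (556, .gen 9 (28, true)),
    (3366, .gen 9 (36, false)),
    (1231, .gen 9 (36, true)),
    (1865, .gen 1849 (25, false)),
    (732, .gen 1849 (25, true)),
    (386, .gen 1849 (26, false)),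
    (14, .gen 1849 (26, true)),
    (2277, .gen 1849 (28, false)),
    (660, .gen 1849 (36, false)),
    (3379, .gen 1849 (36, true)),
    (313, .gen 3201 (25, false)),
    (2842, .gen 3201 (25, true)),
    (1429, .gen 3201 (26, false)),
    (3759, .gen 3201 (26, true)),
    (1346, .gen 1124 (24, false)),
    (3693, .gen 1124 (25, false)),
    (2316, .gen 1124 (25, true)),
    (3691, .gen 1124 (26, false)),
    (1492, .gen 1124 (26, true)),
    (1313, .gen 3426 (24, false)),
    (2453, .gen 3426 (25, false)),
    (3210, .gen 3426 (25, true)),
    (1263, .gen 3426 (26, false)),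
    (3044, .gen 3426 (26, true)),
    (2778, .gen 3753 (28, false))]

/-- Visits. -/
def v3_4 : List (ℕ × Src) :=
  [(2339, .gen 3753 (28, true)),
    (86, .gen 3753 (36, false)),
    (1524, .gen 3753 (36, true)),
    (1997, .gen 2835 (26, false)),
    (3217, .gen 2835 (26, true)),
    (1186, .gen 2835 (28, false)),
    (2598, .gen 2835 (28, true)),
    (2713, .gen 2835 (36, false)),
    (905, .gen 2835 (36, true)),
    (3049, .gen 2504 (28, false)),
    (3407, .gen 2504 (28, true)),
    (864, .gen 2504 (36, false)),
    (2382, .gen 2504 (36, true)),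
    (415, .gen 942 (28, false)),
    (1674, .gen 942 (28, true)),
    (1824, .gen 942 (36, false)),
    (2537, .gen 942 (36, true)),
    (1602, .gen 1359 (28, false)),
    (3468, .gen 1359 (28, true)),
    (1682, .gen 1359 (36, false)),
    (2207, .gen 1359 (36, true)),
    (3748, .gen 2662 (25, false)),
    (515, .gen 2662 (25, true)),
    (2355, .gen 2662 (26, false)),
    (2905, .gen 2662 (26, true)),
    (2409, .gen 2662 (28, false)),
    (956, .gen 2662 (36, false)),
    (2810, .gen 2662 (36, true)),
    (3069, .gen 1440 (25, false)),
    (1814, .gen 1440 (25, true)),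
    (820, .gen 1440 (26, false)),
    (3316, .gen 1440 (26, true)),
    (1668, .gen 12 (24, false)),
    (2273, .gen 12 (25, false)),
    (1001, .gen 12 (25, true)),
    (1559, .gen 12 (26, false)),
    (1625, .gen 12 (26, true)),
    (2948, .gen 223 (24, false)),
    (2552, .gen 223 (25, false)),
    (2106, .gen 223 (25, true)),
    (426, .gen 223 (26, false)),
    (794, .gen 223 (26, true)),
    (3042, .gen 2599 (28, false)),
    (2258, .gen 2599 (28, true)),
    (1077, .gen 2599 (36, false)),
    (268, .gen 2599 (36, true)),
    (1208, .gen 711 (26, false)),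
    (2619, .gen 711 (26, true)),
    (3309, .gen 1200 (28, false)),
    (1743, .gen 1200 (28, true)),
    (1996, .gen 1200 (36, false)),
    (3050, .gen 1200 (36, true)),
    (3094, .gen 1159 (28, false)),
    (247, .gen 1159 (28, true)),
    (719, .gen 1159 (36, false)),
    (821, .gen 1159 (36, true)),
    (2507, .gen 762 (28, false)),
    (2506, .gen 762 (28, true)),
    (114, .gen 762 (36, true)),
    (1752, .gen 2111 (25, false)),
    (3433, .gen 2111 (25, true)),
    (3629, .gen 2111 (26, false)),
    (1094, .gen 2111 (26, true)),
    (1473, .gen 2111 (28, false)),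
    (1759, .gen 2111 (36, false)),
    (164, .gen 2111 (36, true)),
    (126, .gen 662 (25, false)),
    (1167, .gen 662 (25, true)),
    (2038, .gen 662 (26, false)),
    (2297, .gen 662 (26, true)),
    (2997, .gen 1789 (24, false)),
    (3398, .gen 1474 (24, false)),
    (2914, .gen 1474 (26, false)),
    (136, .gen 1474 (26, true)),
    (381, .gen 1155 (26, false)),
    (55, .gen 1155 (28, false)),
    (750, .gen 371 (25, false)),
    (2965, .gen 1988 (24, false)),
    (3703, .gen 1988 (25, false)),
    (3463, .gen 1988 (25, true)),
    (2799, .gen 1988 (26, false)),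
    (273, .gen 1939 (24, false)),
    (1049, .gen 1939 (25, false)),
    (2553, .gen 1939 (25, true)),
    (3726, .gen 1939 (26, false)),
    (1732, .gen 1940 (28, false)),
    (1811, .gen 1940 (28, true)),
    (2896, .gen 239 (25, false)),
    (2110, .gen 2760 (25, false)),
    (2762, .gen 2760 (25, true)),
    (614, .gen 2138 (25, false)),
    (1485, .gen 2138 (25, true)),
    (300, .gen 3293 (36, false)),
    (2233, .gen 3496 (26, false)),
    (2986, .gen 3496 (26, true)),
    (3155, .gen 2906 (26, false)),
    (2573, .gen 2906 (26, true)),
    (2116, .gen 1683 (25, false)),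
    (2156, .gen 1683 (25, true)),
    (2969, .gen 2726 (25, false)),
    (2437, .gen 630 (36, false)),
    (3368, .gen 630 (36, true)),
    (3645, .gen 1794 (24, false)),
    (1893, .gen 1794 (25, false)),
    (177, .gen 1794 (25, true)),
    (1165, .gen 1794 (26, false)),
    (2828, .gen 1794 (26, true)),
    (3147, .gen 2715 (24, false)),
    (374, .gen 2715 (25, false)),
    (2478, .gen 2715 (26, false)),
    (3508, .gen 2715 (26, true)),
    (2435, .gen 1217 (28, true)),
    (1927, .gen 1217 (36, true)),
    (1254, .gen 3618 (28, true)),
    (679, .gen 3618 (36, false)),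
    (425, .gen 3618 (36, true)),
    (3696, .gen 2340 (26, false)),
    (1253, .gen 2340 (26, true)),
    (209, .gen 2340 (28, false)),
    (785, .gen 2340 (36, false)),
    (2199, .gen 1235 (24, false)),
    (2682, .gen 1235 (25, false)),
    (2308, .gen 1235 (26, false)),
    (1292, .gen 1235 (26, true)),
    (3208, .gen 1546 (26, false)),
    (1918, .gen 1546 (26, true)),
    (767, .gen 3764 (28, false)),
    (406, .gen 3764 (36, false)),
    (2429, .gen 3764 (36, true)),
    (2434, .gen 3349 (24, false)),
    (3450, .gen 3349 (25, false)),
    (183, .gen 2135 (26, false)),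
    (3188, .gen 2135 (26, true)),
    (2264, .gen 1651 (25, false)),
    (291, .gen 1651 (25, true)),
    (1748, .gen 1651 (26, false)),
    (3153, .gen 1651 (26, true)),
    (3238, .gen 3321 (25, true)),
    (1242, .gen 1617 (26, false)),
    (2049, .gen 2889 (25, true)),
    (3565, .gen 2889 (26, false)),
    (670, .gen 1030 (26, false)),
    (769, .gen 1030 (26, true)),
    (2675, .gen 3566 (28, false)),
    (2879, .gen 549 (28, false)),
    (949, .gen 549 (28, true)),
    (2309, .gen 2751 (28, false)),
    (2755, .gen 2751 (28, true)),
    (3459, .gen 2616 (28, false)),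
    (456, .gen 2616 (28, true)),
    (3171, .gen 309 (26, false)),
    (181, .gen 3746 (28, false)),
    (1136, .gen 977 (26, false)),
    (2519, .gen 977 (26, true)),
    (1465, .gen 3705 (28, false)),
    (3073, .gen 3200 (26, false)),
    (1846, .gen 3200 (26, true)),
    (3786, .gen 1151 (28, false)),
    (3690, .gen 3734 (24, false)),
    (1951, .gen 163 (28, false)),
    (211, .gen 1085 (24, false)),
    (3206, .gen 1470 (28, false)),
    (3730, .gen 240 (28, false)),
    (997, .gen 240 (28, true)),
    (1713, .gen 156 (28, false)),
    (1650, .gen 156 (28, true)),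
    (88, .gen 550 (25, false)),
    (2770, .gen 3416 (28, false)),
    (555, .gen 3416 (28, true)),
    (3460, .gen 130 (36, false)),
    (282, .gen 130 (36, true)),
    (2827, .gen 1857 (24, false)),
    (638, .gen 3104 (24, false)),
    (2904, .gen 695 (36, false)),
    (2784, .gen 713 (24, false)),
    (1802, .gen 713 (25, false)),
    (3793, .gen 713 (25, true)),
    (791, .gen 713 (26, true)),
    (2343, .gen 2538 (25, false)),
    (3260, .gen 420 (25, false)),
    (2976, .gen 2441 (25, false)),
    (72, .gen 419 (26, false)),
    (69, .gen 419 (28, false)),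
    (3361, .gen 419 (36, false)),
    (3665, .gen 419 (36, true)),
    (1830, .gen 3091 (24, false)),
    (3563, .gen 3091 (25, false)),
    (2329, .gen 3091 (25, true)),
    (1976, .gen 3091 (26, false)),
    (218, .gen 1183 (24, false)),
    (3225, .gen 1183 (25, false)),
    (1678, .gen 1183 (25, true)),
    (3311, .gen 1183 (26, false)),
    (2373, .gen 603 (28, false)),
    (991, .gen 603 (28, true)),
    (1237, .gen 303 (25, false)),
    (851, .gen 3555 (25, false)),
    (3301, .gen 3555 (25, true)),
    (3755, .gen 1599 (25, false)),
    (1015, .gen 1599 (25, true)),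
    (1120, .gen 917 (28, false)),
    (1126, .gen 734 (26, false)),
    (384, .gen 734 (28, false)),
    (2153, .gen 1999 (24, false)),
    (3177, .gen 1999 (25, false)),
    (1601, .gen 1999 (25, true)),
    (2821, .gen 1999 (26, false)),
    (2182, .gen 2029 (24, false)),
    (2963, .gen 2029 (25, false)),
    (2595, .gen 2029 (25, true)),
    (3355, .gen 2029 (26, false)),
    (1499, .gen 745 (28, false)),
    (57, .gen 745 (28, true)),
    (1835, .gen 1020 (25, false)),
    (3780, .gen 1020 (25, true)),
    (3348, .gen 1025 (25, false)),
    (2248, .gen 1025 (25, true)),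
    (925, .gen 251 (28, false)),
    (2711, .gen 251 (28, true)),
    (639, .gen 1767 (26, false)),
    (778, .gen 1767 (26, true)),
    (2638, .gen 2205 (26, false)),
    (3392, .gen 2205 (26, true)),
    (1137, .gen 2655 (36, false)),
    (1800, .gen 2655 (36, true)),
    (250, .gen 655 (28, false)),
    (3548, .gen 655 (36, false)),
    (1050, .gen 655 (36, true)),
    (2639, .gen 3518 (25, false)),
    (1009, .gen 3518 (25, true)),
    (1392, .gen 3518 (26, false)),
    (2122, .gen 3518 (26, true)),
    (271, .gen 2660 (28, false)),
    (2455, .gen 3382 (25, false)),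
    (1664, .gen 3382 (25, true)),
    (1978, .gen 2985 (28, false)),
    (1459, .gen 2983 (25, false)),
    (853, .gen 2983 (25, true)),
    (2027, .gen 1516 (26, false)),
    (216, .gen 1516 (26, true)),
    (2193, .gen 2527 (28, false)),
    (1980, .gen 2527 (36, false)),
    (536, .gen 2527 (36, true)),
    (897, .gen 1335 (24, false)),
    (4, .gen 1335 (25, false)),
    (2627, .gen 1335 (25, true)),
    (3761, .gen 1335 (26, false)),
    (3709, .gen 1335 (26, true)),
    (1634, .gen 1899 (24, false)),
    (1630, .gen 1899 (25, false)),
    (2719, .gen 1899 (25, true)),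
    (68, .gen 1899 (26, false)),
    (649, .gen 1899 (26, true)),
    (3605, .gen 1222 (28, true)),
    (428, .gen 1222 (36, false)),
    (2953, .gen 1222 (36, true)),
    (79, .gen 193 (28, true)),
    (2949, .gen 193 (36, false)),
    (2303, .gen 193 (36, true)),
    (1507, .gen 1774 (26, false)),
    (1125, .gen 1774 (26, true)),
    (906, .gen 1774 (28, false)),
    (2818, .gen 1774 (36, false)),
    (2239, .gen 1774 (36, true)),
    (1964, .gen 3643 (24, false)),
    (2793, .gen 3643 (25, false)),
    (1010, .gen 3643 (25, true)),
    (1972, .gen 3643 (26, false)),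
    (1894, .gen 3643 (26, true)),
    (578, .gen 2102 (24, false)),
    (1493, .gen 2102 (25, false)),
    (1017, .gen 2102 (25, true)),
    (1737, .gen 2102 (26, false)),
    (2644, .gen 2102 (26, true)),
    (1351, .gen 3234 (28, false)),
    (214, .gen 3234 (36, false)),
    (3202, .gen 3234 (36, true)),
    (591, .gen 1618 (24, false)),
    (881, .gen 1618 (25, false)),
    (1750, .gen 1618 (25, true)),
    (675, .gen 1618 (26, false)),
    (1766, .gen 1618 (26, true)),
    (3409, .gen 573 (24, false)),
    (3041, .gen 573 (25, false)),
    (1047, .gen 573 (25, true)),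
    (3495, .gen 573 (26, false)),
    (3247, .gen 573 (26, true)),
    (1033, .gen 2532 (26, false)),
    (141, .gen 2532 (26, true)),
    (203, .gen 2532 (28, false)),
    (2423, .gen 3096 (25, false)),
    (518, .gen 3096 (25, true)),
    (1580, .gen 3096 (26, false)),
    (1793, .gen 3096 (26, true)),
    (29, .gen 1565 (24, false)),
    (3157, .gen 1565 (25, false)),
    (1900, .gen 1565 (25, true)),
    (921, .gen 1565 (26, false)),
    (1197, .gen 1724 (24, false)),
    (527, .gen 1724 (25, false))]

/-- Visits. -/
def v3_5 : List (ℕ × Src) :=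
  [(1636, .gen 1724 (25, true)),
    (2994, .gen 1724 (26, false)),
    (2603, .gen 2651 (28, false)),
    (1075, .gen 2213 (24, false)),
    (859, .gen 2213 (25, false)),
    (31, .gen 2213 (25, true)),
    (983, .gen 2213 (26, false)),
    (32, .gen 1192 (24, false)),
    (2185, .gen 1192 (25, false)),
    (1267, .gen 1192 (25, true)),
    (2951, .gen 1192 (26, false)),
    (221, .gen 544 (26, false)),
    (2575, .gen 544 (26, true)),
    (3406, .gen 544 (28, false)),
    (448, .gen 779 (28, false)),
    (3013, .gen 1117 (28, false)),
    (1903, .gen 1117 (28, true)),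
    (3729, .gen 1381 (28, false)),
    (1805, .gen 1381 (28, true)),
    (1928, .gen 2977 (25, false)),
    (3179, .gen 2977 (25, true)),
    (1784, .gen 2691 (25, false)),
    (2521, .gen 2691 (25, true)),
    (901, .gen 2109 (25, false)),
    (2341, .gen 2109 (25, true)),
    (2840, .gen 2738 (28, false)),
    (142, .gen 2738 (28, true)),
    (2398, .gen 973 (28, false)),
    (2944, .gen 973 (28, true)),
    (1304, .gen 758 (36, false)),
    (2246, .gen 758 (36, true)),
    (199, .gen 1922 (26, false)),
    (1738, .gen 1922 (26, true)),
    (2304, .gen 2360 (26, false)),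
    (1629, .gen 2360 (26, true)),
    (2399, .gen 2171 (28, false)),
    (2098, .gen 2171 (36, false)),
    (1444, .gen 2171 (36, true)),
    (2877, .gen 2043 (24, false)),
    (3513, .gen 2043 (25, false)),
    (615, .gen 2043 (25, true)),
    (932, .gen 2043 (26, false)),
    (3516, .gen 2043 (26, true)),
    (1728, .gen 2442 (24, false)),
    (2226, .gen 2442 (25, false)),
    (1603, .gen 2442 (25, true)),
    (1758, .gen 2442 (26, false)),
    (943, .gen 2442 (26, true)),
    (3485, .gen 43 (28, true)),
    (989, .gen 43 (36, false)),
    (3087, .gen 43 (36, true)),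
    (2533, .gen 3181 (28, true)),
    (2432, .gen 3181 (36, false)),
    (2704, .gen 3181 (36, true)),
    (1209, .gen 3574 (26, false)),
    (2596, .gen 3574 (26, true)),
    (972, .gen 3574 (28, false)),
    (2869, .gen 3574 (36, false)),
    (255, .gen 3574 (36, true)),
    (3475, .gen 1708 (24, false)),
    (416, .gen 1708 (25, false)),
    (87, .gen 1708 (25, true)),
    (1513, .gen 1708 (26, false)),
    (2852, .gen 1708 (26, true)),
    (863, .gen 1958 (24, false)),
    (2525, .gen 1958 (25, false)),
    (1777, .gen 1958 (25, true)),
    (2843, .gen 1958 (26, false)),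
    (238, .gen 1958 (26, true)),
    (3364, .gen 3408 (28, false)),
    (950, .gen 3408 (36, false)),
    (1831, .gen 3408 (36, true)),
    (1874, .gen 2649 (24, false)),
    (2908, .gen 2649 (25, false)),
    (2291, .gen 2649 (25, true)),
    (1558, .gen 2649 (26, false)),
    (3365, .gen 2649 (26, true)),
    (3559, .gen 1336 (24, false)),
    (3115, .gen 1336 (25, false)),
    (567, .gen 1336 (25, true)),
    (968, .gen 1336 (26, false)),
    (3009, .gen 1336 (26, true)),
    (254, .gen 1515 (26, false)),
    (1134, .gen 1515 (26, true)),
    (1433, .gen 1515 (28, false)),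
    (552, .gen 1451 (25, false)),
    (2500, .gen 1451 (25, true)),
    (3281, .gen 1451 (26, false)),
    (633, .gen 1451 (26, true)),
    (2055, .gen 2987 (24, false)),
    (1471, .gen 2987 (25, false)),
    (2743, .gen 2987 (25, true)),
    (826, .gen 2987 (26, false)),
    (2299, .gen 1337 (24, false)),
    (3085, .gen 1337 (25, false)),
    (2050, .gen 1337 (25, true)),
    (2370, .gen 1337 (26, false)),
    (1953, .gen 1581 (28, false)),
    (3534, .gen 2042 (24, false)),
    (3673, .gen 2042 (25, false)),
    (3787, .gen 2042 (25, true)),
    (2101, .gen 2042 (26, false)),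
    (1861, .gen 2242 (24, false)),
    (1729, .gen 2242 (25, false)),
    (1442, .gen 2242 (25, true)),
    (3412, .gen 2242 (26, false)),
    (836, .gen 3394 (26, false)),
    (2315, .gen 3394 (26, true)),
    (1368, .gen 3394 (28, false)),
    (814, .gen 2048 (28, false)),
    (3776, .gen 296 (28, false)),
    (579, .gen 296 (28, true)),
    (2216, .gen 439 (28, false)),
    (3434, .gen 439 (28, true)),
    (2240, .gen 1606 (25, false)),
    (2023, .gen 1606 (25, true)),
    (2164, .gen 2901 (25, false)),
    (654, .gen 2901 (25, true)),
    (2741, .gen 38 (25, false)),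
    (994, .gen 38 (25, true)),
    (799, .gen 111 (28, false)),
    (358, .gen 111 (28, true)),
    (2031, .gen 521 (28, false)),
    (3669, .gen 521 (28, true)),
    (3006, .gen 3590 (36, false)),
    (805, .gen 3590 (36, true)),
    (227, .gen 3336 (26, false)),
    (2218, .gen 3336 (26, true)),
    (284, .gen 3395 (26, false)),
    (3778, .gen 3395 (26, true)),
    (1936, .gen 672 (28, false)),
    (554, .gen 672 (36, false)),
    (952, .gen 672 (36, true)),
    (1309, .gen 3622 (24, false)),
    (1699, .gen 3622 (25, false)),
    (951, .gen 3622 (25, true)),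
    (541, .gen 3622 (26, false)),
    (3439, .gen 3622 (26, true)),
    (1038, .gen 3120 (24, false)),
    (520, .gen 3120 (25, false)),
    (1905, .gen 3120 (25, true)),
    (2430, .gen 3120 (26, false)),
    (926, .gen 3120 (26, true)),
    (1993, .gen 1631 (28, true)),
    (2718, .gen 1631 (36, false)),
    (890, .gen 1631 (36, true)),
    (2464, .gen 2912 (28, true)),
    (701, .gen 2912 (36, false)),
    (421, .gen 2912 (36, true)),
    (2470, .gen 815 (26, false)),
    (3242, .gen 815 (26, true)),
    (368, .gen 815 (28, false)),
    (2496, .gen 815 (36, false)),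
    (1251, .gen 815 (36, true)),
    (1462, .gen 1246 (24, false)),
    (2119, .gen 1246 (25, false)),
    (2227, .gen 1246 (25, true)),
    (1103, .gen 1246 (26, false)),
    (2108, .gen 1246 (26, true)),
    (2333, .gen 1959 (24, false)),
    (3520, .gen 1959 (25, false)),
    (849, .gen 1959 (25, true)),
    (2151, .gen 1959 (26, false)),
    (1437, .gen 1959 (26, true)),
    (1717, .gen 314 (28, false)),
    (2643, .gen 314 (36, false)),
    (3587, .gen 314 (36, true)),
    (3333, .gen 1494 (24, false)),
    (2946, .gen 1494 (25, false)),
    (270, .gen 1494 (25, true)),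
    (1505, .gen 1494 (26, false)),
    (3322, .gen 1494 (26, true)),
    (2180, .gen 1496 (24, false)),
    (3168, .gen 1496 (25, false)),
    (3053, .gen 1496 (25, true)),
    (1476, .gen 1496 (26, false)),
    (2499, .gen 1496 (26, true)),
    (3560, .gen 686 (26, false)),
    (2867, .gen 686 (26, true)),
    (341, .gen 686 (28, false)),
    (3478, .gen 1421 (25, false)),
    (1376, .gen 1421 (25, true)),
    (51, .gen 1421 (26, false)),
    (1694, .gen 1421 (26, true)),
    (1013, .gen 65 (24, false)),
    (2825, .gen 65 (25, false)),
    (1185, .gen 65 (25, true)),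
    (3782, .gen 65 (26, false)),
    (3047, .gen 3362 (24, false)),
    (2747, .gen 3362 (25, false)),
    (720, .gen 3362 (25, true)),
    (1427, .gen 3362 (26, false)),
    (2670, .gen 2284 (28, false)),
    (2076, .gen 730 (24, false)),
    (3789, .gen 730 (25, false)),
    (1727, .gen 730 (25, true)),
    (3338, .gen 730 (26, false)),
    (969, .gen 2283 (24, false)),
    (761, .gen 2283 (25, false)),
    (63, .gen 2283 (25, true)),
    (1091, .gen 2283 (26, false)),
    (2806, .gen 393 (26, false)),
    (2412, .gen 393 (26, true)),
    (2259, .gen 393 (28, false)),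
    (2176, .gen 933 (28, false)),
    (2131, .gen 575 (28, false)),
    (754, .gen 575 (28, true)),
    (2161, .gen 1709 (28, false)),
    (2350, .gen 1709 (28, true)),
    (819, .gen 1276 (25, false)),
    (1943, .gen 1276 (25, true)),
    (2622, .gen 1088 (25, false)),
    (1670, .gen 1088 (25, true)),
    (185, .gen 3345 (25, false)),
    (3375, .gen 3345 (25, true)),
    (2128, .gen 474 (28, false)),
    (2479, .gen 474 (28, true)),
    (2967, .gen 1754 (28, false)),
    (3007, .gen 1754 (28, true)),
    (574, .gen 641 (36, false)),
    (3592, .gen 641 (36, true)),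
    (3670, .gen 3195 (26, false)),
    (121, .gen 3195 (26, true)),
    (2099, .gen 509 (26, false)),
    (1612, .gen 509 (26, true)),
    (2964, .gen 680 (28, false)),
    (3589, .gen 680 (36, false)),
    (2150, .gen 680 (36, true)),
    (687, .gen 918 (25, false)),
    (1203, .gen 918 (25, true)),
    (1144, .gen 918 (26, false)),
    (1807, .gen 918 (26, true)),
    (2798, .gen 1843 (36, false)),
    (1839, .gen 1843 (36, true)),
    (842, .gen 3481 (36, false)),
    (2481, .gen 3481 (36, true)),
    (3625, .gen 3739 (28, false)),
    (2446, .gen 3739 (36, false)),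
    (572, .gen 3739 (36, true)),
    (3791, .gen 3090 (25, false)),
    (2115, .gen 3090 (25, true)),
    (3119, .gen 3090 (26, false)),
    (1248, .gen 3090 (26, true)),
    (3638, .gen 858 (28, false)),
    (1182, .gen 858 (36, false)),
    (2570, .gen 858 (36, true)),
    (2801, .gen 2228 (25, false)),
    (2678, .gen 2228 (25, true)),
    (2495, .gen 2228 (26, false)),
    (2459, .gen 2228 (26, true)),
    (3445, .gen 1547 (28, false)),
    (2359, .gen 2113 (25, false)),
    (275, .gen 2113 (25, true)),
    (1833, .gen 3699 (28, false)),
    (792, .gen 2301 (25, false)),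
    (546, .gen 2301 (25, true)),
    (1361, .gen 1704 (28, false)),
    (681, .gen 2144 (28, false)),
    (3358, .gen 1423 (25, false)),
    (3713, .gen 1423 (25, true)),
    (1942, .gen 2567 (26, false)),
    (1428, .gen 2567 (26, true)),
    (3144, .gen 525 (28, false)),
    (674, .gen 525 (36, false)),
    (2445, .gen 525 (36, true)),
    (627, .gen 3558 (24, false)),
    (3420, .gen 3558 (25, false)),
    (3291, .gen 3558 (25, true)),
    (3661, .gen 3558 (26, false)),
    (2282, .gen 3558 (26, true)),
    (2129, .gen 3320 (24, false)),
    (2836, .gen 3320 (25, false)),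
    (1761, .gen 3320 (25, true)),
    (3545, .gen 3320 (26, false)),
    (2721, .gen 3320 (26, true)),
    (1256, .gen 310 (28, true)),
    (1813, .gen 310 (36, false)),
    (158, .gen 310 (36, true)),
    (1348, .gen 757 (28, true)),
    (1353, .gen 757 (36, false)),
    (362, .gen 757 (36, true)),
    (2593, .gen 651 (26, false)),
    (1258, .gen 651 (26, true)),
    (1199, .gen 651 (28, false)),
    (1979, .gen 651 (36, false)),
    (3244, .gen 651 (36, true)),
    (348, .gen 3061 (24, false)),
    (1388, .gen 3061 (25, false)),
    (2318, .gen 3061 (25, true)),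
    (3025, .gen 3061 (26, false)),
    (3203, .gen 3061 (26, true)),
    (1583, .gen 861 (24, false)),
    (3770, .gen 861 (25, false)),
    (2352, .gen 861 (25, true)),
    (169, .gen 861 (26, false)),
    (788, .gen 861 (26, true)),
    (1920, .gen 23 (28, false)),
    (803, .gen 23 (36, false)),
    (2934, .gen 23 (36, true)),
    (1341, .gen 3243 (24, false))]

/-- Visits. -/
def v3_6 : List (ℕ × Src) :=
  [(3499, .gen 3243 (25, false)),
    (1079, .gen 3243 (25, true)),
    (618, .gen 3243 (26, false)),
    (2563, .gen 3243 (26, true)),
    (2795, .gen 2807 (24, false)),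
    (3488, .gen 2807 (25, false)),
    (1520, .gen 2807 (25, true)),
    (2980, .gen 2807 (26, false)),
    (2870, .gen 2807 (26, true)),
    (363, .gen 1657 (26, false)),
    (1658, .gen 1657 (26, true)),
    (2013, .gen 1657 (28, false)),
    (3401, .gen 480 (25, false)),
    (2483, .gen 480 (25, true)),
    (1594, .gen 480 (26, false)),
    (228, .gen 480 (26, true)),
    (2511, .gen 288 (24, false)),
    (2520, .gen 288 (25, false)),
    (3133, .gen 288 (25, true)),
    (1693, .gen 288 (26, false)),
    (1014, .gen 753 (24, false)),
    (1411, .gen 753 (25, false)),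
    (765, .gen 753 (25, true)),
    (3417, .gen 753 (26, false)),
    (8, .gen 3162 (28, false)),
    (3582, .gen 722 (24, false)),
    (3549, .gen 722 (25, false)),
    (3296, .gen 722 (25, true)),
    (2749, .gen 722 (26, false)),
    (1818, .gen 2841 (24, false)),
    (1611, .gen 2841 (25, false)),
    (286, .gen 2841 (25, true)),
    (2837, .gen 2841 (26, false)),
    (522, .gen 1934 (26, false)),
    (2191, .gen 1934 (26, true)),
    (1790, .gen 1934 (28, false)),
    (444, .gen 3199 (28, false)),
    (1152, .gen 2256 (28, false)),
    (2927, .gen 2256 (28, true)),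
    (3002, .gen 988 (28, false)),
    (1461, .gen 988 (28, true)),
    (1648, .gen 2026 (25, false)),
    (1059, .gen 2026 (25, true)),
    (97, .gen 3385 (25, false)),
    (3216, .gen 3385 (25, true)),
    (2882, .gen 3539 (25, false)),
    (1018, .gen 3539 (25, true)),
    (2566, .gen 1854 (28, false)),
    (1080, .gen 1854 (28, true)),
    (1037, .gen 2876 (28, false)),
    (790, .gen 2876 (28, true)),
    (3436, .gen 2569 (36, false)),
    (3113, .gen 2569 (36, true)),
    (3294, .gen 1146 (26, false)),
    (1207, .gen 1146 (26, true)),
    (725, .gen 1916 (26, false)),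
    (407, .gen 1916 (26, true)),
    (914, .gen 1108 (28, false)),
    (430, .gen 1108 (36, false)),
    (3419, .gen 1108 (36, true)),
    (3189, .gen 885 (24, false)),
    (1742, .gen 885 (25, false)),
    (2780, .gen 885 (25, true)),
    (1069, .gen 885 (26, false)),
    (854, .gen 885 (26, true)),
    (149, .gen 1762 (24, false)),
    (3204, .gen 1762 (25, false)),
    (2000, .gen 1762 (25, true)),
    (2942, .gen 1762 (26, false)),
    (3284, .gen 1762 (26, true)),
    (1345, .gen 1944 (28, true)),
    (3246, .gen 1944 (36, false)),
    (2782, .gen 1944 (36, true)),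
    (992, .gen 708 (28, true)),
    (3341, .gen 708 (36, false)),
    (2424, .gen 708 (36, true)),
    (1468, .gen 877 (26, false)),
    (482, .gen 877 (26, true)),
    (187, .gen 877 (28, false)),
    (3470, .gen 877 (36, false)),
    (907, .gen 877 (36, true)),
    (1666, .gen 3082 (24, false)),
    (3519, .gen 3082 (25, false)),
    (2389, .gen 3082 (25, true)),
    (2730, .gen 3082 (26, false)),
    (3318, .gen 3082 (26, true)),
    (272, .gen 2564 (24, false)),
    (2915, .gen 2564 (25, false)),
    (1799, .gen 2564 (25, true)),
    (3526, .gen 2564 (26, false)),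
    (1655, .gen 2564 (26, true)),
    (1116, .gen 1852 (28, false)),
    (924, .gen 1852 (36, false)),
    (609, .gen 1852 (36, true)),
    (1923, .gen 1969 (24, false)),
    (3429, .gen 1969 (25, false)),
    (856, .gen 1969 (25, true)),
    (2492, .gen 1969 (26, false)),
    (1698, .gen 1969 (26, true)),
    (498, .gen 446 (24, false)),
    (1864, .gen 446 (25, false)),
    (3765, .gen 446 (25, true)),
    (827, .gen 446 (26, false)),
    (1608, .gen 446 (26, true)),
    (140, .gen 90 (26, false)),
    (110, .gen 90 (26, true)),
    (1360, .gen 90 (28, false)),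
    (180, .gen 115 (25, false)),
    (139, .gen 115 (25, true)),
    (565, .gen 115 (26, false)),
    (2864, .gen 115 (26, true)),
    (2295, .gen 1677 (24, false)),
    (3772, .gen 1677 (25, false)),
    (1041, .gen 1677 (25, true)),
    (1747, .gen 1677 (26, false)),
    (1915, .gen 1563 (24, false)),
    (738, .gen 1563 (25, false)),
    (3105, .gen 1563 (25, true)),
    (3170, .gen 1563 (26, false)),
    (3550, .gen 2617 (28, false)),
    (3570, .gen 1623 (24, false)),
    (3692, .gen 1623 (25, false)),
    (3616, .gen 1623 (25, true)),
    (3064, .gen 1623 (26, false)),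
    (3505, .gen 2618 (24, false)),
    (1188, .gen 2618 (25, false)),
    (1445, .gen 2618 (25, true)),
    (3056, .gen 2618 (26, false)),
    (597, .gen 106 (26, false)),
    (304, .gen 106 (26, true)),
    (1061, .gen 106 (28, false)),
    (241, .gen 1363 (28, false)),
    (1891, .gen 450 (28, false)),
    (231, .gen 450 (28, true)),
    (3046, .gen 2541 (28, false)),
    (179, .gen 2541 (28, true)),
    (2215, .gen 306 (25, false)),
    (2392, .gen 306 (25, true)),
    (2439, .gen 2839 (25, false)),
    (2421, .gen 2839 (25, true)),
    (2477, .gen 2887 (25, false)),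
    (1374, .gen 2887 (25, true)),
    (404, .gen 601 (28, false)),
    (3198, .gen 601 (28, true)),
    (1213, .gen 1060 (28, false)),
    (3424, .gen 1060 (28, true)),
    (357, .gen 1579 (36, false)),
    (1590, .gen 1579 (36, true)),
    (2411, .gen 3758 (26, false)),
    (1907, .gen 3758 (26, true)),
    (2636, .gen 1416 (26, false)),
    (828, .gen 1416 (26, true)),
    (2699, .gen 2491 (28, false)),
    (2673, .gen 2491 (36, false)),
    (2600, .gen 2491 (36, true)),
    (2503, .gen 1294 (24, false)),
    (1883, .gen 1294 (25, false)),
    (2727, .gen 1294 (25, true)),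
    (2166, .gen 1294 (26, false)),
    (3456, .gen 1294 (26, true)),
    (70, .gen 280 (24, false)),
    (3452, .gen 280 (25, false)),
    (210, .gen 280 (25, true)),
    (3220, .gen 280 (26, false)),
    (1466, .gen 280 (26, true)),
    (2548, .gen 2928 (28, true)),
    (1453, .gen 2928 (36, false)),
    (1645, .gen 2928 (36, true)),
    (3427, .gen 1884 (28, true)),
    (2141, .gen 1884 (36, false)),
    (3636, .gen 1884 (36, true)),
    (3763, .gen 1970 (26, false)),
    (2152, .gen 1970 (26, true)),
    (514, .gen 1970 (28, false)),
    (1628, .gen 1970 (36, false)),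
    (3517, .gen 1970 (36, true)),
    (1168, .gen 564 (24, false)),
    (2275, .gen 564 (25, false)),
    (3397, .gen 564 (25, true)),
    (2118, .gen 564 (26, false)),
    (2776, .gen 564 (26, true)),
    (3150, .gen 2433 (24, false)),
    (1226, .gen 2433 (25, false)),
    (3584, .gen 2433 (25, true)),
    (707, .gen 2433 (26, false)),
    (3280, .gen 2433 (26, true)),
    (626, .gen 3546 (28, false)),
    (2427, .gen 3546 (36, false)),
    (3578, .gen 3546 (36, true)),
    (2702, .gen 1004 (24, false)),
    (1796, .gen 1004 (25, false)),
    (2195, .gen 1004 (25, true)),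
    (1055, .gen 1004 (26, false)),
    (423, .gen 1004 (26, true)),
    (388, .gen 1716 (24, false)),
    (3270, .gen 1716 (25, false)),
    (3300, .gen 1716 (25, true)),
    (3747, .gen 1716 (26, false)),
    (2545, .gen 1716 (26, true)),
    (3369, .gen 2349 (26, false)),
    (1238, .gen 2349 (26, true)),
    (1036, .gen 2349 (28, false)),
    (3239, .gen 2361 (25, false)),
    (2926, .gen 2361 (25, true)),
    (2716, .gen 2361 (26, false)),
    (1111, .gen 2361 (26, true)),
    (1947, .gen 808 (24, false)),
    (880, .gen 808 (25, false)),
    (1455, .gen 808 (25, true)),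
    (99, .gen 808 (26, false)),
    (939, .gen 1408 (24, false)),
    (2930, .gen 1408 (25, false)),
    (532, .gen 1408 (25, true)),
    (2337, .gen 1408 (26, false)),
    (2686, .gen 848 (28, false)),
    (1171, .gen 530 (24, false)),
    (1219, .gen 530 (25, false)),
    (3176, .gen 530 (25, true)),
    (107, .gen 530 (26, false)),
    (2677, .gen 3233 (24, false)),
    (1684, .gen 3233 (25, false)),
    (1109, .gen 3233 (25, true)),
    (397, .gen 3233 (26, false)),
    (2079, .gen 3400 (26, false)),
    (1070, .gen 3400 (26, true)),
    (1322, .gen 3400 (28, false)),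
    (2885, .gen 1904 (28, false)),
    (3032, .gen 3486 (28, false)),
    (2482, .gen 3486 (28, true)),
    (1349, .gen 3292 (28, false)),
    (1508, .gen 3292 (28, true)),
    (1299, .gen 2859 (25, false)),
    (2420, .gen 2859 (25, true)),
    (28, .gen 2709 (25, false)),
    (45, .gen 2709 (25, true)),
    (691, .gen 957 (25, false)),
    (3543, .gen 957 (25, true)),
    (2300, .gen 410 (28, false)),
    (3350, .gen 410 (28, true)),
    (3662, .gen 503 (28, false)),
    (1919, .gen 503 (28, true)),
    (3612, .gen 2526 (36, false)),
    (835, .gen 2526 (36, true)),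
    (6, .gen 1003 (26, false)),
    (483, .gen 1003 (26, true)),
    (2958, .gen 2668 (26, false)),
    (1548, .gen 2668 (26, true)),
    (985, .gen 260 (28, false)),
    (3027, .gen 260 (36, false)),
    (666, .gen 260 (36, true)),
    (2381, .gen 3668 (24, false)),
    (743, .gen 3668 (25, false)),
    (315, .gen 3668 (25, true)),
    (981, .gen 3668 (26, false)),
    (2364, .gen 3668 (26, true)),
    (3326, .gen 3231 (24, false)),
    (1856, .gen 3231 (25, false)),
    (3724, .gen 3231 (25, true)),
    (640, .gen 3231 (26, false)),
    (1619, .gen 3231 (26, true)),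
    (3028, .gen 1809 (28, true)),
    (1105, .gen 1809 (36, false)),
    (321, .gen 1809 (36, true)),
    (1518, .gen 3252 (28, true)),
    (3289, .gen 3252 (36, false)),
    (1982, .gen 3252 (36, true)),
    (495, .gen 3315 (26, false)),
    (3055, .gen 3315 (26, true)),
    (736, .gen 3315 (28, false)),
    (1489, .gen 3315 (36, false)),
    (1187, .gen 3315 (36, true)),
    (1130, .gen 1776 (24, false)),
    (955, .gen 1776 (25, false)),
    (3004, .gen 1776 (25, true)),
    (1803, .gen 1776 (26, false)),
    (2172, .gen 1776 (26, true)),
    (963, .gen 2750 (24, false)),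
    (2243, .gen 2750 (25, false)),
    (1086, .gen 2750 (25, true)),
    (2039, .gen 2750 (26, false)),
    (194, .gen 2750 (26, true)),
    (1924, .gen 2916 (28, false)),
    (831, .gen 2916 (36, false)),
    (2036, .gen 2916 (36, true)),
    (1646, .gen 3736 (24, false)),
    (1600, .gen 3736 (25, false)),
    (1176, .gen 3736 (25, true)),
    (1604, .gen 3736 (26, false)),
    (1375, .gen 3736 (26, true)),
    (3557, .gen 2952 (24, false)),
    (3415, .gen 2952 (25, false)),
    (1241, .gen 2952 (25, true)),
    (3569, .gen 2952 (26, false)),
    (1328, .gen 2952 (26, true)),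
    (2845, .gen 927 (26, false)),
    (628, .gen 927 (26, true)),
    (2745, .gen 927 (28, false)),
    (2272, .gen 3725 (25, false)),
    (2694, .gen 3725 (25, true)),
    (2132, .gen 3725 (26, false))]

/-- Visits. -/
def v3_7 : List (ℕ × Src) :=
  [(878, .gen 3725 (26, true)),
    (2255, .gen 1687 (24, false)),
    (328, .gen 1687 (25, false)),
    (2838, .gen 1687 (25, true)),
    (2550, .gen 1687 (26, false)),
    (3785, .gen 3686 (24, false)),
    (499, .gen 3686 (25, false)),
    (2669, .gen 3686 (25, true)),
    (2170, .gen 3686 (26, false)),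
    (2822, .gen 1819 (28, false)),
    (2766, .gen 1550 (24, false)),
    (2250, .gen 1550 (25, false)),
    (2697, .gen 1550 (25, true)),
    (929, .gen 1550 (26, false)),
    (298, .gen 484 (24, false)),
    (2009, .gen 484 (25, false)),
    (3735, .gen 484 (25, true)),
    (2728, .gen 484 (26, false)),
    (2579, .gen 2157 (26, false)),
    (3627, .gen 2157 (26, true)),
    (3286, .gen 2157 (28, false)),
    (3604, .gen 3124 (28, false)),
    (2037, .gen 909 (28, false)),
    (490, .gen 909 (28, true)),
    (975, .gen 3347 (28, false)),
    (3773, .gen 3347 (28, true)),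
    (1965, .gen 731 (25, false)),
    (1395, .gen 731 (25, true)),
    (1052, .gen 636 (25, false)),
    (22, .gen 636 (25, true)),
    (1963, .gen 438 (25, false)),
    (1325, .gen 438 (25, true)),
    (1605, .gen 2844 (28, false)),
    (47, .gen 2844 (28, true)),
    (3159, .gen 1362 (28, false)),
    (802, .gen 1362 (28, true)),
    (264, .gen 3465 (36, false)),
    (1140, .gen 3465 (36, true)),
    (18, .gen 1866 (26, false)),
    (1652, .gen 1866 (26, true)),
    (1404, .gen 50 (26, false)),
    (3482, .gen 50 (26, true)),
    (1391, .gen 1469 (28, false)),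
    (1952, .gen 1469 (36, false)),
    (3676, .gen 1469 (36, true)),
    (1853, .gen 365 (24, false)),
    (2289, .gen 365 (25, false)),
    (58, .gen 365 (25, true)),
    (966, .gen 365 (26, false)),
    (3396, .gen 365 (26, true)),
    (2706, .gen 2001 (24, false)),
    (327, .gen 2001 (25, false)),
    (1272, .gen 2001 (25, true)),
    (403, .gen 2001 (26, false)),
    (1158, .gen 2001 (26, true)),
    (3596, .gen 948 (28, true)),
    (1205, .gen 948 (36, false)),
    (1671, .gen 948 (36, true)),
    (1419, .gen 2765 (28, true)),
    (1305, .gen 2765 (36, false)),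
    (793, .gen 2765 (36, true)),
    (3262, .gen 1490 (26, false)),
    (2394, .gen 1490 (26, true)),
    (2982, .gen 1490 (28, false)),
    (105, .gen 1490 (36, false)),
    (1056, .gen 1490 (36, true)),
    (2534, .gen 73 (24, false)),
    (1162, .gen 73 (25, false)),
    (116, .gen 73 (25, true)),
    (3451, .gen 73 (26, false)),
    (2426, .gen 73 (26, true)),
    (2586, .gen 3443 (24, false)),
    (3386, .gen 3443 (25, false)),
    (2224, .gen 3443 (25, true)),
    (1019, .gen 3443 (26, false)),
    (625, .gen 3443 (26, true)),
    (2893, .gen 3418 (28, false)),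
    (727, .gen 3418 (36, false)),
    (2438, .gen 3418 (36, true)),
    (1390, .gen 3230 (24, false)),
    (2811, .gen 3230 (25, false)),
    (364, .gen 3230 (25, true)),
    (2832, .gen 3230 (26, false)),
    (2690, .gen 3230 (26, true)),
    (1306, .gen 2179 (24, false)),
    (3769, .gen 2179 (25, false)),
    (1557, .gen 2179 (25, true)),
    (2413, .gen 2179 (26, false)),
    (1897, .gen 2179 (26, true)),
    (698, .gen 1780 (26, false)),
    (3117, .gen 1780 (26, true)),
    (2731, .gen 1780 (28, false)),
    (3008, .gen 3525 (25, false)),
    (2323, .gen 3525 (25, true)),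
    (1046, .gen 3525 (26, false)),
    (1067, .gen 3525 (26, true)),
    (3685, .gen 3388 (24, false)),
    (322, .gen 3388 (25, false)),
    (581, .gen 3388 (25, true)),
    (401, .gen 3388 (26, false)),
    (2536, .gen 2401 (24, false)),
    (133, .gen 2401 (25, false)),
    (400, .gen 2401 (25, true)),
    (2681, .gen 2401 (26, false)),
    (3639, .gen 1234 (28, false)),
    (740, .gen 242 (24, false)),
    (2897, .gen 242 (25, false)),
    (562, .gen 242 (25, true)),
    (1370, .gen 242 (26, false)),
    (517, .gen 2501 (24, false)),
    (2047, .gen 2501 (25, false)),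
    (2950, .gen 2501 (25, true)),
    (3768, .gen 2501 (26, false)),
    (2078, .gen 2972 (26, false)),
    (433, .gen 2972 (26, true)),
    (1913, .gen 2972 (28, false)),
    (533, .gen 454 (28, false)),
    (3745, .gen 1974 (28, false)),
    (1984, .gen 1974 (28, true)),
    (3711, .gen 3494 (28, false)),
    (703, .gen 3494 (28, true)),
    (276, .gen 316 (25, false)),
    (3022, .gen 316 (25, true)),
    (2767, .gen 2650 (25, false)),
    (2543, .gen 2650 (25, true)),
    (387, .gen 669 (25, false)),
    (234, .gen 669 (25, true)),
    (756, .gen 697 (28, false)),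
    (1879, .gen 697 (28, true)),
    (3356, .gen 770 (28, false)),
    (1925, .gen 770 (28, true)),
    (122, .gen 1076 (36, false)),
    (2591, .gen 1076 (36, true)),
    (3682, .gen 739 (26, false)),
    (1779, .gen 739 (26, true)),
    (332, .gen 62 (26, false)),
    (3184, .gen 62 (26, true)),
    (41, .gen 1071 (28, false)),
    (1153, .gen 1071 (36, false)),
    (1021, .gen 1071 (36, true)),
    (2125, .gen 2165 (24, false)),
    (2428, .gen 2165 (25, false)),
    (396, .gen 2165 (25, true)),
    (1987, .gen 2165 (26, false)),
    (724, .gen 2165 (26, true)),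
    (3567, .gen 2800 (24, false)),
    (1719, .gen 2800 (25, false)),
    (2488, .gen 2800 (25, true)),
    (1538, .gen 2800 (26, false)),
    (3048, .gen 2800 (26, true)),
    (2344, .gen 726 (28, true)),
    (1519, .gen 726 (36, false)),
    (2059, .gen 726 (36, true)),
    (2819, .gen 545 (28, true)),
    (3370, .gen 545 (36, false)),
    (80, .gen 545 (36, true)),
    (3490, .gen 3109 (26, false)),
    (1585, .gen 3109 (26, true)),
    (98, .gen 3109 (28, false)),
    (3437, .gen 3109 (36, false)),
    (1035, .gen 3109 (36, true)),
    (1690, .gen 2369 (24, false)),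
    (1848, .gen 2369 (25, false)),
    (1810, .gen 2369 (25, true)),
    (773, .gen 2369 (26, false)),
    (1415, .gen 2369 (26, true)),
    (3130, .gen 2708 (24, false)),
    (3553, .gen 2708 (25, false)),
    (513, .gen 2708 (25, true)),
    (718, .gen 2708 (26, false)),
    (2583, .gen 2708 (26, true)),
    (1170, .gen 477 (28, false)),
    (3129, .gen 477 (36, false)),
    (132, .gen 477 (36, true)),
    (2608, .gen 1285 (24, false)),
    (3404, .gen 1285 (25, false)),
    (504, .gen 1285 (25, true)),
    (287, .gen 1285 (26, false)),
    (1863, .gen 1285 (26, true)),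
    (3677, .gen 2083 (24, false)),
    (2761, .gen 2083 (25, false)),
    (1214, .gen 2083 (25, true)),
    (329, .gen 2083 (26, false)),
    (1797, .gen 2083 (26, true)),
    (256, .gen 838 (26, false)),
    (645, .gen 838 (26, true)),
    (1851, .gen 838 (28, false)),
    (1400, .gen 462 (25, false)),
    (3272, .gen 462 (25, true)),
    (2358, .gen 462 (26, false)),
    (2664, .gen 462 (26, true)),
    (1633, .gen 1106 (24, false)),
    (1531, .gen 1106 (25, false)),
    (1252, .gen 1106 (25, true)),
    (2006, .gen 1106 (26, false)),
    (2266, .gen 2383 (24, false)),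
    (1250, .gen 2383 (25, false)),
    (3674, .gen 2383 (25, true)),
    (1357, .gen 2383 (26, false)),
    (2196, .gen 137 (28, false)),
    (2035, .gen 2306 (24, false)),
    (3098, .gen 2306 (25, false)),
    (563, .gen 2306 (25, true)),
    (2654, .gen 2306 (26, false)),
    (893, .gen 1981 (24, false)),
    (2933, .gen 1981 (25, false)),
    (125, .gen 1981 (25, true)),
    (2498, .gen 1981 (26, false)),
    (2559, .gen 678 (26, false)),
    (511, .gen 678 (26, true)),
    (1467, .gen 678 (28, false)),
    (741, .gen 896 (28, false)),
    (2142, .gen 1316 (28, false)),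
    (2003, .gen 1316 (28, true)),
    (3180, .gen 1104 (28, false)),
    (1788, .gen 1104 (28, true)),
    (308, .gen 1410 (25, false)),
    (1911, .gen 1410 (25, true)),
    (1379, .gen 931 (25, false)),
    (320, .gen 931 (25, true)),
    (705, .gen 571 (25, false)),
    (2414, .gen 571 (25, true)),
    (637, .gen 2103 (28, false)),
    (1815, .gen 2103 (28, true)),
    (338, .gen 558 (28, false)),
    (1744, .gen 558 (28, true)),
    (987, .gen 342 (36, false)),
    (2970, .gen 342 (36, true)),
    (3367, .gen 3191 (26, false)),
    (934, .gen 3191 (26, true)),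
    (1527, .gen 1244 (26, false)),
    (646, .gen 1244 (26, true)),
    (367, .gen 3435 (28, false)),
    (2081, .gen 3435 (36, false)),
    (3261, .gen 3435 (36, true)),
    (493, .gen 2084 (24, false)),
    (602, .gen 2084 (25, false)),
    (281, .gen 2084 (25, true)),
    (3377, .gen 3287 (28, false)),
    (3249, .gen 1544 (24, false)),
    (1624, .gen 1544 (25, false)),
    (3265, .gen 1544 (26, false)),
    (3425, .gen 1544 (26, true)),
    (1983, .gen 3595 (24, false)),
    (2615, .gen 3595 (25, false)),
    (2878, .gen 3595 (26, false)),
    (2201, .gen 3595 (26, true)),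
    (3510, .gen 2307 (24, false)),
    (2574, .gen 2307 (25, false)),
    (1880, .gen 3579 (24, false)),
    (876, .gen 3476 (24, false)),
    (3186, .gen 1139 (28, false)),
    (1196, .gen 1139 (36, false)),
    (2493, .gen 1139 (36, true)),
    (2155, .gen 152 (24, false)),
    (3737, .gen 152 (25, false)),
    (49, .gen 152 (25, true)),
    (1044, .gen 152 (26, false)),
    (1298, .gen 152 (26, true)),
    (2769, .gen 2652 (24, false)),
    (3467, .gen 2652 (25, false)),
    (1587, .gen 2652 (25, true)),
    (3650, .gen 2652 (26, false)),
    (1929, .gen 2652 (26, true)),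
    (3788, .gen 277 (28, true)),
    (2871, .gen 277 (36, false)),
    (2374, .gen 277 (36, true)),
    (2368, .gen 632 (28, true)),
    (817, .gen 632 (36, false)),
    (787, .gen 632 (36, true)),
    (3101, .gen 1347 (26, false)),
    (3479, .gen 1347 (26, true)),
    (40, .gen 1347 (28, false)),
    (42, .gen 1347 (36, false)),
    (2285, .gen 1347 (36, true)),
    (941, .gen 3035 (24, false)),
    (3221, .gen 3035 (25, false)),
    (891, .gen 3035 (25, true)),
    (7, .gen 3035 (26, false)),
    (2789, .gen 3035 (26, true)),
    (3236, .gen 3205 (24, false)),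
    (3097, .gen 3205 (25, false)),
    (2621, .gen 3205 (25, true)),
    (3544, .gen 3205 (26, false)),
    (3635, .gen 3205 (26, true)),
    (1051, .gen 2379 (28, false)),
    (274, .gen 2379 (36, false)),
    (119, .gen 2379 (36, true)),
    (434, .gen 1169 (24, false)),
    (1562, .gen 1169 (25, false)),
    (2357, .gen 1169 (25, true)),
    (2022, .gen 1169 (26, false)),
    (3537, .gen 1169 (26, true)),
    (3431, .gen 124 (24, false)),
    (2137, .gen 124 (25, false)),
    (1189, .gen 124 (25, true)),
    (34, .gen 124 (26, false)),
    (3374, .gen 124 (26, true)),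
    (437, .gen 2169 (26, false)),
    (1736, .gen 2169 (26, true))]

/-- Visits. -/
def v3_8 : List (ℕ × Src) :=
  [(3660, .gen 2169 (28, false)),
    (219, .gen 2628 (25, false)),
    (373, .gen 2628 (25, true)),
    (895, .gen 2628 (26, false)),
    (510, .gen 2628 (26, true)),
    (1286, .gen 2581 (24, false)),
    (913, .gen 2581 (25, false)),
    (1394, .gen 2581 (25, true)),
    (2126, .gen 2581 (26, false)),
    (570, .gen 1511 (24, false)),
    (1150, .gen 1511 (25, false)),
    (2294, .gen 1511 (25, true)),
    (2367, .gen 1511 (26, false)),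
    (3036, .gen 225 (28, false)),
    (714, .gen 2903 (24, false)),
    (2322, .gen 2903 (25, false)),
    (3271, .gen 2903 (25, true)),
    (195, .gen 2903 (26, false)),
    (3715, .gen 3608 (24, false)),
    (3052, .gen 3608 (25, false)),
    (1210, .gen 3608 (25, true)),
    (2973, .gen 3608 (26, false)),
    (2561, .gen 1330 (26, false)),
    (418, .gen 1330 (26, true)),
    (3264, .gen 1330 (28, false)),
    (1393, .gen 457 (28, false)),
    (3779, .gen 3335 (28, false)),
    (2955, .gen 3335 (28, true)),
    (3353, .gen 2321 (28, false)),
    (595, .gen 2321 (28, true)),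
    (3037, .gen 2257 (25, false)),
    (2941, .gen 2257 (25, true)),
    (2786, .gen 349 (25, false)),
    (2010, .gen 349 (25, true)),
    (1078, .gen 1193 (25, false)),
    (2058, .gen 1193 (25, true)),
    (2158, .gen 780 (28, false)),
    (2408, .gen 780 (28, true)),
    (1344, .gen 3430 (28, false)),
    (2104, .gen 3430 (28, true)),
    (379, .gen 1460 (36, false)),
    (157, .gen 1460 (36, true)),
    (2779, .gen 2935 (26, false)),
    (1768, .gen 2935 (26, true)),
    (1700, .gen 3313 (26, false)),
    (3343, .gen 3313 (26, true)),
    (2945, .gen 866 (28, false)),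
    (3282, .gen 866 (36, true)),
    (1901, .gen 704 (26, false)),
    (3689, .gen 704 (26, true)),
    (3077, .gen 2077 (36, false)),
    (307, .gen 2077 (36, true)),
    (806, .gen 1320 (36, true)),
    (226, .gen 3562 (28, false)),
    (2656, .gen 3562 (36, false)),
    (2422, .gen 3562 (36, true)),
    (763, .gen 1771 (24, false)),
    (3383, .gen 2907 (24, false)),
    (3701, .gen 694 (28, false)),
    (2091, .gen 610 (24, false)),
    (1434, .gen 610 (25, true)),
    (3020, .gen 610 (26, false)),
    (2460, .gen 1823 (24, false)),
    (1875, .gen 1823 (26, false)),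
    (2785, .gen 2117 (24, false)),
    (2851, .gen 2117 (25, true)),
    (1908, .gen 2922 (25, false)),
    (1930, .gen 923 (36, true)),
    (2206, .gen 3248 (28, false)),
    (1850, .gen 3248 (36, false)),
    (2606, .gen 3248 (36, true)),
    (2757, .gen 768 (24, false)),
    (176, .gen 768 (25, false)),
    (1024, .gen 768 (25, true)),
    (171, .gen 768 (26, false)),
    (1300, .gen 768 (26, true)),
    (1054, .gen 837 (24, false)),
    (716, .gen 837 (25, false)),
    (2018, .gen 837 (25, true)),
    (1308, .gen 837 (26, false)),
    (458, .gen 837 (26, true)),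
    (1764, .gen 818 (28, true)),
    (2019, .gen 818 (36, false)),
    (3750, .gen 818 (36, true)),
    (204, .gen 1847 (28, true)),
    (2302, .gen 1847 (36, false)),
    (1663, .gen 1847 (36, true)),
    (1115, .gen 1191 (26, false)),
    (1675, .gen 1191 (26, true)),
    (78, .gen 1191 (28, false)),
    (600, .gen 1191 (36, false)),
    (3148, .gen 1191 (36, true)),
    (1592, .gen 1114 (24, false)),
    (471, .gen 1114 (25, false)),
    (692, .gen 1114 (25, true)),
    (2547, .gen 1114 (26, false)),
    (3683, .gen 1114 (26, true)),
    (325, .gen 2351 (24, false)),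
    (2014, .gen 2351 (25, false)),
    (485, .gen 2351 (25, true)),
    (1042, .gen 2351 (26, false)),
    (263, .gen 2351 (26, true)),
    (3714, .gen 2385 (28, false)),
    (3581, .gen 2385 (36, false)),
    (2847, .gen 2385 (36, true)),
    (1260, .gen 899 (24, false)),
    (165, .gen 899 (25, false)),
    (887, .gen 899 (25, true)),
    (3145, .gen 899 (26, false)),
    (3229, .gen 899 (26, true)),
    (1008, .gen 1756 (24, false)),
    (2666, .gen 1756 (25, false)),
    (1681, .gen 1756 (25, true)),
    (1223, .gen 1756 (26, false)),
    (2064, .gen 1756 (26, true)),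
    (2865, .gen 3718 (26, false)),
    (2376, .gen 3718 (26, true)),
    (2665, .gen 3718 (28, false)),
    (1837, .gen 2468 (25, false)),
    (2605, .gen 2468 (25, true)),
    (2777, .gen 2468 (26, false)),
    (3193, .gen 2468 (26, true)),
    (1808, .gen 64 (24, false)),
    (1156, .gen 64 (25, false)),
    (1195, .gen 64 (25, true)),
    (1212, .gen 64 (26, false)),
    (2100, .gen 2814 (24, false)),
    (290, .gen 2814 (25, false)),
    (1435, .gen 2814 (25, true)),
    (3118, .gen 2814 (26, false)),
    (3279, .gen 2449 (28, false)),
    (353, .gen 1502 (24, false)),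
    (1845, .gen 1502 (25, false)),
    (1816, .gen 1502 (25, true)),
    (1145, .gen 1502 (26, false)),
    (2805, .gen 1399 (24, false)),
    (1554, .gen 1399 (25, false)),
    (1876, .gen 1399 (25, true)),
    (1225, .gen 1399 (26, false)),
    (2667, .gen 3719 (26, false)),
    (244, .gen 3719 (26, true)),
    (2975, .gen 3719 (28, false)),
    (2812, .gen 173 (28, false)),
    (3026, .gen 2214 (28, false)),
    (2523, .gen 2214 (28, true)),
    (2568, .gen 3757 (28, false)),
    (1910, .gen 3757 (28, true)),
    (344, .gen 2562 (25, false)),
    (2634, .gen 2562 (25, true)),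
    (1705, .gen 2683 (25, false)),
    (5, .gen 2683 (25, true)),
    (3585, .gen 594 (25, false)),
    (928, .gen 594 (25, true)),
    (3062, .gen 166 (28, false)),
    (813, .gen 166 (28, true)),
    (1962, .gen 66 (28, false)),
    (967, .gen 66 (28, true)),
    (1787, .gen 3449 (36, false)),
    (1506, .gen 3449 (36, true)),
    (650, .gen 398 (26, false)),
    (1572, .gen 398 (26, true)),
    (301, .gen 109 (26, false)),
    (3226, .gen 109 (26, true)),
    (1227, .gen 74 (28, false)),
    (3363, .gen 74 (36, false)),
    (1870, .gen 74 (36, true)),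
    (2531, .gen 553 (24, false)),
    (2015, .gen 553 (25, false)),
    (207, .gen 553 (25, true)),
    (3071, .gen 553 (26, false)),
    (3043, .gen 553 (26, true)),
    (3019, .gen 3749 (24, false)),
    (1354, .gen 3749 (25, false)),
    (1986, .gen 3749 (25, true)),
    (360, .gen 3749 (26, false)),
    (2998, .gen 3749 (26, true)),
    (3511, .gen 519 (28, true)),
    (2163, .gen 519 (36, false)),
    (2816, .gen 519 (36, true)),
    (868, .gen 1509 (28, true)),
    (1412, .gen 1509 (36, false)),
    (2582, .gen 1509 (36, true)),
    (3359, .gen 2017 (26, false)),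
    (683, .gen 2017 (26, true)),
    (402, .gen 2017 (28, false)),
    (95, .gen 2017 (36, false)),
    (2576, .gen 2017 (36, true)),
    (265, .gen 1730 (24, false)),
    (2087, .gen 1730 (25, false)),
    (2645, .gen 1730 (25, true)),
    (354, .gen 1730 (26, false)),
    (586, .gen 1730 (26, true)),
    (453, .gen 1011 (24, false)),
    (2680, .gen 1011 (25, false)),
    (1722, .gen 1011 (25, true)),
    (3642, .gen 1011 (26, false)),
    (3390, .gen 1011 (26, true)),
    (2331, .gen 3606 (28, false)),
    (1950, .gen 3606 (36, false)),
    (2056, .gen 3606 (36, true)),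
    (976, .gen 3339 (24, false)),
    (1512, .gen 3339 (25, false)),
    (1749, .gen 3339 (25, true)),
    (3134, .gen 3339 (26, false)),
    (2400, .gen 3339 (26, true)),
    (405, .gen 930 (24, false)),
    (3523, .gen 930 (25, false)),
    (3304, .gen 930 (25, true)),
    (1154, .gen 930 (26, false)),
    (538, .gen 930 (26, true)),
    (13, .gen 2687 (26, false)),
    (1372, .gen 2687 (26, true)),
    (3474, .gen 2687 (28, false)),
    (37, .gen 2467 (25, false)),
    (1062, .gen 2467 (25, true)),
    (3031, .gen 2467 (26, false)),
    (442, .gen 2467 (26, true)),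
    (3072, .gen 1119 (24, false)),
    (2988, .gen 1119 (25, false)),
    (1888, .gen 1119 (25, true)),
    (1373, .gen 1119 (26, false)),
    (2154, .gen 1414 (24, false)),
    (1525, .gen 1414 (25, false)),
    (1074, .gen 1414 (25, true)),
    (2707, .gen 1414 (26, false)),
    (1591, .gen 2229 (28, false)),
    (2775, .gen 1386 (24, false)),
    (652, .gen 1386 (25, false)),
    (1430, .gen 1386 (25, true)),
    (350, .gen 1386 (26, false)),
    (2744, .gen 671 (24, false)),
    (2585, .gen 671 (25, false)),
    (154, .gen 671 (25, true)),
    (2497, .gen 671 (26, false)),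
    (979, .gen 3657 (26, false)),
    (1339, .gen 3657 (26, true)),
    (904, .gen 3657 (28, false)),
    (2790, .gen 1715 (28, false)),
    (2177, .gen 3081 (28, false)),
    (463, .gen 3081 (28, true)),
    (1973, .gen 1233 (28, false)),
    (1697, .gen 1233 (28, true)),
    (3733, .gen 412 (25, false)),
    (3738, .gen 412 (25, true)),
    (3716, .gen 3112 (25, false)),
    (2347, .gen 3112 (25, true)),
    (2134, .gen 2143 (25, false)),
    (1131, .gen 2143 (25, true)),
    (892, .gen 1985 (28, false)),
    (3283, .gen 1985 (28, true)),
    (855, .gen 1141 (28, false)),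
    (2356, .gen 1141 (28, true)),
    (2808, .gen 2557 (36, false)),
    (375, .gen 2557 (36, true)),
    (2486, .gen 561 (26, false)),
    (3310, .gen 561 (26, true)),
    (2016, .gen 1714 (26, false)),
    (3717, .gen 1714 (26, true)),
    (102, .gen 2679 (28, false)),
    (635, .gen 2679 (36, false)),
    (1204, .gen 2679 (36, true)),
    (945, .gen 2674 (24, false)),
    (1858, .gen 2674 (25, false)),
    (1931, .gen 2674 (25, true)),
    (658, .gen 2674 (26, false)),
    (1638, .gen 2674 (26, true)),
    (243, .gen 2577 (24, false)),
    (292, .gen 2577 (25, false)),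
    (1895, .gen 2577 (25, true)),
    (3556, .gen 2577 (26, false)),
    (1827, .gen 2577 (26, true)),
    (1352, .gen 1334 (28, true)),
    (865, .gen 1334 (36, false)),
    (2924, .gen 1334 (36, true)),
    (1083, .gen 1821 (28, true)),
    (960, .gen 1821 (36, false)),
    (198, .gen 1821 (36, true)),
    (1775, .gen 35 (26, false)),
    (920, .gen 35 (26, true)),
    (1265, .gen 35 (28, false)),
    (1755, .gen 35 (36, false)),
    (902, .gen 35 (36, true)),
    (2940, .gen 1039 (24, false)),
    (2703, .gen 1039 (25, false)),
    (440, .gen 1039 (25, true)),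
    (334, .gen 1039 (26, false)),
    (2539, .gen 1039 (26, true)),
    (326, .gen 1143 (24, false)),
    (2508, .gen 1143 (25, false)),
    (1948, .gen 1143 (25, true)),
    (1295, .gen 1143 (26, false)),
    (1270, .gen 1143 (26, true)),
    (161, .gen 1971 (28, false)),
    (294, .gen 1971 (36, false)),
    (3263, .gen 1971 (36, true)),
    (1431, .gen 2320 (24, false)),
    (1540, .gen 2320 (25, false)),
    (537, .gen 2320 (25, true)),
    (1817, .gen 2320 (26, false)),
    (709, .gen 2320 (26, true))]

/-- Visits. -/
def v3_9 : List (ℕ × Src) :=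
  [(2663, .gen 2671 (24, false)),
    (2717, .gen 2671 (25, false)),
    (3240, .gen 2671 (25, true)),
    (1495, .gen 2671 (26, false)),
    (2251, .gen 2671 (26, true)),
    (2804, .gen 2524 (26, false)),
    (3498, .gen 2524 (26, true)),
    (605, .gen 2524 (28, false)),
    (1315, .gen 376 (25, false)),
    (912, .gen 376 (25, true)),
    (590, .gen 376 (26, false)),
    (860, .gen 376 (26, true)),
    (1340, .gen 1593 (24, false)),
    (1172, .gen 1593 (25, false)),
    (1173, .gen 1593 (25, true)),
    (2714, .gen 1593 (26, false)),
    (3106, .gen 2753 (24, false)),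
    (492, .gen 2753 (25, false)),
    (1138, .gen 2753 (25, true)),
    (11, .gen 2753 (26, false)),
    (2345, .gen 2490 (28, false)),
    (852, .gen 2625 (24, false)),
    (3506, .gen 2625 (25, false)),
    (3167, .gen 2625 (25, true)),
    (2597, .gen 2625 (26, false)),
    (2943, .gen 285 (24, false)),
    (1885, .gen 285 (25, false)),
    (3615, .gen 285 (25, true)),
    (2724, .gen 285 (26, false)),
    (1425, .gen 3680 (26, false)),
    (2633, .gen 3680 (26, true)),
    (3142, .gen 3680 (28, false)),
    (2510, .gen 516 (28, false)),
    (60, .gen 1255 (28, false)),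
    (76, .gen 1255 (28, true)),
    (2237, .gen 936 (28, false)),
    (2578, .gen 936 (28, true)),
    (1528, .gen 1084 (25, false)),
    (1099, .gen 1084 (25, true)),
    (2925, .gen 812 (25, false)),
    (1526, .gen 812 (25, true)),
    (323, .gen 2448 (25, false)),
    (804, .gen 2448 (25, true)),
    (3146, .gen 2402 (28, false)),
    (2676, .gen 2402 (28, true)),
    (1174, .gen 1480 (28, false)),
    (202, .gen 1480 (28, true)),
    (752, .gen 1649 (36, false)),
    (2528, .gen 1649 (36, true)),
    (2641, .gen 1457 (26, false)),
    (3533, .gen 1457 (26, true)),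
    (634, .gen 1536 (26, false)),
    (884, .gen 1536 (26, true)),
    (953, .gen 467 (28, false)),
    (3712, .gen 467 (36, false)),
    (3421, .gen 467 (36, true)),
    (3774, .gen 1533 (24, false)),
    (2342, .gen 1533 (25, false)),
    (1064, .gen 1533 (25, true)),
    (781, .gen 1533 (26, false)),
    (3143, .gen 1533 (26, true)),
    (3575, .gen 1689 (24, false)),
    (3453, .gen 1689 (25, false)),
    (3066, .gen 1689 (25, true)),
    (2923, .gen 1689 (26, false)),
    (2097, .gen 1689 (26, true)),
    (1785, .gen 184 (28, true)),
    (1941, .gen 184 (36, false)),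
    (1407, .gen 184 (36, true)),
    (1331, .gen 2710 (28, true)),
    (337, .gen 2710 (36, false)),
    (3018, .gen 2710 (36, true)),
    (1323, .gen 3166 (26, false)),
    (488, .gen 3166 (26, true)),
    (3535, .gen 3166 (28, false)),
    (622, .gen 3166 (36, false)),
    (2071, .gen 3166 (36, true)),
    (2833, .gen 2178 (24, false)),
    (1597, .gen 2178 (25, false)),
    (2267, .gen 2178 (25, true)),
    (2648, .gen 2178 (26, false)),
    (1569, .gen 2178 (26, true)),
    (1089, .gen 2407 (24, false)),
    (2620, .gen 2407 (25, false)),
    (1739, .gen 2407 (25, true)),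
    (1447, .gen 2407 (26, false)),
    (17, .gen 2407 (26, true)),
    (1296, .gen 1066 (28, false)),
    (3393, .gen 1066 (36, false)),
    (3756, .gen 1066 (36, true)),
    (3399, .gen 409 (24, false)),
    (2939, .gen 409 (25, false)),
    (1695, .gen 409 (25, true)),
    (3586, .gen 409 (26, false)),
    (3659, .gen 409 (26, true)),
    (3679, .gen 411 (24, false)),
    (2954, .gen 411 (25, false)),
    (205, .gen 411 (25, true)),
    (3329, .gen 411 (26, false)),
    (1616, .gen 411 (26, true)),
    (24, .gen 2363 (26, false)),
    (978, .gen 2363 (26, true)),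
    (1692, .gen 2363 (28, false)),
    (584, .gen 1333 (25, false)),
    (383, .gen 1333 (25, true)),
    (1613, .gen 1333 (26, false)),
    (2921, .gen 1333 (26, true)),
    (3211, .gen 935 (24, false)),
    (1812, .gen 935 (25, false)),
    (1733, .gen 935 (25, true)),
    (3706, .gen 935 (26, false)),
    (1542, .gen 873 (24, false)),
    (93, .gen 873 (25, false)),
    (2733, .gen 873 (25, true)),
    (2700, .gen 873 (26, false)),
    (2290, .gen 3132 (28, false)),
    (2415, .gen 3000 (24, false)),
    (1045, .gen 3000 (25, false)),
    (668, .gen 3000 (25, true)),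
    (2330, .gen 3000 (26, false)),
    (85, .gen 213 (24, false)),
    (1230, .gen 213 (25, false)),
    (3675, .gen 213 (25, true)),
    (3707, .gen 213 (26, false)),
    (1598, .gen 2004 (26, false)),
    (2858, .gen 2004 (26, true)),
    (2212, .gen 2004 (28, false)),
    (1432, .gen 2268 (28, false)),
    (3084, .gen 1175 (28, false)),
    (83, .gen 1175 (28, true)),
    (2991, .gen 3060 (28, false)),
    (1229, .gen 3060 (28, true)),
    (1110, .gen 91 (25, false)),
    (2045, .gen 91 (25, true)),
    (1245, .gen 3222 (25, false)),
    (455, .gen 3222 (25, true)),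
    (2555, .gen 1665 (25, false)),
    (3327, .gen 1665 (25, true)),
    (2756, .gen 182 (28, false)),
    (3305, .gen 182 (28, true)),
    (451, .gen 2274 (28, false)),
    (1439, .gen 2274 (28, true)),
    (267, .gen 664 (36, false)),
    (1303, .gen 664 (36, true)),
    (2253, .gen 118 (26, false)),
    (1302, .gen 118 (26, true)),
    (2466, .gen 1720 (26, false)),
    (3551, .gen 1720 (26, true)),
    (993, .gen 3337 (28, false)),
    (746, .gen 3337 (36, false)),
    (1532, .gen 3337 (36, true)),
    (1804, .gen 2720 (24, false)),
    (3754, .gen 2720 (25, false)),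
    (2225, .gen 2720 (25, true)),
    (2456, .gen 2720 (26, false)),
    (3411, .gen 2720 (26, true)),
    (2200, .gen 3678 (24, false)),
    (1838, .gen 3678 (25, false)),
    (3454, .gen 3678 (25, true)),
    (2554, .gen 3678 (26, false)),
    (3631, .gen 3678 (26, true)),
    (2371, .gen 1194 (28, true)),
    (3075, .gen 1194 (36, false)),
    (2518, .gen 1194 (36, true)),
    (2005, .gen 577 (28, true)),
    (862, .gen 577 (36, false)),
    (3402, .gen 577 (36, true)),
    (2937, .gen 2160 (26, false)),
    (2060, .gen 2160 (26, true)),
    (100, .gen 2160 (28, false)),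
    (2565, .gen 2160 (36, false)),
    (2729, .gen 2160 (36, true)),
    (1028, .gen 2223 (24, false)),
    (1966, .gen 2223 (25, false)),
    (1564, .gen 2223 (25, true)),
    (982, .gen 2223 (26, false)),
    (2873, .gen 2223 (26, true)),
    (3489, .gen 2388 (24, false)),
    (2759, .gen 2388 (25, false)),
    (1087, .gen 2388 (25, true)),
    (1206, .gen 2388 (26, false)),
    (3720, .gen 2388 (26, true)),
    (1607, .gen 2630 (28, false)),
    (857, .gen 2630 (36, false)),
    (3767, .gen 2630 (36, true)),
    (3620, .gen 3178 (24, false)),
    (2447, .gen 3178 (25, false)),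
    (2146, .gen 3178 (25, true)),
    (486, .gen 3178 (26, false)),
    (1181, .gen 3178 (26, true)),
    (3192, .gen 2114 (24, false)),
    (1436, .gen 2114 (25, false)),
    (278, .gen 2114 (25, true)),
    (702, .gen 2114 (26, false)),
    (1418, .gen 2114 (26, true)),
    (1329, .gen 1503 (26, false)),
    (3521, .gen 1503 (26, true)),
    (3158, .gen 1503 (28, false)),
    (20, .gen 3387 (25, false)),
    (71, .gen 3387 (25, true)),
    (160, .gen 3387 (26, false)),
    (1417, .gen 3387 (26, true)),
    (690, .gen 2888 (24, false)),
    (1957, .gen 2888 (25, false)),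
    (489, .gen 2888 (25, true)),
    (2771, .gen 2888 (26, false)),
    (3721, .gen 3237 (24, false)),
    (3384, .gen 3237 (25, false)),
    (3255, .gen 3237 (25, true)),
    (3021, .gen 3237 (26, false)),
    (443, .gen 75 (28, false)),
    (1040, .gen 3366 (24, false)),
    (3531, .gen 3366 (25, false)),
    (3067, .gen 3366 (25, true)),
    (2535, .gen 3366 (26, false)),
    (3593, .gen 1231 (24, false)),
    (3100, .gen 1231 (25, false)),
    (2220, .gen 1231 (25, true)),
    (1123, .gen 1231 (26, false)),
    (3611, .gen 1865 (26, false)),
    (1012, .gen 1865 (26, true)),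
    (3003, .gen 1865 (28, false)),
    (3440, .gen 732 (28, false)),
    (2021, .gen 386 (28, false)),
    (1240, .gen 386 (28, true)),
    (3698, .gen 14 (28, false)),
    (123, .gen 14 (28, true)),
    (36, .gen 2277 (25, false)),
    (56, .gen 2277 (25, true)),
    (631, .gen 660 (25, false)),
    (2030, .gen 660 (25, true)),
    (2823, .gen 3379 (25, false)),
    (2476, .gen 3379 (25, true)),
    (89, .gen 313 (28, false)),
    (1691, .gen 313 (28, true)),
    (355, .gen 2842 (28, false)),
    (613, .gen 2842 (28, true)),
    (2863, .gen 1346 (36, false)),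
    (659, .gen 1346 (36, true)),
    (1082, .gen 3693 (26, false)),
    (1016, .gen 3693 (26, true)),
    (3378, .gen 2453 (26, false)),
    (494, .gen 2453 (26, true)),
    (784, .gen 2778 (28, false)),
    (67, .gen 2778 (36, false)),
    (798, .gen 2778 (36, true)),
    (2469, .gen 86 (24, false)),
    (2334, .gen 86 (25, false)),
    (2057, .gen 86 (25, true)),
    (1262, .gen 86 (26, false)),
    (215, .gen 86 (26, true)),
    (2502, .gen 1524 (24, false)),
    (2249, .gen 1524 (25, false)),
    (1454, .gen 1524 (25, true)),
    (1311, .gen 1524 (26, false)),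
    (589, .gen 1524 (26, true)),
    (3290, .gen 1997 (28, true)),
    (335, .gen 1997 (36, false)),
    (1751, .gen 1997 (36, true)),
    (2817, .gen 3217 (28, true)),
    (1521, .gen 3217 (36, false)),
    (682, .gen 3217 (36, true)),
    (3607, .gen 1186 (26, false)),
    (2494, .gen 1186 (26, true)),
    (1472, .gen 1186 (28, false)),
    (894, .gen 1186 (36, false)),
    (470, .gen 1186 (36, true)),
    (351, .gen 2713 (24, false)),
    (834, .gen 2713 (25, false)),
    (502, .gen 2713 (25, true)),
    (2311, .gen 2713 (26, false)),
    (2189, .gen 2713 (26, true)),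
    (1757, .gen 905 (24, false)),
    (3277, .gen 905 (25, false)),
    (2217, .gen 905 (25, true)),
    (1002, .gen 905 (26, false)),
    (3493, .gen 905 (26, true)),
    (608, .gen 3049 (28, false)),
    (764, .gen 3049 (36, false)),
    (94, .gen 3049 (36, true)),
    (25, .gen 864 (24, false)),
    (3314, .gen 864 (25, false)),
    (1405, .gen 864 (25, true)),
    (733, .gen 864 (26, false)),
    (2451, .gen 864 (26, true)),
    (2279, .gen 2382 (24, false)),
    (3196, .gen 2382 (25, false)),
    (172, .gen 2382 (25, true)),
    (175, .gen 2382 (26, false)),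
    (1659, .gen 2382 (26, true)),
    (3503, .gen 415 (26, false)),
    (2121, .gen 415 (26, true)),
    (2034, .gen 415 (28, false)),
    (3089, .gen 1674 (25, false)),
    (795, .gen 1674 (25, true)),
    (3428, .gen 1674 (26, false)),
    (2853, .gen 1674 (26, true)),
    (167, .gen 1824 (24, false)),
    (1792, .gen 1824 (25, false)),
    (2209, .gen 1824 (25, true))]

/-- Visits. -/
def v3_10 : List (ℕ × Src) :=
  [(382, .gen 1824 (26, false)),
    (1556, .gen 2537 (24, false)),
    (3684, .gen 2537 (25, false)),
    (1132, .gen 2537 (25, true)),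
    (529, .gen 2537 (26, false)),
    (3777, .gen 1602 (28, false)),
    (2123, .gen 1682 (24, false)),
    (377, .gen 1682 (25, false)),
    (1956, .gen 1682 (25, true)),
    (1403, .gen 1682 (26, false)),
    (3308, .gen 2207 (24, false)),
    (1621, .gen 2207 (25, false)),
    (1420, .gen 2207 (25, true)),
    (2127, .gen 2207 (26, false)),
    (789, .gen 3748 (26, false)),
    (2685, .gen 3748 (26, true)),
    (1321, .gen 3748 (28, false)),
    (1710, .gen 515 (28, false)),
    (843, .gen 2355 (28, false)),
    (2208, .gen 2355 (28, true)),
    (3413, .gen 2905 (28, false)),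
    (696, .gen 2905 (28, true)),
    (143, .gen 2409 (25, false)),
    (3136, .gen 2409 (25, true)),
    (1483, .gen 956 (25, false)),
    (1279, .gen 956 (25, true)),
    (1577, .gen 2810 (25, false)),
    (220, .gen 2810 (25, true)),
    (2062, .gen 3069 (28, false)),
    (684, .gen 3069 (28, true)),
    (2068, .gen 1814 (28, false)),
    (2984, .gen 1814 (28, true)),
    (2203, .gen 1668 (36, false)),
    (1249, .gen 1668 (36, true)),
    (3029, .gen 2273 (26, false)),
    (1786, .gen 2273 (26, true)),
    (2416, .gen 2552 (26, false)),
    (619, .gen 2552 (26, true)),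
    (3306, .gen 3042 (28, false)),
    (1239, .gen 3042 (36, false)),
    (1566, .gen 268 (26, false)),
    (587, .gen 268 (26, true)),
    (1871, .gen 1208 (36, false)),
    (2335, .gen 2619 (36, false)),
    (583, .gen 2619 (36, true)),
    (3269, .gen 3309 (28, false)),
    (3140, .gen 3309 (36, false)),
    (1401, .gen 3309 (36, true)),
    (737, .gen 1996 (24, false)),
    (1218, .gen 3050 (24, false)),
    (2162, .gen 3094 (28, false)),
    (1449, .gen 719 (24, false)),
    (3245, .gen 719 (26, false)),
    (1703, .gen 821 (24, false)),
    (2956, .gen 821 (25, false)),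
    (3552, .gen 821 (26, false)),
    (447, .gen 114 (24, false)),
    (3164, .gen 114 (25, false)),
    (908, .gen 1759 (25, true)),
    (2452, .gen 2997 (36, true)),
    (2909, .gen 1927 (25, true)),
    (3160, .gen 425 (24, false)),
    (2604, .gen 425 (25, true)),
    (2911, .gen 2904 (25, false)),
    (2462, .gen 2904 (25, true)),
    (3704, .gen 3361 (25, false)),
    (2051, .gen 3361 (25, true)),
    (841, .gen 3665 (25, false)),
    (2899, .gen 3665 (25, true)),
    (2480, .gen 1137 (25, false)),
    (2069, .gen 1137 (25, true)),
    (1184, .gen 3548 (25, false)),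
    (436, .gen 3548 (25, true)),
    (2635, .gen 2639 (26, false)),
    (2900, .gen 2639 (26, true)),
    (2607, .gen 1980 (25, false)),
    (2722, .gen 1980 (25, true)),
    (2288, .gen 536 (25, false)),
    (2929, .gen 536 (25, true)),
    (2556, .gen 897 (36, false)),
    (2589, .gen 897 (36, true)),
    (1332, .gen 4 (26, false)),
    (2884, .gen 4 (26, true)),
    (2148, .gen 1630 (26, false)),
    (2737, .gen 1630 (26, true)),
    (1269, .gen 428 (24, false)),
    (3215, .gen 428 (25, false)),
    (689, .gen 428 (25, true)),
    (663, .gen 428 (26, false)),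
    (3633, .gen 2953 (24, false)),
    (2080, .gen 2953 (25, false)),
    (2794, .gen 2953 (25, true)),
    (3628, .gen 2953 (26, false)),
    (2981, .gen 2949 (24, false)),
    (3114, .gen 2949 (25, false)),
    (2752, .gen 2949 (25, true)),
    (3190, .gen 2949 (26, false)),
    (2219, .gen 2303 (24, false)),
    (2147, .gen 2303 (25, false)),
    (3079, .gen 2303 (25, true)),
    (2222, .gen 2303 (26, false)),
    (1479, .gen 2818 (25, false)),
    (159, .gen 2818 (25, true)),
    (3752, .gen 2239 (25, false)),
    (61, .gen 2239 (25, true)),
    (1529, .gen 1964 (36, false)),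
    (2961, .gen 2793 (26, false)),
    (1680, .gen 2793 (26, true)),
    (1101, .gen 1493 (26, false)),
    (1456, .gen 1493 (26, true)),
    (937, .gen 214 (25, false)),
    (258, .gen 214 (25, true)),
    (392, .gen 3202 (25, false)),
    (3267, .gen 3202 (25, true)),
    (1443, .gen 591 (36, false)),
    (2725, .gen 881 (26, false)),
    (796, .gen 881 (26, true)),
    (3250, .gen 3041 (26, false)),
    (3111, .gen 3041 (26, true)),
    (3492, .gen 2098 (25, false)),
    (2063, .gen 2098 (25, true)),
    (432, .gen 1444 (25, false)),
    (2962, .gen 1444 (25, true)),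
    (1644, .gen 2877 (36, false)),
    (1820, .gen 2877 (36, true)),
    (1543, .gen 3513 (26, false)),
    (3219, .gen 3513 (26, true)),
    (2610, .gen 2226 (26, false)),
    (850, .gen 2226 (26, true)),
    (1259, .gen 989 (24, false)),
    (2365, .gen 989 (25, false)),
    (3583, .gen 989 (25, true)),
    (186, .gen 989 (26, false)),
    (235, .gen 3087 (24, false)),
    (46, .gen 3087 (25, false)),
    (1288, .gen 3087 (25, true)),
    (2384, .gen 3087 (26, false)),
    (117, .gen 2432 (24, false)),
    (946, .gen 2432 (25, false)),
    (429, .gen 2432 (25, true)),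
    (1868, .gen 2432 (26, false)),
    (475, .gen 2704 (24, false)),
    (452, .gen 2704 (25, false)),
    (3614, .gen 2704 (25, true)),
    (319, .gen 2704 (26, false)),
    (2088, .gen 2869 (25, false)),
    (3441, .gen 2869 (25, true)),
    (2746, .gen 255 (25, false)),
    (954, .gen 255 (25, true)),
    (3331, .gen 3475 (36, false)),
    (3083, .gen 416 (26, false)),
    (2463, .gen 416 (26, true)),
    (1343, .gen 2525 (26, false)),
    (1937, .gen 2525 (26, true)),
    (580, .gen 950 (25, false)),
    (1676, .gen 950 (25, true)),
    (1806, .gen 1831 (25, false)),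
    (1881, .gen 1831 (25, true)),
    (1522, .gen 1874 (36, false)),
    (1180, .gen 2908 (26, false)),
    (2623, .gen 2908 (26, true)),
    (3497, .gen 3115 (26, false)),
    (1782, .gen 3115 (26, true)),
    (144, .gen 554 (25, false)),
    (2372, .gen 554 (25, true)),
    (208, .gen 952 (25, false)),
    (1446, .gen 952 (25, true)),
    (1378, .gen 1309 (36, false)),
    (1829, .gen 1309 (36, true)),
    (3023, .gen 1699 (26, false)),
    (299, .gen 1699 (26, true)),
    (1938, .gen 520 (26, false)),
    (1319, .gen 520 (26, true)),
    (3664, .gen 2718 (24, false)),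
    (3015, .gen 2718 (25, false)),
    (3016, .gen 2718 (25, true)),
    (1118, .gen 2718 (26, false)),
    (2067, .gen 890 (24, false)),
    (915, .gen 890 (25, false)),
    (1135, .gen 890 (25, true)),
    (2701, .gen 890 (26, false)),
    (3344, .gen 701 (24, false)),
    (2783, .gen 701 (25, false)),
    (1161, .gen 701 (25, true)),
    (1488, .gen 701 (26, false)),
    (3259, .gen 421 (24, false)),
    (3571, .gen 421 (25, false)),
    (3540, .gen 421 (25, true)),
    (1859, .gen 421 (26, false)),
    (1778, .gen 2496 (25, false)),
    (148, .gen 2496 (25, true)),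
    (1097, .gen 1251 (25, false)),
    (1615, .gen 1251 (25, true)),
    (810, .gen 1462 (36, false)),
    (801, .gen 2119 (26, false)),
    (427, .gen 2119 (26, true)),
    (2515, .gen 3520 (26, false)),
    (1247, .gen 3520 (26, true)),
    (1672, .gen 2643 (25, false)),
    (2444, .gen 2643 (25, true)),
    (2336, .gen 3587 (25, false)),
    (2609, .gen 3587 (25, true)),
    (1872, .gen 3333 (36, false)),
    (1889, .gen 2946 (26, false)),
    (1584, .gen 2946 (26, true)),
    (359, .gen 3168 (26, false)),
    (829, .gen 3168 (26, true)),
    (3655, .gen 3589 (25, false)),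
    (3554, .gen 3589 (25, true)),
    (1275, .gen 687 (26, false)),
    (3663, .gen 687 (26, true)),
    (2580, .gen 2798 (25, false)),
    (2120, .gen 2798 (25, true)),
    (2458, .gen 842 (25, false)),
    (3792, .gen 842 (25, true)),
    (3444, .gen 2446 (25, false)),
    (1588, .gen 2446 (25, true)),
    (1312, .gen 3791 (26, false)),
    (3455, .gen 3791 (26, true)),
    (2326, .gen 1182 (25, false)),
    (2391, .gen 1182 (25, true)),
    (1994, .gen 2801 (26, false)),
    (2053, .gen 2801 (26, true)),
    (101, .gen 674 (25, false)),
    (3423, .gen 674 (25, true)),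
    (39, .gen 2445 (25, false)),
    (1552, .gen 2445 (25, true)),
    (2529, .gen 627 (36, false)),
    (2440, .gen 627 (36, true)),
    (2587, .gen 3420 (26, false)),
    (507, .gen 3420 (26, true)),
    (151, .gen 2836 (26, false)),
    (1007, .gen 2836 (26, true)),
    (2095, .gen 1813 (24, false)),
    (1160, .gen 1813 (25, false)),
    (3632, .gen 1813 (25, true)),
    (2086, .gen 1813 (26, false)),
    (2262, .gen 158 (24, false)),
    (723, .gen 158 (25, false)),
    (688, .gen 158 (25, true)),
    (2542, .gen 158 (26, false)),
    (3125, .gen 1353 (24, false)),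
    (1413, .gen 1353 (25, false)),
    (712, .gen 1353 (25, true)),
    (2979, .gen 1353 (26, false)),
    (1095, .gen 362 (24, false)),
    (3442, .gen 362 (25, false)),
    (1458, .gen 362 (25, true)),
    (2082, .gen 362 (26, false)),
    (3051, .gen 1979 (25, false)),
    (1327, .gen 1979 (25, true)),
    (347, .gen 3244 (25, false)),
    (2378, .gen 3244 (25, true)),
    (2465, .gen 348 (36, false)),
    (958, .gen 1388 (26, false)),
    (677, .gen 1388 (26, true)),
    (1215, .gen 3770 (26, false)),
    (1273, .gen 3770 (26, true)),
    (3065, .gen 803 (25, false)),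
    (1102, .gen 803 (25, true)),
    (700, .gen 2934 (25, false)),
    (3185, .gen 2934 (25, true)),
    (2293, .gen 1341 (36, false)),
    (259, .gen 3499 (26, false)),
    (1048, .gen 3499 (26, true)),
    (2514, .gen 3488 (26, false)),
    (1961, .gen 3488 (26, true)),
    (1385, .gen 430 (25, false)),
    (3619, .gen 430 (25, true)),
    (2473, .gen 3419 (25, false)),
    (1968, .gen 3419 (25, true)),
    (2197, .gen 3189 (36, false)),
    (2734, .gen 3189 (36, true)),
    (340, .gen 1742 (26, false)),
    (1595, .gen 1742 (26, true)),
    (3790, .gen 3204 (26, false)),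
    (3624, .gen 3204 (26, true)),
    (569, .gen 3246 (24, false)),
    (3591, .gen 3246 (25, false)),
    (3656, .gen 3246 (25, true)),
    (2252, .gen 3246 (26, false)),
    (461, .gen 2782 (24, false)),
    (3354, .gen 2782 (25, false)),
    (2070, .gen 2782 (25, true)),
    (3504, .gen 2782 (26, false)),
    (2136, .gen 3341 (24, false)),
    (2855, .gen 3341 (25, false)),
    (1382, .gen 3341 (25, true)),
    (3637, .gen 3341 (26, false)),
    (771, .gen 2424 (24, false)),
    (1232, .gen 2424 (25, false)),
    (833, .gen 2424 (25, true)),
    (2572, .gen 2424 (26, false)),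
    (2874, .gen 3470 (25, false)),
    (3640, .gen 3470 (25, true)),
    (2657, .gen 907 (25, false)),
    (1063, .gen 907 (25, true)),
    (916, .gen 1666 (36, false)),
    (3330, .gen 3519 (26, false)),
    (2362, .gen 3519 (26, true))]

/-- Visits. -/
def v3_11 : List (ℕ × Src) :=
  [(3783, .gen 2915 (26, false)),
    (3727, .gen 2915 (26, true)),
    (2902, .gen 924 (25, false)),
    (3057, .gen 924 (25, true)),
    (1307, .gen 609 (25, false)),
    (2396, .gen 609 (25, true)),
    (481, .gen 1923 (36, false)),
    (2601, .gen 3429 (26, false)),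
    (378, .gen 3429 (26, true)),
    (1887, .gen 1864 (26, false)),
    (3647, .gen 1864 (26, true)),
    (2238, .gen 2673 (25, false)),
    (162, .gen 2673 (25, true)),
    (3784, .gen 2600 (25, false)),
    (1712, .gen 2600 (25, true)),
    (3483, .gen 2503 (36, false)),
    (3529, .gen 2503 (36, true)),
    (96, .gen 1883 (26, false)),
    (1022, .gen 1883 (26, true)),
    (3700, .gen 3452 (26, false)),
    (1228, .gen 3452 (26, true)),
    (3108, .gen 1453 (24, false)),
    (289, .gen 1453 (25, false)),
    (3477, .gen 1453 (25, true)),
    (2772, .gen 1453 (26, false)),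
    (599, .gen 1645 (24, false)),
    (1065, .gen 1645 (25, false)),
    (3410, .gen 1645 (25, true)),
    (1365, .gen 1645 (26, false)),
    (2192, .gen 2141 (24, false)),
    (3209, .gen 2141 (25, false)),
    (2990, .gen 2141 (25, true)),
    (1589, .gen 2141 (26, false)),
    (990, .gen 3636 (24, false)),
    (749, .gen 3636 (25, false)),
    (356, .gen 3636 (25, true)),
    (3149, .gen 3636 (26, false)),
    (965, .gen 1628 (25, false)),
    (1723, .gen 1628 (25, true)),
    (1498, .gen 3517 (25, false)),
    (1869, .gen 3517 (25, true)),
    (2254, .gen 1168 (36, false)),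
    (667, .gen 2275 (26, false)),
    (1314, .gen 2275 (26, true)),
    (1221, .gen 1226 (26, false)),
    (2040, .gen 1226 (26, true)),
    (3381, .gen 2427 (25, false)),
    (3422, .gen 2427 (25, true)),
    (2181, .gen 3578 (25, false)),
    (2487, .gen 3578 (25, true)),
    (3187, .gen 2702 (36, false)),
    (3253, .gen 1796 (26, false)),
    (153, .gen 1796 (26, true)),
    (3536, .gen 3270 (26, false)),
    (311, .gen 3270 (26, true)),
    (2234, .gen 3027 (25, false)),
    (1855, .gen 3027 (25, true)),
    (295, .gen 666 (25, false)),
    (2791, .gen 666 (25, true)),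
    (2346, .gen 2381 (36, false)),
    (2592, .gen 2381 (36, true)),
    (735, .gen 743 (26, false)),
    (2404, .gen 743 (26, true)),
    (903, .gen 1856 (26, false)),
    (2758, .gen 1856 (26, true)),
    (2065, .gen 1105 (24, false)),
    (3740, .gen 1105 (25, false)),
    (3034, .gen 1105 (25, true)),
    (3005, .gen 1105 (26, false)),
    (3328, .gen 321 (24, false)),
    (999, .gen 321 (25, false)),
    (3319, .gen 321 (25, true)),
    (52, .gen 321 (26, false)),
    (380, .gen 3289 (24, false)),
    (612, .gen 3289 (25, false)),
    (103, .gen 3289 (25, true)),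
    (2332, .gen 3289 (26, false)),
    (2658, .gen 1982 (24, false)),
    (3357, .gen 1982 (25, false)),
    (3024, .gen 1982 (25, true)),
    (606, .gen 1982 (26, false)),
    (2093, .gen 1489 (25, false)),
    (3751, .gen 1489 (25, true)),
    (1995, .gen 1187 (25, false)),
    (621, .gen 1187 (25, true)),
    (2375, .gen 1130 (36, false)),
    (1567, .gen 955 (26, false)),
    (823, .gen 955 (26, true)),
    (236, .gen 2243 (26, false)),
    (604, .gen 2243 (26, true)),
    (3371, .gen 831 (25, false)),
    (2513, .gen 831 (25, true)),
    (2241, .gen 2036 (25, false)),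
    (331, .gen 2036 (25, true)),
    (3360, .gen 1646 (36, false)),
    (3183, .gen 1600 (26, false)),
    (872, .gen 1600 (26, true)),
    (706, .gen 3415 (26, false)),
    (3342, .gen 3415 (26, true)),
    (2397, .gen 1952 (25, false)),
    (459, .gen 1952 (25, true)),
    (2184, .gen 3676 (25, false)),
    (1491, .gen 3676 (25, true)),
    (2247, .gen 1853 (36, false)),
    (1783, .gen 1853 (36, true)),
    (1935, .gen 2289 (26, false)),
    (464, .gen 2289 (26, true)),
    (2735, .gen 327 (26, false)),
    (1578, .gen 327 (26, true)),
    (1801, .gen 1205 (24, false)),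
    (2931, .gen 1205 (25, false)),
    (2590, .gen 1205 (25, true)),
    (33, .gen 1205 (26, false)),
    (1326, .gen 1671 (24, false)),
    (1877, .gen 1671 (25, false)),
    (2485, .gen 1671 (25, true)),
    (623, .gen 1671 (26, false)),
    (693, .gen 1305 (24, false)),
    (188, .gen 1305 (25, false)),
    (1113, .gen 1305 (25, true)),
    (1917, .gen 1305 (26, false)),
    (2512, .gen 793 (24, false)),
    (3723, .gen 793 (25, false)),
    (3070, .gen 793 (25, true)),
    (1100, .gen 793 (26, false)),
    (882, .gen 105 (25, false)),
    (3710, .gen 105 (25, true)),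
    (3464, .gen 1056 (25, false)),
    (528, .gen 1056 (25, true)),
    (2787, .gen 2534 (36, false)),
    (1834, .gen 1162 (26, false)),
    (1842, .gen 1162 (26, true)),
    (3088, .gen 3386 (26, false)),
    (774, .gen 3386 (26, true)),
    (2742, .gen 727 (25, false)),
    (2868, .gen 727 (25, true)),
    (2140, .gen 2438 (25, false)),
    (1032, .gen 2438 (25, true)),
    (3646, .gen 1390 (36, false)),
    (224, .gen 2811 (26, false)),
    (1967, .gen 2811 (26, true)),
    (3588, .gen 3769 (26, false)),
    (986, .gen 3769 (26, true)),
    (2174, .gen 1153 (25, false)),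
    (3127, .gen 1153 (25, true)),
    (1795, .gen 1021 (25, false)),
    (748, .gen 1021 (25, true)),
    (201, .gen 2125 (36, false)),
    (3138, .gen 2125 (36, true)),
    (2614, .gen 2428 (26, false)),
    (113, .gen 2428 (26, true)),
    (1679, .gen 1719 (26, false)),
    (2854, .gen 1719 (26, true)),
    (1825, .gen 1519 (24, false)),
    (3694, .gen 1519 (25, false)),
    (3512, .gen 1519 (25, true)),
    (3681, .gen 1519 (26, false)),
    (3542, .gen 2059 (24, false)),
    (3135, .gen 2059 (25, false)),
    (839, .gen 2059 (25, true)),
    (3403, .gen 2059 (26, false)),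
    (1860, .gen 3370 (24, false)),
    (3268, .gen 3370 (25, false)),
    (776, .gen 3370 (25, true)),
    (2366, .gen 3370 (26, false)),
    (491, .gen 80 (24, false)),
    (2834, .gen 80 (25, false)),
    (1107, .gen 80 (25, true)),
    (1772, .gen 80 (26, false)),
    (330, .gen 3437 (25, false)),
    (2626, .gen 3437 (25, true)),
    (508, .gen 1035 (25, false)),
    (3076, .gen 1035 (25, true)),
    (2244, .gen 1690 (36, false)),
    (3107, .gen 1848 (26, false)),
    (2094, .gen 1848 (26, true)),
    (2959, .gen 3553 (26, false)),
    (2918, .gen 3553 (26, true)),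
    (170, .gen 3129 (25, false)),
    (501, .gen 3129 (25, true)),
    (26, .gen 132 (25, false)),
    (1960, .gen 132 (25, true)),
    (408, .gen 2608 (36, false)),
    (1654, .gen 3404 (26, false)),
    (1909, .gen 3404 (26, true)),
    (2105, .gen 2761 (26, false)),
    (593, .gen 2761 (26, true)),
    (3491, .gen 1196 (25, false)),
    (3641, .gen 1196 (25, true)),
    (3775, .gen 2493 (25, false)),
    (3501, .gen 2493 (25, true)),
    (1545, .gen 2155 (36, false)),
    (2932, .gen 2155 (36, true)),
    (1932, .gen 3737 (26, false)),
    (233, .gen 3737 (26, true)),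
    (3741, .gen 3467 (26, false)),
    (1264, .gen 3467 (26, true)),
    (3151, .gen 2871 (24, false)),
    (644, .gen 2871 (25, false)),
    (2764, .gen 2871 (25, true)),
    (261, .gen 2871 (26, false)),
    (252, .gen 2374 (24, false)),
    (729, .gen 2374 (25, false)),
    (3288, .gen 2374 (25, true)),
    (1283, .gen 2374 (26, false)),
    (1355, .gen 817 (24, false)),
    (3466, .gen 817 (25, false)),
    (1892, .gen 817 (25, true)),
    (1478, .gen 817 (26, false)),
    (3172, .gen 787 (24, false)),
    (2032, .gen 787 (25, false)),
    (104, .gen 787 (25, true)),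
    (2044, .gen 787 (26, false)),
    (879, .gen 42 (25, false)),
    (2891, .gen 42 (25, true)),
    (2895, .gen 2285 (25, false)),
    (524, .gen 2285 (25, true)),
    (2198, .gen 941 (36, false)),
    (3128, .gen 3221 (26, false)),
    (2913, .gen 3221 (26, true)),
    (845, .gen 3097 (26, false)),
    (112, .gen 3097 (26, true)),
    (1452, .gen 274 (25, false)),
    (1977, .gen 274 (25, true)),
    (3524, .gen 119 (25, false)),
    (3163, .gen 119 (25, true)),
    (3325, .gen 434 (36, false)),
    (576, .gen 1562 (26, false)),
    (2471, .gen 1562 (26, true)),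
    (2695, .gen 2137 (26, false)),
    (1284, .gen 2137 (26, true)),
    (959, .gen 1850 (25, false)),
    (77, .gen 1850 (25, true)),
    (1366, .gen 2606 (25, false)),
    (867, .gen 2606 (25, true)),
    (1190, .gen 2757 (36, false)),
    (3528, .gen 2757 (36, true)),
    (1500, .gen 176 (26, false)),
    (2041, .gen 176 (26, true)),
    (1133, .gen 716 (26, false)),
    (3389, .gen 716 (26, true)),
    (257, .gen 2019 (24, false)),
    (3346, .gen 2019 (25, false)),
    (3323, .gen 2019 (25, true)),
    (2846, .gen 2019 (26, false)),
    (642, .gen 3750 (24, false)),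
    (229, .gen 3750 (25, false)),
    (2007, .gen 3750 (25, true)),
    (2089, .gen 3750 (26, false)),
    (19, .gen 2302 (24, false)),
    (2861, .gen 2302 (25, false)),
    (2826, .gen 2302 (25, true)),
    (1707, .gen 2302 (26, false)),
    (27, .gen 1663 (24, false)),
    (3299, .gen 1663 (25, false)),
    (2866, .gen 1663 (25, true)),
    (800, .gen 1663 (26, false)),
    (3103, .gen 600 (25, false)),
    (3621, .gen 600 (25, true)),
    (760, .gen 3148 (25, false)),
    (1034, .gen 3148 (25, true)),
    (1397, .gen 1592 (36, false)),
    (3794, .gen 471 (26, false)),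
    (3760, .gen 471 (26, true)),
    (2186, .gen 2014 (26, false)),
    (2723, .gen 2014 (26, true)),
    (129, .gen 3581 (25, false)),
    (717, .gen 3581 (25, true)),
    (1142, .gen 2847 (25, false)),
    (846, .gen 2847 (25, true)),
    (2632, .gen 1260 (36, false)),
    (2910, .gen 165 (26, false)),
    (48, .gen 165 (26, true)),
    (1991, .gen 2666 (26, false)),
    (2995, .gen 2666 (26, true)),
    (3541, .gen 3363 (25, false)),
    (3447, .gen 3363 (25, true)),
    (3781, .gen 1870 (25, false)),
    (3649, .gen 1870 (25, true)),
    (2773, .gen 2531 (36, false)),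
    (2781, .gen 2531 (36, true)),
    (1902, .gen 2015 (26, false)),
    (1324, .gen 2015 (26, true)),
    (3154, .gen 1354 (26, false)),
    (1662, .gen 1354 (26, true)),
    (2425, .gen 2163 (24, false)),
    (3514, .gen 2163 (25, false)),
    (3688, .gen 2163 (25, true)),
    (2314, .gen 2163 (26, false)),
    (874, .gen 2816 (24, false)),
    (1318, .gen 2816 (25, false)),
    (1763, .gen 2816 (25, true)),
    (3762, .gen 2816 (26, false)),
    (147, .gen 1412 (24, false)),
    (2090, .gen 1412 (25, false)),
    (751, .gen 1412 (25, true)),
    (2517, .gen 1412 (26, false)),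
    (3298, .gen 2582 (24, false)),
    (1640, .gen 2582 (25, false)),
    (1031, .gen 2582 (25, true))]

/-- Visits. -/
def v3_12 : List (ℕ × Src) :=
  [(3276, .gen 2582 (26, false)),
    (1068, .gen 95 (25, false)),
    (3658, .gen 95 (25, true)),
    (3266, .gen 2576 (25, false)),
    (54, .gen 2576 (25, true)),
    (2629, .gen 265 (36, false)),
    (1740, .gen 2087 (26, false)),
    (3169, .gen 2087 (26, true)),
    (399, .gen 2680 (26, false)),
    (476, .gen 2680 (26, true)),
    (772, .gen 1950 (25, false)),
    (2327, .gen 1950 (25, true)),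
    (3278, .gen 2056 (25, false)),
    (1426, .gen 2056 (25, true)),
    (3194, .gen 976 (36, false)),
    (2712, .gen 1512 (26, false)),
    (318, .gen 1512 (26, true)),
    (1293, .gen 3523 (26, false)),
    (2894, .gen 3523 (26, true)),
    (1530, .gen 635 (25, false)),
    (131, .gen 635 (25, true)),
    (653, .gen 1204 (25, false)),
    (1949, .gen 1204 (25, true)),
    (1706, .gen 945 (36, false)),
    (3039, .gen 945 (36, true)),
    (2993, .gen 1858 (26, false)),
    (1718, .gen 1858 (26, true)),
    (1281, .gen 292 (26, false)),
    (2194, .gen 292 (26, true)),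
    (2736, .gen 865 (24, false)),
    (1510, .gen 865 (25, false)),
    (2484, .gen 865 (25, true)),
    (1201, .gen 865 (26, false)),
    (1387, .gen 2924 (24, false)),
    (2028, .gen 2924 (25, false)),
    (2054, .gen 2924 (25, true)),
    (3708, .gen 2924 (26, false)),
    (2509, .gen 960 (24, false)),
    (984, .gen 960 (25, false)),
    (59, .gen 960 (25, true)),
    (2211, .gen 960 (26, false)),
    (2917, .gen 198 (24, false)),
    (1481, .gen 198 (25, false)),
    (543, .gen 198 (25, true)),
    (2898, .gen 198 (26, false)),
    (2824, .gen 1755 (25, false)),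
    (1840, .gen 1755 (25, true)),
    (1290, .gen 902 (25, false)),
    (1701, .gen 902 (25, true)),
    (1702, .gen 2940 (36, false)),
    (150, .gen 2703 (26, false)),
    (3302, .gen 2703 (26, true)),
    (441, .gen 2508 (26, false)),
    (2188, .gen 2508 (26, true)),
    (2698, .gen 294 (25, false)),
    (3697, .gen 294 (25, true)),
    (3572, .gen 3263 (25, false)),
    (1541, .gen 3263 (25, true)),
    (747, .gen 1431 (36, false)),
    (2558, .gen 1540 (26, false)),
    (3462, .gen 1540 (26, true)),
    (3303, .gen 2717 (26, false)),
    (2124, .gen 2717 (26, true)),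
    (1656, .gen 3712 (25, false)),
    (1148, .gen 3712 (25, true)),
    (620, .gen 3421 (25, false)),
    (560, .gen 3421 (25, true)),
    (3376, .gen 3774 (36, false)),
    (2450, .gen 3774 (36, true)),
    (2231, .gen 2342 (26, false)),
    (1369, .gen 2342 (26, true)),
    (875, .gen 3453 (26, false)),
    (1268, .gen 3453 (26, true)),
    (656, .gen 1941 (24, false)),
    (616, .gen 1941 (25, false)),
    (3297, .gen 1941 (25, true)),
    (2159, .gen 1941 (26, false)),
    (505, .gen 1407 (24, false)),
    (237, .gen 1407 (25, false)),
    (3030, .gen 1407 (25, true)),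
    (2008, .gen 1407 (26, false)),
    (3173, .gen 337 (24, false)),
    (1791, .gen 337 (25, false)),
    (473, .gen 337 (25, true)),
    (3561, .gen 337 (26, false)),
    (1560, .gen 3018 (24, false)),
    (643, .gen 3018 (25, false)),
    (339, .gen 3018 (25, true)),
    (1896, .gen 3018 (26, false)),
    (2992, .gen 622 (25, false)),
    (2085, .gen 622 (25, true)),
    (2546, .gen 2071 (25, false)),
    (1098, .gen 2071 (25, true)),
    (192, .gen 2833 (36, false)),
    (3334, .gen 1597 (26, false)),
    (2803, .gen 1597 (26, true)),
    (1058, .gen 2620 (26, false)),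
    (2693, .gen 2620 (26, true)),
    (3432, .gen 3393 (25, false)),
    (585, .gen 3393 (25, true)),
    (2796, .gen 3756 (25, false)),
    (775, .gen 3756 (25, true)),
    (911, .gen 3399 (36, false)),
    (1765, .gen 2939 (26, false)),
    (940, .gen 2939 (26, true)),
    (2475, .gen 2954 (26, false)),
    (2505, .gen 2954 (26, true)),
    (196, .gen 746 (25, false)),
    (3458, .gen 746 (25, true)),
    (824, .gen 1532 (25, false)),
    (1620, .gen 1532 (25, true)),
    (465, .gen 1804 (36, false)),
    (1422, .gen 1804 (36, true)),
    (786, .gen 3754 (26, false)),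
    (1441, .gen 3754 (26, true)),
    (3123, .gen 1838 (26, false)),
    (2815, .gen 1838 (26, true)),
    (2850, .gen 3075 (24, false)),
    (2653, .gen 3075 (25, false)),
    (2637, .gen 3075 (25, true)),
    (3613, .gen 3075 (26, false)),
    (3507, .gen 2518 (24, false)),
    (1635, .gen 2518 (25, false)),
    (435, .gen 2518 (25, true)),
    (676, .gen 2518 (26, false)),
    (336, .gen 862 (24, false)),
    (3059, .gen 862 (25, false)),
    (3122, .gen 862 (25, true)),
    (3258, .gen 862 (26, false)),
    (568, .gen 3402 (24, false)),
    (1667, .gen 3402 (25, false)),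
    (3630, .gen 3402 (25, true)),
    (2210, .gen 3402 (26, false)),
    (1731, .gen 2565 (25, false)),
    (1006, .gen 2565 (25, true)),
    (2978, .gen 2729 (25, false)),
    (249, .gen 2729 (25, true)),
    (3235, .gen 1028 (36, false)),
    (394, .gen 1966 (26, false)),
    (3623, .gen 1966 (26, true)),
    (832, .gen 2759 (26, false)),
    (886, .gen 2759 (26, true)),
    (1236, .gen 857 (25, false)),
    (1570, .gen 857 (25, true)),
    (3207, .gen 3767 (25, false)),
    (3152, .gen 3767 (25, true)),
    (1844, .gen 3620 (36, false)),
    (1096, .gen 2447 (26, false)),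
    (2187, .gen 2447 (26, true)),
    (3576, .gen 1436 (26, false)),
    (3093, .gen 1436 (26, true)),
    (497, .gen 67 (25, false)),
    (2173, .gen 67 (25, true)),
    (2221, .gen 798 (25, false)),
    (178, .gen 798 (25, true)),
    (898, .gen 2469 (36, false)),
    (2202, .gen 2469 (36, true)),
    (961, .gen 2334 (26, false)),
    (962, .gen 2334 (26, true)),
    (2265, .gen 2249 (26, false)),
    (1549, .gen 2249 (26, true)),
    (3600, .gen 335 (24, false)),
    (1822, .gen 335 (25, false)),
    (1726, .gen 335 (25, true)),
    (3086, .gen 335 (26, false)),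
    (3722, .gen 1751 (24, false)),
    (2353, .gen 1751 (25, false)),
    (191, .gen 1751 (25, true)),
    (3197, .gen 1751 (26, false)),
    (2305, .gen 1521 (24, false)),
    (1753, .gen 1521 (25, false)),
    (3012, .gen 1521 (25, true)),
    (2872, .gen 1521 (26, false)),
    (1886, .gen 682 (24, false)),
    (512, .gen 682 (25, false)),
    (2848, .gen 682 (25, true)),
    (2890, .gen 682 (26, false)),
    (3687, .gen 894 (25, false)),
    (1202, .gen 894 (25, true)),
    (3547, .gen 470 (25, false)),
    (1685, .gen 470 (25, true)),
    (2280, .gen 351 (36, false)),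
    (324, .gen 834 (26, false)),
    (3666, .gen 834 (26, true)),
    (2403, .gen 3277 (26, false)),
    (2530, .gen 3277 (26, true)),
    (3099, .gen 764 (25, false)),
    (2692, .gen 764 (25, true)),
    (3274, .gen 94 (25, false)),
    (1164, .gen 94 (25, true)),
    (3391, .gen 25 (36, false)),
    (3116, .gen 3314 (26, false)),
    (2705, .gen 3314 (26, true)),
    (2659, .gen 3196 (26, false)),
    (1561, .gen 3196 (26, true))]

/-- The visits of node 3. -/
def visits3 : List (ℕ × Src) :=
  v3_0 ++ v3_1 ++ v3_2 ++ v3_3 ++ v3_4 ++ v3_5 ++ v3_6 ++ v3_7 ++ v3_8 ++ v3_9 ++ v3_10 ++ v3_11 ++ v3_12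


end Cfsg.Agent.J4Bound.Data
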