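import Cfsg.Agent.Lib.J4Pres.Bound.Cover

/-! Data of the double coset enumeration for the presented fourth Janko group (tools/j4/bound/emitb.py). -/

set_option autoImplicit false
set_option maxRecDepth 100000
set_option maxHeartbeats 0

namespace Cfsg.Agent.J4Bound.Data

/-- Visits. -/
def v4_0 : List (ℕ × Src) :=
  [(30, .edge 31 true),
    (0, .edge 32 false),
    (2614, .edge 33 false),
    (498, .edge 315 true),
    (1174, .edge 316 true),
    (538, .edge 392 false),
    (566, .edge 518 true),
    (616, .edge 524 true),
    (1642, .edge 532 true),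
    (196, .edge 535 false),
    (2382, .edge 850 true),
    (232, .edge 854 true),
    (816, .edge 856 false),
    (194, .edge 860 false),
    (3201, .edge 928 true),
    (2617, .edge 929 true),
    (651, .edge 930 true),
    (2003, .gen 30 (34, false)),
    (884, .gen 30 (34, true)),
    (2845, .gen 30 (35, false)),
    (2190, .gen 30 (35, true)),
    (750, .gen 0 (34, false)),
    (2566, .gen 0 (34, true)),
    (3700, .gen 0 (35, false)),
    (2199, .gen 0 (35, true)),
    (272, .gen 2614 (34, false)),
    (1027, .gen 2614 (34, true)),
    (564, .gen 2614 (35, false)),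
    (2618, .gen 2614 (35, true)),
    (2437, .gen 498 (34, false)),
    (3482, .gen 498 (34, true)),
    (240, .gen 498 (35, false)),
    (195, .gen 498 (35, true)),
    (2993, .gen 1174 (34, false)),
    (169, .gen 1174 (34, true)),
    (3356, .gen 1174 (35, false)),
    (1484, .gen 1174 (35, true)),
    (3111, .gen 538 (34, false)),
    (2954, .gen 538 (34, true)),
    (3023, .gen 538 (35, false)),
    (3108, .gen 538 (35, true)),
    (2694, .gen 566 (34, false)),
    (1499, .gen 566 (34, true)),
    (1123, .gen 566 (35, false)),
    (986, .gen 566 (35, true)),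
    (1757, .gen 616 (34, false)),
    (333, .gen 616 (34, true)),
    (1614, .gen 616 (35, false)),
    (3527, .gen 616 (35, true)),
    (2246, .gen 1642 (34, false)),
    (3268, .gen 1642 (34, true)),
    (476, .gen 1642 (35, false)),
    (1207, .gen 1642 (35, true)),
    (383, .gen 196 (34, false)),
    (96, .gen 196 (34, true)),
    (982, .gen 196 (35, false)),
    (3191, .gen 196 (35, true)),
    (94, .gen 2382 (34, false)),
    (1585, .gen 2382 (34, true)),
    (2595, .gen 2382 (35, false)),
    (2224, .gen 2382 (35, true)),
    (997, .gen 232 (34, false)),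
    (399, .gen 232 (34, true)),
    (2031, .gen 232 (35, false)),
    (3611, .gen 232 (35, true)),
    (2038, .gen 816 (34, false)),
    (3572, .gen 816 (34, true)),
    (736, .gen 816 (35, false)),
    (54, .gen 816 (35, true)),
    (2500, .gen 194 (34, false)),
    (3452, .gen 194 (34, true)),
    (694, .gen 194 (35, false)),
    (3724, .gen 194 (35, true)),
    (2864, .gen 3201 (34, false)),
    (78, .gen 3201 (34, true)),
    (3594, .gen 3201 (35, false)),
    (692, .gen 3201 (35, true)),
    (2502, .gen 2617 (34, false)),
    (2304, .gen 2617 (34, true)),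
    (3183, .gen 2617 (35, false)),
    (2981, .gen 2617 (35, true)),
    (917, .gen 651 (34, false)),
    (42, .gen 651 (34, true)),
    (2727, .gen 651 (35, false)),
    (1186, .gen 651 (35, true)),
    (1966, .gen 2003 (34, false)),
    (2730, .gen 2003 (35, false)),
    (2170, .gen 2003 (35, true)),
    (627, .gen 884 (34, true)),
    (2209, .gen 884 (35, false)),
    (1590, .gen 884 (35, true)),
    (2769, .gen 2845 (34, false)),
    (2824, .gen 2845 (34, true)),
    (2933, .gen 2845 (35, false)),
    (785, .gen 2190 (34, false)),
    (3378, .gen 2190 (34, true)),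
    (1134, .gen 2190 (35, true)),
    (1601, .gen 750 (34, false)),
    (1168, .gen 750 (35, false)),
    (3777, .gen 750 (35, true)),
    (1748, .gen 2566 (34, true)),
    (212, .gen 2566 (35, false)),
    (324, .gen 2566 (35, true)),
    (859, .gen 3700 (34, false)),
    (3760, .gen 3700 (34, true)),
    (2417, .gen 3700 (35, false)),
    (450, .gen 2199 (34, false)),
    (3573, .gen 2199 (34, true)),
    (3200, .gen 2199 (35, true)),
    (3712, .gen 272 (34, false)),
    (2693, .gen 272 (35, false)),
    (104, .gen 272 (35, true)),
    (165, .gen 1027 (34, true)),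
    (3283, .gen 1027 (35, false)),
    (716, .gen 1027 (35, true)),
    (2080, .gen 564 (34, true)),
    (2327, .gen 564 (35, false)),
    (2582, .gen 2618 (34, false)),
    (2081, .gen 2618 (34, true)),
    (742, .gen 2618 (35, true)),
    (3321, .gen 2437 (34, false)),
    (1410, .gen 2437 (35, false)),
    (3049, .gen 2437 (35, true)),
    (1025, .gen 3482 (34, true)),
    (2857, .gen 3482 (35, false)),
    (1149, .gen 3482 (35, true)),
    (533, .gen 240 (34, false)),
    (693, .gen 240 (34, true)),
    (544, .gen 240 (35, false)),
    (1005, .gen 195 (34, false)),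
    (1980, .gen 195 (34, true)),
    (761, .gen 195 (35, true)),
    (1451, .gen 2993 (34, false)),
    (1886, .gen 2993 (35, false)),
    (2937, .gen 2993 (35, true)),
    (510, .gen 169 (34, true)),
    (1139, .gen 169 (35, false)),
    (2711, .gen 169 (35, true)),
    (296, .gen 3356 (34, false)),
    (3199, .gen 3356 (34, true)),
    (1391, .gen 3356 (35, false)),
    (2656, .gen 1484 (34, false)),
    (3282, .gen 1484 (34, true)),
    (824, .gen 1484 (35, true)),
    (489, .gen 3111 (34, false)),
    (1938, .gen 3111 (35, false)),
    (3689, .gen 3111 (35, true)),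
    (3500, .gen 2954 (34, true)),
    (2299, .gen 2954 (35, false)),
    (1732, .gen 2954 (35, true)),
    (909, .gen 3023 (34, false)),
    (3781, .gen 3023 (34, true)),
    (3708, .gen 3023 (35, false)),
    (311, .gen 3108 (34, false)),
    (802, .gen 3108 (34, true)),
    (375, .gen 3108 (35, true)),
    (3100, .gen 2694 (34, false)),
    (3637, .gen 2694 (35, false)),
    (1021, .gen 2694 (35, true)),
    (3116, .gen 1499 (34, true)),
    (673, .gen 1499 (35, false)),
    (903, .gen 1499 (35, true)),
    (3791, .gen 1123 (34, false)),
    (3230, .gen 1123 (34, true)),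
    (2019, .gen 1123 (35, false)),
    (82, .gen 986 (34, false)),
    (136, .gen 986 (34, true)),
    (2710, .gen 986 (35, true)),
    (2307, .gen 1757 (34, false)),
    (710, .gen 1757 (35, false)),
    (2444, .gen 1757 (35, true)),
    (3293, .gen 333 (34, true)),
    (1792, .gen 333 (35, false)),
    (205, .gen 333 (35, true)),
    (2370, .gen 1614 (34, false)),
    (1376, .gen 1614 (34, true)),
    (1650, .gen 1614 (35, false)),
    (159, .gen 3527 (34, false)),
    (3123, .gen 3527 (34, true)),
    (1627, .gen 3527 (35, true)),
    (1608, .gen 2246 (34, false)),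
    (3513, .gen 2246 (35, false)),
    (3048, .gen 2246 (35, true)),
    (1238, .gen 3268 (34, true)),
    (3721, .gen 3268 (35, false)),
    (374, .gen 3268 (35, true)),
    (2041, .gen 476 (34, false)),
    (3514, .gen 476 (34, true)),
    (2276, .gen 476 (35, false)),
    (822, .gen 1207 (34, false)),
    (1043, .gen 1207 (34, true)),
    (2551, .gen 1207 (35, true)),
    (1618, .gen 383 (34, false)),
    (1683, .gen 383 (35, false)),
    (19, .gen 383 (35, true)),
    (1224, .gen 96 (34, true)),
    (247, .gen 96 (35, false)),
    (3442, .gen 96 (35, true)),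
    (2491, .gen 982 (34, false)),
    (2818, .gen 982 (34, true)),
    (2742, .gen 982 (35, false)),
    (1467, .gen 3191 (34, false)),
    (259, .gen 3191 (34, true)),
    (765, .gen 3191 (35, true)),
    (2050, .gen 94 (34, false)),
    (3081, .gen 94 (35, false)),
    (3060, .gen 94 (35, true)),
    (1527, .gen 1585 (34, true)),
    (1013, .gen 1585 (35, false)),
    (2709, .gen 1585 (35, true)),
    (852, .gen 2595 (34, false)),
    (1730, .gen 2595 (34, true)),
    (36, .gen 2595 (35, false)),
    (1877, .gen 2224 (34, false)),
    (546, .gen 2224 (34, true)),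
    (3768, .gen 2224 (35, true)),
    (595, .gen 997 (34, false)),
    (2812, .gen 997 (35, false)),
    (2427, .gen 997 (35, true)),
    (517, .gen 399 (34, true)),
    (3271, .gen 399 (35, false)),
    (1237, .gen 399 (35, true)),
    (47, .gen 2031 (34, false)),
    (3066, .gen 2031 (34, true)),
    (1689, .gen 2031 (35, false)),
    (465, .gen 3611 (34, false)),
    (1870, .gen 3611 (34, true)),
    (79, .gen 3611 (35, true)),
    (175, .gen 2038 (34, false)),
    (3706, .gen 2038 (35, false)),
    (2167, .gen 2038 (35, true)),
    (32, .gen 3572 (34, true)),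
    (1252, .gen 3572 (35, false)),
    (132, .gen 3572 (35, true)),
    (2948, .gen 736 (34, false)),
    (2777, .gen 736 (34, true)),
    (1611, .gen 736 (35, false)),
    (622, .gen 54 (34, false)),
    (2919, .gen 54 (34, true)),
    (3354, .gen 54 (35, true)),
    (1298, .gen 2500 (34, false)),
    (1069, .gen 2500 (35, false)),
    (2062, .gen 2500 (35, true)),
    (3555, .gen 3452 (34, true)),
    (2862, .gen 3452 (35, false)),
    (3151, .gen 3452 (35, true)),
    (3247, .gen 694 (34, false)),
    (284, .gen 694 (34, true)),
    (3236, .gen 694 (35, false)),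
    (586, .gen 3724 (34, false)),
    (789, .gen 3724 (34, true)),
    (2627, .gen 3724 (35, true)),
    (856, .gen 2864 (34, false)),
    (3150, .gen 2864 (35, false)),
    (2586, .gen 2864 (35, true)),
    (2132, .gen 78 (34, true)),
    (3184, .gen 78 (35, false)),
    (1626, .gen 78 (35, true)),
    (3605, .gen 3594 (34, false)),
    (3161, .gen 3594 (34, true)),
    (2258, .gen 3594 (35, false)),
    (304, .gen 692 (34, false)),
    (3663, .gen 692 (34, true)),
    (1605, .gen 692 (35, true)),
    (2489, .gen 2502 (34, false)),
    (298, .gen 2502 (35, false)),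
    (3299, .gen 2502 (35, true)),
    (3031, .gen 2304 (34, true)),
    (2346, .gen 2304 (35, false)),
    (1706, .gen 2304 (35, true)),
    (2255, .gen 3183 (34, false)),
    (274, .gen 3183 (34, true)),
    (3011, .gen 3183 (35, false)),
    (2093, .gen 2981 (34, false)),
    (1853, .gen 2981 (34, true)),
    (892, .gen 2981 (35, true)),
    (2780, .gen 917 (34, false)),
    (902, .gen 917 (35, false)),
    (1541, .gen 917 (35, true)),
    (1284, .gen 42 (34, true)),
    (3281, .gen 42 (35, false)),
    (1673, .gen 42 (35, true)),
    (3640, .gen 2727 (34, false)),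
    (2524, .gen 2727 (34, true)),
    (718, .gen 2727 (35, false)),
    (745, .gen 1186 (34, false)),
    (1725, .gen 1186 (34, true)),
    (787, .gen 1186 (35, true)),
    (775, .gen 1966 (34, false)),
    (1354, .gen 1966 (35, false)),
    (1644, .gen 1966 (35, true)),
    (2295, .gen 2730 (34, false)),
    (277, .gen 2730 (35, false)),
    (703, .gen 2170 (34, true)),
    (2454, .gen 2170 (35, true)),
    (316, .gen 627 (35, false)),
    (2049, .gen 627 (35, true)),
    (2832, .gen 2209 (34, false)),
    (2478, .gen 2209 (34, true)),
    (762, .gen 2209 (35, false))]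

/-- Visits. -/
def v4_1 : List (ℕ × Src) :=
  [(2085, .gen 1590 (34, false)),
    (3789, .gen 1590 (34, true)),
    (2652, .gen 1590 (35, true)),
    (1535, .gen 2769 (34, false)),
    (2117, .gen 2769 (35, false)),
    (555, .gen 2824 (34, true)),
    (1392, .gen 2824 (35, false)),
    (74, .gen 2824 (35, true)),
    (1015, .gen 2933 (34, false)),
    (2412, .gen 2933 (34, true)),
    (871, .gen 2933 (35, false)),
    (1932, .gen 785 (34, false)),
    (1583, .gen 785 (35, true)),
    (530, .gen 3378 (34, true)),
    (2234, .gen 3378 (35, false)),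
    (6, .gen 1134 (34, false)),
    (2570, .gen 1134 (35, true)),
    (1926, .gen 1601 (34, false)),
    (123, .gen 1601 (35, false)),
    (2892, .gen 1168 (34, false)),
    (3747, .gen 1168 (34, true)),
    (964, .gen 1168 (35, false)),
    (1736, .gen 3777 (34, true)),
    (2002, .gen 3777 (35, true)),
    (286, .gen 1748 (35, false)),
    (1336, .gen 212 (34, true)),
    (1348, .gen 212 (35, false)),
    (3502, .gen 324 (34, false)),
    (2725, .gen 324 (34, true)),
    (231, .gen 324 (35, true)),
    (1289, .gen 859 (34, false)),
    (3414, .gen 859 (35, false)),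
    (53, .gen 859 (35, true)),
    (1726, .gen 3760 (35, true)),
    (695, .gen 2417 (34, false)),
    (939, .gen 2417 (34, true)),
    (130, .gen 450 (34, false)),
    (2458, .gen 450 (35, false)),
    (3767, .gen 450 (35, true)),
    (2206, .gen 3573 (34, true)),
    (2847, .gen 3573 (35, false)),
    (3380, .gen 3573 (35, true)),
    (3256, .gen 3200 (34, false)),
    (1814, .gen 3200 (34, true)),
    (575, .gen 3200 (35, true)),
    (1511, .gen 3712 (34, false)),
    (239, .gen 3712 (35, false)),
    (1413, .gen 3712 (35, true)),
    (1178, .gen 2693 (34, false)),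
    (1545, .gen 2693 (35, false)),
    (2310, .gen 104 (34, true)),
    (2264, .gen 104 (35, true)),
    (2848, .gen 165 (34, true)),
    (2176, .gen 165 (35, true)),
    (1200, .gen 3283 (34, false)),
    (2060, .gen 3283 (35, false)),
    (1180, .gen 716 (34, false)),
    (1680, .gen 716 (34, true)),
    (1863, .gen 716 (35, true)),
    (3624, .gen 2080 (34, true)),
    (2084, .gen 2080 (35, false)),
    (2760, .gen 2080 (35, true)),
    (1135, .gen 2582 (34, false)),
    (3155, .gen 2582 (35, false)),
    (3595, .gen 2582 (35, true)),
    (2231, .gen 2081 (34, true)),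
    (573, .gen 2081 (35, false)),
    (3629, .gen 2081 (35, true)),
    (2911, .gen 742 (34, false)),
    (542, .gen 742 (35, true)),
    (1989, .gen 3321 (34, false)),
    (368, .gen 3321 (35, false)),
    (648, .gen 3321 (35, true)),
    (2560, .gen 1410 (34, false)),
    (2682, .gen 1410 (34, true)),
    (677, .gen 1410 (35, false)),
    (737, .gen 3049 (34, false)),
    (1438, .gen 3049 (34, true)),
    (3370, .gen 3049 (35, true)),
    (3288, .gen 1025 (34, true)),
    (3368, .gen 1025 (35, false)),
    (1790, .gen 1025 (35, true)),
    (3644, .gen 2857 (34, false)),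
    (3771, .gen 2857 (34, true)),
    (2025, .gen 2857 (35, false)),
    (1092, .gen 1149 (34, false)),
    (3546, .gen 1149 (34, true)),
    (3471, .gen 1149 (35, true)),
    (67, .gen 533 (34, false)),
    (2930, .gen 533 (35, false)),
    (663, .gen 533 (35, true)),
    (1910, .gen 693 (34, true)),
    (1317, .gen 693 (35, false)),
    (2210, .gen 693 (35, true)),
    (3350, .gen 544 (34, false)),
    (2977, .gen 544 (34, true)),
    (1175, .gen 544 (35, false)),
    (1537, .gen 1005 (34, false)),
    (2959, .gen 1005 (35, false)),
    (2290, .gen 1005 (35, true)),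
    (2390, .gen 1980 (34, true)),
    (2442, .gen 1980 (35, false)),
    (1285, .gen 1980 (35, true)),
    (2116, .gen 761 (34, false)),
    (2610, .gen 761 (34, true)),
    (698, .gen 761 (35, true)),
    (421, .gen 1451 (34, false)),
    (1138, .gen 1451 (35, false)),
    (3622, .gen 1451 (35, true)),
    (1241, .gen 1886 (34, false)),
    (478, .gen 1886 (34, true)),
    (2114, .gen 1886 (35, false)),
    (3523, .gen 2937 (34, false)),
    (198, .gen 2937 (34, true)),
    (3004, .gen 2937 (35, true)),
    (894, .gen 510 (34, true)),
    (2562, .gen 510 (35, false)),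
    (3406, .gen 510 (35, true)),
    (2795, .gen 1139 (34, false)),
    (1297, .gen 1139 (34, true)),
    (1251, .gen 1139 (35, false)),
    (2718, .gen 2711 (34, false)),
    (3039, .gen 2711 (34, true)),
    (223, .gen 2711 (35, true)),
    (2302, .gen 296 (34, false)),
    (2903, .gen 296 (35, false)),
    (936, .gen 296 (35, true)),
    (840, .gen 3199 (34, true)),
    (2096, .gen 3199 (35, false)),
    (380, .gen 3199 (35, true)),
    (278, .gen 1391 (34, false)),
    (2250, .gen 1391 (34, true)),
    (2875, .gen 1391 (35, false)),
    (264, .gen 2656 (34, false)),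
    (2530, .gen 2656 (35, false)),
    (2339, .gen 2656 (35, true)),
    (1897, .gen 3282 (34, true)),
    (667, .gen 3282 (35, false)),
    (1632, .gen 3282 (35, true)),
    (656, .gen 824 (34, false)),
    (1951, .gen 824 (34, true)),
    (1140, .gen 824 (35, true)),
    (1032, .gen 489 (34, false)),
    (3647, .gen 489 (35, false)),
    (3687, .gen 489 (35, true)),
    (349, .gen 1938 (34, false)),
    (923, .gen 1938 (34, true)),
    (3593, .gen 1938 (35, false)),
    (625, .gen 3689 (34, false)),
    (924, .gen 3689 (34, true)),
    (2767, .gen 3689 (35, true)),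
    (1318, .gen 3500 (34, true)),
    (2272, .gen 3500 (35, false)),
    (3615, .gen 3500 (35, true)),
    (2645, .gen 2299 (34, false)),
    (3455, .gen 2299 (34, true)),
    (3244, .gen 2299 (35, false)),
    (3035, .gen 1732 (34, false)),
    (3142, .gen 1732 (34, true)),
    (2975, .gen 1732 (35, true)),
    (2079, .gen 909 (34, false)),
    (3210, .gen 909 (35, false)),
    (2884, .gen 909 (35, true)),
    (2404, .gen 3781 (34, true)),
    (773, .gen 3781 (35, false)),
    (2677, .gen 3781 (35, true)),
    (1244, .gen 3708 (34, false)),
    (1747, .gen 3708 (34, true)),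
    (1875, .gen 3708 (35, false)),
    (2274, .gen 311 (34, false)),
    (2606, .gen 311 (35, false)),
    (2333, .gen 311 (35, true)),
    (1564, .gen 802 (34, true)),
    (3305, .gen 802 (35, false)),
    (760, .gen 802 (35, true)),
    (1162, .gen 375 (34, false)),
    (2168, .gen 375 (34, true)),
    (568, .gen 375 (35, true)),
    (1130, .gen 3100 (34, false)),
    (3400, .gen 3100 (35, false)),
    (2185, .gen 3100 (35, true)),
    (3728, .gen 3637 (34, false)),
    (181, .gen 3637 (34, true)),
    (321, .gen 3637 (35, false)),
    (179, .gen 1021 (34, false)),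
    (678, .gen 1021 (34, true)),
    (2928, .gen 1021 (35, true)),
    (1219, .gen 3116 (34, true)),
    (883, .gen 3116 (35, false)),
    (2200, .gen 3116 (35, true)),
    (1973, .gen 673 (34, false)),
    (1132, .gen 673 (34, true)),
    (686, .gen 673 (35, false)),
    (2177, .gen 903 (34, false)),
    (3755, .gen 903 (34, true)),
    (3495, .gen 903 (35, true)),
    (2790, .gen 3791 (34, false)),
    (2764, .gen 3791 (35, false)),
    (1742, .gen 3791 (35, true)),
    (3203, .gen 3230 (34, true)),
    (1843, .gen 3230 (35, false)),
    (1074, .gen 3230 (35, true)),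
    (2653, .gen 2019 (34, false)),
    (1703, .gen 2019 (34, true)),
    (1539, .gen 2019 (35, false)),
    (2689, .gen 82 (34, false)),
    (2687, .gen 82 (35, false)),
    (2408, .gen 82 (35, true)),
    (2809, .gen 136 (34, true)),
    (1656, .gen 136 (35, false)),
    (2750, .gen 136 (35, true)),
    (418, .gen 2710 (34, false)),
    (3344, .gen 2710 (34, true)),
    (3678, .gen 2710 (35, true)),
    (1371, .gen 2307 (34, false)),
    (1647, .gen 2307 (35, false)),
    (1639, .gen 2307 (35, true)),
    (354, .gen 710 (34, false)),
    (990, .gen 710 (34, true)),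
    (1357, .gen 710 (35, false)),
    (3145, .gen 2444 (34, false)),
    (1308, .gen 2444 (34, true)),
    (3716, .gen 2444 (35, true)),
    (1903, .gen 3293 (34, true)),
    (2325, .gen 3293 (35, false)),
    (336, .gen 3293 (35, true)),
    (2851, .gen 1792 (34, false)),
    (3363, .gen 1792 (34, true)),
    (137, .gen 1792 (35, false)),
    (3233, .gen 205 (34, false)),
    (3549, .gen 205 (34, true)),
    (2901, .gen 205 (35, true)),
    (2516, .gen 2370 (34, false)),
    (3440, .gen 2370 (35, false)),
    (3302, .gen 2370 (35, true)),
    (1852, .gen 1376 (34, true)),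
    (681, .gen 1376 (35, false)),
    (452, .gen 1376 (35, true)),
    (1664, .gen 1650 (34, false)),
    (522, .gen 1650 (34, true)),
    (3484, .gen 1650 (35, false)),
    (1489, .gen 159 (34, false)),
    (1164, .gen 159 (35, false)),
    (845, .gen 159 (35, true)),
    (109, .gen 3123 (34, true)),
    (959, .gen 3123 (35, false)),
    (3407, .gen 3123 (35, true)),
    (2931, .gen 1627 (34, false)),
    (2965, .gen 1627 (34, true)),
    (2218, .gen 1627 (35, true)),
    (3101, .gen 1608 (34, false)),
    (1170, .gen 1608 (35, false)),
    (1355, .gen 1608 (35, true)),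
    (1960, .gen 3513 (34, false)),
    (2341, .gen 3513 (34, true)),
    (1142, .gen 3513 (35, false)),
    (125, .gen 3048 (34, false)),
    (730, .gen 3048 (34, true)),
    (2045, .gen 3048 (35, true)),
    (1300, .gen 1238 (34, true)),
    (2078, .gen 1238 (35, false)),
    (2997, .gen 1238 (35, true)),
    (3068, .gen 3721 (34, false)),
    (2294, .gen 3721 (34, true)),
    (303, .gen 3721 (35, false)),
    (346, .gen 374 (34, false)),
    (3476, .gen 374 (34, true)),
    (2055, .gen 374 (35, true)),
    (1586, .gen 2041 (34, false)),
    (2071, .gen 2041 (35, false)),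
    (2563, .gen 2041 (35, true)),
    (3417, .gen 3514 (34, true)),
    (1919, .gen 3514 (35, false)),
    (554, .gen 3514 (35, true)),
    (3581, .gen 2276 (34, false)),
    (1923, .gen 2276 (34, true)),
    (2214, .gen 2276 (35, false)),
    (2572, .gen 822 (34, false)),
    (587, .gen 822 (35, false)),
    (3083, .gen 822 (35, true)),
    (1288, .gen 1043 (34, true)),
    (672, .gen 1043 (35, false)),
    (2369, .gen 1043 (35, true)),
    (2156, .gen 2551 (34, false)),
    (3512, .gen 2551 (34, true)),
    (1525, .gen 2551 (35, true)),
    (3036, .gen 1618 (34, false)),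
    (3078, .gen 1618 (35, false)),
    (1331, .gen 1618 (35, true)),
    (3399, .gen 1683 (34, false)),
    (401, .gen 1683 (34, true)),
    (1927, .gen 1683 (35, false)),
    (3051, .gen 19 (34, false)),
    (2755, .gen 19 (34, true)),
    (2037, .gen 19 (35, true)),
    (1501, .gen 1224 (34, true)),
    (3340, .gen 1224 (35, false)),
    (626, .gen 1224 (35, true)),
    (1294, .gen 247 (34, false)),
    (2951, .gen 247 (34, true))]

/-- Visits. -/
def v4_2 : List (ℕ × Src) :=
  [(1657, .gen 247 (35, false)),
    (2690, .gen 3442 (34, false)),
    (3042, .gen 3442 (34, true)),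
    (2715, .gen 3442 (35, true)),
    (1797, .gen 2491 (34, false)),
    (2192, .gen 2491 (35, false)),
    (1163, .gen 2491 (35, true)),
    (3540, .gen 2818 (34, true)),
    (792, .gen 2818 (35, false)),
    (2396, .gen 2818 (35, true)),
    (3133, .gen 2742 (34, false)),
    (2469, .gen 2742 (34, true)),
    (981, .gen 2742 (35, false)),
    (3063, .gen 1467 (34, false)),
    (590, .gen 1467 (35, false)),
    (1663, .gen 1467 (35, true)),
    (957, .gen 259 (34, true)),
    (1176, .gen 259 (35, false)),
    (3443, .gen 259 (35, true)),
    (2193, .gen 765 (34, false)),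
    (2095, .gen 765 (34, true)),
    (1046, .gen 765 (35, true)),
    (3449, .gen 2050 (34, false)),
    (44, .gen 2050 (35, false)),
    (3384, .gen 2050 (35, true)),
    (222, .gen 3081 (34, false)),
    (2681, .gen 3081 (34, true)),
    (2406, .gen 3081 (35, false)),
    (1763, .gen 3060 (34, false)),
    (2452, .gen 3060 (34, true)),
    (1995, .gen 3060 (35, true)),
    (862, .gen 1527 (34, true)),
    (2574, .gen 1527 (35, false)),
    (854, .gen 1527 (35, true)),
    (712, .gen 1013 (34, false)),
    (1588, .gen 1013 (34, true)),
    (2061, .gen 1013 (35, false)),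
    (653, .gen 2709 (34, false)),
    (1701, .gen 2709 (34, true)),
    (3044, .gen 2709 (35, true)),
    (3598, .gen 852 (34, false)),
    (2626, .gen 852 (35, false)),
    (1420, .gen 852 (35, true)),
    (3007, .gen 1730 (34, true)),
    (1652, .gen 1730 (35, false)),
    (3470, .gen 1730 (35, true)),
    (2318, .gen 36 (34, false)),
    (38, .gen 36 (34, true)),
    (1734, .gen 36 (35, false)),
    (839, .gen 1877 (34, false)),
    (2099, .gen 1877 (35, false)),
    (3729, .gen 1877 (35, true)),
    (3529, .gen 546 (34, true)),
    (2447, .gen 546 (35, false)),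
    (3180, .gen 546 (35, true)),
    (543, .gen 3768 (34, false)),
    (2357, .gen 3768 (34, true)),
    (86, .gen 3768 (35, true)),
    (1881, .gen 595 (34, false)),
    (2703, .gen 595 (35, false)),
    (1190, .gen 595 (35, true)),
    (1848, .gen 2812 (34, false)),
    (112, .gen 2812 (34, true)),
    (1807, .gen 2812 (35, false)),
    (3599, .gen 2427 (34, false)),
    (1649, .gen 2427 (34, true)),
    (3294, .gen 2427 (35, true)),
    (306, .gen 517 (34, true)),
    (1286, .gen 517 (35, false)),
    (2773, .gen 517 (35, true)),
    (1765, .gen 3271 (34, false)),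
    (1337, .gen 3271 (34, true)),
    (2138, .gen 3271 (35, false)),
    (642, .gen 1237 (34, false)),
    (877, .gen 1237 (34, true)),
    (3357, .gen 1237 (35, true)),
    (2547, .gen 47 (34, false)),
    (1965, .gen 47 (35, false)),
    (3600, .gen 47 (35, true)),
    (2517, .gen 3066 (34, true)),
    (287, .gen 3066 (35, false)),
    (142, .gen 3066 (35, true)),
    (520, .gen 1689 (34, false)),
    (2897, .gen 1689 (34, true)),
    (3173, .gen 1689 (35, false)),
    (2616, .gen 465 (34, false)),
    (245, .gen 465 (35, false)),
    (1346, .gen 465 (35, true)),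
    (463, .gen 1870 (34, true)),
    (1546, .gen 1870 (35, false)),
    (76, .gen 1870 (35, true)),
    (281, .gen 79 (34, false)),
    (3626, .gen 79 (34, true)),
    (2923, .gen 79 (35, true)),
    (2752, .gen 175 (34, false)),
    (1472, .gen 175 (35, false)),
    (70, .gen 175 (35, true)),
    (3473, .gen 3706 (34, false)),
    (3062, .gen 3706 (34, true)),
    (248, .gen 3706 (35, false)),
    (2332, .gen 2167 (34, false)),
    (2459, .gen 2167 (34, true)),
    (1662, .gen 2167 (35, true)),
    (166, .gen 32 (34, true)),
    (3575, .gen 32 (35, false)),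
    (3608, .gen 32 (35, true)),
    (427, .gen 1252 (34, false)),
    (3186, .gen 1252 (34, true)),
    (646, .gen 1252 (35, false)),
    (3688, .gen 132 (34, false)),
    (3205, .gen 132 (34, true)),
    (3757, .gen 132 (35, true)),
    (601, .gen 2948 (34, false)),
    (1883, .gen 2948 (35, false)),
    (2175, .gen 2948 (35, true)),
    (3505, .gen 2777 (34, true)),
    (1218, .gen 2777 (35, false)),
    (95, .gen 2777 (35, true)),
    (1968, .gen 1611 (34, false)),
    (2179, .gen 1611 (34, true)),
    (433, .gen 1611 (35, false)),
    (1819, .gen 622 (34, false)),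
    (895, .gen 622 (35, false)),
    (782, .gen 622 (35, true)),
    (1982, .gen 2919 (34, true)),
    (3346, .gen 2919 (35, false)),
    (817, .gen 2919 (35, true)),
    (353, .gen 3354 (34, false)),
    (3148, .gen 3354 (34, true)),
    (317, .gen 3354 (35, true)),
    (460, .gen 1298 (34, false)),
    (3090, .gen 1298 (35, false)),
    (1690, .gen 1298 (35, true)),
    (1961, .gen 1069 (34, false)),
    (2381, .gen 1069 (34, true)),
    (1363, .gen 1069 (35, false)),
    (2428, .gen 2062 (34, false)),
    (3434, .gen 2062 (34, true)),
    (1396, .gen 2062 (35, true)),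
    (2023, .gen 3555 (34, true)),
    (1986, .gen 3555 (35, false)),
    (479, .gen 3555 (35, true)),
    (3067, .gen 2862 (34, false)),
    (3556, .gen 2862 (34, true)),
    (1159, .gen 2862 (35, false)),
    (3557, .gen 3151 (34, false)),
    (1531, .gen 3151 (34, true)),
    (3469, .gen 3151 (35, true)),
    (1659, .gen 3247 (34, false)),
    (3648, .gen 3247 (35, false)),
    (1791, .gen 3247 (35, true)),
    (3686, .gen 284 (34, true)),
    (1760, .gen 284 (35, false)),
    (527, .gen 284 (35, true)),
    (1727, .gen 3236 (34, false)),
    (160, .gen 3236 (34, true)),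
    (2921, .gen 3236 (35, false)),
    (617, .gen 586 (34, false)),
    (288, .gen 586 (35, false)),
    (438, .gen 586 (35, true)),
    (1572, .gen 789 (34, true)),
    (219, .gen 789 (35, false)),
    (724, .gen 789 (35, true)),
    (1423, .gen 2627 (34, false)),
    (3664, .gen 2627 (34, true)),
    (514, .gen 2627 (35, true)),
    (3329, .gen 856 (34, false)),
    (1434, .gen 856 (35, false)),
    (739, .gen 856 (35, true)),
    (519, .gen 3150 (34, false)),
    (2706, .gen 3150 (34, true)),
    (1364, .gen 3150 (35, false)),
    (157, .gen 2586 (34, false)),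
    (1372, .gen 2586 (34, true)),
    (1514, .gen 2586 (35, true)),
    (1245, .gen 2132 (34, true)),
    (335, .gen 2132 (35, false)),
    (475, .gen 2132 (35, true)),
    (85, .gen 3184 (34, false)),
    (2666, .gen 3184 (34, true)),
    (2315, .gen 3184 (35, false)),
    (1959, .gen 1626 (34, false)),
    (2540, .gen 1626 (34, true)),
    (769, .gen 1626 (35, true)),
    (2738, .gen 3605 (34, false)),
    (1801, .gen 3605 (35, false)),
    (3227, .gen 3605 (35, true)),
    (3037, .gen 3161 (34, true)),
    (455, .gen 3161 (35, false)),
    (3402, .gen 3161 (35, true)),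
    (1756, .gen 2258 (34, false)),
    (2065, .gen 2258 (34, true)),
    (866, .gen 2258 (35, false)),
    (581, .gen 304 (34, false)),
    (2699, .gen 304 (35, false)),
    (3731, .gen 304 (35, true)),
    (551, .gen 3663 (34, true)),
    (2300, .gen 3663 (35, false)),
    (3481, .gen 3663 (35, true)),
    (826, .gen 1605 (34, false)),
    (2316, .gen 1605 (34, true)),
    (1940, .gen 1605 (35, true)),
    (2314, .gen 2489 (34, false)),
    (242, .gen 2489 (35, false)),
    (3353, .gen 2489 (35, true)),
    (738, .gen 298 (34, false)),
    (1922, .gen 298 (34, true)),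
    (731, .gen 298 (35, false)),
    (1225, .gen 3299 (34, false)),
    (1567, .gen 3299 (34, true)),
    (969, .gen 3299 (35, true)),
    (1262, .gen 3031 (34, true)),
    (3580, .gen 3031 (35, false)),
    (600, .gen 3031 (35, true)),
    (1304, .gen 2346 (34, false)),
    (3537, .gen 2346 (34, true)),
    (2575, .gen 2346 (35, false)),
    (1462, .gen 1706 (34, false)),
    (2434, .gen 1706 (34, true)),
    (481, .gen 1706 (35, true)),
    (1443, .gen 2255 (34, false)),
    (1856, .gen 2255 (35, false)),
    (1156, .gen 2255 (35, true)),
    (2953, .gen 274 (34, true)),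
    (3419, .gen 274 (35, false)),
    (1953, .gen 274 (35, true)),
    (1884, .gen 3011 (34, false)),
    (81, .gen 3011 (34, true)),
    (1793, .gen 3011 (35, false)),
    (16, .gen 2093 (34, false)),
    (2481, .gen 2093 (35, false)),
    (3156, .gen 2093 (35, true)),
    (2611, .gen 1853 (34, true)),
    (2208, .gen 1853 (35, false)),
    (2164, .gen 1853 (35, true)),
    (2646, .gen 892 (34, false)),
    (238, .gen 892 (34, true)),
    (2178, .gen 892 (35, true)),
    (968, .gen 2780 (34, false)),
    (1873, .gen 2780 (35, false)),
    (2907, .gen 2780 (35, true)),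
    (1954, .gen 902 (34, false)),
    (2991, .gen 902 (34, true)),
    (234, .gen 902 (35, false)),
    (3456, .gen 1541 (34, false)),
    (3006, .gen 1541 (34, true)),
    (3358, .gen 1541 (35, true)),
    (2493, .gen 1284 (34, true)),
    (63, .gen 1284 (35, false)),
    (715, .gen 1284 (35, true)),
    (1210, .gen 3281 (34, false)),
    (2561, .gen 3281 (34, true)),
    (720, .gen 3281 (35, false)),
    (2708, .gen 1673 (34, false)),
    (2620, .gen 1673 (34, true)),
    (541, .gen 1673 (35, true)),
    (2232, .gen 3640 (34, false)),
    (3243, .gen 3640 (35, false)),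
    (620, .gen 3640 (35, true)),
    (2048, .gen 2524 (34, true)),
    (3567, .gen 2524 (35, false)),
    (893, .gen 2524 (35, true)),
    (1322, .gen 718 (34, false)),
    (1073, .gen 718 (34, true)),
    (1236, .gen 718 (35, false)),
    (1654, .gen 745 (34, false)),
    (2973, .gen 745 (35, false)),
    (3525, .gen 745 (35, true)),
    (2581, .gen 1725 (34, true)),
    (1114, .gen 1725 (35, false)),
    (3759, .gen 1725 (35, true)),
    (2221, .gen 787 (34, false)),
    (1214, .gen 787 (34, true)),
    (2371, .gen 787 (35, true)),
    (1672, .gen 775 (34, false)),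
    (400, .gen 775 (35, false)),
    (1983, .gen 1354 (34, false)),
    (1534, .gen 1354 (34, true)),
    (1548, .gen 1644 (34, false)),
    (3323, .gen 1644 (34, true)),
    (670, .gen 1644 (35, true)),
    (145, .gen 2295 (34, false)),
    (3286, .gen 2295 (35, false)),
    (512, .gen 2295 (35, true)),
    (1670, .gen 277 (34, false)),
    (1516, .gen 277 (35, false)),
    (591, .gen 703 (35, true)),
    (944, .gen 2454 (34, true)),
    (3562, .gen 2454 (35, true)),
    (2016, .gen 316 (34, true)),
    (2670, .gen 316 (35, false)),
    (18, .gen 2832 (34, false)),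
    (2856, .gen 2832 (35, false)),
    (3485, .gen 2478 (34, true)),
    (31, .gen 2478 (35, false)),
    (526, .gen 2478 (35, true)),
    (3566, .gen 762 (34, false)),
    (3312, .gen 3789 (34, true)),
    (2926, .gen 3789 (35, false)),
    (1048, .gen 2652 (35, true))]

/-- Visits. -/
def v4_3 : List (ℕ × Src) :=
  [(2876, .gen 1535 (35, true)),
    (2860, .gen 2117 (34, true)),
    (1526, .gen 555 (35, false)),
    (2596, .gen 555 (35, true)),
    (723, .gen 1392 (34, false)),
    (1036, .gen 1392 (34, true)),
    (3651, .gen 74 (34, true)),
    (2251, .gen 1015 (35, false)),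
    (3165, .gen 1015 (35, true)),
    (1254, .gen 2412 (34, true)),
    (1483, .gen 2412 (35, false)),
    (1805, .gen 871 (34, true)),
    (1110, .gen 871 (35, false)),
    (757, .gen 1932 (34, false)),
    (1040, .gen 1932 (35, false)),
    (1427, .gen 1583 (34, false)),
    (447, .gen 1583 (35, true)),
    (2594, .gen 530 (34, true)),
    (77, .gen 530 (35, false)),
    (3102, .gen 6 (34, false)),
    (992, .gen 6 (35, false)),
    (3739, .gen 2570 (35, true)),
    (535, .gen 1926 (35, false)),
    (3528, .gen 1926 (35, true)),
    (1721, .gen 123 (34, false)),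
    (2871, .gen 123 (35, false)),
    (3754, .gen 964 (34, false)),
    (2322, .gen 964 (34, true)),
    (2692, .gen 964 (35, false)),
    (1232, .gen 1736 (34, true)),
    (2893, .gen 2002 (34, true)),
    (3761, .gen 286 (34, false)),
    (2603, .gen 286 (35, false)),
    (2173, .gen 1336 (34, true)),
    (282, .gen 1336 (35, false)),
    (632, .gen 1348 (34, false)),
    (2286, .gen 3502 (35, true)),
    (865, .gen 2725 (34, true)),
    (701, .gen 2725 (35, false)),
    (1840, .gen 231 (35, true)),
    (3001, .gen 1289 (35, true)),
    (2705, .gen 53 (34, true)),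
    (429, .gen 695 (35, false)),
    (2011, .gen 695 (35, true)),
    (699, .gen 939 (34, true)),
    (2841, .gen 939 (35, false)),
    (1943, .gen 130 (35, false)),
    (3054, .gen 130 (35, true)),
    (2237, .gen 2458 (35, false)),
    (2082, .gen 2847 (35, false)),
    (431, .gen 3256 (34, false)),
    (2308, .gen 1814 (35, false)),
    (3167, .gen 1511 (34, false)),
    (3336, .gen 1511 (35, false)),
    (920, .gen 1511 (35, true)),
    (225, .gen 239 (34, true)),
    (220, .gen 1413 (34, false)),
    (848, .gen 1413 (34, true)),
    (2918, .gen 1545 (35, false)),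
    (3559, .gen 2264 (35, true)),
    (2453, .gen 2848 (34, true)),
    (3208, .gen 2176 (34, false)),
    (402, .gen 1200 (34, false)),
    (3014, .gen 1200 (35, false)),
    (732, .gen 2060 (34, false)),
    (2360, .gen 1680 (34, true)),
    (1129, .gen 1863 (34, false)),
    (933, .gen 3624 (35, false)),
    (837, .gen 2084 (34, false)),
    (504, .gen 2760 (34, true)),
    (147, .gen 2760 (35, true)),
    (1906, .gen 2231 (35, false)),
    (2740, .gen 542 (34, false)),
    (2512, .gen 1989 (34, false)),
    (3258, .gen 1989 (35, false)),
    (728, .gen 1989 (35, true)),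
    (1512, .gen 368 (34, false)),
    (1466, .gen 368 (34, true)),
    (1324, .gen 368 (35, false)),
    (2414, .gen 648 (34, false)),
    (2153, .gen 648 (34, true)),
    (417, .gen 648 (35, true)),
    (2277, .gen 2560 (34, false)),
    (2885, .gen 2560 (35, false)),
    (3341, .gen 2560 (35, true)),
    (29, .gen 2682 (34, true)),
    (1052, .gen 2682 (35, true)),
    (1540, .gen 677 (34, false)),
    (682, .gen 677 (34, true)),
    (1230, .gen 677 (35, false)),
    (2227, .gen 737 (34, false)),
    (1340, .gen 737 (35, false)),
    (833, .gen 737 (35, true)),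
    (3163, .gen 1438 (34, true)),
    (1303, .gen 1438 (35, true)),
    (1195, .gen 3370 (34, true)),
    (1880, .gen 3370 (35, true)),
    (2751, .gen 3288 (34, true)),
    (958, .gen 3288 (35, false)),
    (492, .gen 3288 (35, true)),
    (1429, .gen 3368 (34, false)),
    (1198, .gen 3368 (34, true)),
    (2964, .gen 3368 (35, false)),
    (2910, .gen 1790 (34, false)),
    (1265, .gen 1790 (35, true)),
    (2811, .gen 3644 (34, false)),
    (1671, .gen 3644 (35, false)),
    (2762, .gen 3771 (34, true)),
    (1203, .gen 3771 (35, false)),
    (3548, .gen 3771 (35, true)),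
    (2137, .gen 2025 (34, false)),
    (3022, .gen 2025 (35, false)),
    (800, .gen 1092 (34, false)),
    (2716, .gen 1092 (35, true)),
    (1524, .gen 3546 (34, true)),
    (772, .gen 3546 (35, false)),
    (3303, .gen 3471 (34, false)),
    (244, .gen 3471 (35, true)),
    (3372, .gen 67 (35, false)),
    (2568, .gen 67 (35, true)),
    (3074, .gen 2930 (34, true)),
    (1002, .gen 2930 (35, false)),
    (1171, .gen 663 (34, false)),
    (3232, .gen 663 (34, true)),
    (1120, .gen 1910 (35, false)),
    (1901, .gen 1910 (35, true)),
    (3315, .gen 1317 (34, false)),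
    (3093, .gen 1317 (34, true)),
    (407, .gen 2210 (34, true)),
    (3070, .gen 2210 (35, true)),
    (342, .gen 3350 (35, false)),
    (2426, .gen 3350 (35, true)),
    (1589, .gen 2977 (34, true)),
    (3738, .gen 2977 (35, false)),
    (3172, .gen 1175 (34, true)),
    (3444, .gen 1175 (35, false)),
    (2141, .gen 1537 (34, false)),
    (1781, .gen 1537 (35, false)),
    (807, .gen 1537 (35, true)),
    (185, .gen 2959 (35, false)),
    (1077, .gen 2290 (34, false)),
    (1321, .gen 2290 (35, true)),
    (1493, .gen 2390 (34, true)),
    (377, .gen 2390 (35, false)),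
    (3710, .gen 2442 (35, false)),
    (1240, .gen 1285 (34, false)),
    (2932, .gen 2116 (34, false)),
    (1378, .gen 2116 (35, false)),
    (2896, .gen 2610 (35, false)),
    (2758, .gen 698 (34, false)),
    (2145, .gen 698 (35, true)),
    (1778, .gen 421 (34, false)),
    (1740, .gen 421 (35, false)),
    (2430, .gen 421 (35, true)),
    (3013, .gen 1138 (34, false)),
    (2900, .gen 1138 (34, true)),
    (3776, .gen 1138 (35, false)),
    (2518, .gen 3622 (34, false)),
    (3587, .gen 3622 (34, true)),
    (2490, .gen 3622 (35, true)),
    (1581, .gen 1241 (34, false)),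
    (1399, .gen 1241 (35, false)),
    (1362, .gen 1241 (35, true)),
    (2636, .gen 478 (34, true)),
    (649, .gen 478 (35, true)),
    (2507, .gen 2114 (34, false)),
    (1293, .gen 2114 (34, true)),
    (1905, .gen 2114 (35, false)),
    (1559, .gen 3523 (34, false)),
    (1806, .gen 3523 (35, false)),
    (3168, .gen 3523 (35, true)),
    (523, .gen 198 (34, true)),
    (405, .gen 198 (35, true)),
    (1826, .gen 3004 (34, true)),
    (2155, .gen 3004 (35, true)),
    (1093, .gen 894 (34, true)),
    (609, .gen 894 (35, false)),
    (209, .gen 894 (35, true)),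
    (1780, .gen 2562 (34, false)),
    (726, .gen 2562 (34, true)),
    (2097, .gen 2562 (35, false)),
    (3219, .gen 3406 (34, false)),
    (3612, .gen 3406 (35, true)),
    (2004, .gen 2795 (34, false)),
    (168, .gen 2795 (35, false)),
    (3784, .gen 1297 (34, true)),
    (127, .gen 1297 (35, false)),
    (2880, .gen 1297 (35, true)),
    (451, .gen 1251 (34, false)),
    (3025, .gen 1251 (35, false)),
    (1841, .gen 2718 (34, false)),
    (207, .gen 2718 (35, true)),
    (3543, .gen 3039 (34, true)),
    (1714, .gen 3039 (35, false)),
    (180, .gen 223 (34, false)),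
    (2833, .gen 223 (35, true)),
    (1556, .gen 2302 (35, false)),
    (1754, .gen 2302 (35, true)),
    (705, .gen 2903 (34, true)),
    (280, .gen 2903 (35, false)),
    (2351, .gen 936 (34, false)),
    (2119, .gen 936 (34, true)),
    (2741, .gen 840 (35, false)),
    (3342, .gen 840 (35, true)),
    (1710, .gen 2096 (34, false)),
    (1320, .gen 2096 (34, true)),
    (3773, .gen 380 (34, true)),
    (2456, .gen 380 (35, true)),
    (3780, .gen 278 (35, false)),
    (1282, .gen 278 (35, true)),
    (2734, .gen 2250 (34, true)),
    (1033, .gen 2250 (35, false)),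
    (2557, .gen 2875 (34, true)),
    (1860, .gen 2875 (35, false)),
    (167, .gen 264 (34, false)),
    (3178, .gen 264 (35, false)),
    (2515, .gen 264 (35, true)),
    (1635, .gen 2530 (35, false)),
    (1636, .gen 2339 (34, false)),
    (391, .gen 2339 (35, true)),
    (885, .gen 1897 (34, true)),
    (472, .gen 1897 (35, false)),
    (611, .gen 667 (35, false)),
    (3778, .gen 1632 (34, false)),
    (3251, .gen 656 (34, false)),
    (3027, .gen 656 (35, false)),
    (385, .gen 1951 (35, false)),
    (3088, .gen 1140 (34, false)),
    (1942, .gen 1140 (35, true)),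
    (821, .gen 1032 (34, false)),
    (2398, .gen 1032 (35, false)),
    (2362, .gen 1032 (35, true)),
    (2729, .gen 3647 (34, false)),
    (2113, .gen 3647 (34, true)),
    (2803, .gen 3647 (35, false)),
    (2354, .gen 3687 (34, false)),
    (1486, .gen 3687 (34, true)),
    (39, .gen 3687 (35, true)),
    (2340, .gen 349 (34, false)),
    (2076, .gen 349 (35, false)),
    (2216, .gen 349 (35, true)),
    (1173, .gen 923 (34, true)),
    (2946, .gen 923 (35, true)),
    (3086, .gen 3593 (34, false)),
    (2766, .gen 3593 (34, true)),
    (3306, .gen 3593 (35, false)),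
    (2158, .gen 625 (34, false)),
    (2669, .gen 625 (35, false)),
    (1057, .gen 625 (35, true)),
    (302, .gen 924 (34, true)),
    (88, .gen 924 (35, true)),
    (950, .gen 2767 (34, true)),
    (3010, .gen 2767 (35, true)),
    (2685, .gen 1318 (34, true)),
    (2858, .gen 1318 (35, false)),
    (3535, .gen 1318 (35, true)),
    (2874, .gen 2272 (34, false)),
    (258, .gen 2272 (34, true)),
    (458, .gen 2272 (35, false)),
    (2592, .gen 3615 (34, false)),
    (2861, .gen 3615 (35, true)),
    (965, .gen 2645 (34, false)),
    (3381, .gen 2645 (35, false)),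
    (3379, .gen 3455 (34, true)),
    (403, .gen 3455 (35, false)),
    (361, .gen 3455 (35, true)),
    (1772, .gen 3244 (34, false)),
    (2194, .gen 3244 (35, false)),
    (3765, .gen 3035 (34, false)),
    (945, .gen 3035 (35, true)),
    (2263, .gen 3142 (34, true)),
    (3766, .gen 3142 (35, false)),
    (1154, .gen 2975 (34, false)),
    (3570, .gen 2975 (35, true)),
    (55, .gen 2079 (35, false)),
    (1239, .gen 2079 (35, true)),
    (1577, .gen 3210 (34, true)),
    (3328, .gen 3210 (35, false)),
    (1480, .gen 2884 (34, false)),
    (3029, .gen 2884 (34, true)),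
    (1056, .gen 2404 (35, false)),
    (1051, .gen 2404 (35, true)),
    (2069, .gen 773 (34, false)),
    (2326, .gen 773 (34, true)),
    (108, .gen 2677 (34, true)),
    (2122, .gen 2677 (35, true)),
    (2632, .gen 1244 (35, false)),
    (754, .gen 1244 (35, true)),
    (751, .gen 1747 (34, true)),
    (3087, .gen 1747 (35, false)),
    (1665, .gen 1875 (34, true)),
    (1018, .gen 1875 (35, false)),
    (310, .gen 2274 (34, false)),
    (2785, .gen 2274 (35, false)),
    (2598, .gen 2274 (35, true)),
    (2455, .gen 2606 (35, false)),
    (1084, .gen 2333 (34, false)),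
    (3314, .gen 2333 (35, true)),
    (1623, .gen 1564 (34, true)),
    (495, .gen 1564 (35, false))]

/-- Visits. -/
def v4_4 : List (ℕ × Src) :=
  [(1382, .gen 3305 (35, false)),
    (1847, .gen 760 (34, false)),
    (3275, .gen 1162 (34, false)),
    (1941, .gen 1162 (35, false)),
    (1060, .gen 2168 (35, false)),
    (2802, .gen 568 (34, false)),
    (1275, .gen 568 (35, true)),
    (1468, .gen 1130 (34, false)),
    (815, .gen 1130 (35, false)),
    (299, .gen 1130 (35, true)),
    (3627, .gen 3400 (34, false)),
    (1914, .gen 3400 (34, true)),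
    (241, .gen 3400 (35, false)),
    (2883, .gen 2185 (34, false)),
    (831, .gen 2185 (34, true)),
    (2590, .gen 2185 (35, true)),
    (872, .gen 3728 (34, false)),
    (1441, .gen 3728 (35, false)),
    (549, .gen 3728 (35, true)),
    (3530, .gen 181 (34, true)),
    (1260, .gen 181 (35, true)),
    (3394, .gen 321 (34, false)),
    (1991, .gen 321 (34, true)),
    (938, .gen 321 (35, false)),
    (3259, .gen 179 (34, false)),
    (638, .gen 179 (35, false)),
    (910, .gen 179 (35, true)),
    (1299, .gen 678 (34, true)),
    (1165, .gen 678 (35, true)),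
    (329, .gen 2928 (34, true)),
    (2201, .gen 2928 (35, true)),
    (359, .gen 1219 (34, true)),
    (2819, .gen 1219 (35, false)),
    (637, .gen 1219 (35, true)),
    (3508, .gen 883 (34, false)),
    (3239, .gen 883 (34, true)),
    (341, .gen 883 (35, false)),
    (290, .gen 2200 (34, false)),
    (1569, .gen 2200 (35, true)),
    (2267, .gen 1973 (34, false)),
    (3775, .gen 1973 (35, false)),
    (2402, .gen 1132 (34, true)),
    (1606, .gen 1132 (35, false)),
    (2293, .gen 1132 (35, true)),
    (3138, .gen 686 (34, false)),
    (746, .gen 686 (35, false)),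
    (2462, .gen 2177 (34, false)),
    (392, .gen 2177 (35, true)),
    (2334, .gen 3755 (34, true)),
    (3343, .gen 3755 (35, false)),
    (363, .gen 3495 (34, false)),
    (3433, .gen 3495 (35, true)),
    (3503, .gen 2790 (35, false)),
    (3734, .gen 2790 (35, true)),
    (574, .gen 2764 (34, true)),
    (1374, .gen 2764 (35, false)),
    (2036, .gen 1742 (34, false)),
    (2143, .gen 1742 (34, true)),
    (2270, .gen 3203 (35, false)),
    (2457, .gen 3203 (35, true)),
    (1404, .gen 1843 (34, false)),
    (2120, .gen 1843 (34, true)),
    (3423, .gen 1074 (34, true)),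
    (2612, .gen 1074 (35, true)),
    (3082, .gen 2653 (35, false)),
    (1869, .gen 2653 (35, true)),
    (532, .gen 1703 (34, true)),
    (3130, .gen 1703 (35, false)),
    (2668, .gen 1539 (34, true)),
    (3445, .gen 1539 (35, false)),
    (1625, .gen 2689 (34, false)),
    (3171, .gen 2689 (35, false)),
    (3704, .gen 2689 (35, true)),
    (1504, .gen 2687 (35, false)),
    (3666, .gen 2408 (34, false)),
    (1668, .gen 2408 (35, true)),
    (881, .gen 2809 (34, true)),
    (2519, .gen 2809 (35, false)),
    (1716, .gen 1656 (35, false)),
    (1745, .gen 2750 (34, false)),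
    (1547, .gen 418 (34, false)),
    (2, .gen 418 (35, false)),
    (1594, .gen 3344 (35, false)),
    (2107, .gen 3678 (34, false)),
    (3132, .gen 3678 (35, true)),
    (2654, .gen 1371 (34, false)),
    (823, .gen 1371 (35, false)),
    (1107, .gen 1371 (35, true)),
    (578, .gen 1647 (34, false)),
    (1226, .gen 1647 (34, true)),
    (1753, .gen 1647 (35, false)),
    (1145, .gen 1639 (34, false)),
    (3136, .gen 1639 (34, true)),
    (483, .gen 1639 (35, true)),
    (2853, .gen 354 (34, false)),
    (3418, .gen 354 (35, false)),
    (1213, .gen 354 (35, true)),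
    (1839, .gen 990 (34, true)),
    (2014, .gen 990 (35, true)),
    (1030, .gen 1357 (34, false)),
    (2475, .gen 1357 (34, true)),
    (2480, .gen 1357 (35, false)),
    (2253, .gen 3145 (34, false)),
    (2567, .gen 3145 (35, false)),
    (218, .gen 3145 (35, true)),
    (1551, .gen 1308 (34, true)),
    (2053, .gen 1308 (35, true)),
    (206, .gen 3716 (34, true)),
    (2017, .gen 3716 (35, true)),
    (1431, .gen 1903 (34, true)),
    (1311, .gen 1903 (35, false)),
    (1811, .gen 1903 (35, true)),
    (1827, .gen 2325 (34, false)),
    (690, .gen 2325 (34, true)),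
    (271, .gen 2325 (35, false)),
    (93, .gen 336 (34, false)),
    (1292, .gen 336 (35, true)),
    (2169, .gen 2851 (34, false)),
    (3613, .gen 2851 (35, false)),
    (1023, .gen 3363 (34, true)),
    (488, .gen 3363 (35, false)),
    (1167, .gen 3363 (35, true)),
    (2268, .gen 137 (34, false)),
    (503, .gen 137 (35, false)),
    (2124, .gen 3233 (34, false)),
    (1674, .gen 3233 (35, true)),
    (2837, .gen 3549 (34, true)),
    (3427, .gen 3549 (35, false)),
    (1405, .gen 2901 (34, false)),
    (2986, .gen 2901 (35, true)),
    (1907, .gen 2516 (35, false)),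
    (1568, .gen 2516 (35, true)),
    (120, .gen 3440 (34, true)),
    (1661, .gen 3440 (35, false)),
    (2438, .gen 3302 (34, false)),
    (3182, .gen 3302 (34, true)),
    (1712, .gen 1852 (35, false)),
    (3298, .gen 1852 (35, true)),
    (3438, .gen 681 (34, false)),
    (3020, .gen 681 (34, true)),
    (3550, .gen 452 (34, true)),
    (3277, .gen 452 (35, true)),
    (1242, .gen 1664 (35, false)),
    (2865, .gen 1664 (35, true)),
    (2748, .gen 522 (34, true)),
    (1769, .gen 522 (35, false)),
    (3679, .gen 3484 (34, true)),
    (1918, .gen 3484 (35, false)),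
    (1902, .gen 1489 (34, false)),
    (3383, .gen 1489 (35, false)),
    (2439, .gen 1489 (35, true)),
    (539, .gen 1164 (35, false)),
    (594, .gen 845 (34, false)),
    (343, .gen 845 (35, true)),
    (3762, .gen 109 (34, true)),
    (2063, .gen 109 (35, false)),
    (2211, .gen 959 (35, false)),
    (1380, .gen 3407 (34, false)),
    (2027, .gen 2931 (34, false)),
    (747, .gen 2931 (35, false)),
    (2358, .gen 2965 (35, false)),
    (1204, .gen 2218 (34, false)),
    (2650, .gen 2218 (35, true)),
    (2542, .gen 3101 (34, false)),
    (3541, .gen 3101 (35, false)),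
    (2425, .gen 3101 (35, true)),
    (3578, .gen 1170 (34, false)),
    (793, .gen 1170 (34, true)),
    (2770, .gen 1170 (35, false)),
    (960, .gen 1355 (34, false)),
    (1243, .gen 1355 (34, true)),
    (27, .gen 1355 (35, true)),
    (1211, .gen 1960 (34, false)),
    (2387, .gen 1960 (35, false)),
    (1677, .gen 1960 (35, true)),
    (748, .gen 2341 (34, true)),
    (1705, .gen 2341 (35, true)),
    (2499, .gen 1142 (34, false)),
    (3439, .gen 1142 (34, true)),
    (2605, .gen 1142 (35, false)),
    (1786, .gen 125 (34, false)),
    (1143, .gen 125 (35, false)),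
    (1613, .gen 125 (35, true)),
    (1000, .gen 730 (34, true)),
    (75, .gen 730 (35, true)),
    (2743, .gen 2045 (34, true)),
    (1296, .gen 2045 (35, true)),
    (3509, .gen 1300 (34, true)),
    (898, .gen 1300 (35, false)),
    (3176, .gen 1300 (35, true)),
    (3744, .gen 2078 (34, false)),
    (2955, .gen 2078 (34, true)),
    (2615, .gen 2078 (35, false)),
    (404, .gen 2997 (34, false)),
    (3187, .gen 2997 (35, true)),
    (162, .gen 3068 (34, false)),
    (2505, .gen 3068 (35, false)),
    (665, .gen 2294 (34, true)),
    (397, .gen 2294 (35, false)),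
    (858, .gen 2294 (35, true)),
    (3517, .gen 303 (34, false)),
    (2746, .gen 303 (35, false)),
    (3034, .gen 346 (34, false)),
    (1398, .gen 346 (35, true)),
    (3115, .gen 3476 (34, true)),
    (1255, .gen 3476 (35, false)),
    (1591, .gen 2055 (34, false)),
    (351, .gen 2055 (35, true)),
    (2449, .gen 1586 (35, false)),
    (2309, .gen 1586 (35, true)),
    (2908, .gen 2071 (34, true)),
    (2311, .gen 2071 (35, false)),
    (3736, .gen 2563 (34, false)),
    (593, .gen 2563 (34, true)),
    (3552, .gen 3417 (35, false)),
    (999, .gen 3417 (35, true)),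
    (1152, .gen 1919 (34, false)),
    (2157, .gen 1919 (34, true)),
    (1325, .gen 554 (34, true)),
    (1470, .gen 554 (35, true)),
    (2064, .gen 3581 (35, false)),
    (2526, .gen 3581 (35, true)),
    (2671, .gen 1923 (34, true)),
    (3318, .gen 1923 (35, false)),
    (3159, .gen 2214 (34, true)),
    (1386, .gen 2214 (35, false)),
    (2638, .gen 2572 (34, false)),
    (191, .gen 2572 (35, false)),
    (2629, .gen 2572 (35, true)),
    (770, .gen 587 (35, false)),
    (2352, .gen 3083 (34, false)),
    (1393, .gen 3083 (35, true)),
    (2028, .gen 1288 (34, true)),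
    (1831, .gen 1288 (35, false)),
    (3751, .gen 672 (35, false)),
    (3270, .gen 2369 (34, false)),
    (2422, .gen 2156 (34, false)),
    (987, .gen 2156 (35, false)),
    (3424, .gen 3512 (35, false)),
    (659, .gen 1525 (34, false)),
    (3592, .gen 1525 (35, true)),
    (2695, .gen 3036 (34, false)),
    (457, .gen 3036 (35, false)),
    (141, .gen 3036 (35, true)),
    (948, .gen 3078 (34, false)),
    (1912, .gen 3078 (34, true)),
    (557, .gen 3078 (35, false)),
    (1718, .gen 1331 (34, false)),
    (3097, .gen 1331 (34, true)),
    (2238, .gen 1331 (35, true)),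
    (48, .gen 3399 (34, false)),
    (2949, .gen 3399 (35, false)),
    (3285, .gen 3399 (35, true)),
    (3501, .gen 401 (34, true)),
    (1496, .gen 401 (35, true)),
    (3719, .gen 1927 (34, false)),
    (2662, .gen 1927 (34, true)),
    (971, .gen 1927 (35, false)),
    (571, .gen 3051 (34, false)),
    (2476, .gen 3051 (35, false)),
    (461, .gen 3051 (35, true)),
    (850, .gen 2755 (34, true)),
    (2916, .gen 2755 (35, true)),
    (3214, .gen 2037 (34, true)),
    (691, .gen 2037 (35, true)),
    (3117, .gen 1501 (34, true)),
    (371, .gen 1501 (35, false)),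
    (2967, .gen 1501 (35, true)),
    (3246, .gen 3340 (34, false)),
    (3421, .gen 3340 (34, true)),
    (89, .gen 3340 (35, false)),
    (714, .gen 626 (34, false)),
    (2086, .gen 626 (35, true)),
    (1602, .gen 1294 (34, false)),
    (3095, .gen 1294 (35, false)),
    (874, .gen 2951 (34, true)),
    (906, .gen 2951 (35, false)),
    (300, .gen 2951 (35, true)),
    (928, .gen 1657 (34, false)),
    (970, .gen 1657 (35, false)),
    (1510, .gen 2690 (34, false)),
    (1095, .gen 2690 (35, true)),
    (3017, .gen 3042 (34, true)),
    (1017, .gen 3042 (35, false)),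
    (759, .gen 2715 (34, false)),
    (2094, .gen 2715 (35, true)),
    (2934, .gen 1797 (35, false)),
    (1290, .gen 1797 (35, true)),
    (2317, .gen 2192 (34, true)),
    (3718, .gen 2192 (35, false)),
    (3391, .gen 1163 (34, false)),
    (1746, .gen 1163 (34, true)),
    (974, .gen 3540 (35, false)),
    (3547, .gen 3540 (35, true)),
    (1739, .gen 792 (34, false)),
    (1720, .gen 792 (34, true)),
    (3722, .gen 2396 (34, true)),
    (3058, .gen 2396 (35, true)),
    (935, .gen 3133 (35, false)),
    (2508, .gen 3133 (35, true))]

/-- Visits. -/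
def v4_5 : List (ℕ × Src) :=
  [(1383, .gen 2469 (34, true)),
    (2831, .gen 2469 (35, false)),
    (3631, .gen 981 (34, true)),
    (556, .gen 981 (35, false)),
    (441, .gen 3063 (34, false)),
    (2486, .gen 3063 (35, false)),
    (1887, .gen 3063 (35, true)),
    (3045, .gen 590 (35, false)),
    (2075, .gen 1663 (34, false)),
    (69, .gen 1663 (35, true)),
    (1430, .gen 957 (34, true)),
    (1855, .gen 957 (35, false)),
    (2940, .gen 1176 (35, false)),
    (1599, .gen 3443 (34, false)),
    (661, .gen 2193 (34, false)),
    (1301, .gen 2193 (35, false)),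
    (2265, .gen 2095 (35, false)),
    (1666, .gen 1046 (34, false)),
    (3003, .gen 1046 (35, true)),
    (2757, .gen 3449 (34, false)),
    (3033, .gen 3449 (35, false)),
    (1707, .gen 3449 (35, true)),
    (3597, .gen 44 (34, false)),
    (2376, .gen 44 (34, true)),
    (1946, .gen 44 (35, false)),
    (636, .gen 3384 (34, false)),
    (1994, .gen 3384 (34, true)),
    (189, .gen 3384 (35, true)),
    (2319, .gen 222 (34, false)),
    (3338, .gen 222 (35, false)),
    (810, .gen 222 (35, true)),
    (233, .gen 2681 (34, true)),
    (3675, .gen 2681 (35, true)),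
    (2368, .gen 2406 (34, false)),
    (3467, .gen 2406 (34, true)),
    (2573, .gen 2406 (35, false)),
    (1065, .gen 1763 (34, false)),
    (2407, .gen 1763 (35, false)),
    (193, .gen 1763 (35, true)),
    (658, .gen 2452 (34, true)),
    (177, .gen 2452 (35, true)),
    (378, .gen 1995 (34, true)),
    (1116, .gen 1995 (35, true)),
    (2972, .gen 862 (34, true)),
    (1031, .gen 862 (35, false)),
    (644, .gen 862 (35, true)),
    (1287, .gen 2574 (34, false)),
    (105, .gen 2574 (34, true)),
    (843, .gen 2574 (35, false)),
    (688, .gen 854 (34, false)),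
    (3331, .gen 854 (35, true)),
    (3106, .gen 712 (34, false)),
    (3743, .gen 712 (35, false)),
    (1528, .gen 1588 (34, true)),
    (1924, .gen 1588 (35, false)),
    (2863, .gen 1588 (35, true)),
    (2691, .gen 2061 (34, false)),
    (2181, .gen 2061 (35, false)),
    (2349, .gen 653 (34, false)),
    (2240, .gen 653 (35, true)),
    (3680, .gen 1701 (34, true)),
    (10, .gen 1701 (35, false)),
    (1892, .gen 3044 (34, false)),
    (2496, .gen 3044 (35, true)),
    (1913, .gen 3598 (35, false)),
    (2850, .gen 3598 (35, true)),
    (804, .gen 2626 (34, true)),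
    (1146, .gen 2626 (35, false)),
    (3140, .gen 1420 (34, false)),
    (2915, .gen 1420 (34, true)),
    (3415, .gen 3007 (35, false)),
    (1628, .gen 3007 (35, true)),
    (1276, .gen 1652 (34, false)),
    (1641, .gen 1652 (34, true)),
    (453, .gen 3470 (34, true)),
    (749, .gen 3470 (35, true)),
    (1326, .gen 2318 (35, false)),
    (1700, .gen 2318 (35, true)),
    (449, .gen 38 (34, true)),
    (2282, .gen 38 (35, false)),
    (24, .gen 1734 (34, true)),
    (1967, .gen 1734 (35, false)),
    (1010, .gen 839 (34, false)),
    (3279, .gen 839 (35, false)),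
    (3726, .gen 839 (35, true)),
    (1028, .gen 2099 (35, false)),
    (780, .gen 3729 (34, false)),
    (3699, .gen 3729 (35, true)),
    (199, .gen 3529 (34, true)),
    (3643, .gen 3529 (35, false)),
    (2794, .gen 2447 (35, false)),
    (3737, .gen 3180 (34, false)),
    (1908, .gen 543 (34, false)),
    (3676, .gen 543 (35, false)),
    (464, .gen 2357 (35, false)),
    (1273, .gen 86 (34, false)),
    (2353, .gen 86 (35, true)),
    (330, .gen 1881 (34, false)),
    (1415, .gen 1881 (35, false)),
    (2844, .gen 1881 (35, true)),
    (1253, .gen 2703 (34, false)),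
    (2012, .gen 2703 (34, true)),
    (3059, .gen 2703 (35, false)),
    (2485, .gen 1190 (34, false)),
    (3779, .gen 1190 (34, true)),
    (3266, .gen 1190 (35, true)),
    (35, .gen 1848 (34, false)),
    (1460, .gen 1848 (35, false)),
    (975, .gen 1848 (35, true)),
    (2717, .gen 112 (34, true)),
    (8, .gen 112 (35, true)),
    (2372, .gen 1807 (34, false)),
    (3224, .gen 1807 (34, true)),
    (2488, .gen 1807 (35, false)),
    (1579, .gen 3599 (34, false)),
    (2241, .gen 3599 (35, false)),
    (2927, .gen 3599 (35, true)),
    (1948, .gen 1649 (34, true)),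
    (430, .gen 1649 (35, true)),
    (2816, .gen 3294 (34, true)),
    (1766, .gen 3294 (35, true)),
    (2952, .gen 306 (34, true)),
    (434, .gen 306 (35, false)),
    (3732, .gen 306 (35, true)),
    (927, .gen 1286 (34, false)),
    (3390, .gen 1286 (34, true)),
    (1158, .gen 1286 (35, false)),
    (1182, .gen 2773 (34, false)),
    (2723, .gen 2773 (35, true)),
    (406, .gen 1765 (34, false)),
    (1314, .gen 1765 (35, false)),
    (3435, .gen 1337 (34, true)),
    (163, .gen 1337 (35, false)),
    (3, .gen 1337 (35, true)),
    (2197, .gen 2138 (34, false)),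
    (3480, .gen 2138 (35, false)),
    (2999, .gen 642 (34, false)),
    (1079, .gen 642 (35, true)),
    (1530, .gen 877 (34, true)),
    (2771, .gen 877 (35, false)),
    (2659, .gen 3357 (34, false)),
    (338, .gen 3357 (35, true)),
    (2537, .gen 2547 (35, false)),
    (558, .gen 2547 (35, true)),
    (2704, .gen 1965 (34, true)),
    (1100, .gen 1965 (35, false)),
    (778, .gen 3600 (34, false)),
    (3071, .gen 3600 (34, true)),
    (3125, .gen 2517 (35, false)),
    (486, .gen 2517 (35, true)),
    (3135, .gen 287 (34, false)),
    (2418, .gen 287 (34, true)),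
    (941, .gen 142 (34, true)),
    (3691, .gen 142 (35, true)),
    (2634, .gen 520 (35, false)),
    (1342, .gen 520 (35, true)),
    (2872, .gen 2897 (34, true)),
    (1161, .gen 2897 (35, false)),
    (3113, .gen 3173 (34, true)),
    (291, .gen 3173 (35, false)),
    (3158, .gen 2616 (34, false)),
    (1684, .gen 2616 (35, false)),
    (1082, .gen 2616 (35, true)),
    (1667, .gen 245 (35, false)),
    (905, .gen 1346 (34, false)),
    (2073, .gen 1346 (35, true)),
    (1988, .gen 463 (34, true)),
    (208, .gen 463 (35, false)),
    (2329, .gen 1546 (35, false)),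
    (2112, .gen 76 (34, false)),
    (1582, .gen 281 (34, false)),
    (2957, .gen 281 (35, false)),
    (251, .gen 3626 (35, false)),
    (1409, .gen 2923 (34, false)),
    (531, .gen 2923 (35, true)),
    (3601, .gen 2752 (34, false)),
    (117, .gen 2752 (35, false)),
    (3075, .gen 2752 (35, true)),
    (2728, .gen 1472 (34, false)),
    (499, .gen 1472 (34, true)),
    (1992, .gen 1472 (35, false)),
    (3671, .gen 70 (34, false)),
    (1999, .gen 70 (34, true)),
    (2667, .gen 70 (35, true)),
    (84, .gen 3473 (34, false)),
    (2374, .gen 3473 (35, false)),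
    (65, .gen 3473 (35, true)),
    (1520, .gen 3062 (34, true)),
    (2956, .gen 3062 (35, true)),
    (3339, .gen 248 (34, false)),
    (1872, .gen 248 (34, true)),
    (2146, .gen 248 (35, false)),
    (1101, .gen 2332 (34, false)),
    (534, .gen 2332 (35, false)),
    (217, .gen 2332 (35, true)),
    (236, .gen 2459 (34, true)),
    (3758, .gen 2459 (35, true)),
    (2252, .gen 1662 (34, true)),
    (267, .gen 1662 (35, true)),
    (2630, .gen 166 (34, true)),
    (1682, .gen 166 (35, false)),
    (1136, .gen 166 (35, true)),
    (1012, .gen 3575 (34, false)),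
    (2558, .gen 3575 (34, true)),
    (3748, .gen 3575 (35, false)),
    (1505, .gen 3608 (34, false)),
    (1842, .gen 3608 (35, true)),
    (2259, .gen 427 (34, false)),
    (631, .gen 427 (35, false)),
    (2191, .gen 3186 (34, true)),
    (3583, .gen 3186 (35, false)),
    (2228, .gen 3186 (35, true)),
    (1715, .gen 646 (34, false)),
    (2753, .gen 646 (35, false)),
    (1818, .gen 3688 (34, false)),
    (3292, .gen 3688 (35, true)),
    (624, .gen 3205 (34, true)),
    (1575, .gen 3205 (35, false)),
    (2909, .gen 3757 (34, false)),
    (1610, .gen 3757 (35, true)),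
    (967, .gen 601 (35, false)),
    (2196, .gen 601 (35, true)),
    (2522, .gen 1883 (34, true)),
    (2151, .gen 1883 (35, false)),
    (140, .gen 2175 (34, false)),
    (963, .gen 2175 (34, true)),
    (1937, .gen 3505 (35, false)),
    (3055, .gen 3505 (35, true)),
    (1270, .gen 1218 (34, false)),
    (471, .gen 1218 (34, true)),
    (3265, .gen 95 (34, true)),
    (3311, .gen 95 (35, true)),
    (389, .gen 1968 (35, false)),
    (3727, .gen 1968 (35, true)),
    (201, .gen 2179 (34, true)),
    (2970, .gen 2179 (35, false)),
    (1821, .gen 433 (34, true)),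
    (1394, .gen 433 (35, false)),
    (1478, .gen 1819 (34, false)),
    (3665, .gen 1819 (35, false)),
    (151, .gen 1819 (35, true)),
    (3197, .gen 895 (35, false)),
    (1474, .gen 782 (34, false)),
    (1678, .gen 782 (35, true)),
    (996, .gen 1982 (34, true)),
    (422, .gen 1982 (35, false)),
    (1425, .gen 3346 (35, false)),
    (2494, .gen 817 (34, false)),
    (1800, .gen 353 (34, false)),
    (1402, .gen 353 (35, false)),
    (3401, .gen 3148 (35, false)),
    (2722, .gen 317 (34, false)),
    (2460, .gen 317 (35, true)),
    (3289, .gen 460 (34, false)),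
    (1435, .gen 460 (35, false)),
    (2576, .gen 460 (35, true)),
    (1312, .gen 3090 (34, false)),
    (1890, .gen 3090 (34, true)),
    (1693, .gen 3090 (35, false)),
    (384, .gen 1690 (34, false)),
    (919, .gen 1690 (34, true)),
    (1828, .gen 1690 (35, true)),
    (2108, .gen 1961 (34, false)),
    (3792, .gen 1961 (35, false)),
    (2749, .gen 1961 (35, true)),
    (664, .gen 2381 (34, true)),
    (3316, .gen 2381 (35, true)),
    (2483, .gen 1363 (34, false)),
    (3497, .gen 1363 (34, true)),
    (1274, .gen 1363 (35, false)),
    (1307, .gen 2428 (34, false)),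
    (394, .gen 2428 (35, false)),
    (149, .gen 2428 (35, true)),
    (2446, .gen 3434 (34, true)),
    (2987, .gen 3434 (35, true)),
    (596, .gen 1396 (34, true)),
    (3586, .gen 1396 (35, true)),
    (3222, .gen 2023 (34, true)),
    (589, .gen 2023 (35, false)),
    (1037, .gen 2023 (35, true)),
    (1201, .gen 1986 (34, false)),
    (1442, .gen 1986 (34, true)),
    (355, .gen 1986 (35, false)),
    (3056, .gen 479 (34, false)),
    (3683, .gen 479 (35, true)),
    (1160, .gen 3067 (34, false)),
    (2822, .gen 3067 (35, false)),
    (1338, .gen 3556 (34, true)),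
    (864, .gen 3556 (35, false)),
    (1422, .gen 3556 (35, true)),
    (3124, .gen 1159 (34, false)),
    (3110, .gen 1159 (35, false)),
    (2990, .gen 3557 (34, false)),
    (150, .gen 3557 (35, true)),
    (1595, .gen 1531 (34, true)),
    (3347, .gen 1531 (35, false)),
    (312, .gen 3469 (34, false)),
    (1909, .gen 3469 (35, true)),
    (675, .gen 1659 (35, false)),
    (1064, .gen 1659 (35, true))]

/-- Visits. -/
def v4_6 : List (ℕ × Src) :=
  [(1157, .gen 3648 (34, true)),
    (3534, .gen 3648 (35, false)),
    (2306, .gen 1791 (34, false)),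
    (602, .gen 1791 (34, true)),
    (2925, .gen 3686 (35, false)),
    (1122, .gen 3686 (35, true)),
    (357, .gen 1760 (34, false)),
    (2303, .gen 1760 (34, true)),
    (3658, .gen 527 (34, true)),
    (1449, .gen 527 (35, true)),
    (2556, .gen 1727 (35, false)),
    (2195, .gen 1727 (35, true)),
    (2313, .gen 160 (34, true)),
    (3193, .gen 160 (35, false)),
    (3024, .gen 2921 (34, true)),
    (1779, .gen 2921 (35, false)),
    (2463, .gen 617 (34, false)),
    (1310, .gen 617 (35, false)),
    (851, .gen 617 (35, true)),
    (3189, .gen 288 (35, false)),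
    (279, .gen 438 (34, false)),
    (506, .gen 438 (35, true)),
    (3464, .gen 1572 (34, true)),
    (1600, .gen 1572 (35, false)),
    (1004, .gen 219 (35, false)),
    (2971, .gen 724 (34, false)),
    (216, .gen 1423 (34, false)),
    (1370, .gen 1423 (35, false)),
    (3472, .gen 3664 (35, false)),
    (1495, .gen 514 (34, false)),
    (2829, .gen 514 (35, true)),
    (49, .gen 3329 (34, false)),
    (2827, .gen 3329 (35, false)),
    (1728, .gen 3329 (35, true)),
    (124, .gen 1434 (34, false)),
    (318, .gen 1434 (34, true)),
    (1059, .gen 1434 (35, false)),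
    (2203, .gen 739 (34, false)),
    (779, .gen 739 (34, true)),
    (2642, .gen 739 (35, true)),
    (3216, .gen 519 (34, false)),
    (414, .gen 519 (35, false)),
    (3604, .gen 519 (35, true)),
    (1717, .gen 2706 (34, true)),
    (320, .gen 2706 (35, true)),
    (3520, .gen 1364 (34, false)),
    (985, .gen 1364 (34, true)),
    (1775, .gen 1364 (35, false)),
    (200, .gen 157 (34, false)),
    (2291, .gen 157 (35, false)),
    (1543, .gen 157 (35, true)),
    (2641, .gen 1372 (34, true)),
    (454, .gen 1372 (35, true)),
    (2347, .gen 1514 (34, true)),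
    (2719, .gen 1514 (35, true)),
    (459, .gen 1245 (34, true)),
    (1229, .gen 1245 (35, false)),
    (3646, .gen 1245 (35, true)),
    (1513, .gen 335 (34, false)),
    (1347, .gen 335 (34, true)),
    (3617, .gen 335 (35, false)),
    (66, .gen 475 (34, false)),
    (3094, .gen 475 (35, true)),
    (190, .gen 85 (34, false)),
    (91, .gen 85 (35, false)),
    (2529, .gen 2666 (34, true)),
    (3633, .gen 2666 (35, false)),
    (1978, .gen 2666 (35, true)),
    (3192, .gen 2315 (34, false)),
    (1421, .gen 2315 (35, false)),
    (41, .gen 1959 (34, false)),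
    (2843, .gen 1959 (35, true)),
    (235, .gen 2540 (34, true)),
    (1034, .gen 2540 (35, false)),
    (1144, .gen 769 (34, false)),
    (2423, .gen 769 (35, true)),
    (3413, .gen 2738 (35, false)),
    (3720, .gen 2738 (35, true)),
    (3563, .gen 1801 (34, true)),
    (1784, .gen 1801 (35, false)),
    (230, .gen 3227 (34, false)),
    (3656, .gen 3227 (34, true)),
    (1891, .gen 3037 (35, false)),
    (1638, .gen 3037 (35, true)),
    (806, .gen 455 (34, false)),
    (3431, .gen 455 (34, true)),
    (1921, .gen 3402 (34, true)),
    (1798, .gen 3402 (35, true)),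
    (1523, .gen 1756 (35, false)),
    (2115, .gen 1756 (35, true)),
    (2110, .gen 2065 (34, true)),
    (1053, .gen 2065 (35, false)),
    (128, .gen 866 (34, true)),
    (2229, .gen 866 (35, false)),
    (926, .gen 581 (34, false)),
    (1104, .gen 581 (35, false)),
    (1993, .gen 581 (35, true)),
    (3498, .gen 2699 (35, false)),
    (781, .gen 3731 (34, false)),
    (1277, .gen 3731 (35, true)),
    (3674, .gen 551 (34, true)),
    (3162, .gen 551 (35, false)),
    (1328, .gen 2300 (35, false)),
    (1086, .gen 3481 (34, false)),
    (420, .gen 826 (34, false)),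
    (2810, .gen 826 (35, false)),
    (3190, .gen 2316 (35, false)),
    (888, .gen 1940 (34, false)),
    (2774, .gen 1940 (35, true)),
    (3515, .gen 2314 (34, false)),
    (3206, .gen 2314 (35, false)),
    (3477, .gen 2314 (35, true)),
    (2969, .gen 242 (34, false)),
    (875, .gen 242 (34, true)),
    (2543, .gen 242 (35, false)),
    (2854, .gen 3353 (34, false)),
    (947, .gen 3353 (34, true)),
    (2359, .gen 3353 (35, true)),
    (740, .gen 738 (34, false)),
    (2536, .gen 738 (35, false)),
    (2373, .gen 738 (35, true)),
    (187, .gen 1922 (34, true)),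
    (972, .gen 1922 (35, true)),
    (2135, .gen 731 (34, false)),
    (2284, .gen 731 (34, true)),
    (3539, .gen 731 (35, false)),
    (1858, .gen 1225 (34, false)),
    (820, .gen 1225 (35, false)),
    (655, .gen 1225 (35, true)),
    (1067, .gen 1567 (34, true)),
    (3096, .gen 1567 (35, true)),
    (2890, .gen 969 (34, true)),
    (592, .gen 969 (35, true)),
    (490, .gen 1262 (34, true)),
    (3218, .gen 1262 (35, false)),
    (966, .gen 1262 (35, true)),
    (3287, .gen 3580 (34, false)),
    (3441, .gen 3580 (34, true)),
    (3657, .gen 3580 (35, false)),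
    (211, .gen 600 (34, false)),
    (3446, .gen 600 (35, true)),
    (2593, .gen 1304 (34, false)),
    (983, .gen 1304 (35, false)),
    (666, .gen 3537 (34, true)),
    (1453, .gen 3537 (35, false)),
    (2298, .gen 3537 (35, true)),
    (331, .gen 2575 (34, false)),
    (3322, .gen 2575 (35, false)),
    (2588, .gen 1462 (34, false)),
    (621, .gen 1462 (35, true)),
    (791, .gen 2434 (34, true)),
    (292, .gen 2434 (35, false)),
    (491, .gen 481 (34, false)),
    (2275, .gen 481 (35, true)),
    (3121, .gen 1443 (35, false)),
    (1447, .gen 1443 (35, true)),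
    (1783, .gen 1856 (34, true)),
    (3319, .gen 1856 (35, false)),
    (1231, .gen 1156 (34, false)),
    (2510, .gen 1156 (34, true)),
    (119, .gen 2953 (35, false)),
    (1996, .gen 2953 (35, true)),
    (2525, .gen 3419 (34, false)),
    (3532, .gen 3419 (34, true)),
    (203, .gen 1953 (34, true)),
    (3245, .gen 1953 (35, true)),
    (1388, .gen 1884 (35, false)),
    (262, .gen 1884 (35, true)),
    (1096, .gen 81 (34, true)),
    (1939, .gen 81 (35, false)),
    (1616, .gen 1793 (34, true)),
    (3422, .gen 1793 (35, false)),
    (2648, .gen 16 (34, false)),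
    (3650, .gen 16 (35, false)),
    (1078, .gen 16 (35, true)),
    (482, .gen 2481 (35, false)),
    (585, .gen 3156 (34, false)),
    (3377, .gen 3156 (35, true)),
    (1172, .gen 2611 (34, true)),
    (1045, .gen 2611 (35, false)),
    (2664, .gen 2208 (35, false)),
    (345, .gen 2164 (34, false)),
    (1816, .gen 2646 (34, false)),
    (250, .gen 2646 (35, false)),
    (20, .gen 238 (35, false)),
    (3301, .gen 2178 (34, false)),
    (973, .gen 2178 (35, true)),
    (1001, .gen 968 (34, false)),
    (1390, .gen 968 (35, false)),
    (2416, .gen 968 (35, true)),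
    (1221, .gen 1873 (34, false)),
    (567, .gen 1873 (34, true)),
    (43, .gen 1873 (35, false)),
    (1183, .gen 2907 (34, false)),
    (97, .gen 2907 (34, true)),
    (2978, .gen 2907 (35, true)),
    (1515, .gen 1954 (34, false)),
    (2106, .gen 1954 (35, false)),
    (2805, .gen 1954 (35, true)),
    (2348, .gen 2991 (34, true)),
    (853, .gen 2991 (35, true)),
    (3309, .gen 234 (34, false)),
    (2754, .gen 234 (34, true)),
    (2532, .gen 234 (35, false)),
    (1945, .gen 3456 (34, false)),
    (2894, .gen 3456 (35, false)),
    (3238, .gen 3456 (35, true)),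
    (1131, .gen 3006 (34, true)),
    (1617, .gen 3006 (35, true)),
    (2855, .gen 3358 (34, true)),
    (2781, .gen 3358 (35, true)),
    (307, .gen 2493 (34, true)),
    (1417, .gen 2493 (35, false)),
    (2571, .gen 2493 (35, true)),
    (3043, .gen 63 (34, false)),
    (73, .gen 63 (34, true)),
    (2492, .gen 63 (35, false)),
    (521, .gen 715 (34, false)),
    (1804, .gen 715 (35, true)),
    (314, .gen 1210 (34, false)),
    (641, .gen 1210 (35, false)),
    (1607, .gen 2561 (34, true)),
    (2087, .gen 2561 (35, false)),
    (2801, .gen 2561 (35, true)),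
    (1509, .gen 720 (34, false)),
    (2443, .gen 720 (35, false)),
    (3262, .gen 2708 (34, false)),
    (11, .gen 2708 (35, true)),
    (907, .gen 2620 (34, true)),
    (954, .gen 2620 (35, false)),
    (3264, .gen 541 (34, false)),
    (1934, .gen 541 (35, true)),
    (3297, .gen 2232 (35, false)),
    (1532, .gen 2232 (35, true)),
    (170, .gen 3243 (34, true)),
    (1849, .gen 3243 (35, false)),
    (868, .gen 620 (34, false)),
    (1261, .gen 620 (34, true)),
    (376, .gen 2048 (35, false)),
    (255, .gen 2048 (35, true)),
    (2720, .gen 3567 (34, false)),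
    (3786, .gen 3567 (34, true)),
    (516, .gen 893 (34, true)),
    (1166, .gen 893 (35, true)),
    (798, .gen 1322 (35, false)),
    (668, .gen 1322 (35, true)),
    (1379, .gen 1073 (34, true)),
    (962, .gen 1073 (35, false)),
    (2230, .gen 1236 (34, true)),
    (2929, .gen 1236 (35, false)),
    (3046, .gen 1654 (34, false)),
    (3492, .gen 1654 (35, false)),
    (2763, .gen 1654 (35, true)),
    (846, .gen 2973 (35, false)),
    (2059, .gen 3525 (34, false)),
    (3296, .gen 3525 (35, true)),
    (2541, .gen 2581 (34, true)),
    (2154, .gen 2581 (35, false)),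
    (3009, .gen 1114 (35, false)),
    (1217, .gen 3759 (34, false)),
    (2904, .gen 2221 (34, false)),
    (2914, .gen 2221 (35, false)),
    (334, .gen 1214 (35, false)),
    (2549, .gen 2371 (34, false)),
    (1259, .gen 2371 (35, true)),
    (614, .gen 400 (34, true)),
    (2545, .gen 1534 (35, true)),
    (976, .gen 1548 (35, true)),
    (1375, .gen 1670 (35, true)),
    (1794, .gen 1516 (35, false)),
    (456, .gen 591 (34, false)),
    (301, .gen 3562 (34, false)),
    (148, .gen 2670 (35, false)),
    (598, .gen 2856 (34, true)),
    (1651, .gen 3566 (35, false)),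
    (2866, .gen 3566 (35, true)),
    (645, .gen 1048 (34, false)),
    (784, .gen 2860 (34, true)),
    (3032, .gen 2596 (35, true)),
    (253, .gen 1036 (34, true)),
    (1047, .gen 1483 (34, false)),
    (158, .gen 1110 (35, false)),
    (3177, .gen 3102 (35, true)),
    (3157, .gen 3739 (35, true)),
    (721, .gen 3754 (35, true)),
    (855, .gen 2841 (34, false)),
    (2364, .gen 431 (34, false)),
    (294, .gen 2512 (34, false)),
    (1439, .gen 2512 (35, false)),
    (2242, .gen 3258 (34, true)),
    (2555, .gen 3258 (35, false)),
    (2849, .gen 728 (34, true)),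
    (12, .gen 1512 (35, false)),
    (1341, .gen 1466 (34, true)),
    (1624, .gen 1466 (35, true)),
    (2867, .gen 1324 (34, false)),
    (1916, .gen 1324 (34, true)),
    (1570, .gen 2414 (35, true)),
    (1874, .gen 2153 (34, true)),
    (722, .gen 2153 (35, true))]

/-- Visits. -/
def v4_7 : List (ℕ × Src) :=
  [(1653, .gen 417 (34, true)),
    (1188, .gen 417 (35, true)),
    (3255, .gen 2277 (35, false)),
    (1694, .gen 2277 (35, true)),
    (110, .gen 2885 (35, false)),
    (2385, .gen 29 (35, false)),
    (17, .gen 29 (35, true)),
    (3645, .gen 1052 (35, true)),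
    (2583, .gen 1540 (35, false)),
    (1291, .gen 1540 (35, true)),
    (2067, .gen 682 (34, true)),
    (3002, .gen 682 (35, false)),
    (680, .gen 1230 (34, true)),
    (1681, .gen 1230 (35, false)),
    (2913, .gen 2227 (35, false)),
    (700, .gen 1340 (35, false)),
    (176, .gen 833 (34, false)),
    (182, .gen 833 (35, true)),
    (487, .gen 3163 (34, true)),
    (2257, .gen 3163 (35, false)),
    (50, .gen 1303 (34, false)),
    (727, .gen 1195 (35, false)),
    (260, .gen 1880 (34, false)),
    (838, .gen 1880 (35, true)),
    (3496, .gen 2751 (34, true)),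
    (2395, .gen 2751 (35, false)),
    (3065, .gen 958 (34, false)),
    (2587, .gen 958 (35, false)),
    (3642, .gen 492 (34, false)),
    (2283, .gen 492 (35, true)),
    (3696, .gen 1198 (35, false)),
    (583, .gen 2964 (34, false)),
    (1041, .gen 2964 (35, false)),
    (1433, .gen 2910 (35, true)),
    (702, .gen 1265 (34, false)),
    (1389, .gen 1265 (35, true)),
    (2834, .gen 2811 (35, true)),
    (2624, .gen 1671 (34, true)),
    (45, .gen 1203 (34, false)),
    (1281, .gen 1203 (34, true)),
    (3396, .gen 3548 (35, true)),
    (2701, .gen 2137 (35, false)),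
    (3488, .gen 2137 (35, true)),
    (410, .gen 3022 (34, true)),
    (1629, .gen 3022 (35, false)),
    (2008, .gen 2716 (34, false)),
    (3590, .gen 2716 (35, true)),
    (3077, .gen 772 (35, false)),
    (615, .gen 3303 (34, false)),
    (2159, .gen 244 (34, false)),
    (2324, .gen 244 (35, true)),
    (613, .gen 3372 (34, false)),
    (2024, .gen 3372 (34, true)),
    (1785, .gen 2568 (34, true)),
    (2419, .gen 2568 (35, true)),
    (3741, .gen 3074 (34, true)),
    (2005, .gen 1002 (34, true)),
    (2043, .gen 1002 (35, false)),
    (1148, .gen 1171 (35, false)),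
    (214, .gen 3232 (34, true)),
    (3661, .gen 1120 (35, false)),
    (3073, .gen 1901 (35, true)),
    (1070, .gen 3315 (35, false)),
    (1022, .gen 3093 (34, true)),
    (878, .gen 3070 (34, false)),
    (882, .gen 342 (34, true)),
    (2379, .gen 2426 (34, false)),
    (3524, .gen 2426 (34, true)),
    (356, .gen 1589 (35, false)),
    (21, .gen 1589 (35, true)),
    (2958, .gen 3738 (34, false)),
    (518, .gen 3172 (34, true)),
    (536, .gen 3172 (35, false)),
    (1724, .gen 3444 (34, true)),
    (3188, .gen 3444 (35, false)),
    (3234, .gen 1781 (34, true)),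
    (2180, .gen 807 (34, true)),
    (285, .gen 807 (35, true)),
    (1824, .gen 185 (34, false)),
    (134, .gen 1077 (34, false)),
    (2498, .gen 1321 (35, true)),
    (1596, .gen 1493 (35, true)),
    (2888, .gen 377 (34, true)),
    (713, .gen 1240 (35, true)),
    (2305, .gen 2932 (34, false)),
    (1061, .gen 2932 (35, true)),
    (1192, .gen 2758 (34, false)),
    (1461, .gen 2145 (34, false)),
    (1917, .gen 2145 (35, true)),
    (2471, .gen 1778 (34, false)),
    (2644, .gen 1778 (35, false)),
    (2280, .gen 1740 (34, true)),
    (424, .gen 1740 (35, false)),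
    (2673, .gen 2430 (34, true)),
    (3313, .gen 3013 (35, false)),
    (1521, .gen 2900 (34, true)),
    (1844, .gen 2900 (35, true)),
    (1349, .gen 3776 (34, false)),
    (1233, .gen 3776 (34, true)),
    (2917, .gen 2518 (35, true)),
    (1865, .gen 3587 (34, true)),
    (1803, .gen 3587 (35, true)),
    (2996, .gen 2490 (34, true)),
    (229, .gen 2490 (35, true)),
    (3426, .gen 1581 (35, false)),
    (432, .gen 1581 (35, true)),
    (2506, .gen 1399 (35, false)),
    (870, .gen 2636 (35, false)),
    (1685, .gen 2636 (35, true)),
    (173, .gen 649 (35, true)),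
    (2550, .gen 2507 (35, false)),
    (213, .gen 2507 (35, true)),
    (3147, .gen 1293 (34, true)),
    (1098, .gen 1293 (35, false)),
    (2256, .gen 1905 (34, true)),
    (3437, .gen 1905 (35, false)),
    (2420, .gen 1559 (35, false)),
    (977, .gen 1806 (35, false)),
    (2057, .gen 3168 (34, false)),
    (1708, .gen 3168 (35, true)),
    (1044, .gen 523 (34, true)),
    (1879, .gen 523 (35, false)),
    (955, .gen 405 (34, false)),
    (1930, .gen 1826 (35, false)),
    (812, .gen 2155 (34, false)),
    (794, .gen 2155 (35, true)),
    (100, .gen 1093 (34, true)),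
    (940, .gen 1093 (35, false)),
    (2243, .gen 609 (34, false)),
    (3211, .gen 609 (35, false)),
    (1208, .gen 209 (34, false)),
    (164, .gen 209 (35, true)),
    (1563, .gen 726 (35, false)),
    (2739, .gen 2097 (34, false)),
    (921, .gen 2097 (35, false)),
    (3005, .gen 3219 (35, true)),
    (1228, .gen 3612 (34, false)),
    (3047, .gen 3612 (35, true)),
    (107, .gen 2004 (35, true)),
    (1550, .gen 168 (34, true)),
    (3300, .gen 127 (34, false)),
    (2898, .gen 127 (34, true)),
    (3695, .gen 2880 (35, true)),
    (1643, .gen 451 (35, false)),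
    (3126, .gen 451 (35, true)),
    (671, .gen 3025 (34, true)),
    (2202, .gen 3025 (35, false)),
    (480, .gen 207 (34, false)),
    (2842, .gen 207 (35, true)),
    (1861, .gen 1714 (35, false)),
    (1029, .gen 180 (34, false)),
    (381, .gen 2833 (34, false)),
    (1920, .gen 2833 (35, true)),
    (2039, .gen 1556 (34, false)),
    (897, .gen 1556 (34, true)),
    (3742, .gen 1754 (34, true)),
    (635, .gen 1754 (35, true)),
    (3304, .gen 705 (34, true)),
    (3697, .gen 280 (34, true)),
    (1222, .gen 280 (35, false)),
    (1889, .gen 2351 (35, false)),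
    (2784, .gen 2119 (34, true)),
    (2838, .gen 2741 (35, false)),
    (2679, .gen 3342 (35, true)),
    (3040, .gen 1710 (35, false)),
    (2745, .gen 1320 (34, true)),
    (1083, .gen 2456 (34, false)),
    (3511, .gen 3780 (34, true)),
    (2651, .gen 1282 (34, false)),
    (3326, .gen 1282 (34, true)),
    (2961, .gen 2734 (35, false)),
    (2479, .gen 2734 (35, true)),
    (1248, .gen 1033 (34, false)),
    (1949, .gen 2557 (34, true)),
    (3429, .gen 2557 (35, false)),
    (3569, .gen 1860 (34, true)),
    (1473, .gen 1860 (35, false)),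
    (1985, .gen 3178 (34, true)),
    (3278, .gen 2515 (34, true)),
    (3709, .gen 2515 (35, true)),
    (1969, .gen 1635 (34, false)),
    (2465, .gen 1636 (34, false)),
    (896, .gen 391 (35, true)),
    (2225, .gen 885 (35, true)),
    (2807, .gen 472 (34, true)),
    (327, .gen 3778 (35, true)),
    (270, .gen 3251 (34, false)),
    (2820, .gen 3251 (35, true)),
    (3489, .gen 3088 (34, false)),
    (2482, .gen 1942 (34, false)),
    (3636, .gen 1942 (35, true)),
    (129, .gen 821 (34, false)),
    (3412, .gen 821 (35, false)),
    (26, .gen 2398 (34, true)),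
    (197, .gen 2398 (35, false)),
    (3630, .gen 2362 (34, true)),
    (2074, .gen 2729 (35, false)),
    (1612, .gen 2113 (34, true)),
    (3614, .gen 2113 (35, true)),
    (1770, .gen 2803 (34, false)),
    (118, .gen 2803 (34, true)),
    (2244, .gen 2354 (35, true)),
    (246, .gen 1486 (34, true)),
    (2030, .gen 1486 (35, true)),
    (1900, .gen 39 (34, true)),
    (102, .gen 39 (35, true)),
    (2254, .gen 2340 (35, false)),
    (1206, .gen 2340 (35, true)),
    (3428, .gen 2076 (35, false)),
    (1603, .gen 1173 (35, false)),
    (676, .gen 1173 (35, true)),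
    (2584, .gen 2946 (35, true)),
    (1782, .gen 3086 (35, false)),
    (3052, .gen 3086 (35, true)),
    (1416, .gen 2766 (34, true)),
    (1408, .gen 2766 (35, false)),
    (991, .gen 3306 (34, true)),
    (3668, .gen 3306 (35, false)),
    (3447, .gen 2158 (35, false)),
    (1554, .gen 2669 (35, false)),
    (1958, .gen 1057 (34, false)),
    (369, .gen 1057 (35, true)),
    (2683, .gen 302 (34, true)),
    (1893, .gen 302 (35, false)),
    (774, .gen 88 (34, false)),
    (261, .gen 950 (35, false)),
    (2600, .gen 3010 (34, false)),
    (1812, .gen 3010 (35, true)),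
    (662, .gen 2685 (34, true)),
    (3749, .gen 2685 (35, false)),
    (352, .gen 2858 (34, false)),
    (3685, .gen 2858 (35, false)),
    (23, .gen 3535 (34, false)),
    (2968, .gen 3535 (35, true)),
    (1403, .gen 258 (35, false)),
    (501, .gen 458 (34, false)),
    (771, .gen 458 (35, false)),
    (3295, .gen 2592 (35, true)),
    (3533, .gen 2861 (34, false)),
    (1014, .gen 2861 (35, true)),
    (3554, .gen 965 (35, true)),
    (2089, .gen 3381 (34, true)),
    (319, .gen 403 (34, false)),
    (2424, .gen 403 (34, true)),
    (2608, .gen 361 (35, true)),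
    (2684, .gen 1772 (35, false)),
    (2826, .gen 1772 (35, true)),
    (2236, .gen 2194 (34, true)),
    (115, .gen 2194 (35, false)),
    (1454, .gen 945 (34, false)),
    (2040, .gen 945 (35, true)),
    (2219, .gen 3766 (35, false)),
    (3793, .gen 1154 (34, false)),
    (588, .gen 3570 (34, false)),
    (1752, .gen 3570 (35, true)),
    (2891, .gen 55 (34, false)),
    (2330, .gen 55 (34, true)),
    (3249, .gen 1239 (34, true)),
    (154, .gen 1239 (35, true)),
    (1750, .gen 1577 (34, true)),
    (1256, .gen 3328 (34, true)),
    (1016, .gen 3328 (35, false)),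
    (1330, .gen 1480 (35, false)),
    (1755, .gen 3029 (34, true)),
    (2022, .gen 1056 (35, false)),
    (2578, .gen 1051 (35, true)),
    (1580, .gen 2069 (35, false)),
    (2813, .gen 2326 (34, true)),
    (899, .gen 2122 (34, false)),
    (3072, .gen 2632 (34, true)),
    (951, .gen 754 (34, false)),
    (524, .gen 754 (34, true)),
    (2962, .gen 751 (35, false)),
    (3746, .gen 751 (35, true)),
    (1264, .gen 3087 (34, false)),
    (156, .gen 1665 (34, true)),
    (3104, .gen 1665 (35, false)),
    (254, .gen 1018 (34, true)),
    (3366, .gen 1018 (35, false)),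
    (2633, .gen 2785 (34, true)),
    (1315, .gen 2598 (34, true)),
    (3410, .gen 2598 (35, true)),
    (934, .gen 2455 (34, false)),
    (448, .gen 1084 (34, false)),
    (2985, .gen 3314 (35, true)),
    (99, .gen 1623 (35, true)),
    (1124, .gen 495 (34, true)),
    (2513, .gen 1847 (35, true)),
    (2539, .gen 3275 (34, false)),
    (3692, .gen 3275 (35, true)),
    (3603, .gen 2802 (34, false)),
    (3355, .gen 1275 (34, false)),
    (2183, .gen 1275 (35, true)),
    (2839, .gen 1468 (34, false)),
    (2342, .gen 1468 (35, false)),
    (764, .gen 815 (34, true)),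
    (629, .gen 815 (35, false)),
    (2639, .gen 299 (34, true)),
    (2421, .gen 3627 (35, false)),
    (3367, .gen 1914 (34, true))]

/-- Visits. -/
def v4_8 : List (ℕ × Src) :=
  [(599, .gen 1914 (35, true)),
    (3602, .gen 241 (34, false)),
    (2101, .gen 241 (34, true)),
    (1432, .gen 2883 (35, true)),
    (1151, .gen 831 (34, true)),
    (243, .gen 831 (35, true)),
    (3280, .gen 2590 (34, true)),
    (832, .gen 2590 (35, true)),
    (1522, .gen 872 (35, false)),
    (347, .gen 872 (35, true)),
    (3207, .gen 1441 (35, false)),
    (3458, .gen 3530 (35, false)),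
    (1979, .gen 3530 (35, true)),
    (2564, .gen 1260 (35, true)),
    (1191, .gen 3394 (35, false)),
    (2808, .gen 3394 (35, true)),
    (2389, .gen 1991 (34, true)),
    (3030, .gen 1991 (35, false)),
    (1621, .gen 938 (34, true)),
    (1387, .gen 938 (35, false)),
    (3788, .gen 3259 (35, false)),
    (1697, .gen 638 (35, false)),
    (2628, .gen 910 (34, false)),
    (83, .gen 910 (35, true)),
    (3558, .gen 1299 (34, true)),
    (387, .gen 1299 (35, false)),
    (3568, .gen 1165 (34, false)),
    (33, .gen 329 (35, false)),
    (2058, .gen 2201 (34, false)),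
    (719, .gen 2201 (35, true)),
    (3359, .gen 359 (34, true)),
    (7, .gen 359 (35, false)),
    (3103, .gen 2819 (34, false)),
    (90, .gen 2819 (35, false)),
    (908, .gen 637 (34, false)),
    (2171, .gen 637 (35, true)),
    (1789, .gen 3239 (35, false)),
    (2591, .gen 341 (34, false)),
    (1153, .gen 341 (35, false)),
    (2974, .gen 290 (35, true)),
    (704, .gen 1569 (34, false)),
    (1950, .gen 1569 (35, true)),
    (3221, .gen 2267 (35, true)),
    (1085, .gen 3775 (34, true)),
    (1815, .gen 1606 (34, false)),
    (2613, .gen 1606 (34, true)),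
    (3702, .gen 2293 (35, true)),
    (2056, .gen 3138 (35, false)),
    (618, .gen 3138 (35, true)),
    (1011, .gen 746 (34, true)),
    (2034, .gen 746 (35, false)),
    (2487, .gen 392 (34, false)),
    (1768, .gen 392 (35, true)),
    (1692, .gen 3343 (35, false)),
    (3209, .gen 363 (34, false)),
    (3450, .gen 3433 (34, false)),
    (2026, .gen 3433 (35, true)),
    (3544, .gen 3503 (34, false)),
    (2403, .gen 3503 (34, true)),
    (390, .gen 3734 (34, true)),
    (1977, .gen 3734 (35, true)),
    (257, .gen 574 (34, true)),
    (1049, .gen 1374 (34, true)),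
    (2714, .gen 1374 (35, false)),
    (1859, .gen 2036 (35, false)),
    (2090, .gen 2143 (34, true)),
    (2320, .gen 2270 (35, false)),
    (697, .gen 2457 (35, true)),
    (1091, .gen 1404 (35, false)),
    (155, .gen 2120 (34, true)),
    (1350, .gen 2612 (34, false)),
    (606, .gen 3082 (34, true)),
    (470, .gen 1869 (34, false)),
    (289, .gen 1869 (34, true)),
    (1419, .gen 532 (35, false)),
    (3327, .gen 532 (35, true)),
    (1749, .gen 3130 (34, false)),
    (308, .gen 2668 (34, true)),
    (1, .gen 2668 (35, false)),
    (2010, .gen 3445 (34, true)),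
    (729, .gen 3445 (35, false)),
    (2186, .gen 3171 (34, true)),
    (584, .gen 3704 (34, true)),
    (1335, .gen 3704 (35, true)),
    (3408, .gen 1504 (34, false)),
    (226, .gen 3666 (34, false)),
    (2226, .gen 1668 (35, true)),
    (1679, .gen 881 (35, true)),
    (3382, .gen 2519 (34, true)),
    (1846, .gen 1745 (35, true)),
    (1565, .gen 1547 (34, false)),
    (1365, .gen 1547 (35, true)),
    (3242, .gen 2107 (34, false)),
    (322, .gen 3132 (34, false)),
    (2184, .gen 3132 (35, true)),
    (3079, .gen 2654 (34, false)),
    (2088, .gen 2654 (35, false)),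
    (249, .gen 823 (34, true)),
    (1876, .gen 823 (35, false)),
    (3290, .gen 1107 (34, true)),
    (3057, .gen 578 (35, false)),
    (1008, .gen 1226 (34, true)),
    (423, .gen 1226 (35, true)),
    (1490, .gen 1753 (34, false)),
    (886, .gen 1753 (34, true)),
    (2474, .gen 1145 (35, true)),
    (743, .gen 3136 (34, true)),
    (867, .gen 3136 (35, true)),
    (978, .gen 483 (34, true)),
    (1972, .gen 483 (35, true)),
    (3360, .gen 2853 (35, false)),
    (188, .gen 2853 (35, true)),
    (3375, .gen 3418 (35, false)),
    (3141, .gen 1839 (35, false)),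
    (3634, .gen 1839 (35, true)),
    (1762, .gen 2014 (35, true)),
    (639, .gen 1030 (35, false)),
    (633, .gen 1030 (35, true)),
    (2450, .gen 2475 (34, true)),
    (2007, .gen 2475 (35, false)),
    (2042, .gen 2480 (34, true)),
    (3639, .gen 2480 (35, false)),
    (3364, .gen 2253 (35, false)),
    (2400, .gen 2567 (35, false)),
    (2098, .gen 218 (34, false)),
    (2523, .gen 218 (35, true)),
    (3620, .gen 1551 (34, true)),
    (2680, .gen 1551 (35, false)),
    (1925, .gen 2053 (34, false)),
    (186, .gen 206 (35, false)),
    (1266, .gen 2017 (34, false)),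
    (502, .gen 2017 (35, true)),
    (2924, .gen 1431 (34, true)),
    (46, .gen 1431 (35, false)),
    (106, .gen 1311 (34, false)),
    (2451, .gen 1311 (35, false)),
    (1401, .gen 1811 (34, false)),
    (3248, .gen 1811 (35, true)),
    (2817, .gen 690 (35, false)),
    (2436, .gen 271 (34, false)),
    (2658, .gen 271 (35, false)),
    (3195, .gen 93 (35, true)),
    (3659, .gen 1292 (34, false)),
    (2001, .gen 1292 (35, true)),
    (395, .gen 2169 (35, true)),
    (3284, .gen 3613 (34, true)),
    (790, .gen 488 (34, false)),
    (340, .gen 488 (34, true)),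
    (3317, .gen 1167 (35, true)),
    (776, .gen 2268 (35, false)),
    (608, .gen 2268 (35, true)),
    (3170, .gen 503 (34, true)),
    (696, .gen 503 (35, false)),
    (3349, .gen 1674 (34, false)),
    (3564, .gen 1674 (35, true)),
    (3274, .gen 3427 (35, false)),
    (1020, .gen 1405 (34, false)),
    (2546, .gen 2986 (34, false)),
    (3144, .gen 2986 (35, true)),
    (3735, .gen 1907 (34, false)),
    (2747, .gen 1907 (34, true)),
    (3164, .gen 1568 (34, true)),
    (3465, .gen 1568 (35, true)),
    (1676, .gen 120 (34, true)),
    (2205, .gen 1661 (34, true)),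
    (1024, .gen 1661 (35, false)),
    (3403, .gen 2438 (35, false)),
    (1194, .gen 3182 (34, true)),
    (3526, .gen 1712 (35, false)),
    (2091, .gen 3298 (35, true)),
    (752, .gen 3438 (35, false)),
    (1360, .gen 3020 (34, true)),
    (2602, .gen 3277 (34, false)),
    (135, .gen 1242 (34, true)),
    (1578, .gen 2865 (34, false)),
    (3584, .gen 2865 (34, true)),
    (3506, .gen 2748 (35, false)),
    (3596, .gen 2748 (35, true)),
    (2604, .gen 1769 (34, false)),
    (1648, .gen 3679 (34, true)),
    (28, .gen 3679 (35, false)),
    (3411, .gen 1918 (34, true)),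
    (863, .gen 1918 (35, false)),
    (1343, .gen 3383 (34, true)),
    (552, .gen 2439 (34, true)),
    (3076, .gen 2439 (35, true)),
    (3694, .gen 539 (34, false)),
    (1704, .gen 594 (34, false)),
    (3460, .gen 343 (35, true)),
    (3632, .gen 3762 (35, true)),
    (3713, .gen 2063 (34, true)),
    (2787, .gen 1380 (35, true)),
    (1147, .gen 2027 (34, false)),
    (3263, .gen 2027 (35, true)),
    (426, .gen 1204 (34, false)),
    (161, .gen 2650 (34, false)),
    (2279, .gen 2650 (35, true)),
    (1117, .gen 2542 (34, false)),
    (1935, .gen 2542 (35, false)),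
    (980, .gen 3541 (34, true)),
    (725, .gen 3541 (35, false)),
    (766, .gen 2425 (34, true)),
    (4, .gen 3578 (35, false)),
    (2006, .gen 793 (34, true)),
    (3337, .gen 793 (35, true)),
    (619, .gen 2770 (34, false)),
    (509, .gen 2770 (34, true)),
    (144, .gen 960 (35, true)),
    (373, .gen 1243 (34, true)),
    (1699, .gen 1243 (35, true)),
    (1227, .gen 27 (34, true)),
    (1851, .gen 27 (35, true)),
    (3223, .gen 1211 (35, false)),
    (1212, .gen 1211 (35, true)),
    (597, .gen 2387 (35, false)),
    (3673, .gen 748 (35, false)),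
    (2877, .gen 748 (35, true)),
    (2733, .gen 1705 (35, true)),
    (1604, .gen 2499 (35, false)),
    (2182, .gen 2499 (35, true)),
    (2988, .gen 3439 (34, true)),
    (2559, .gen 3439 (35, false)),
    (493, .gen 2605 (34, true)),
    (2821, .gen 2605 (35, false)),
    (3228, .gen 1786 (35, false)),
    (436, .gen 1143 (35, false)),
    (2982, .gen 1613 (34, false)),
    (2950, .gen 1613 (35, true)),
    (116, .gen 1000 (34, true)),
    (943, .gen 1000 (35, false)),
    (1465, .gen 75 (34, false)),
    (2262, .gen 2743 (35, false)),
    (1809, .gen 1296 (34, false)),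
    (2775, .gen 1296 (35, true)),
    (3591, .gen 3509 (34, true)),
    (1258, .gen 3509 (35, false)),
    (2823, .gen 898 (34, false)),
    (1702, .gen 898 (35, false)),
    (3388, .gen 3176 (34, false)),
    (3252, .gen 3176 (35, true)),
    (2779, .gen 2955 (35, false)),
    (660, .gen 2615 (34, false)),
    (2886, .gen 2615 (35, false)),
    (2665, .gen 404 (35, true)),
    (2768, .gen 3187 (34, false)),
    (14, .gen 3187 (35, true)),
    (3531, .gen 162 (35, true)),
    (801, .gen 2505 (34, true)),
    (1418, .gen 397 (34, false)),
    (1445, .gen 397 (34, true)),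
    (1576, .gen 858 (35, true)),
    (2123, .gen 3517 (35, false)),
    (3553, .gen 3517 (35, true)),
    (2248, .gen 2746 (34, true)),
    (439, .gen 2746 (35, false)),
    (2384, .gen 1398 (34, false)),
    (3152, .gen 1398 (35, true)),
    (1479, .gen 1255 (35, false)),
    (348, .gen 1591 (34, false)),
    (1003, .gen 351 (34, false)),
    (979, .gen 351 (35, true)),
    (2696, .gen 2449 (34, false)),
    (2296, .gen 2449 (34, true)),
    (1691, .gen 2309 (34, true)),
    (2640, .gen 2309 (35, true)),
    (2511, .gen 2908 (34, true)),
    (2660, .gen 2311 (34, true)),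
    (365, .gen 2311 (35, false)),
    (1777, .gen 3736 (35, false)),
    (227, .gen 593 (34, true)),
    (2046, .gen 3552 (35, false)),
    (3194, .gen 999 (35, true)),
    (2672, .gen 1152 (35, false)),
    (1407, .gen 2157 (34, true)),
    (1271, .gen 1470 (34, false)),
    (1400, .gen 2064 (34, true)),
    (1813, .gen 2526 (34, false)),
    (2399, .gen 2526 (34, true)),
    (315, .gen 2671 (35, false)),
    (1367, .gen 2671 (35, true)),
    (3386, .gen 3318 (34, false)),
    (276, .gen 3159 (34, true)),
    (2782, .gen 3159 (35, false)),
    (1741, .gen 1386 (34, true)),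
    (1771, .gen 1386 (35, false)),
    (3653, .gen 191 (34, true)),
    (2121, .gen 2629 (34, true)),
    (995, .gen 2629 (35, true)),
    (545, .gen 770 (34, false)),
    (628, .gen 2352 (34, false)),
    (1268, .gen 1393 (35, true)),
    (640, .gen 2028 (35, true)),
    (362, .gen 1831 (34, true)),
    (2726, .gen 3270 (35, true)),
    (2737, .gen 2422 (34, false)),
    (803, .gen 2422 (35, true)),
    (2744, .gen 659 (34, false)),
    (2724, .gen 3592 (34, false)),
    (1597, .gen 3592 (35, true)),
    (1834, .gen 2695 (34, false))]

/-- Visits. -/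
def v4_9 : List (ℕ × Src) :=
  [(1774, .gen 2695 (35, false)),
    (1026, .gen 457 (34, true)),
    (2166, .gen 457 (35, false)),
    (3404, .gen 141 (34, true)),
    (2051, .gen 948 (35, false)),
    (3769, .gen 1912 (34, true)),
    (809, .gen 1912 (35, true)),
    (786, .gen 557 (34, false)),
    (1733, .gen 557 (34, true)),
    (3261, .gen 1718 (35, true)),
    (224, .gen 3097 (34, true)),
    (1366, .gen 3097 (35, true)),
    (2895, .gen 2238 (34, true)),
    (3369, .gen 2238 (35, true)),
    (911, .gen 48 (35, false)),
    (2163, .gen 48 (35, true)),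
    (3080, .gen 2949 (35, false)),
    (2534, .gen 3501 (35, false)),
    (2335, .gen 3501 (35, true)),
    (446, .gen 1496 (35, true)),
    (1055, .gen 3719 (35, false)),
    (3623, .gen 3719 (35, true)),
    (3099, .gen 2662 (34, true)),
    (2791, .gen 2662 (35, false)),
    (1150, .gen 971 (34, true)),
    (3016, .gen 971 (35, false)),
    (3522, .gen 571 (35, false)),
    (202, .gen 2476 (35, false)),
    (1553, .gen 461 (34, false)),
    (949, .gen 461 (35, true)),
    (1561, .gen 850 (34, true)),
    (2675, .gen 850 (35, false)),
    (3669, .gen 2916 (34, false)),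
    (1633, .gen 3214 (35, false)),
    (358, .gen 691 (34, false)),
    (2217, .gen 691 (35, true)),
    (3127, .gen 3117 (34, true)),
    (237, .gen 3117 (35, false)),
    (929, .gen 371 (34, false)),
    (2288, .gen 371 (35, false)),
    (961, .gen 2967 (34, false)),
    (1929, .gen 2967 (35, true)),
    (1009, .gen 3421 (35, false)),
    (3715, .gen 89 (34, false)),
    (3160, .gen 89 (35, false)),
    (3131, .gen 714 (35, true)),
    (2878, .gen 2086 (34, false)),
    (3385, .gen 2086 (35, true)),
    (2814, .gen 1602 (35, true)),
    (2912, .gen 3095 (34, true)),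
    (419, .gen 906 (34, false)),
    (1105, .gen 906 (34, true)),
    (1802, .gen 300 (35, true)),
    (647, .gen 928 (35, false)),
    (1216, .gen 928 (35, true)),
    (2661, .gen 970 (34, true)),
    (1519, .gen 970 (35, false)),
    (2212, .gen 1095 (34, false)),
    (2495, .gen 1095 (35, true)),
    (1634, .gen 1017 (35, false)),
    (1448, .gen 759 (34, false)),
    (350, .gen 2094 (34, false)),
    (178, .gen 2094 (35, true)),
    (3682, .gen 2934 (34, false)),
    (2994, .gen 2934 (34, true)),
    (1686, .gen 1290 (34, true)),
    (3198, .gen 1290 (35, true)),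
    (890, .gen 2317 (34, true)),
    (1864, .gen 3718 (34, true)),
    (2448, .gen 3718 (35, false)),
    (3753, .gen 3391 (35, false)),
    (550, .gen 1746 (34, true)),
    (1719, .gen 974 (35, false)),
    (2466, .gen 3547 (35, true)),
    (565, .gen 1739 (35, false)),
    (3487, .gen 1720 (34, true)),
    (559, .gen 3058 (34, false)),
    (1896, .gen 935 (34, true)),
    (37, .gen 2508 (34, false)),
    (2697, .gen 2508 (34, true)),
    (3330, .gen 1383 (35, false)),
    (3405, .gen 1383 (35, true)),
    (428, .gen 2831 (34, false)),
    (1566, .gen 3631 (34, true)),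
    (1126, .gen 3631 (35, false)),
    (842, .gen 556 (34, true)),
    (1987, .gen 556 (35, false)),
    (755, .gen 2486 (34, true)),
    (1837, .gen 1887 (34, true)),
    (753, .gen 1887 (35, true)),
    (1878, .gen 3045 (34, false)),
    (1619, .gen 2075 (34, false)),
    (3041, .gen 69 (35, true)),
    (416, .gen 1430 (35, true)),
    (3538, .gen 1855 (34, true)),
    (192, .gen 1599 (35, true)),
    (2338, .gen 661 (34, false)),
    (2702, .gen 661 (35, true)),
    (811, .gen 1666 (34, false)),
    (733, .gen 3003 (34, false)),
    (3677, .gen 3003 (35, true)),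
    (1102, .gen 2757 (34, false)),
    (34, .gen 2757 (35, false)),
    (2979, .gen 3033 (34, true)),
    (269, .gen 3033 (35, false)),
    (2367, .gen 1707 (34, true)),
    (328, .gen 3597 (35, false)),
    (1072, .gen 2376 (34, true)),
    (2386, .gen 2376 (35, true)),
    (2786, .gen 1946 (34, false)),
    (1485, .gen 1946 (34, true)),
    (507, .gen 636 (35, true)),
    (2292, .gen 1994 (34, true)),
    (3345, .gen 1994 (35, true)),
    (1838, .gen 189 (34, true)),
    (2161, .gen 189 (35, true)),
    (2552, .gen 2319 (35, false)),
    (3118, .gen 2319 (35, true)),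
    (1250, .gen 3338 (35, false)),
    (2698, .gen 233 (35, false)),
    (3462, .gen 233 (35, true)),
    (1220, .gen 3675 (35, true)),
    (412, .gen 2368 (35, false)),
    (1437, .gen 2368 (35, true)),
    (3374, .gen 3467 (34, true)),
    (13, .gen 3467 (35, false)),
    (3740, .gen 2573 (34, true)),
    (1269, .gen 2573 (35, false)),
    (2721, .gen 1065 (35, false)),
    (2233, .gen 2407 (35, false)),
    (3717, .gen 193 (34, false)),
    (2383, .gen 193 (35, true)),
    (1351, .gen 658 (34, true)),
    (3393, .gen 658 (35, false)),
    (467, .gen 177 (34, false)),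
    (2066, .gen 378 (35, false)),
    (2021, .gen 1116 (34, false)),
    (3154, .gen 1116 (35, true)),
    (3750, .gen 2972 (34, true)),
    (3714, .gen 2972 (35, false)),
    (1339, .gen 1031 (34, false)),
    (2285, .gen 1031 (35, false)),
    (3166, .gen 644 (34, false)),
    (2033, .gen 644 (35, true)),
    (2503, .gen 105 (35, false)),
    (1319, .gen 843 (34, false)),
    (3229, .gen 843 (35, false)),
    (2431, .gen 688 (35, true)),
    (263, .gen 3331 (34, false)),
    (1066, .gen 3331 (35, true)),
    (2597, .gen 3106 (35, true)),
    (1090, .gen 3743 (34, true)),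
    (1502, .gen 1924 (34, false)),
    (3660, .gen 1924 (34, true)),
    (1888, .gen 2863 (35, true)),
    (1477, .gen 2691 (35, false)),
    (3220, .gen 2691 (35, true)),
    (3348, .gen 2181 (34, true)),
    (925, .gen 2181 (35, false)),
    (3174, .gen 2240 (34, false)),
    (2580, .gen 2240 (35, true)),
    (2401, .gen 10 (35, false)),
    (2799, .gen 1892 (34, false)),
    (1898, .gen 2496 (34, false)),
    (111, .gen 2496 (35, true)),
    (2984, .gen 1913 (34, false)),
    (3542, .gen 1913 (34, true)),
    (2172, .gen 2850 (34, true)),
    (71, .gen 2850 (35, true)),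
    (2830, .gen 804 (34, true)),
    (61, .gen 1146 (34, true)),
    (152, .gen 1146 (35, false)),
    (51, .gen 3140 (35, false)),
    (1106, .gen 2915 (34, true)),
    (2378, .gen 3415 (35, false)),
    (1764, .gen 1628 (35, true)),
    (795, .gen 1276 (35, false)),
    (2287, .gen 1641 (34, true)),
    (3114, .gen 749 (34, false)),
    (1503, .gen 1326 (34, true)),
    (3250, .gen 1700 (34, false)),
    (1076, .gen 1700 (34, true)),
    (1313, .gen 449 (35, false)),
    (3272, .gen 449 (35, true)),
    (1508, .gen 2282 (34, false)),
    (1450, .gen 24 (34, true)),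
    (1411, .gen 24 (35, false)),
    (1737, .gen 1967 (34, true)),
    (2044, .gen 1967 (35, false)),
    (1089, .gen 3279 (34, true)),
    (3451, .gen 3726 (34, true)),
    (2198, .gen 3726 (35, true)),
    (913, .gen 1028 (34, false)),
    (2223, .gen 780 (34, false)),
    (388, .gen 3699 (35, true)),
    (2213, .gen 199 (35, true)),
    (2188, .gen 3643 (34, true)),
    (1609, .gen 3737 (35, true)),
    (344, .gen 1908 (34, false)),
    (2793, .gen 1908 (35, true)),
    (2111, .gen 1273 (34, false)),
    (1344, .gen 2353 (34, false)),
    (2220, .gen 2353 (35, true)),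
    (2609, .gen 330 (34, false)),
    (1111, .gen 330 (35, false)),
    (3225, .gen 1415 (34, true)),
    (2441, .gen 1415 (35, false)),
    (3579, .gen 2844 (34, true)),
    (932, .gen 1253 (35, false)),
    (818, .gen 2012 (34, true)),
    (879, .gen 2012 (35, true)),
    (2815, .gen 3059 (34, false)),
    (580, .gen 3059 (34, true)),
    (3588, .gen 2485 (35, true)),
    (2133, .gen 3779 (34, true)),
    (473, .gen 3779 (35, true)),
    (1481, .gen 3266 (34, true)),
    (1112, .gen 3266 (35, true)),
    (869, .gen 35 (35, false)),
    (2935, .gen 35 (35, true)),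
    (1246, .gen 1460 (35, false)),
    (1492, .gen 2717 (35, false)),
    (674, .gen 2717 (35, true)),
    (654, .gen 8 (35, true)),
    (3638, .gen 2372 (35, false)),
    (2473, .gen 2372 (35, true)),
    (3681, .gen 3224 (34, true)),
    (1358, .gen 3224 (35, false)),
    (988, .gen 2488 (34, true)),
    (1128, .gen 2488 (35, false)),
    (3641, .gen 1579 (35, false)),
    (3420, .gen 2241 (35, false)),
    (396, .gen 2927 (34, false)),
    (1776, .gen 2927 (35, true)),
    (3782, .gen 1948 (34, true)),
    (2127, .gen 1948 (35, false)),
    (1455, .gen 430 (34, false)),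
    (133, .gen 2816 (35, false)),
    (2943, .gen 1766 (34, false)),
    (1738, .gen 1766 (35, true)),
    (469, .gen 2952 (34, true)),
    (3395, .gen 2952 (35, false)),
    (3618, .gen 434 (34, false)),
    (1808, .gen 434 (35, false)),
    (3109, .gen 3732 (34, false)),
    (711, .gen 3732 (35, true)),
    (413, .gen 3390 (35, false)),
    (2938, .gen 1158 (34, false)),
    (1868, .gen 1158 (35, false)),
    (1773, .gen 1182 (35, true)),
    (3448, .gen 2723 (34, false)),
    (273, .gen 2723 (35, true)),
    (468, .gen 406 (35, true)),
    (891, .gen 1314 (34, true)),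
    (2397, .gen 163 (34, false)),
    (777, .gen 163 (34, true)),
    (3105, .gen 3 (35, true)),
    (1333, .gen 2197 (35, false)),
    (2029, .gen 2197 (35, true)),
    (3143, .gen 3480 (34, true)),
    (1169, .gen 3480 (35, false)),
    (1871, .gen 1079 (34, false)),
    (830, .gen 1079 (35, true)),
    (2942, .gen 2771 (35, false)),
    (1669, .gen 2659 (34, false)),
    (2947, .gen 338 (34, false)),
    (98, .gen 338 (35, true)),
    (2165, .gen 2537 (34, false)),
    (2273, .gen 2537 (34, true)),
    (2269, .gen 558 (34, true)),
    (1458, .gen 558 (35, true)),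
    (59, .gen 2704 (34, true)),
    (2467, .gen 1100 (34, true)),
    (442, .gen 1100 (35, false)),
    (797, .gen 778 (35, false)),
    (204, .gen 3071 (34, true)),
    (2160, .gen 3125 (35, false)),
    (2881, .gen 486 (35, true)),
    (40, .gen 3135 (35, false)),
    (1822, .gen 2418 (34, true)),
    (3392, .gen 3691 (34, false)),
    (1984, .gen 2634 (34, true)),
    (3582, .gen 1342 (34, false)),
    (1223, .gen 1342 (34, true)),
    (3763, .gen 2872 (35, false)),
    (2707, .gen 2872 (35, true)),
    (3707, .gen 1161 (34, false)),
    (937, .gen 3113 (34, true)),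
    (511, .gen 3113 (35, false)),
    (687, .gen 291 (34, true)),
    (1976, .gen 291 (35, false)),
    (1125, .gen 1684 (34, true)),
    (2148, .gen 1082 (34, true)),
    (2869, .gen 1082 (35, true)),
    (3000, .gen 1667 (34, false)),
    (3783, .gen 905 (34, false)),
    (215, .gen 2073 (35, true)),
    (266, .gen 1988 (35, true)),
    (2083, .gen 208 (34, true)),
    (2520, .gen 2112 (35, true))]

/-- Visits. -/
def v4_10 : List (ℕ × Src) :=
  [(113, .gen 1582 (34, false)),
    (3772, .gen 1582 (35, true)),
    (3652, .gen 1409 (34, false)),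
    (1406, .gen 531 (34, false)),
    (3128, .gen 531 (35, true)),
    (3698, .gen 3601 (34, false)),
    (998, .gen 3601 (35, false)),
    (2601, .gen 117 (34, true)),
    (1845, .gen 117 (35, false)),
    (1688, .gen 3075 (34, true)),
    (2281, .gen 2728 (35, false)),
    (2920, .gen 499 (34, true)),
    (3084, .gen 499 (35, true)),
    (2798, .gen 1992 (34, false)),
    (767, .gen 1992 (34, true)),
    (2345, .gen 3671 (35, true)),
    (1529, .gen 1999 (34, true)),
    (3655, .gen 1999 (35, true)),
    (1795, .gen 2667 (34, true)),
    (1087, .gen 2667 (35, true)),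
    (1385, .gen 84 (35, false)),
    (2072, .gen 84 (35, true)),
    (577, .gen 2374 (35, false)),
    (3276, .gen 1520 (35, false)),
    (1655, .gen 1520 (35, true)),
    (2429, .gen 2956 (35, true)),
    (3730, .gen 3339 (35, false)),
    (3365, .gen 3339 (35, true)),
    (984, .gen 1872 (34, true)),
    (3774, .gen 1872 (35, false)),
    (1557, .gen 2146 (34, true)),
    (367, .gen 2146 (35, false)),
    (2983, .gen 1101 (35, false)),
    (829, .gen 534 (35, false)),
    (3690, .gen 217 (34, false)),
    (1384, .gen 217 (35, true)),
    (1857, .gen 236 (34, true)),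
    (576, .gen 236 (35, false)),
    (3179, .gen 3758 (34, false)),
    (3217, .gen 2252 (35, false)),
    (2245, .gen 267 (34, false)),
    (2649, .gen 267 (35, true)),
    (1555, .gen 2630 (34, true)),
    (2271, .gen 2630 (35, false)),
    (2289, .gen 1682 (34, false)),
    (2905, .gen 1682 (35, false)),
    (1155, .gen 1136 (34, false)),
    (3107, .gen 1136 (35, true)),
    (1075, .gen 2558 (35, false)),
    (2445, .gen 3748 (34, false)),
    (1620, .gen 3748 (35, false)),
    (1981, .gen 1505 (35, true)),
    (2873, .gen 1842 (34, false)),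
    (2126, .gen 1842 (35, true)),
    (2149, .gen 2259 (35, true)),
    (918, .gen 631 (34, true)),
    (1452, .gen 3583 (34, false)),
    (1544, .gen 3583 (34, true)),
    (2544, .gen 2228 (35, true)),
    (2380, .gen 1715 (35, false)),
    (2174, .gen 1715 (35, true)),
    (1817, .gen 2753 (34, true)),
    (529, .gen 2753 (35, false)),
    (901, .gen 3292 (34, false)),
    (623, .gen 3292 (35, true)),
    (1121, .gen 1575 (35, false)),
    (153, .gen 2909 (34, false)),
    (3181, .gen 1610 (34, false)),
    (922, .gen 1610 (35, true)),
    (1295, .gen 967 (34, false)),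
    (3510, .gen 967 (34, true)),
    (1990, .gen 2196 (34, true)),
    (1933, .gen 2196 (35, true)),
    (3021, .gen 2522 (34, true)),
    (3153, .gen 2151 (34, true)),
    (370, .gen 2151 (35, false)),
    (2497, .gen 140 (35, false)),
    (953, .gen 963 (34, true)),
    (1306, .gen 1937 (35, false)),
    (3008, .gen 3055 (35, true)),
    (3352, .gen 1270 (35, false)),
    (172, .gen 471 (34, true)),
    (2676, .gen 3311 (34, false)),
    (1997, .gen 389 (34, true)),
    (3662, .gen 3727 (34, false)),
    (2140, .gen 3727 (34, true)),
    (930, .gen 201 (35, false)),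
    (2976, .gen 201 (35, true)),
    (2585, .gen 2970 (34, false)),
    (1272, .gen 1821 (34, true)),
    (3231, .gen 1821 (35, false)),
    (2047, .gen 1394 (34, true)),
    (819, .gen 1394 (35, false)),
    (916, .gen 3665 (34, true)),
    (814, .gen 151 (34, true)),
    (2344, .gen 151 (35, true)),
    (3701, .gen 3197 (34, false)),
    (3129, .gen 1474 (34, false)),
    (1491, .gen 1678 (35, true)),
    (3545, .gen 996 (35, true)),
    (2778, .gen 422 (34, true)),
    (1593, .gen 2494 (35, true)),
    (1062, .gen 1800 (34, false)),
    (912, .gen 1800 (35, true)),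
    (3269, .gen 2722 (34, false)),
    (3320, .gen 2460 (34, false)),
    (3551, .gen 2460 (35, true)),
    (1964, .gen 3289 (34, false)),
    (1488, .gen 3289 (35, false)),
    (1094, .gen 1435 (34, true)),
    (2328, .gen 1435 (35, false)),
    (841, .gen 2576 (34, true)),
    (828, .gen 1312 (35, false)),
    (3335, .gen 1890 (34, true)),
    (138, .gen 1890 (35, true)),
    (3112, .gen 1693 (34, false)),
    (3028, .gen 1693 (34, true)),
    (3654, .gen 384 (35, true)),
    (3185, .gen 919 (34, true)),
    (57, .gen 919 (35, true)),
    (2144, .gen 1828 (34, true)),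
    (1444, .gen 1828 (35, true)),
    (2018, .gen 2108 (35, false)),
    (2134, .gen 2108 (35, true)),
    (1446, .gen 3792 (35, false)),
    (3576, .gen 664 (35, false)),
    (2643, .gen 664 (35, true)),
    (2377, .gen 3316 (35, true)),
    (1645, .gen 2483 (35, false)),
    (643, .gen 2483 (35, true)),
    (1820, .gen 3497 (34, true)),
    (2789, .gen 3497 (35, false)),
    (437, .gen 1274 (34, true)),
    (3504, .gen 1274 (35, false)),
    (2435, .gen 1307 (35, false)),
    (900, .gen 394 (35, false)),
    (1952, .gen 149 (34, false)),
    (2440, .gen 149 (35, true)),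
    (2461, .gen 2446 (34, true)),
    (952, .gen 2446 (35, false)),
    (3670, .gen 2987 (34, false)),
    (2846, .gen 596 (35, false)),
    (813, .gen 3586 (34, false)),
    (889, .gen 3586 (35, true)),
    (3015, .gen 3222 (34, true)),
    (1359, .gen 3222 (35, false)),
    (1615, .gen 589 (34, false)),
    (60, .gen 589 (35, false)),
    (525, .gen 1037 (34, false)),
    (1395, .gen 1037 (35, true)),
    (1810, .gen 1442 (35, false)),
    (1506, .gen 355 (34, false)),
    (684, .gen 355 (35, false)),
    (2533, .gen 3056 (35, true)),
    (3723, .gen 3683 (34, false)),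
    (3574, .gen 3683 (35, true)),
    (1063, .gen 1160 (35, true)),
    (103, .gen 2822 (34, true)),
    (1080, .gen 864 (34, false)),
    (2131, .gen 864 (34, true)),
    (440, .gen 1422 (35, true)),
    (3012, .gen 3124 (35, false)),
    (1187, .gen 3124 (35, true)),
    (2504, .gen 3110 (34, true)),
    (1137, .gen 3110 (35, false)),
    (3536, .gen 150 (34, false)),
    (3310, .gen 150 (35, true)),
    (1352, .gen 3347 (35, false)),
    (2484, .gen 312 (34, false)),
    (1471, .gen 1909 (34, false)),
    (3235, .gen 1909 (35, true)),
    (3397, .gen 675 (34, false)),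
    (1368, .gen 675 (34, true)),
    (1955, .gen 1064 (34, true)),
    (1247, .gen 1064 (35, true)),
    (2868, .gen 1157 (34, true)),
    (3204, .gen 3534 (34, true)),
    (734, .gen 3534 (35, false)),
    (1830, .gen 2306 (35, false)),
    (669, .gen 602 (34, true)),
    (2700, .gen 2925 (35, false)),
    (2222, .gen 1122 (35, true)),
    (1334, .gen 357 (35, false)),
    (366, .gen 2303 (34, true)),
    (445, .gen 1449 (34, false)),
    (2941, .gen 2556 (34, true)),
    (1640, .gen 2195 (34, false)),
    (332, .gen 2195 (34, true)),
    (3240, .gen 2313 (35, false)),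
    (2840, .gen 2313 (35, true)),
    (3334, .gen 3193 (34, false)),
    (1911, .gen 3024 (34, true)),
    (1109, .gen 3024 (35, false)),
    (857, .gen 1779 (34, true)),
    (325, .gen 1779 (35, false)),
    (1283, .gen 1310 (34, true)),
    (1788, .gen 851 (34, true)),
    (183, .gen 851 (35, true)),
    (708, .gen 3189 (34, false)),
    (946, .gen 279 (34, false)),
    (1931, .gen 506 (35, true)),
    (914, .gen 3464 (35, true)),
    (3667, .gen 1600 (34, true)),
    (1397, .gen 2971 (35, true)),
    (1517, .gen 216 (34, false)),
    (1039, .gen 216 (35, true)),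
    (3490, .gen 1495 (34, false)),
    (1007, .gen 2829 (34, false)),
    (3324, .gen 2829 (35, true)),
    (630, .gen 49 (34, false)),
    (825, .gen 49 (35, false)),
    (3260, .gen 2827 (34, true)),
    (3212, .gen 2827 (35, false)),
    (1068, .gen 1728 (34, true)),
    (579, .gen 124 (35, false)),
    (2109, .gen 318 (34, true)),
    (3241, .gen 318 (35, true)),
    (2301, .gen 1059 (34, false)),
    (1833, .gen 1059 (34, true)),
    (3619, .gen 2203 (35, true)),
    (393, .gen 779 (34, true)),
    (2152, .gen 779 (35, true)),
    (1646, .gen 2642 (34, true)),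
    (372, .gen 2642 (35, true)),
    (1562, .gen 3216 (35, false)),
    (484, .gen 3216 (35, true)),
    (1787, .gen 414 (35, false)),
    (3134, .gen 1717 (35, false)),
    (1899, .gen 1717 (35, true)),
    (2889, .gen 320 (35, true)),
    (174, .gen 3520 (35, false)),
    (1698, .gen 3520 (35, true)),
    (3621, .gen 985 (34, true)),
    (2509, .gen 985 (35, false)),
    (1825, .gen 1775 (34, true)),
    (2995, .gen 1775 (35, false)),
    (2336, .gen 200 (35, false)),
    (548, .gen 2291 (35, false)),
    (2388, .gen 1543 (34, false)),
    (1050, .gen 1543 (35, true)),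
    (2538, .gen 2641 (34, true)),
    (1476, .gen 2641 (35, false)),
    (2527, .gen 454 (34, false)),
    (3398, .gen 2347 (35, false)),
    (3479, .gen 2719 (34, false)),
    (3432, .gen 2719 (35, true)),
    (3518, .gen 459 (34, true)),
    (2432, .gen 459 (35, false)),
    (3061, .gen 1229 (34, false)),
    (2806, .gen 1229 (35, false)),
    (1947, .gen 3646 (34, false)),
    (2623, .gen 3646 (35, true)),
    (1234, .gen 1347 (35, false)),
    (9, .gen 3617 (34, false)),
    (143, .gen 3617 (35, false)),
    (1215, .gen 66 (35, true)),
    (805, .gen 3094 (34, false)),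
    (1181, .gen 3094 (35, true)),
    (2215, .gen 190 (35, true)),
    (1894, .gen 91 (34, true)),
    (1267, .gen 3633 (34, false)),
    (1957, .gen 3633 (34, true)),
    (1767, .gen 1978 (35, true)),
    (3454, .gen 3192 (35, false)),
    (1660, .gen 3192 (35, true)),
    (3064, .gen 1421 (34, true)),
    (3453, .gen 1421 (35, false)),
    (2000, .gen 2843 (34, false)),
    (2731, .gen 2843 (35, true)),
    (364, .gen 1034 (35, false)),
    (3196, .gen 1144 (34, false)),
    (2468, .gen 2423 (34, false)),
    (462, .gen 2423 (35, true)),
    (2247, .gen 3413 (34, false)),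
    (1189, .gen 3413 (34, true)),
    (2625, .gen 3720 (34, true)),
    (3606, .gen 3720 (35, true)),
    (563, .gen 3563 (34, true)),
    (1202, .gen 1784 (34, true)),
    (443, .gen 1784 (35, false)),
    (2836, .gen 230 (35, false)),
    (92, .gen 3656 (34, true)),
    (942, .gen 1891 (35, false)),
    (1199, .gen 1638 (35, true)),
    (2105, .gen 806 (35, false)),
    (1507, .gen 3431 (34, true)),
    (709, .gen 1798 (34, false)),
    (1759, .gen 1523 (34, true)),
    (297, .gen 2115 (34, false)),
    (847, .gen 2115 (34, true)),
    (2235, .gen 2110 (35, false)),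
    (1209, .gen 2110 (35, true)),
    (3053, .gen 1053 (34, false)),
    (3175, .gen 128 (34, true)),
    (256, .gen 128 (35, false)),
    (989, .gen 2229 (34, true)),
    (3091, .gen 2229 (35, false)),
    (3069, .gen 1104 (34, true)),
    (3785, .gen 1993 (34, true)),
    (2554, .gen 1993 (35, true))]

/-- Visits. -/
def v4_11 : List (ℕ × Src) :=
  [(2266, .gen 3498 (34, false)),
    (3085, .gen 781 (34, false)),
    (1081, .gen 1277 (35, true)),
    (408, .gen 3674 (35, true)),
    (474, .gen 3162 (34, true)),
    (3491, .gen 1086 (35, true)),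
    (3089, .gen 420 (34, false)),
    (2356, .gen 420 (35, true)),
    (2882, .gen 888 (34, false)),
    (171, .gen 2774 (34, false)),
    (3672, .gen 2774 (35, true)),
    (1904, .gen 3515 (34, false)),
    (2899, .gen 3515 (35, false)),
    (2788, .gen 3206 (34, true)),
    (3483, .gen 3206 (35, false)),
    (1494, .gen 3477 (34, true)),
    (497, .gen 2969 (35, false)),
    (2759, .gen 875 (34, true)),
    (1758, .gen 875 (35, true)),
    (1796, .gen 2543 (34, false)),
    (3416, .gen 2543 (34, true)),
    (1658, .gen 2854 (35, true)),
    (569, .gen 947 (34, true)),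
    (634, .gen 947 (35, true)),
    (1006, .gen 2359 (34, true)),
    (2939, .gen 2359 (35, true)),
    (3389, .gen 740 (35, false)),
    (2433, .gen 740 (35, true)),
    (1035, .gen 2536 (35, false)),
    (1249, .gen 187 (35, false)),
    (3119, .gen 187 (35, true)),
    (2688, .gen 972 (35, true)),
    (2852, .gen 2135 (35, false)),
    (1687, .gen 2135 (35, true)),
    (1196, .gen 2284 (34, true)),
    (994, .gen 2284 (35, false)),
    (1456, .gen 3539 (34, true)),
    (1127, .gen 3539 (35, false)),
    (1345, .gen 1858 (35, false)),
    (1464, .gen 820 (35, false)),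
    (744, .gen 655 (34, false)),
    (2032, .gen 655 (35, true)),
    (339, .gen 1067 (34, true)),
    (1309, .gen 1067 (35, false)),
    (3493, .gen 3096 (34, false)),
    (3725, .gen 2890 (35, false)),
    (2118, .gen 592 (34, false)),
    (2989, .gen 592 (35, true)),
    (3684, .gen 490 (34, true)),
    (1915, .gen 490 (35, false)),
    (1205, .gen 3218 (34, false)),
    (2297, .gen 3218 (35, false)),
    (2128, .gen 966 (34, false)),
    (409, .gen 966 (35, true)),
    (500, .gen 3441 (35, false)),
    (1302, .gen 3657 (34, false)),
    (2411, .gen 3657 (35, false)),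
    (2162, .gen 211 (35, true)),
    (2565, .gen 3446 (34, false)),
    (1184, .gen 3446 (35, true)),
    (1497, .gen 2593 (35, true)),
    (131, .gen 983 (34, true)),
    (2077, .gen 1453 (34, false)),
    (1936, .gen 1453 (34, true)),
    (1970, .gen 2298 (35, true)),
    (293, .gen 331 (35, false)),
    (2879, .gen 331 (35, true)),
    (2635, .gen 3322 (34, true)),
    (2337, .gen 3322 (35, false)),
    (553, .gen 621 (34, false)),
    (3202, .gen 621 (35, true)),
    (3703, .gen 292 (35, false)),
    (496, .gen 491 (34, false)),
    (3693, .gen 2275 (34, false)),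
    (3149, .gen 2275 (35, true)),
    (808, .gen 3121 (34, false)),
    (2323, .gen 3121 (34, true)),
    (305, .gen 1447 (34, true)),
    (1518, .gen 1447 (35, true)),
    (1885, .gen 1783 (34, true)),
    (1257, .gen 3319 (34, true)),
    (3756, .gen 3319 (35, false)),
    (2239, .gen 1231 (35, false)),
    (3764, .gen 2510 (34, true)),
    (1316, .gen 119 (35, false)),
    (2070, .gen 1996 (35, true)),
    (1711, .gen 2525 (35, false)),
    (836, .gen 3532 (34, true)),
    (505, .gen 3245 (34, false)),
    (1115, .gen 1388 (34, true)),
    (1723, .gen 262 (34, false)),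
    (1675, .gen 262 (34, true)),
    (2321, .gen 1096 (35, false)),
    (1584, .gen 1096 (35, true)),
    (1381, .gen 1939 (34, false)),
    (337, .gen 1616 (34, true)),
    (2765, .gen 1616 (35, false)),
    (1744, .gen 3422 (34, true)),
    (415, .gen 3422 (35, false)),
    (3018, .gen 3650 (34, true)),
    (756, .gen 1078 (34, true)),
    (861, .gen 1078 (35, true)),
    (604, .gen 482 (34, false)),
    (3273, .gen 585 (34, false)),
    (62, .gen 3377 (35, true)),
    (2139, .gen 1172 (35, true)),
    (2366, .gen 1045 (34, true)),
    (758, .gen 345 (35, true)),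
    (3790, .gen 1816 (34, false)),
    (3137, .gen 1816 (35, true)),
    (3494, .gen 3301 (34, false)),
    (126, .gen 973 (34, false)),
    (3705, .gen 973 (35, true)),
    (3038, .gen 1001 (34, false)),
    (2906, .gen 1001 (35, false)),
    (2647, .gen 1390 (34, true)),
    (1058, .gen 1390 (35, false)),
    (3752, .gen 2416 (34, true)),
    (52, .gen 1221 (35, false)),
    (3098, .gen 567 (34, true)),
    (3486, .gen 567 (35, true)),
    (2204, .gen 43 (34, false)),
    (2735, .gen 43 (34, true)),
    (2100, .gen 1183 (35, true)),
    (295, .gen 97 (34, true)),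
    (2535, .gen 97 (35, true)),
    (221, .gen 2978 (34, true)),
    (1836, .gen 2978 (35, true)),
    (1974, .gen 1515 (35, false)),
    (1361, .gen 1515 (35, true)),
    (122, .gen 2106 (35, false)),
    (1709, .gen 2348 (35, false)),
    (3019, .gen 2348 (35, true)),
    (2501, .gen 853 (35, true)),
    (3139, .gen 3309 (35, false)),
    (326, .gen 3309 (35, true)),
    (887, .gen 2754 (34, true)),
    (561, .gen 2754 (35, false)),
    (1587, .gen 2532 (34, true)),
    (835, .gen 2532 (35, false)),
    (717, .gen 1945 (35, false)),
    (139, .gen 2894 (35, false)),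
    (880, .gen 3238 (34, false)),
    (1428, .gen 3238 (35, true)),
    (2361, .gen 1131 (34, true)),
    (2800, .gen 1131 (35, false)),
    (3609, .gen 1617 (34, false)),
    (2655, .gen 2855 (35, false)),
    (683, .gen 2781 (34, false)),
    (2413, .gen 2781 (35, true)),
    (2792, .gen 307 (34, true)),
    (1323, .gen 307 (35, false)),
    (2409, .gen 1417 (34, false)),
    (3616, .gen 1417 (35, false)),
    (3226, .gen 2571 (34, false)),
    (444, .gen 2571 (35, true)),
    (1542, .gen 73 (35, false)),
    (741, .gen 2492 (34, false)),
    (1097, .gen 2492 (35, false)),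
    (2514, .gen 521 (35, true)),
    (1696, .gen 1804 (34, false)),
    (1463, .gen 1804 (35, true)),
    (2392, .gen 314 (35, true)),
    (411, .gen 641 (34, true)),
    (1895, .gen 2087 (34, false)),
    (915, .gen 2087 (34, true)),
    (3519, .gen 2801 (35, true)),
    (2375, .gen 1509 (35, false)),
    (2464, .gen 1509 (35, true)),
    (2009, .gen 2443 (34, true)),
    (508, .gen 2443 (35, false)),
    (540, .gen 11 (34, false)),
    (3237, .gen 11 (35, true)),
    (3468, .gen 954 (35, false)),
    (1975, .gen 3264 (34, false)),
    (2902, .gen 1934 (34, false)),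
    (2249, .gen 1934 (35, true)),
    (1054, .gen 3297 (34, false)),
    (2607, .gen 3297 (34, true)),
    (515, .gen 1532 (34, true)),
    (860, .gen 1532 (35, true)),
    (379, .gen 170 (34, true)),
    (931, .gen 1849 (34, true)),
    (425, .gen 1849 (35, false)),
    (1179, .gen 868 (35, false)),
    (386, .gen 1261 (34, true)),
    (80, .gen 376 (35, false)),
    (1962, .gen 255 (35, true)),
    (685, .gen 2720 (35, false)),
    (1141, .gen 3786 (34, true)),
    (707, .gen 1166 (34, false)),
    (3387, .gen 798 (34, true)),
    (2147, .gen 668 (34, false)),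
    (2331, .gen 668 (34, true)),
    (3571, .gen 1379 (35, false)),
    (706, .gen 1379 (35, true)),
    (1549, .gen 962 (34, false)),
    (3425, .gen 2230 (34, true)),
    (2599, .gen 2230 (35, false)),
    (1571, .gen 2929 (34, true)),
    (1103, .gen 2929 (35, false)),
    (1042, .gen 3492 (34, true)),
    (3376, .gen 2763 (34, true)),
    (689, .gen 2763 (35, true)),
    (2835, .gen 846 (34, false)),
    (1373, .gen 2059 (34, false)),
    (3610, .gen 3296 (35, true)),
    (3215, .gen 2541 (35, true)),
    (1019, .gen 2154 (34, true)),
    (252, .gen 1217 (35, true)),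
    (3466, .gen 2904 (34, false)),
    (2189, .gen 2904 (35, true)),
    (1133, .gen 2549 (34, false)),
    (3436, .gen 1259 (34, false)),
    (2054, .gen 1259 (35, true)),
    (1475, .gen 294 (35, false)),
    (2783, .gen 2555 (34, false)),
    (2393, .gen 1341 (35, false)),
    (3257, .gen 2867 (35, true)),
    (2129, .gen 1188 (34, false)),
    (2966, .gen 3255 (34, false)),
    (3361, .gen 1694 (35, true)),
    (1536, .gen 1291 (34, false)),
    (1574, .gen 3002 (34, false)),
    (2477, .gen 680 (34, true)),
    (2674, .gen 680 (35, false)),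
    (2619, .gen 176 (34, false)),
    (2678, .gen 3496 (35, false)),
    (1305, .gen 2395 (34, false)),
    (1369, .gen 1433 (34, false)),
    (1263, .gen 2834 (34, true)),
    (3794, .gen 2701 (34, true)),
    (2980, .gen 410 (34, true)),
    (68, .gen 2043 (34, true)),
    (275, .gen 518 (35, true)),
    (2621, .gen 2471 (35, false)),
    (485, .gen 424 (34, false)),
    (849, .gen 1521 (35, false)),
    (72, .gen 1349 (35, true)),
    (735, .gen 229 (34, false)),
    (547, .gen 3426 (34, false)),
    (3711, .gen 432 (35, true)),
    (1533, .gen 213 (34, false)),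
    (3475, .gen 1098 (34, false)),
    (2761, .gen 2256 (34, true)),
    (1751, .gen 2256 (35, false)),
    (1761, .gen 2057 (34, false)),
    (184, .gen 100 (35, false)),
    (956, .gen 940 (34, false)),
    (3565, .gen 3005 (34, false)),
    (2531, .gen 107 (34, true)),
    (3308, .gen 1643 (34, true)),
    (1193, .gen 671 (34, true)),
    (1459, .gen 1222 (34, true)),
    (3430, .gen 1949 (35, true)),
    (2776, .gen 129 (35, false)),
    (1353, .gen 197 (34, false)),
    (3607, .gen 1612 (35, false)),
    (15, .gen 1770 (35, true)),
    (1622, .gen 102 (34, false)),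
    (1412, .gen 2254 (34, false)),
    (1197, .gen 1206 (35, true)),
    (2052, .gen 3052 (34, false)),
    (1538, .gen 1408 (34, false)),
    (1743, .gen 991 (34, true)),
    (799, .gen 991 (35, false)),
    (2887, .gen 1958 (34, false)),
    (1558, .gen 662 (35, false)),
    (2657, .gen 3749 (34, false)),
    (873, .gen 3295 (34, false)),
    (1469, .gen 3554 (34, true)),
    (1118, .gen 2684 (34, true)),
    (1963, .gen 2236 (34, true)),
    (101, .gen 1016 (34, true)),
    (3478, .gen 156 (35, true)),
    (2102, .gen 2839 (35, false)),
    (2365, .gen 629 (34, false)),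
    (2663, .gen 3367 (35, false)),
    (605, .gen 3602 (35, true)),
    (528, .gen 832 (34, false)),
    (1832, .gen 1522 (34, false)),
    (2278, .gen 347 (35, true)),
    (309, .gen 2808 (34, false)),
    (58, .gen 3030 (34, false)),
    (570, .gen 1621 (34, true)),
    (3733, .gen 1621 (35, false)),
    (1414, .gen 2628 (34, false)),
    (1235, .gen 3359 (35, false)),
    (1631, .gen 7 (34, false)),
    (2944, .gen 2974 (34, false)),
    (1119, .gen 3221 (34, true)),
    (2870, .gen 2056 (34, true)),
    (1332, .gen 1011 (34, true)),
    (2553, .gen 2714 (34, true)),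
    (572, .gen 308 (35, true)),
    (560, .gen 3079 (35, false)),
    (1630, .gen 1876 (34, false)),
    (1113, .gen 1008 (35, false)),
    (2020, .gen 1490 (35, true)),
    (1829, .gen 1972 (34, false))]

/-- Visits. -/
def v4_12 : List (ℕ × Src) :=
  [(1735, .gen 3360 (34, false)),
    (1280, .gen 188 (35, true)),
    (1866, .gen 633 (34, false)),
    (763, .gen 2007 (34, false)),
    (3516, .gen 2042 (34, true)),
    (2713, .gen 2042 (35, false)),
    (1862, .gen 2098 (34, false)),
    (3253, .gen 2924 (35, false)),
    (612, .gen 46 (34, false)),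
    (3362, .gen 3195 (34, false)),
    (610, .gen 395 (34, true)),
    (3169, .gen 776 (34, true)),
    (2936, .gen 3170 (34, true)),
    (3092, .gen 1024 (34, true)),
    (3507, .gen 1648 (35, true)),
    (3561, .gen 1117 (35, false)),
    (2410, .gen 725 (34, false)),
    (1713, .gen 2006 (35, false)),
    (1185, .gen 619 (35, true)),
    (1038, .gen 1851 (34, false)),
    (2569, .gen 3223 (34, false)),
    (1440, .gen 1212 (35, true)),
    (1850, .gen 2182 (34, false)),
    (3371, .gen 2559 (34, false)),
    (1457, .gen 493 (34, true)),
    (2015, .gen 493 (35, false)),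
    (477, .gen 2982 (34, false)),
    (2261, .gen 3591 (35, false)),
    (2797, .gen 1258 (34, false)),
    (3122, .gen 2665 (34, false)),
    (2355, .gen 3531 (34, true)),
    (2528, .gen 2123 (34, true)),
    (3050, .gen 2248 (34, true)),
    (2998, .gen 365 (34, true)),
    (494, .gen 276 (35, true)),
    (1436, .gen 1834 (35, false)),
    (1426, .gen 2166 (34, false)),
    (3373, .gen 3769 (35, false)),
    (1598, .gen 786 (35, true)),
    (652, .gen 3369 (34, false)),
    (2796, .gen 911 (34, false)),
    (56, .gen 2163 (35, true)),
    (398, .gen 3623 (34, false)),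
    (22, .gen 2791 (34, false)),
    (2394, .gen 1150 (34, true)),
    (3146, .gen 1150 (35, false)),
    (1823, .gen 1553 (34, false)),
    (3521, .gen 3127 (35, false)),
    (466, .gen 237 (34, false)),
    (1867, .gen 3131 (34, false)),
    (2859, .gen 2814 (34, true)),
    (2142, .gen 647 (34, true)),
    (1928, .gen 2661 (34, true)),
    (3213, .gen 2448 (34, true)),
    (2732, .gen 1566 (35, true)),
    (1108, .gen 1102 (35, false)),
    (1835, .gen 269 (34, false)),
    (1329, .gen 1072 (35, false)),
    (3589, .gen 2786 (35, true)),
    (2825, .gen 2161 (34, false)),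
    (2136, .gen 2552 (34, false)),
    (3333, .gen 3118 (35, true)),
    (1560, .gen 1437 (34, false)),
    (1637, .gen 13 (34, false)),
    (1944, .gen 3740 (34, true)),
    (1099, .gen 3740 (35, false)),
    (783, .gen 3717 (34, false)),
    (1882, .gen 3750 (35, false)),
    (2130, .gen 3714 (34, false)),
    (2804, .gen 2431 (34, false)),
    (788, .gen 2597 (34, true)),
    (3635, .gen 1477 (34, true)),
    (827, .gen 3348 (34, true)),
    (1356, .gen 152 (34, true)),
    (121, .gen 1450 (35, true)),
    (1722, .gen 2609 (35, false)),
    (2472, .gen 2441 (34, false)),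
    (268, .gen 818 (35, false)),
    (603, .gen 2815 (35, true)),
    (1695, .gen 1112 (34, false)),
    (679, .gen 869 (34, false)),
    (1177, .gen 2935 (35, true)),
    (1998, .gen 2473 (34, false)),
    (1592, .gen 1358 (34, false)),
    (3770, .gen 988 (34, true)),
    (2756, .gen 988 (35, false)),
    (3787, .gen 396 (34, false)),
    (313, .gen 469 (35, false)),
    (2092, .gen 3395 (34, false)),
    (2589, .gen 1773 (34, false)),
    (146, .gen 468 (34, true)),
    (3649, .gen 1333 (34, true)),
    (3585, .gen 3143 (34, true)),
    (2622, .gen 442 (34, true)),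
    (3307, .gen 937 (35, true)),
    (1482, .gen 3698 (35, false)),
    (2828, .gen 1845 (34, false)),
    (2125, .gen 2920 (35, false)),
    (2992, .gen 2798 (35, true)),
    (2068, .gen 1087 (34, false)),
    (2631, .gen 1385 (34, false)),
    (3560, .gen 2072 (35, true)),
    (2470, .gen 3365 (34, false)),
    (1377, .gen 3774 (34, false)),
    (2637, .gen 1557 (34, true)),
    (210, .gen 1557 (35, false)),
    (1278, .gen 3690 (34, false)),
    (2150, .gen 1555 (35, false)),
    (2686, .gen 2271 (34, false)),
    (3459, .gen 1981 (34, false)),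
    (64, .gen 2149 (34, true)),
    (537, .gen 2380 (34, true)),
    (2260, .gen 1817 (34, true)),
    (25, .gen 370 (34, true)),
    (87, .gen 1272 (35, true)),
    (2579, .gen 1964 (35, false)),
    (1487, .gen 2328 (34, false)),
    (2350, .gen 3335 (35, false)),
    (2521, .gen 3112 (35, true)),
    (283, .gen 1444 (34, false)),
    (3474, .gen 2018 (34, false)),
    (1424, .gen 2134 (35, true)),
    (2405, .gen 643 (34, false)),
    (265, .gen 2789 (34, false)),
    (2960, .gen 437 (34, true)),
    (3291, .gen 437 (35, false)),
    (2391, .gen 1952 (34, false)),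
    (3332, .gen 3015 (35, false)),
    (1500, .gen 1359 (34, false)),
    (2712, .gen 2533 (34, false)),
    (435, .gen 1063 (34, true)),
    (3628, .gen 3012 (34, true)),
    (323, .gen 2504 (34, true)),
    (1799, .gen 734 (34, true)),
    (657, .gen 1911 (35, true)),
    (2207, .gen 630 (35, false)),
    (3026, .gen 3212 (34, false)),
    (1071, .gen 2109 (35, false)),
    (2922, .gen 2301 (35, true)),
    (1552, .gen 372 (34, false)),
    (2963, .gen 1562 (34, false)),
    (904, .gen 484 (35, true)),
    (3351, .gen 1698 (34, false)),
    (3461, .gen 2509 (34, false)),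
    (2415, .gen 1825 (34, true)),
    (228, .gen 1825 (35, false)),
    (3457, .gen 2388 (34, false)),
    (1498, .gen 3518 (35, false)),
    (2736, .gen 2432 (34, false)),
    (582, .gen 1215 (34, false)),
    (2363, .gen 2215 (34, true)),
    (607, .gen 3454 (34, true)),
    (993, .gen 3064 (34, true)),
    (5, .gen 443 (34, true)),
    (3409, .gen 3175 (35, true)),
    (2013, .gen 1904 (35, false)),
    (2035, .gen 3483 (34, false)),
    (768, .gen 2759 (35, false)),
    (3625, .gen 1796 (35, true)),
    (796, .gen 2939 (34, false)),
    (834, .gen 3389 (34, false)),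
    (2187, .gen 2433 (35, true)),
    (1573, .gen 1687 (34, false)),
    (1088, .gen 994 (34, false)),
    (2343, .gen 1456 (34, true)),
    (1327, .gen 1456 (35, false)),
    (3463, .gen 744 (34, false)),
    (1731, .gen 3684 (35, false)),
    (1279, .gen 1915 (34, false)),
    (2312, .gen 2162 (34, false)),
    (1854, .gen 1497 (34, true)),
    (114, .gen 293 (34, true)),
    (650, .gen 2635 (34, true)),
    (3267, .gen 3756 (34, true)),
    (513, .gen 337 (35, true)),
    (562, .gen 3038 (35, false)),
    (3745, .gen 1058 (34, false)),
    (1729, .gen 3098 (35, false)),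
    (2772, .gen 2204 (35, true)),
    (3325, .gen 1836 (34, false)),
    (1971, .gen 1974 (34, false)),
    (360, .gen 1361 (35, true)),
    (876, .gen 326 (34, false)),
    (2104, .gen 561 (34, false)),
    (2548, .gen 1587 (34, true)),
    (1956, .gen 1587 (35, false)),
    (3120, .gen 880 (34, false)),
    (3577, .gen 2792 (35, false)),
    (2577, .gen 1323 (34, false)),
    (844, .gen 2514 (34, false)),
    (3254, .gen 2392 (34, true)),
    (2103, .gen 2375 (34, true)),
    (2945, .gen 2009 (34, true)),
    (382, .gen 425 (34, true)),
    (3499, .gen 3425 (35, true))]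

/-- The visits of node 4. -/
def visits4 : List (ℕ × Src) :=
  v4_0 ++ v4_1 ++ v4_2 ++ v4_3 ++ v4_4 ++ v4_5 ++ v4_6 ++ v4_7 ++ v4_8 ++ v4_9 ++ v4_10 ++ v4_11 ++ v4_12

/-- Visits. -/
def v5_0 : List (ℕ × Src) :=
  [(29, .edge 40 true),
    (992, .edge 44 true),
    (2, .edge 46 false),
    (498, .edge 47 false),
    (334, .edge 48 false),
    (812, .edge 48 true),
    (2797, .edge 49 false),
    (603, .edge 49 true),
    (537, .edge 50 false),
    (723, .edge 50 true),
    (3584, .edge 52 false),
    (3133, .edge 52 true),
    (360, .edge 53 false),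
    (1642, .edge 53 true),
    (238, .edge 54 false),
    (1918, .edge 55 false),
    (2275, .edge 55 true),
    (1740, .edge 56 false),
    (2683, .edge 56 true),
    (149, .edge 57 false),
    (2818, .edge 58 false),
    (2901, .edge 58 true),
    (48, .edge 59 false),
    (272, .edge 60 false),
    (109, .edge 60 true),
    (1965, .edge 61 false),
    (2066, .edge 61 true),
    (138, .edge 62 false),
    (1394, .edge 70 true),
    (9, .edge 103 false),
    (2487, .edge 112 false),
    (2377, .edge 113 true),
    (163, .edge 175 false),
    (2856, .edge 182 true),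
    (1637, .edge 191 true),
    (2308, .edge 212 true),
    (1626, .edge 213 true),
    (94, .edge 240 true),
    (56, .edge 249 false),
    (2241, .edge 304 true),
    (1581, .edge 341 true),
    (3574, .edge 342 true),
    (440, .edge 344 true),
    (749, .edge 380 true),
    (1410, .edge 398 true),
    (996, .edge 408 false),
    (1790, .edge 427 false),
    (423, .edge 466 true),
    (2669, .edge 500 true),
    (1301, .edge 506 true),
    (1214, .edge 509 true),
    (44, .edge 569 true),
    (1705, .edge 573 true),
    (1602, .edge 586 true),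
    (2169, .edge 592 true),
    (891, .edge 603 true),
    (1119, .edge 828 true),
    (734, .edge 1049 true),
    (2617, .edge 1050 true),
    (2914, .edge 1053 true),
    (782, .edge 1054 true),
    (1367, .edge 1055 true),
    (733, .edge 1060 true),
    (382, .edge 1063 true),
    (1120, .edge 1079 true),
    (2287, .edge 1107 true),
    (381, .edge 1128 true),
    (40, .edge 1151 true),
    (19, .edge 1177 true),
    (370, .edge 1188 true),
    (1370, .gen 29 (43, false)),
    (1946, .gen 29 (45, false)),
    (3449, .gen 29 (45, true)),
    (3482, .gen 29 (51, false)),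
    (3623, .gen 29 (51, true)),
    (1641, .gen 992 (42, false)),
    (2894, .gen 992 (45, false)),
    (2611, .gen 992 (45, true)),
    (1260, .gen 992 (51, false)),
    (3367, .gen 992 (51, true)),
    (904, .gen 2 (45, false)),
    (961, .gen 2 (45, true)),
    (2614, .gen 2 (51, false)),
    (2558, .gen 2797 (41, false)),
    (1308, .gen 2797 (42, false)),
    (3048, .gen 2797 (43, false)),
    (80, .gen 2797 (45, false)),
    (2103, .gen 2797 (45, true)),
    (3718, .gen 2797 (51, false)),
    (2596, .gen 2797 (51, true)),
    (640, .gen 603 (43, false)),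
    (2209, .gen 603 (45, false)),
    (3509, .gen 603 (45, true)),
    (828, .gen 603 (51, false)),
    (1898, .gen 603 (51, true)),
    (2868, .gen 537 (41, false)),
    (2429, .gen 537 (42, false)),
    (1724, .gen 537 (42, true)),
    (1701, .gen 537 (43, false)),
    (3445, .gen 537 (45, false)),
    (3390, .gen 537 (45, true)),
    (1560, .gen 537 (51, true)),
    (3248, .gen 723 (41, false)),
    (735, .gen 723 (42, true)),
    (1017, .gen 723 (43, false)),
    (1785, .gen 723 (45, false)),
    (1840, .gen 723 (51, false)),
    (1166, .gen 3584 (42, false)),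
    (1981, .gen 3584 (42, true)),
    (1603, .gen 3584 (43, false)),
    (3461, .gen 3584 (45, false)),
    (3495, .gen 3584 (45, true)),
    (2408, .gen 3584 (51, false)),
    (3422, .gen 3133 (43, false)),
    (1540, .gen 3133 (51, true)),
    (649, .gen 238 (42, false)),
    (3381, .gen 1918 (41, false)),
    (2056, .gen 1918 (42, true)),
    (1656, .gen 1740 (41, false)),
    (3604, .gen 1740 (42, true)),
    (1688, .gen 1740 (45, false)),
    (3560, .gen 1740 (45, true)),
    (2491, .gen 1740 (51, true)),
    (2980, .gen 2683 (45, false)),
    (2146, .gen 2683 (45, true)),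
    (1490, .gen 2683 (51, false)),
    (1236, .gen 2683 (51, true)),
    (910, .gen 149 (41, false)),
    (1110, .gen 149 (42, false)),
    (119, .gen 149 (42, true)),
    (3486, .gen 2818 (41, false)),
    (3612, .gen 2818 (42, true)),
    (3066, .gen 2818 (45, false)),
    (1450, .gen 2818 (45, true)),
    (2824, .gen 2901 (45, false)),
    (3650, .gen 2901 (45, true)),
    (58, .gen 48 (41, false)),
    (315, .gen 48 (42, false)),
    (376, .gen 48 (42, true)),
    (1081, .gen 272 (43, false)),
    (344, .gen 272 (45, false)),
    (276, .gen 1965 (41, false)),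
    (2182, .gen 1965 (42, true)),
    (635, .gen 138 (42, false)),
    (885, .gen 138 (43, false)),
    (398, .gen 138 (45, false)),
    (2594, .gen 138 (45, true)),
    (771, .gen 1394 (42, false)),
    (461, .gen 1394 (45, false)),
    (273, .gen 1394 (45, true)),
    (1955, .gen 1394 (51, false)),
    (1867, .gen 1394 (51, true)),
    (3539, .gen 9 (41, false)),
    (2109, .gen 9 (42, false)),
    (1157, .gen 9 (42, true)),
    (356, .gen 9 (45, false)),
    (234, .gen 9 (45, true)),
    (2125, .gen 9 (51, false)),
    (263, .gen 9 (51, true)),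
    (3076, .gen 2487 (41, false)),
    (3666, .gen 2487 (42, false)),
    (2207, .gen 2487 (42, true)),
    (3371, .gen 2487 (43, false)),
    (454, .gen 2487 (45, false)),
    (2652, .gen 2487 (45, true)),
    (2390, .gen 2487 (51, true)),
    (3714, .gen 2377 (41, false)),
    (2471, .gen 2377 (42, false)),
    (954, .gen 2377 (42, true)),
    (3724, .gen 2377 (43, false)),
    (1302, .gen 2377 (45, false)),
    (1356, .gen 2377 (45, true)),
    (2018, .gen 2377 (51, false)),
    (2737, .gen 163 (41, false)),
    (1024, .gen 163 (42, false)),
    (1112, .gen 163 (42, true)),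
    (700, .gen 163 (43, false)),
    (2632, .gen 163 (45, false)),
    (1064, .gen 163 (45, true)),
    (940, .gen 163 (51, false)),
    (1779, .gen 2856 (41, false)),
    (2098, .gen 2856 (42, false)),
    (1226, .gen 2856 (42, true)),
    (1259, .gen 2856 (43, false)),
    (1270, .gen 2856 (45, true)),
    (2348, .gen 2856 (51, true)),
    (220, .gen 1637 (41, false)),
    (1376, .gen 1637 (42, false)),
    (3223, .gen 1637 (42, true)),
    (636, .gen 1637 (43, false)),
    (1879, .gen 1637 (45, false)),
    (2939, .gen 1637 (45, true)),
    (3222, .gen 1637 (51, false)),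
    (198, .gen 2308 (42, false)),
    (599, .gen 2308 (43, false)),
    (3464, .gen 2308 (45, false)),
    (995, .gen 2308 (45, true)),
    (3762, .gen 2308 (51, false)),
    (826, .gen 2308 (51, true)),
    (144, .gen 1626 (42, false)),
    (175, .gen 1626 (45, false)),
    (1818, .gen 1626 (45, true)),
    (3316, .gen 1626 (51, false)),
    (3294, .gen 1626 (51, true)),
    (2294, .gen 94 (41, false)),
    (650, .gen 94 (42, false)),
    (530, .gen 94 (42, true)),
    (1988, .gen 94 (43, false)),
    (1611, .gen 94 (45, false)),
    (50, .gen 94 (45, true)),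
    (838, .gen 94 (51, false)),
    (1147, .gen 94 (51, true)),
    (1177, .gen 56 (41, false)),
    (1329, .gen 56 (42, false)),
    (780, .gen 56 (42, true)),
    (679, .gen 56 (43, false)),
    (817, .gen 56 (45, false)),
    (359, .gen 56 (51, false)),
    (229, .gen 2241 (41, false)),
    (1860, .gen 2241 (42, false)),
    (872, .gen 2241 (42, true)),
    (765, .gen 2241 (43, false)),
    (1042, .gen 2241 (45, false)),
    (2853, .gen 2241 (45, true)),
    (1706, .gen 2241 (51, false)),
    (848, .gen 2241 (51, true)),
    (3080, .gen 1581 (41, false)),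
    (1389, .gen 1581 (42, false)),
    (799, .gen 1581 (42, true)),
    (1976, .gen 1581 (43, false)),
    (2880, .gen 1581 (45, false)),
    (3086, .gen 1581 (45, true)),
    (1228, .gen 1581 (51, false)),
    (718, .gen 1581 (51, true)),
    (1124, .gen 3574 (41, false)),
    (2667, .gen 3574 (42, false)),
    (569, .gen 3574 (42, true)),
    (2807, .gen 3574 (43, false)),
    (2025, .gen 3574 (45, false)),
    (833, .gen 3574 (45, true)),
    (114, .gen 3574 (51, false)),
    (1523, .gen 3574 (51, true)),
    (2356, .gen 440 (41, false)),
    (2363, .gen 440 (42, false)),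
    (2913, .gen 440 (42, true)),
    (400, .gen 440 (43, false)),
    (3212, .gen 440 (45, false)),
    (1252, .gen 440 (45, true)),
    (2227, .gen 440 (51, false)),
    (1933, .gen 749 (41, false)),
    (178, .gen 749 (42, false)),
    (703, .gen 749 (42, true)),
    (465, .gen 749 (43, false)),
    (760, .gen 749 (45, false)),
    (1712, .gen 749 (45, true)),
    (2863, .gen 749 (51, false)),
    (3458, .gen 749 (51, true)),
    (2032, .gen 1410 (41, false)),
    (2831, .gen 1410 (42, false)),
    (2054, .gen 1410 (42, true)),
    (1336, .gen 1410 (43, false)),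
    (108, .gen 1410 (45, false)),
    (2074, .gen 1410 (45, true)),
    (1305, .gen 1410 (51, false)),
    (2695, .gen 1410 (51, true)),
    (26, .gen 996 (41, false)),
    (3009, .gen 996 (42, false)),
    (190, .gen 996 (42, true)),
    (215, .gen 996 (43, false)),
    (2285, .gen 996 (45, false)),
    (1999, .gen 996 (45, true)),
    (621, .gen 996 (51, false)),
    (2636, .gen 1790 (41, false)),
    (1561, .gen 1790 (42, false)),
    (722, .gen 1790 (42, true)),
    (2259, .gen 1790 (43, false)),
    (3355, .gen 1790 (45, false)),
    (504, .gen 1790 (45, true)),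
    (1138, .gen 1790 (51, false)),
    (1478, .gen 1790 (51, true)),
    (960, .gen 423 (41, false)),
    (1400, .gen 423 (42, false)),
    (882, .gen 423 (42, true)),
    (337, .gen 423 (43, false)),
    (301, .gen 423 (45, false)),
    (712, .gen 423 (45, true)),
    (285, .gen 423 (51, false)),
    (7, .gen 2669 (41, false)),
    (230, .gen 2669 (42, false)),
    (2527, .gen 2669 (42, true)),
    (1031, .gen 2669 (43, false)),
    (1663, .gen 2669 (45, false)),
    (3615, .gen 2669 (45, true)),
    (2274, .gen 2669 (51, false)),
    (2801, .gen 2669 (51, true)),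
    (172, .gen 1301 (41, false)),
    (375, .gen 1301 (42, false)),
    (293, .gen 1301 (42, true)),
    (329, .gen 1301 (45, false)),
    (3779, .gen 1301 (45, true))]

/-- Visits. -/
def v5_1 : List (ℕ × Src) :=
  [(1496, .gen 1301 (51, false)),
    (665, .gen 1301 (51, true)),
    (405, .gen 1214 (41, false)),
    (747, .gen 1214 (42, false)),
    (1358, .gen 1214 (42, true)),
    (1222, .gen 1214 (45, false)),
    (1076, .gen 1214 (45, true)),
    (2374, .gen 1214 (51, false)),
    (864, .gen 1214 (51, true)),
    (3284, .gen 44 (41, false)),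
    (1507, .gen 44 (42, false)),
    (1065, .gen 44 (42, true)),
    (914, .gen 44 (43, false)),
    (844, .gen 44 (45, false)),
    (351, .gen 44 (45, true)),
    (2887, .gen 44 (51, false)),
    (1294, .gen 44 (51, true)),
    (889, .gen 1705 (41, false)),
    (3266, .gen 1705 (42, false)),
    (2858, .gen 1705 (42, true)),
    (415, .gen 1705 (43, false)),
    (3176, .gen 1705 (45, false)),
    (433, .gen 1705 (45, true)),
    (1599, .gen 1705 (51, false)),
    (422, .gen 1705 (51, true)),
    (1937, .gen 1602 (41, false)),
    (2673, .gen 1602 (42, false)),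
    (1632, .gen 1602 (42, true)),
    (347, .gen 1602 (43, false)),
    (3197, .gen 1602 (45, false)),
    (3656, .gen 1602 (45, true)),
    (2690, .gen 1602 (51, false)),
    (2280, .gen 1602 (51, true)),
    (2428, .gen 2169 (41, false)),
    (2422, .gen 2169 (42, false)),
    (1349, .gen 2169 (42, true)),
    (1220, .gen 2169 (43, false)),
    (1432, .gen 2169 (45, false)),
    (1029, .gen 2169 (45, true)),
    (3788, .gen 2169 (51, false)),
    (3686, .gen 2169 (51, true)),
    (1447, .gen 891 (41, false)),
    (3608, .gen 891 (42, false)),
    (3664, .gen 891 (42, true)),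
    (3671, .gen 891 (43, false)),
    (152, .gen 891 (45, false)),
    (3016, .gen 891 (45, true)),
    (1102, .gen 891 (51, false)),
    (2819, .gen 891 (51, true)),
    (117, .gen 1119 (41, false)),
    (694, .gen 1119 (42, false)),
    (863, .gen 1119 (42, true)),
    (1242, .gen 1119 (43, false)),
    (1345, .gen 1119 (45, false)),
    (3274, .gen 1119 (45, true)),
    (3184, .gen 1119 (51, false)),
    (1998, .gen 1119 (51, true)),
    (15, .gen 734 (41, false)),
    (1526, .gen 734 (42, false)),
    (2925, .gen 734 (42, true)),
    (3627, .gen 734 (43, false)),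
    (2494, .gen 734 (45, false)),
    (1747, .gen 734 (45, true)),
    (559, .gen 734 (51, false)),
    (1666, .gen 734 (51, true)),
    (807, .gen 2617 (41, false)),
    (974, .gen 2617 (42, false)),
    (3784, .gen 2617 (42, true)),
    (3068, .gen 2617 (43, false)),
    (2547, .gen 2617 (45, false)),
    (3673, .gen 2617 (45, true)),
    (1821, .gen 2617 (51, false)),
    (2982, .gen 2617 (51, true)),
    (893, .gen 2914 (41, false)),
    (2624, .gen 2914 (42, false)),
    (938, .gen 2914 (42, true)),
    (3575, .gen 2914 (43, false)),
    (1863, .gen 2914 (45, false)),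
    (97, .gen 2914 (45, true)),
    (3218, .gen 2914 (51, false)),
    (1193, .gen 2914 (51, true)),
    (823, .gen 782 (41, false)),
    (2001, .gen 782 (42, false)),
    (53, .gen 782 (42, true)),
    (774, .gen 782 (43, false)),
    (3450, .gen 782 (45, false)),
    (1696, .gen 782 (45, true)),
    (2515, .gen 782 (51, false)),
    (2105, .gen 782 (51, true)),
    (691, .gen 1367 (41, false)),
    (313, .gen 1367 (42, false)),
    (2123, .gen 1367 (42, true)),
    (3056, .gen 1367 (43, false)),
    (325, .gen 1367 (45, false)),
    (1608, .gen 1367 (45, true)),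
    (3155, .gen 1367 (51, false)),
    (2598, .gen 1367 (51, true)),
    (2989, .gen 733 (41, false)),
    (1726, .gen 733 (42, false)),
    (2518, .gen 733 (42, true)),
    (3489, .gen 733 (43, false)),
    (2121, .gen 733 (45, false)),
    (2388, .gen 733 (45, true)),
    (1805, .gen 733 (51, false)),
    (1824, .gen 733 (51, true)),
    (143, .gen 382 (41, false)),
    (2064, .gen 382 (42, false)),
    (278, .gen 382 (42, true)),
    (2584, .gen 382 (43, false)),
    (3322, .gen 382 (45, false)),
    (1255, .gen 382 (45, true)),
    (1368, .gen 382 (51, false)),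
    (3182, .gen 382 (51, true)),
    (1199, .gen 1120 (41, false)),
    (2462, .gen 1120 (42, false)),
    (2709, .gen 1120 (42, true)),
    (2771, .gen 1120 (43, false)),
    (2826, .gen 1120 (45, false)),
    (538, .gen 1120 (45, true)),
    (3313, .gen 1120 (51, false)),
    (1774, .gen 1120 (51, true)),
    (3460, .gen 2287 (41, false)),
    (3412, .gen 2287 (42, false)),
    (2477, .gen 2287 (42, true)),
    (3535, .gen 2287 (43, false)),
    (3105, .gen 2287 (45, false)),
    (2249, .gen 2287 (45, true)),
    (3005, .gen 2287 (51, false)),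
    (3074, .gen 2287 (51, true)),
    (3506, .gen 381 (41, false)),
    (3302, .gen 381 (42, false)),
    (3297, .gen 381 (42, true)),
    (1770, .gen 381 (43, false)),
    (3785, .gen 381 (45, false)),
    (3556, .gen 381 (45, true)),
    (3624, .gen 381 (51, false)),
    (2342, .gen 381 (51, true)),
    (2399, .gen 40 (41, false)),
    (1709, .gen 40 (42, false)),
    (2090, .gen 40 (42, true)),
    (192, .gen 40 (43, false)),
    (3573, .gen 40 (45, false)),
    (1143, .gen 40 (45, true)),
    (3388, .gen 40 (51, false)),
    (246, .gen 40 (51, true)),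
    (1917, .gen 19 (41, false)),
    (413, .gen 19 (42, false)),
    (3737, .gen 19 (42, true)),
    (2659, .gen 19 (43, false)),
    (562, .gen 19 (45, false)),
    (1980, .gen 19 (45, true)),
    (946, .gen 19 (51, false)),
    (3051, .gen 19 (51, true)),
    (2963, .gen 370 (41, false)),
    (2219, .gen 370 (42, false)),
    (970, .gen 370 (42, true)),
    (3204, .gen 370 (43, false)),
    (1564, .gen 370 (45, false)),
    (600, .gen 370 (45, true)),
    (1499, .gen 370 (51, false)),
    (2612, .gen 370 (51, true)),
    (596, .gen 1370 (45, false)),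
    (1829, .gen 1370 (45, true)),
    (3351, .gen 1370 (51, false)),
    (3670, .gen 1370 (51, true)),
    (1684, .gen 1946 (43, false)),
    (2196, .gen 1946 (45, false)),
    (1008, .gen 1946 (51, false)),
    (2119, .gen 1946 (51, true)),
    (0, .gen 3449 (42, false)),
    (1063, .gen 3449 (51, false)),
    (2226, .gen 3449 (51, true)),
    (1604, .gen 3482 (42, false)),
    (3111, .gen 3482 (42, true)),
    (841, .gen 3482 (45, false)),
    (3732, .gen 3482 (45, true)),
    (923, .gen 3482 (51, false)),
    (789, .gen 3623 (45, false)),
    (3350, .gen 3623 (45, true)),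
    (2897, .gen 1641 (45, false)),
    (3465, .gen 1641 (45, true)),
    (688, .gen 1641 (51, false)),
    (2233, .gen 1641 (51, true)),
    (2296, .gen 2894 (43, false)),
    (2013, .gen 2894 (45, false)),
    (1306, .gen 2894 (51, false)),
    (3290, .gen 2894 (51, true)),
    (20, .gen 2611 (42, false)),
    (672, .gen 2611 (43, false)),
    (2155, .gen 2611 (51, false)),
    (1908, .gen 2611 (51, true)),
    (1210, .gen 1260 (42, false)),
    (3400, .gen 1260 (42, true)),
    (1838, .gen 1260 (45, false)),
    (3014, .gen 1260 (45, true)),
    (1995, .gen 1260 (51, false)),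
    (3559, .gen 3367 (45, false)),
    (1078, .gen 3367 (45, true)),
    (8, .gen 904 (45, false)),
    (2946, .gen 904 (51, false)),
    (2260, .gen 961 (51, false)),
    (85, .gen 2614 (42, false)),
    (182, .gen 2558 (43, false)),
    (3160, .gen 2558 (45, false)),
    (3700, .gen 2558 (45, true)),
    (1175, .gen 2558 (51, false)),
    (1497, .gen 2558 (51, true)),
    (2142, .gen 1308 (43, false)),
    (3770, .gen 1308 (45, false)),
    (2821, .gen 1308 (45, true)),
    (3427, .gen 1308 (51, false)),
    (1152, .gen 1308 (51, true)),
    (2244, .gen 3048 (45, false)),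
    (1225, .gen 3048 (45, true)),
    (2400, .gen 3048 (51, false)),
    (2705, .gen 3048 (51, true)),
    (2839, .gen 80 (42, false)),
    (487, .gen 80 (42, true)),
    (2085, .gen 80 (43, false)),
    (1532, .gen 80 (45, false)),
    (1093, .gen 80 (51, false)),
    (3689, .gen 80 (51, true)),
    (151, .gen 2103 (42, false)),
    (3132, .gen 2103 (42, true)),
    (2151, .gen 2103 (43, false)),
    (3563, .gen 2103 (51, false)),
    (890, .gen 2103 (51, true)),
    (2398, .gen 3718 (42, false)),
    (86, .gen 3718 (42, true)),
    (1229, .gen 3718 (45, false)),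
    (3591, .gen 3718 (45, true)),
    (1293, .gen 3718 (51, false)),
    (3736, .gen 2596 (42, false)),
    (3019, .gen 2596 (42, true)),
    (1680, .gen 2596 (45, false)),
    (2059, .gen 2596 (45, true)),
    (887, .gen 640 (45, true)),
    (260, .gen 640 (51, false)),
    (2161, .gen 640 (51, true)),
    (2888, .gen 2209 (42, false)),
    (3062, .gen 2209 (43, false)),
    (542, .gen 2209 (45, false)),
    (3200, .gen 2209 (51, false)),
    (453, .gen 2209 (51, true)),
    (1417, .gen 3509 (42, false)),
    (3011, .gen 3509 (51, false)),
    (1366, .gen 3509 (51, true)),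
    (2519, .gen 828 (42, false)),
    (1491, .gen 828 (42, true)),
    (1741, .gen 828 (45, false)),
    (605, .gen 828 (45, true)),
    (1178, .gen 828 (51, false)),
    (2506, .gen 1898 (42, false)),
    (2034, .gen 1898 (42, true)),
    (1698, .gen 1898 (45, false)),
    (1347, .gen 1898 (45, true)),
    (1525, .gen 2868 (43, false)),
    (581, .gen 2868 (45, true)),
    (2665, .gen 2868 (51, false)),
    (511, .gen 2429 (45, false)),
    (1012, .gen 1724 (43, false)),
    (3240, .gen 1724 (45, false)),
    (3410, .gen 1701 (45, false)),
    (3635, .gen 1701 (45, true)),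
    (1708, .gen 3445 (51, true)),
    (1314, .gen 1560 (45, false)),
    (3193, .gen 3248 (43, false)),
    (2685, .gen 3248 (51, true)),
    (1691, .gen 735 (43, false)),
    (168, .gen 735 (51, false)),
    (1910, .gen 1017 (51, true)),
    (2774, .gen 1785 (51, false)),
    (1718, .gen 1166 (43, false)),
    (389, .gen 1166 (45, false)),
    (2524, .gen 1166 (45, true)),
    (1251, .gen 1166 (51, false)),
    (3617, .gen 1981 (43, false)),
    (3299, .gen 1981 (45, false)),
    (2988, .gen 1981 (45, true)),
    (279, .gen 1981 (51, true)),
    (2115, .gen 1603 (45, false)),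
    (1617, .gen 1603 (45, true)),
    (2717, .gen 1603 (51, true)),
    (505, .gen 3461 (42, false)),
    (3039, .gen 3461 (42, true)),
    (1362, .gen 3461 (43, false)),
    (1406, .gen 3461 (51, true)),
    (2903, .gen 3495 (43, false)),
    (3210, .gen 3495 (51, false)),
    (426, .gen 3422 (51, false)),
    (2321, .gen 1656 (45, false)),
    (3112, .gen 1656 (45, true)),
    (3230, .gen 1656 (51, false)),
    (3241, .gen 3604 (45, false)),
    (3772, .gen 3604 (45, true)),
    (1188, .gen 3604 (51, false)),
    (2083, .gen 3604 (51, true)),
    (2650, .gen 1688 (43, false)),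
    (2478, .gen 1688 (45, false)),
    (3409, .gen 3560 (42, false))]

/-- Visits. -/
def v5_2 : List (ℕ × Src) :=
  [(3413, .gen 3560 (42, true)),
    (2458, .gen 3560 (43, false)),
    (3602, .gen 2491 (42, false)),
    (900, .gen 2491 (42, true)),
    (1337, .gen 2980 (43, false)),
    (3501, .gen 2146 (42, true)),
    (3533, .gen 2146 (51, false)),
    (3180, .gen 1490 (42, false)),
    (1101, .gen 1236 (42, false)),
    (3455, .gen 1236 (42, true)),
    (791, .gen 635 (43, false)),
    (1817, .gen 635 (45, false)),
    (420, .gen 635 (45, true)),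
    (1310, .gen 771 (45, false)),
    (3505, .gen 771 (51, false)),
    (218, .gen 771 (51, true)),
    (470, .gen 461 (45, false)),
    (1915, .gen 461 (51, false)),
    (391, .gen 461 (51, true)),
    (1023, .gen 273 (42, false)),
    (1651, .gen 3539 (45, false)),
    (647, .gen 3539 (45, true)),
    (1073, .gen 3539 (51, false)),
    (265, .gen 3539 (51, true)),
    (1213, .gen 2109 (45, false)),
    (953, .gen 2109 (51, true)),
    (451, .gen 1157 (45, false)),
    (255, .gen 1157 (51, false)),
    (584, .gen 356 (45, false)),
    (194, .gen 356 (51, true)),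
    (547, .gen 234 (43, false)),
    (1814, .gen 234 (51, false)),
    (17, .gen 234 (51, true)),
    (1319, .gen 2125 (42, true)),
    (22, .gen 2125 (45, true)),
    (1412, .gen 2125 (51, false)),
    (153, .gen 263 (45, false)),
    (1043, .gen 263 (45, true)),
    (3279, .gen 3076 (43, false)),
    (2715, .gen 3076 (45, false)),
    (3444, .gen 3076 (45, true)),
    (3397, .gen 3076 (51, false)),
    (2929, .gen 3666 (43, false)),
    (1032, .gen 3666 (45, false)),
    (2861, .gen 3666 (45, true)),
    (1085, .gen 3666 (51, false)),
    (1427, .gen 2207 (43, false)),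
    (594, .gen 2207 (51, true)),
    (3469, .gen 3371 (45, false)),
    (1836, .gen 3371 (45, true)),
    (2523, .gen 3371 (51, false)),
    (1010, .gen 454 (42, false)),
    (3760, .gen 454 (42, true)),
    (1096, .gen 454 (43, false)),
    (1943, .gen 454 (45, false)),
    (3161, .gen 2652 (42, false)),
    (1378, .gen 2652 (42, true)),
    (3728, .gen 2652 (43, false)),
    (2777, .gen 3714 (43, false)),
    (631, .gen 3714 (45, false)),
    (2117, .gen 3714 (45, true)),
    (3793, .gen 3714 (51, true)),
    (3781, .gen 2471 (43, false)),
    (2251, .gen 2471 (45, false)),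
    (2859, .gen 2471 (45, true)),
    (2229, .gen 2471 (51, false)),
    (1653, .gen 954 (43, false)),
    (3702, .gen 954 (45, false)),
    (2576, .gen 954 (45, true)),
    (2075, .gen 954 (51, true)),
    (1290, .gen 3724 (51, true)),
    (797, .gen 1302 (42, false)),
    (2522, .gen 1302 (42, true)),
    (1230, .gen 1302 (43, false)),
    (2637, .gen 1356 (43, false)),
    (3199, .gen 2018 (42, false)),
    (1170, .gen 2018 (42, true)),
    (3749, .gen 2018 (45, false)),
    (1386, .gen 2018 (45, true)),
    (2738, .gen 2737 (43, false)),
    (2153, .gen 2737 (45, false)),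
    (936, .gen 2737 (45, true)),
    (2305, .gen 2737 (51, true)),
    (345, .gen 1024 (43, false)),
    (1967, .gen 1024 (45, true)),
    (2995, .gen 1112 (43, false)),
    (291, .gen 1112 (45, true)),
    (2009, .gen 1779 (43, false)),
    (2029, .gen 1779 (45, true)),
    (556, .gen 1779 (51, false)),
    (2181, .gen 2098 (51, false)),
    (214, .gen 1226 (51, true)),
    (2597, .gen 1259 (45, false)),
    (1634, .gen 1259 (51, false)),
    (1802, .gen 1270 (51, true)),
    (2043, .gen 220 (43, false)),
    (786, .gen 220 (51, false)),
    (1297, .gen 1376 (43, false)),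
    (3255, .gen 1376 (51, false)),
    (1713, .gen 3223 (43, false)),
    (284, .gen 3223 (51, false)),
    (2981, .gen 636 (51, false)),
    (1130, .gen 1879 (42, true)),
    (2101, .gen 198 (43, false)),
    (1, .gen 198 (45, false)),
    (3109, .gen 198 (45, true)),
    (3226, .gen 198 (51, false)),
    (107, .gen 198 (51, true)),
    (998, .gen 599 (45, false)),
    (3592, .gen 599 (45, true)),
    (1941, .gen 3464 (42, false)),
    (2385, .gen 3464 (45, false)),
    (1458, .gen 3464 (51, false)),
    (3089, .gen 3464 (51, true)),
    (778, .gen 995 (51, false)),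
    (78, .gen 995 (51, true)),
    (3705, .gen 3762 (42, false)),
    (663, .gen 3762 (42, true)),
    (3348, .gen 3762 (45, false)),
    (3041, .gen 3762 (45, true)),
    (1295, .gen 826 (45, false)),
    (154, .gen 826 (45, true)),
    (969, .gen 144 (45, false)),
    (2779, .gen 144 (45, true)),
    (3386, .gen 144 (51, false)),
    (3164, .gen 144 (51, true)),
    (1040, .gen 175 (43, false)),
    (3094, .gen 175 (45, false)),
    (3679, .gen 175 (51, false)),
    (3398, .gen 175 (51, true)),
    (1401, .gen 1818 (42, false)),
    (525, .gen 1818 (43, false)),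
    (3314, .gen 1818 (51, false)),
    (3054, .gen 1818 (51, true)),
    (2583, .gen 3316 (42, false)),
    (2164, .gen 3316 (42, true)),
    (37, .gen 3316 (51, false)),
    (2792, .gen 2294 (43, false)),
    (170, .gen 2294 (45, false)),
    (1298, .gen 2294 (45, true)),
    (500, .gen 2294 (51, false)),
    (1080, .gen 2294 (51, true)),
    (1397, .gen 650 (43, false)),
    (2265, .gen 650 (45, false)),
    (2784, .gen 650 (45, true)),
    (2776, .gen 650 (51, false)),
    (3280, .gen 650 (51, true)),
    (1835, .gen 530 (43, false)),
    (892, .gen 530 (45, false)),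
    (197, .gen 530 (45, true)),
    (244, .gen 530 (51, false)),
    (865, .gen 530 (51, true)),
    (3091, .gen 1988 (51, false)),
    (3246, .gen 1988 (51, true)),
    (2726, .gen 1611 (42, false)),
    (1745, .gen 1611 (42, true)),
    (62, .gen 1611 (43, false)),
    (3751, .gen 1611 (51, false)),
    (810, .gen 1611 (51, true)),
    (309, .gen 50 (43, false)),
    (2405, .gen 50 (51, false)),
    (1866, .gen 50 (51, true)),
    (745, .gen 838 (42, false)),
    (251, .gen 838 (42, true)),
    (909, .gen 838 (51, false)),
    (2809, .gen 1147 (42, false)),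
    (2724, .gen 1147 (42, true)),
    (365, .gen 1177 (43, false)),
    (1372, .gen 1177 (45, false)),
    (763, .gen 1177 (51, false)),
    (941, .gen 1329 (43, false)),
    (776, .gen 1329 (51, false)),
    (879, .gen 780 (43, false)),
    (964, .gen 780 (51, false)),
    (625, .gen 679 (51, false)),
    (2199, .gen 817 (42, false)),
    (2642, .gen 229 (43, false)),
    (81, .gen 229 (45, false)),
    (683, .gen 229 (45, true)),
    (2626, .gen 229 (51, false)),
    (1311, .gen 229 (51, true)),
    (2430, .gen 1860 (43, false)),
    (1018, .gen 1860 (51, false)),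
    (1426, .gen 1860 (51, true)),
    (2623, .gen 872 (43, false)),
    (2108, .gen 872 (51, false)),
    (145, .gen 872 (51, true)),
    (835, .gen 765 (51, false)),
    (102, .gen 765 (51, true)),
    (177, .gen 1042 (42, false)),
    (615, .gen 1042 (45, false)),
    (1244, .gen 1042 (51, true)),
    (277, .gen 2853 (42, false)),
    (912, .gen 848 (45, false)),
    (2674, .gen 3080 (43, false)),
    (2621, .gen 3080 (45, false)),
    (3202, .gen 3080 (45, true)),
    (1853, .gen 3080 (51, false)),
    (754, .gen 3080 (51, true)),
    (1834, .gen 1389 (43, false)),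
    (3675, .gen 1389 (45, false)),
    (3379, .gen 1389 (45, true)),
    (2835, .gen 1389 (51, false)),
    (756, .gen 1389 (51, true)),
    (2994, .gen 799 (43, false)),
    (3125, .gen 799 (45, false)),
    (766, .gen 799 (45, true)),
    (842, .gen 799 (51, false)),
    (979, .gen 799 (51, true)),
    (2238, .gen 1976 (45, false)),
    (3304, .gen 1976 (45, true)),
    (2671, .gen 1976 (51, false)),
    (3742, .gen 1976 (51, true)),
    (1505, .gen 2880 (42, false)),
    (2189, .gen 2880 (42, true)),
    (1780, .gen 2880 (43, false)),
    (2122, .gen 2880 (45, false)),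
    (463, .gen 2880 (51, false)),
    (1731, .gen 2880 (51, true)),
    (1418, .gen 3086 (42, false)),
    (2269, .gen 3086 (42, true)),
    (3786, .gen 3086 (43, false)),
    (2375, .gen 3086 (51, false)),
    (202, .gen 3086 (51, true)),
    (1806, .gen 1228 (42, false)),
    (295, .gen 1228 (42, true)),
    (589, .gen 1228 (45, false)),
    (1697, .gen 1228 (45, true)),
    (2015, .gen 1228 (51, false)),
    (1058, .gen 718 (42, false)),
    (2881, .gen 718 (42, true)),
    (2762, .gen 718 (45, false)),
    (2974, .gen 718 (45, true)),
    (3789, .gen 1124 (43, false)),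
    (3323, .gen 1124 (45, false)),
    (3527, .gen 1124 (45, true)),
    (1886, .gen 1124 (51, false)),
    (452, .gen 1124 (51, true)),
    (3363, .gen 2667 (43, false)),
    (793, .gen 2667 (45, false)),
    (567, .gen 2667 (45, true)),
    (2261, .gen 2667 (51, true)),
    (836, .gen 569 (43, false)),
    (645, .gen 569 (45, false)),
    (2857, .gen 569 (45, true)),
    (2625, .gen 569 (51, false)),
    (3587, .gen 2807 (45, false)),
    (2322, .gen 2807 (45, true)),
    (2675, .gen 2807 (51, false)),
    (3658, .gen 2807 (51, true)),
    (751, .gen 2025 (42, false)),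
    (127, .gen 2025 (42, true)),
    (2606, .gen 2025 (43, false)),
    (2007, .gen 2025 (51, false)),
    (2698, .gen 2025 (51, true)),
    (1227, .gen 833 (42, false)),
    (1585, .gen 833 (42, true)),
    (3364, .gen 833 (43, false)),
    (2327, .gen 833 (51, false)),
    (3191, .gen 833 (51, true)),
    (1111, .gen 114 (42, false)),
    (1328, .gen 114 (42, true)),
    (33, .gen 114 (51, false)),
    (1196, .gen 1523 (42, false)),
    (3376, .gen 1523 (42, true)),
    (2383, .gen 1523 (45, false)),
    (1699, .gen 1523 (45, true)),
    (770, .gen 2356 (43, false)),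
    (860, .gen 2356 (45, false)),
    (3414, .gen 2356 (45, true)),
    (3292, .gen 2356 (51, true)),
    (3352, .gen 2363 (43, false)),
    (1055, .gen 2363 (45, false)),
    (3692, .gen 2363 (45, true)),
    (3443, .gen 2363 (51, false)),
    (402, .gen 2363 (51, true)),
    (2135, .gen 2913 (43, false)),
    (1183, .gen 2913 (45, false)),
    (3077, .gen 2913 (45, true)),
    (1351, .gen 2913 (51, false)),
    (3423, .gen 2913 (51, true)),
    (1034, .gen 400 (45, false)),
    (1714, .gen 400 (45, true)),
    (3791, .gen 400 (51, true)),
    (2937, .gen 3212 (42, false)),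
    (169, .gen 3212 (42, true)),
    (393, .gen 3212 (43, false)),
    (1194, .gen 3212 (45, false)),
    (1939, .gen 1252 (42, false)),
    (2917, .gen 1252 (42, true)),
    (2756, .gen 1252 (43, false)),
    (2918, .gen 2227 (42, false)),
    (1793, .gen 2227 (42, true)),
    (1586, .gen 2227 (45, false)),
    (1920, .gen 2227 (45, true)),
    (104, .gen 1933 (43, false)),
    (2932, .gen 1933 (45, false)),
    (534, .gen 1933 (45, true)),
    (3536, .gen 1933 (51, false)),
    (3055, .gen 1933 (51, true))]

/-- Visits. -/
def v5_3 : List (ℕ × Src) :=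
  [(2952, .gen 178 (43, false)),
    (469, .gen 178 (45, false)),
    (1278, .gen 178 (45, true)),
    (2967, .gen 178 (51, false)),
    (633, .gen 178 (51, true)),
    (1041, .gen 703 (43, false)),
    (1639, .gen 703 (45, false)),
    (2830, .gen 703 (45, true)),
    (2112, .gen 703 (51, false)),
    (3104, .gen 703 (51, true)),
    (3347, .gen 465 (45, false)),
    (3138, .gen 465 (45, true)),
    (1953, .gen 465 (51, false)),
    (1355, .gen 465 (51, true)),
    (116, .gen 760 (42, false)),
    (604, .gen 760 (42, true)),
    (837, .gen 760 (43, false)),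
    (3236, .gen 760 (45, false)),
    (3115, .gen 760 (51, false)),
    (1390, .gen 760 (51, true)),
    (1852, .gen 1712 (42, false)),
    (90, .gen 1712 (42, true)),
    (655, .gen 1712 (43, false)),
    (1907, .gen 1712 (51, false)),
    (3453, .gen 1712 (51, true)),
    (2832, .gen 2863 (42, false)),
    (3616, .gen 2863 (42, true)),
    (1307, .gen 2863 (45, false)),
    (3741, .gen 2863 (45, true)),
    (3028, .gen 2863 (51, false)),
    (2806, .gen 3458 (42, false)),
    (3652, .gen 3458 (42, true)),
    (1276, .gen 3458 (45, false)),
    (1182, .gen 3458 (45, true)),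
    (1695, .gen 2032 (43, false)),
    (3614, .gen 2032 (45, false)),
    (3528, .gen 2032 (45, true)),
    (3343, .gen 2032 (51, false)),
    (1787, .gen 2032 (51, true)),
    (1776, .gen 2831 (43, false)),
    (369, .gen 2831 (45, false)),
    (607, .gen 2831 (45, true)),
    (2592, .gen 2831 (51, true)),
    (1404, .gen 2054 (43, false)),
    (475, .gen 2054 (45, false)),
    (1274, .gen 2054 (45, true)),
    (2088, .gen 2054 (51, false)),
    (3478, .gen 1336 (45, false)),
    (1622, .gen 1336 (45, true)),
    (467, .gen 1336 (51, false)),
    (1524, .gen 108 (43, false)),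
    (806, .gen 108 (45, false)),
    (3006, .gen 108 (51, false)),
    (1990, .gen 108 (51, true)),
    (160, .gen 2074 (42, false)),
    (3001, .gen 2074 (42, true)),
    (2288, .gen 2074 (43, false)),
    (2191, .gen 2074 (51, true)),
    (3773, .gen 1305 (42, false)),
    (1844, .gen 1305 (42, true)),
    (2631, .gen 1305 (45, false)),
    (2813, .gen 1305 (45, true)),
    (984, .gen 1305 (51, false)),
    (1469, .gen 2695 (45, false)),
    (368, .gen 26 (43, false)),
    (245, .gen 26 (45, false)),
    (3082, .gen 26 (45, true)),
    (1393, .gen 26 (51, true)),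
    (2647, .gen 3009 (43, false)),
    (2605, .gen 3009 (45, false)),
    (957, .gen 3009 (45, true)),
    (2437, .gen 3009 (51, true)),
    (2441, .gen 190 (43, false)),
    (2924, .gen 190 (45, false)),
    (3106, .gen 190 (45, true)),
    (1057, .gen 190 (51, false)),
    (3610, .gen 215 (45, false)),
    (1914, .gen 215 (45, true)),
    (3549, .gen 215 (51, true)),
    (1568, .gen 2285 (51, true)),
    (2192, .gen 1999 (42, false)),
    (990, .gen 1999 (42, true)),
    (1969, .gen 1999 (51, false)),
    (3473, .gen 621 (42, false)),
    (2904, .gen 621 (42, true)),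
    (1982, .gen 2636 (43, false)),
    (3713, .gen 2636 (45, false)),
    (2436, .gen 2636 (45, true)),
    (1047, .gen 2636 (51, false)),
    (1060, .gen 2636 (51, true)),
    (740, .gen 1561 (43, false)),
    (231, .gen 1561 (45, false)),
    (641, .gen 1561 (45, true)),
    (2217, .gen 1561 (51, false)),
    (985, .gen 1561 (51, true)),
    (132, .gen 722 (43, false)),
    (3356, .gen 722 (45, false)),
    (1472, .gen 722 (45, true)),
    (618, .gen 722 (51, false)),
    (2789, .gen 722 (51, true)),
    (1190, .gen 2259 (45, false)),
    (66, .gen 2259 (45, true)),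
    (2719, .gen 2259 (51, false)),
    (1180, .gen 2259 (51, true)),
    (3722, .gen 3355 (42, false)),
    (916, .gen 3355 (42, true)),
    (1621, .gen 3355 (43, false)),
    (2840, .gen 3355 (45, false)),
    (2271, .gen 3355 (51, false)),
    (1609, .gen 3355 (51, true)),
    (1016, .gen 504 (42, false)),
    (366, .gen 504 (42, true)),
    (3102, .gen 504 (43, false)),
    (2299, .gen 504 (51, false)),
    (2752, .gen 504 (51, true)),
    (1240, .gen 1138 (42, false)),
    (762, .gen 1138 (42, true)),
    (2247, .gen 1138 (45, false)),
    (5, .gen 1138 (45, true)),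
    (1083, .gen 1138 (51, false)),
    (200, .gen 1478 (42, false)),
    (1003, .gen 1478 (42, true)),
    (2449, .gen 1478 (45, false)),
    (1582, .gen 1478 (45, true)),
    (540, .gen 960 (43, false)),
    (1947, .gen 960 (45, false)),
    (1430, .gen 960 (45, true)),
    (808, .gen 960 (51, false)),
    (809, .gen 1400 (43, false)),
    (1186, .gen 1400 (45, false)),
    (2545, .gen 882 (43, false)),
    (881, .gen 882 (45, false)),
    (1823, .gen 7 (43, false)),
    (2546, .gen 7 (45, false)),
    (880, .gen 7 (45, true)),
    (3131, .gen 7 (51, false)),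
    (2733, .gen 7 (51, true)),
    (3545, .gen 230 (43, false)),
    (919, .gen 230 (45, false)),
    (3324, .gen 230 (45, true)),
    (1552, .gen 230 (51, false)),
    (643, .gen 230 (51, true)),
    (929, .gen 2527 (43, false)),
    (371, .gen 2527 (45, false)),
    (1799, .gen 2527 (45, true)),
    (1668, .gen 2527 (51, false)),
    (779, .gen 2527 (51, true)),
    (262, .gen 1031 (45, false)),
    (2111, .gen 1031 (45, true)),
    (3454, .gen 1031 (51, false)),
    (456, .gen 1031 (51, true)),
    (746, .gen 1663 (42, false)),
    (602, .gen 1663 (42, true)),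
    (1173, .gen 1663 (43, false)),
    (975, .gen 1663 (45, false)),
    (3139, .gen 1663 (51, false)),
    (1874, .gen 1663 (51, true)),
    (1363, .gen 3615 (42, false)),
    (1108, .gen 3615 (42, true)),
    (811, .gen 3615 (43, false)),
    (1015, .gen 3615 (51, false)),
    (794, .gen 3615 (51, true)),
    (1944, .gen 2274 (42, false)),
    (850, .gen 2274 (42, true)),
    (2411, .gen 2274 (45, false)),
    (3721, .gen 2274 (45, true)),
    (2557, .gen 2274 (51, false)),
    (2563, .gen 2801 (42, false)),
    (3163, .gen 2801 (42, true)),
    (2517, .gen 2801 (45, false)),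
    (626, .gen 2801 (45, true)),
    (2341, .gen 172 (45, false)),
    (1742, .gen 172 (45, true)),
    (2620, .gen 172 (51, false)),
    (2382, .gen 172 (51, true)),
    (3214, .gen 375 (45, false)),
    (664, .gen 375 (45, true)),
    (2014, .gen 375 (51, false)),
    (2587, .gen 375 (51, true)),
    (2578, .gen 293 (45, false)),
    (3590, .gen 293 (45, true)),
    (2525, .gen 293 (51, false)),
    (2187, .gen 293 (51, true)),
    (622, .gen 329 (43, false)),
    (2507, .gen 329 (45, false)),
    (3557, .gen 329 (51, false)),
    (3499, .gen 329 (51, true)),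
    (2947, .gen 3779 (42, false)),
    (134, .gen 3779 (42, true)),
    (908, .gen 3779 (43, false)),
    (2814, .gen 3779 (51, false)),
    (3691, .gen 3779 (51, true)),
    (1132, .gen 1496 (42, false)),
    (3467, .gen 1496 (42, true)),
    (814, .gen 1496 (51, false)),
    (3090, .gen 665 (42, false)),
    (1861, .gen 665 (42, true)),
    (206, .gen 405 (45, false)),
    (1772, .gen 405 (45, true)),
    (2243, .gen 405 (51, false)),
    (2027, .gen 405 (51, true)),
    (407, .gen 747 (45, false)),
    (2206, .gen 747 (45, true)),
    (3746, .gen 747 (51, false)),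
    (3023, .gen 747 (51, true)),
    (944, .gen 1358 (45, false)),
    (1187, .gen 1358 (45, true)),
    (2197, .gen 1358 (51, false)),
    (2956, .gen 1358 (51, true)),
    (224, .gen 1222 (43, false)),
    (377, .gen 1222 (45, false)),
    (1116, .gen 1222 (51, false)),
    (2997, .gen 1222 (51, true)),
    (71, .gen 1076 (42, false)),
    (1643, .gen 1076 (42, true)),
    (1071, .gen 1076 (43, false)),
    (1013, .gen 1076 (51, false)),
    (514, .gen 1076 (51, true)),
    (627, .gen 2374 (42, false)),
    (1354, .gen 2374 (42, true)),
    (3748, .gen 2374 (45, false)),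
    (1725, .gen 2374 (45, true)),
    (1423, .gen 2374 (51, false)),
    (1070, .gen 864 (42, false)),
    (510, .gen 864 (42, true)),
    (1619, .gen 864 (45, false)),
    (269, .gen 864 (45, true)),
    (3716, .gen 3284 (43, false)),
    (180, .gen 3284 (45, false)),
    (1607, .gen 3284 (45, true)),
    (1575, .gen 3284 (51, false)),
    (1224, .gen 3284 (51, true)),
    (566, .gen 1507 (43, false)),
    (2335, .gen 1507 (45, false)),
    (1662, .gen 1507 (45, true)),
    (1221, .gen 1507 (51, false)),
    (2828, .gen 1507 (51, true)),
    (441, .gen 1065 (43, false)),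
    (2707, .gen 1065 (45, false)),
    (1151, .gen 1065 (45, true)),
    (156, .gen 1065 (51, false)),
    (2467, .gen 1065 (51, true)),
    (3524, .gen 914 (45, false)),
    (2854, .gen 914 (45, true)),
    (51, .gen 914 (51, false)),
    (805, .gen 914 (51, true)),
    (2479, .gen 844 (42, false)),
    (2660, .gen 844 (42, true)),
    (1189, .gen 844 (43, false)),
    (1614, .gen 844 (45, false)),
    (1174, .gen 844 (51, false)),
    (274, .gen 844 (51, true)),
    (697, .gen 351 (42, false)),
    (502, .gen 351 (42, true)),
    (532, .gen 351 (43, false)),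
    (2081, .gen 351 (51, false)),
    (2955, .gen 351 (51, true)),
    (2212, .gen 2887 (42, false)),
    (1184, .gen 2887 (42, true)),
    (595, .gen 2887 (45, false)),
    (331, .gen 2887 (45, true)),
    (1760, .gen 2887 (51, false)),
    (490, .gen 1294 (42, false)),
    (1403, .gen 1294 (42, true)),
    (1090, .gen 1294 (45, false)),
    (2051, .gen 1294 (45, true)),
    (2454, .gen 889 (43, false)),
    (917, .gen 889 (45, false)),
    (978, .gen 889 (45, true)),
    (294, .gen 889 (51, false)),
    (2968, .gen 889 (51, true)),
    (2541, .gen 3266 (43, false)),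
    (2760, .gen 3266 (45, false)),
    (1987, .gen 3266 (45, true)),
    (184, .gen 3266 (51, false)),
    (2055, .gen 3266 (51, true)),
    (804, .gen 2858 (43, false)),
    (2328, .gen 2858 (45, false)),
    (2741, .gen 2858 (45, true)),
    (755, .gen 2858 (51, false)),
    (221, .gen 2858 (51, true)),
    (3158, .gen 415 (45, false)),
    (2589, .gen 415 (45, true)),
    (228, .gen 415 (51, false)),
    (1038, .gen 415 (51, true)),
    (3309, .gen 3176 (42, false)),
    (686, .gen 3176 (42, true)),
    (1544, .gen 3176 (43, false)),
    (1123, .gen 3176 (45, false)),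
    (2152, .gen 3176 (51, false)),
    (951, .gen 3176 (51, true)),
    (166, .gen 433 (42, false)),
    (1463, .gen 433 (42, true)),
    (323, .gen 433 (43, false)),
    (1338, .gen 433 (51, false)),
    (155, .gen 433 (51, true)),
    (894, .gen 1599 (42, false)),
    (2110, .gen 1599 (42, true)),
    (1966, .gen 1599 (45, false)),
    (330, .gen 1599 (45, true))]

/-- Visits. -/
def v5_4 : List (ℕ × Src) :=
  [(1392, .gen 1599 (51, false)),
    (1322, .gen 422 (42, false)),
    (1888, .gen 422 (42, true)),
    (1624, .gen 422 (45, false)),
    (3057, .gen 422 (45, true)),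
    (1536, .gen 1937 (43, false)),
    (3572, .gen 1937 (45, false)),
    (1515, .gen 1937 (45, true)),
    (421, .gen 1937 (51, false)),
    (3703, .gen 1937 (51, true)),
    (620, .gen 2673 (43, false)),
    (2131, .gen 2673 (45, false)),
    (1986, .gen 2673 (45, true)),
    (2295, .gen 2673 (51, true)),
    (3231, .gen 1632 (43, false)),
    (3186, .gen 1632 (45, false)),
    (383, .gen 1632 (45, true)),
    (2141, .gen 1632 (51, false)),
    (1091, .gen 347 (45, false)),
    (767, .gen 347 (45, true)),
    (3758, .gen 347 (51, false)),
    (3366, .gen 347 (51, true)),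
    (2292, .gen 3197 (42, false)),
    (2102, .gen 3197 (42, true)),
    (2194, .gen 3197 (43, false)),
    (3228, .gen 3197 (51, false)),
    (1084, .gen 3197 (51, true)),
    (1648, .gen 3656 (42, false)),
    (579, .gen 3656 (42, true)),
    (927, .gen 3656 (43, false)),
    (1782, .gen 3656 (51, false)),
    (3216, .gen 3656 (51, true)),
    (3792, .gen 2690 (42, false)),
    (299, .gen 2690 (42, true)),
    (1883, .gen 2690 (51, false)),
    (2406, .gen 2280 (42, false)),
    (1616, .gen 2280 (42, true)),
    (2530, .gen 2280 (45, false)),
    (1037, .gen 2280 (45, true)),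
    (1486, .gen 2428 (43, false)),
    (884, .gen 2428 (45, false)),
    (2677, .gen 2428 (45, true)),
    (1881, .gen 2428 (51, false)),
    (3015, .gen 2428 (51, true)),
    (1948, .gen 2422 (43, false)),
    (157, .gen 2422 (45, false)),
    (883, .gen 2422 (45, true)),
    (1737, .gen 2422 (51, true)),
    (619, .gen 1349 (43, false)),
    (129, .gen 1349 (45, false)),
    (147, .gen 1349 (45, true)),
    (1912, .gen 1349 (51, false)),
    (2431, .gen 1220 (45, false)),
    (3166, .gen 1220 (45, true)),
    (1489, .gen 1220 (51, false)),
    (3564, .gen 1220 (51, true)),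
    (3396, .gen 1432 (42, false)),
    (3492, .gen 1432 (42, true)),
    (1669, .gen 1432 (43, false)),
    (738, .gen 1432 (51, false)),
    (2708, .gen 1432 (51, true)),
    (250, .gen 1029 (42, false)),
    (896, .gen 1029 (42, true)),
    (3261, .gen 1029 (43, false)),
    (3747, .gen 1029 (51, false)),
    (2041, .gen 1029 (51, true)),
    (3483, .gen 3788 (42, false)),
    (934, .gen 3788 (42, true)),
    (3034, .gen 3788 (51, false)),
    (3317, .gen 3686 (42, false)),
    (2556, .gen 3686 (42, true)),
    (3457, .gen 3686 (45, false)),
    (2021, .gen 3686 (45, true)),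
    (737, .gen 1447 (43, false)),
    (1019, .gen 1447 (45, false)),
    (1313, .gen 1447 (45, true)),
    (1591, .gen 1447 (51, false)),
    (1087, .gen 1447 (51, true)),
    (1812, .gen 3608 (43, false)),
    (1538, .gen 3608 (45, false)),
    (1674, .gen 3608 (51, false)),
    (1627, .gen 3608 (51, true)),
    (3084, .gen 3664 (43, false)),
    (3523, .gen 3664 (45, false)),
    (1268, .gen 3664 (51, false)),
    (2365, .gen 3664 (51, true)),
    (1100, .gen 3671 (45, true)),
    (3593, .gen 3671 (51, false)),
    (3110, .gen 3671 (51, true)),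
    (2889, .gen 152 (42, false)),
    (13, .gen 152 (42, true)),
    (1794, .gen 152 (45, false)),
    (3497, .gen 152 (51, false)),
    (2959, .gen 3016 (42, false)),
    (2978, .gen 3016 (43, false)),
    (1449, .gen 3016 (51, false)),
    (1237, .gen 3016 (51, true)),
    (16, .gen 1102 (42, true)),
    (1820, .gen 1102 (45, false)),
    (2501, .gen 1102 (45, true)),
    (1901, .gen 1102 (51, false)),
    (335, .gen 2819 (42, true)),
    (2922, .gen 2819 (45, true)),
    (2376, .gen 117 (43, false)),
    (115, .gen 117 (45, false)),
    (3766, .gen 117 (45, true)),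
    (3551, .gen 117 (51, false)),
    (2823, .gen 117 (51, true)),
    (1004, .gen 694 (43, false)),
    (434, .gen 694 (45, false)),
    (3260, .gen 694 (45, true)),
    (2047, .gen 694 (51, false)),
    (3562, .gen 694 (51, true)),
    (858, .gen 863 (43, false)),
    (1610, .gen 863 (45, false)),
    (2270, .gen 863 (45, true)),
    (3440, .gen 863 (51, false)),
    (3645, .gen 863 (51, true)),
    (111, .gen 1242 (45, false)),
    (656, .gen 1242 (45, true)),
    (3256, .gen 1242 (51, false)),
    (3487, .gen 1242 (51, true)),
    (2560, .gen 1345 (42, false)),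
    (2564, .gen 1345 (42, true)),
    (1263, .gen 1345 (43, false)),
    (3626, .gen 1345 (45, false)),
    (1352, .gen 1345 (51, false)),
    (1974, .gen 1345 (51, true)),
    (314, .gen 3274 (42, false)),
    (3201, .gen 3274 (42, true)),
    (419, .gen 3274 (43, false)),
    (529, .gen 3274 (51, false)),
    (3243, .gen 3274 (51, true)),
    (2567, .gen 3184 (42, false)),
    (854, .gen 3184 (42, true)),
    (3552, .gen 3184 (45, false)),
    (764, .gen 3184 (45, true)),
    (2878, .gen 3184 (51, false)),
    (1039, .gen 1998 (42, false)),
    (3220, .gen 1998 (42, true)),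
    (259, .gen 1998 (45, false)),
    (2548, .gen 1998 (45, true)),
    (2895, .gen 15 (43, false)),
    (1803, .gen 15 (45, false)),
    (1845, .gen 15 (45, true)),
    (3780, .gen 15 (51, false)),
    (176, .gen 15 (51, true)),
    (23, .gen 1526 (43, false)),
    (2195, .gen 1526 (45, false)),
    (3764, .gen 1526 (45, true)),
    (2396, .gen 1526 (51, false)),
    (2520, .gen 1526 (51, true)),
    (1208, .gen 2925 (43, false)),
    (911, .gen 2925 (45, false)),
    (2876, .gen 2925 (45, true)),
    (1374, .gen 2925 (51, false)),
    (508, .gen 2925 (51, true)),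
    (1649, .gen 3627 (45, false)),
    (796, .gen 3627 (45, true)),
    (189, .gen 3627 (51, false)),
    (1897, .gen 3627 (51, true)),
    (408, .gen 2494 (42, false)),
    (986, .gen 2494 (42, true)),
    (1361, .gen 2494 (43, false)),
    (346, .gen 2494 (45, false)),
    (1303, .gen 2494 (51, false)),
    (1694, .gen 2494 (51, true)),
    (2044, .gen 1747 (42, false)),
    (1723, .gen 1747 (42, true)),
    (1975, .gen 1747 (43, false)),
    (2320, .gen 1747 (51, false)),
    (3655, .gen 1747 (51, true)),
    (1353, .gen 559 (42, false)),
    (1494, .gen 559 (42, true)),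
    (2298, .gen 559 (45, false)),
    (2003, .gen 559 (45, true)),
    (709, .gen 559 (51, false)),
    (3415, .gen 1666 (42, false)),
    (373, .gen 1666 (42, true)),
    (1847, .gen 1666 (45, false)),
    (2381, .gen 1666 (45, true)),
    (1511, .gen 807 (43, false)),
    (3451, .gen 807 (45, false)),
    (3479, .gen 807 (45, true)),
    (1480, .gen 807 (51, false)),
    (2566, .gen 807 (51, true)),
    (2619, .gen 974 (43, false)),
    (354, .gen 974 (45, false)),
    (2279, .gen 974 (45, true)),
    (1485, .gen 974 (51, false)),
    (819, .gen 974 (51, true)),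
    (174, .gen 3784 (43, false)),
    (1503, .gen 3784 (45, false)),
    (3418, .gen 3784 (45, true)),
    (378, .gen 3784 (51, false)),
    (327, .gen 3784 (51, true)),
    (868, .gen 3068 (45, false)),
    (3203, .gen 3068 (45, true)),
    (1369, .gen 3068 (51, false)),
    (1512, .gen 3068 (51, true)),
    (207, .gen 2547 (42, false)),
    (2442, .gen 2547 (42, true)),
    (87, .gen 2547 (43, false)),
    (857, .gen 2547 (45, false)),
    (2689, .gen 2547 (51, false)),
    (3706, .gen 2547 (51, true)),
    (3087, .gen 3673 (42, false)),
    (2268, .gen 3673 (42, true)),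
    (708, .gen 3673 (43, false)),
    (1719, .gen 3673 (51, false)),
    (1443, .gen 3673 (51, true)),
    (84, .gen 1821 (42, false)),
    (2758, .gen 1821 (42, true)),
    (379, .gen 1821 (45, false)),
    (2208, .gen 1821 (45, true)),
    (1750, .gen 1821 (51, false)),
    (2905, .gen 2982 (42, false)),
    (2364, .gen 2982 (42, true)),
    (3268, .gen 2982 (45, false)),
    (3145, .gen 2982 (45, true)),
    (1165, .gen 893 (43, false)),
    (3685, .gen 893 (45, false)),
    (1459, .gen 893 (45, true)),
    (2873, .gen 893 (51, false)),
    (1086, .gen 893 (51, true)),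
    (1970, .gen 2624 (43, false)),
    (3130, .gen 2624 (45, false)),
    (2403, .gen 2624 (45, true)),
    (2301, .gen 2624 (51, false)),
    (726, .gen 2624 (51, true)),
    (3383, .gen 938 (43, false)),
    (2795, .gen 938 (45, false)),
    (2114, .gen 938 (45, true)),
    (3430, .gen 938 (51, false)),
    (1631, .gen 938 (51, true)),
    (1640, .gen 3575 (45, false)),
    (2420, .gen 3575 (45, true)),
    (2555, .gen 3575 (51, false)),
    (3661, .gen 3575 (51, true)),
    (2533, .gen 1863 (42, false)),
    (1518, .gen 1863 (42, true)),
    (2039, .gen 1863 (43, false)),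
    (3696, .gen 1863 (45, false)),
    (2438, .gen 1863 (51, false)),
    (2950, .gen 1863 (51, true)),
    (164, .gen 97 (42, false)),
    (324, .gen 97 (42, true)),
    (247, .gen 97 (43, false)),
    (3609, .gen 97 (51, false)),
    (980, .gen 97 (51, true)),
    (1462, .gen 3218 (42, false)),
    (2213, .gen 3218 (42, true)),
    (3380, .gen 3218 (45, false)),
    (2373, .gen 3218 (45, true)),
    (125, .gen 3218 (51, false)),
    (1265, .gen 1193 (42, false)),
    (2936, .gen 1193 (42, true)),
    (3776, .gen 1193 (45, false)),
    (3720, .gen 1193 (45, true)),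
    (2061, .gen 823 (43, false)),
    (2498, .gen 823 (45, false)),
    (3406, .gen 823 (45, true)),
    (1932, .gen 823 (51, false)),
    (2495, .gen 823 (51, true)),
    (3103, .gen 2001 (43, false)),
    (1454, .gen 2001 (45, false)),
    (1678, .gen 2001 (45, true)),
    (12, .gen 2001 (51, false)),
    (2466, .gen 2001 (51, true)),
    (2827, .gen 53 (43, false)),
    (727, .gen 53 (45, false)),
    (2574, .gen 53 (45, true)),
    (439, .gen 53 (51, false)),
    (3660, .gen 53 (51, true)),
    (1832, .gen 774 (45, false)),
    (2851, .gen 774 (45, true)),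
    (775, .gen 774 (51, false)),
    (3384, .gen 774 (51, true)),
    (2175, .gen 3450 (42, false)),
    (2409, .gen 3450 (42, true)),
    (3474, .gen 3450 (43, false)),
    (1452, .gen 3450 (45, false)),
    (3120, .gen 3450 (51, false)),
    (2389, .gen 3450 (51, true)),
    (2485, .gen 1696 (42, false)),
    (1371, .gen 1696 (42, true)),
    (1989, .gen 1696 (43, false)),
    (3405, .gen 1696 (51, false)),
    (3698, .gen 1696 (51, true)),
    (731, .gen 2515 (42, false)),
    (1161, .gen 2515 (42, true)),
    (1749, .gen 2515 (45, false)),
    (3521, .gen 2515 (45, true)),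
    (3251, .gen 2515 (51, false)),
    (2446, .gen 2105 (42, false)),
    (3512, .gen 2105 (42, true)),
    (438, .gen 2105 (45, false)),
    (2502, .gen 2105 (45, true)),
    (3538, .gen 691 (43, false)),
    (1893, .gen 691 (45, false))]

/-- Visits. -/
def v5_5 : List (ℕ × Src) :=
  [(280, .gen 691 (45, true)),
    (410, .gen 691 (51, false)),
    (1819, .gen 691 (51, true)),
    (1250, .gen 313 (43, false)),
    (2488, .gen 313 (45, false)),
    (2514, .gen 313 (45, true)),
    (2245, .gen 313 (51, false)),
    (39, .gen 313 (51, true)),
    (3099, .gen 2123 (43, false)),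
    (2615, .gen 2123 (45, false)),
    (1902, .gen 2123 (45, true)),
    (3701, .gen 2123 (51, false)),
    (2759, .gen 2123 (51, true)),
    (1735, .gen 3056 (45, false)),
    (3271, .gen 3056 (45, true)),
    (1428, .gen 3056 (51, false)),
    (460, .gen 3056 (51, true)),
    (1813, .gen 325 (42, false)),
    (3061, .gen 325 (42, true)),
    (1942, .gen 325 (43, false)),
    (2144, .gen 325 (45, false)),
    (1461, .gen 325 (51, false)),
    (2757, .gen 325 (51, true)),
    (3298, .gen 1608 (42, false)),
    (296, .gen 1608 (42, true)),
    (2928, .gen 1608 (43, false)),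
    (2772, .gen 1608 (51, false)),
    (1539, .gen 1608 (51, true)),
    (2850, .gen 3155 (42, false)),
    (3269, .gen 3155 (42, true)),
    (3625, .gen 3155 (45, false)),
    (3272, .gen 3155 (45, true)),
    (1280, .gen 3155 (51, false)),
    (159, .gen 2598 (42, false)),
    (2062, .gen 2598 (42, true)),
    (1589, .gen 2598 (45, false)),
    (750, .gen 2598 (45, true)),
    (3787, .gen 2989 (43, false)),
    (1583, .gen 2989 (45, false)),
    (3567, .gen 2989 (45, true)),
    (2616, .gen 2989 (51, false)),
    (2655, .gen 2989 (51, true)),
    (1615, .gen 1726 (43, false)),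
    (1421, .gen 1726 (45, false)),
    (699, .gen 1726 (45, true)),
    (447, .gen 1726 (51, false)),
    (798, .gen 1726 (51, true)),
    (983, .gen 2518 (43, false)),
    (2255, .gen 2518 (45, false)),
    (1570, .gen 2518 (45, true)),
    (541, .gen 2518 (51, false)),
    (1963, .gen 2518 (51, true)),
    (1254, .gen 3489 (45, false)),
    (1868, .gen 3489 (45, true)),
    (2912, .gen 3489 (51, false)),
    (2139, .gen 3489 (51, true)),
    (4, .gen 2121 (42, false)),
    (1035, .gen 2121 (42, true)),
    (2333, .gen 2121 (43, false)),
    (3687, .gen 2121 (45, false)),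
    (2366, .gen 2121 (51, false)),
    (3310, .gen 2121 (51, true)),
    (1379, .gen 2388 (42, false)),
    (2622, .gen 2388 (42, true)),
    (2688, .gen 2388 (43, false)),
    (1437, .gen 2388 (51, false)),
    (2767, .gen 2388 (51, true)),
    (1685, .gen 1805 (42, false)),
    (2740, .gen 1805 (42, true)),
    (898, .gen 1805 (45, false)),
    (1052, .gen 1805 (45, true)),
    (2459, .gen 1805 (51, false)),
    (937, .gen 1824 (42, false)),
    (3385, .gen 1824 (42, true)),
    (2984, .gen 1824 (45, false)),
    (2499, .gen 1824 (45, true)),
    (591, .gen 143 (43, false)),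
    (1613, .gen 143 (45, false)),
    (2890, .gen 143 (45, true)),
    (994, .gen 143 (51, false)),
    (1807, .gen 143 (51, true)),
    (445, .gen 2064 (43, false)),
    (1757, .gen 2064 (45, false)),
    (1841, .gen 2064 (45, true)),
    (1983, .gen 2064 (51, false)),
    (3159, .gen 2064 (51, true)),
    (1408, .gen 278 (43, false)),
    (1927, .gen 278 (45, false)),
    (2071, .gen 278 (45, true)),
    (404, .gen 278 (51, false)),
    (2082, .gen 278 (51, true)),
    (2703, .gen 2584 (45, false)),
    (1971, .gen 2584 (45, true)),
    (1913, .gen 2584 (51, false)),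
    (2825, .gen 2584 (51, true)),
    (2816, .gen 3322 (42, false)),
    (832, .gen 3322 (42, true)),
    (2910, .gen 3322 (43, false)),
    (1062, .gen 3322 (45, false)),
    (1748, .gen 3322 (51, false)),
    (2537, .gen 3322 (51, true)),
    (75, .gen 1255 (42, false)),
    (1333, .gen 1255 (42, true)),
    (2778, .gen 1255 (43, false)),
    (3073, .gen 1255 (51, false)),
    (3052, .gen 1255 (51, true)),
    (3293, .gen 1368 (42, false)),
    (1387, .gen 1368 (42, true)),
    (1991, .gen 1368 (45, false)),
    (3046, .gen 1368 (45, true)),
    (2455, .gen 1368 (51, false)),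
    (2343, .gen 3182 (42, false)),
    (939, .gen 3182 (42, true)),
    (3026, .gen 3182 (45, false)),
    (3058, .gen 3182 (45, true)),
    (1692, .gen 1199 (43, false)),
    (2193, .gen 1199 (45, false)),
    (2860, .gen 1199 (45, true)),
    (2489, .gen 1199 (51, false)),
    (2511, .gen 1199 (51, true)),
    (536, .gen 2462 (43, false)),
    (3434, .gen 2462 (45, false)),
    (1556, .gen 2462 (45, true)),
    (1453, .gen 2462 (51, false)),
    (2337, .gen 2462 (51, true)),
    (399, .gen 2709 (43, false)),
    (3144, .gen 2709 (45, false)),
    (2097, .gen 2709 (45, true)),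
    (2911, .gen 2709 (51, false)),
    (2424, .gen 2709 (51, true)),
    (2040, .gen 2771 (45, false)),
    (965, .gen 2771 (45, true)),
    (1098, .gen 2771 (51, false)),
    (1934, .gen 2771 (51, true)),
    (3359, .gen 2826 (42, false)),
    (977, .gen 2826 (42, true)),
    (3374, .gen 2826 (43, false)),
    (1309, .gen 2826 (45, false)),
    (646, .gen 2826 (51, false)),
    (1509, .gen 2826 (51, true)),
    (2257, .gen 538 (42, false)),
    (2176, .gen 538 (42, true)),
    (3126, .gen 538 (43, false)),
    (2684, .gen 538 (51, false)),
    (2581, .gen 538 (51, true)),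
    (2474, .gen 3313 (42, false)),
    (2961, .gen 3313 (42, true)),
    (488, .gen 3313 (45, false)),
    (1796, .gen 3313 (45, true)),
    (2202, .gen 3313 (51, false)),
    (2543, .gen 1774 (42, false)),
    (1553, .gen 1774 (42, true)),
    (3477, .gen 1774 (45, false)),
    (2866, .gen 1774 (45, true)),
    (2351, .gen 3460 (43, false)),
    (3743, .gen 3460 (45, false)),
    (831, .gen 3460 (45, true)),
    (1551, .gen 3460 (51, false)),
    (2562, .gen 3460 (51, true)),
    (3335, .gen 3412 (43, false)),
    (1235, .gen 3412 (45, false)),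
    (2531, .gen 3412 (45, true)),
    (1054, .gen 3412 (51, false)),
    (1150, .gen 3412 (51, true)),
    (485, .gen 2477 (43, false)),
    (2656, .gen 2477 (45, false)),
    (2696, .gen 2477 (45, true)),
    (2011, .gen 2477 (51, false)),
    (171, .gen 2477 (51, true)),
    (3778, .gen 3535 (45, false)),
    (2934, .gen 3535 (45, true)),
    (106, .gen 3535 (51, false)),
    (3049, .gen 3535 (51, true)),
    (3596, .gen 3105 (42, false)),
    (3759, .gen 3105 (42, true)),
    (2808, .gen 3105 (43, false)),
    (3709, .gen 3105 (45, false)),
    (1977, .gen 3105 (51, false)),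
    (2330, .gen 3105 (51, true)),
    (1439, .gen 2249 (42, false)),
    (876, .gen 2249 (42, true)),
    (2993, .gen 2249 (43, false)),
    (2909, .gen 2249 (51, false)),
    (2412, .gen 2249 (51, true)),
    (3113, .gen 3005 (42, false)),
    (3275, .gen 3005 (42, true)),
    (478, .gen 3005 (45, false)),
    (1822, .gen 3005 (45, true)),
    (1481, .gen 3005 (51, false)),
    (815, .gen 3074 (42, false)),
    (651, .gen 3074 (42, true)),
    (480, .gen 3074 (45, false)),
    (1445, .gen 3074 (45, true)),
    (2745, .gen 3506 (43, false)),
    (3553, .gen 3506 (45, false)),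
    (3637, .gen 3506 (45, true)),
    (3662, .gen 3506 (51, false)),
    (2416, .gen 3506 (51, true)),
    (2721, .gen 3302 (43, false)),
    (3439, .gen 3302 (45, false)),
    (1854, .gen 3302 (45, true)),
    (2766, .gen 3302 (51, false)),
    (2457, .gen 3302 (51, true)),
    (2451, .gen 3297 (43, false)),
    (3235, .gen 3297 (45, false)),
    (2720, .gen 3297 (45, true)),
    (2214, .gen 3297 (51, false)),
    (2435, .gen 3297 (51, true)),
    (1020, .gen 1770 (45, false)),
    (1470, .gen 1770 (45, true)),
    (256, .gen 1770 (51, false)),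
    (3649, .gen 1770 (51, true)),
    (3452, .gen 3785 (42, false)),
    (2465, .gen 3785 (42, true)),
    (1764, .gen 3785 (43, false)),
    (714, .gen 3785 (45, false)),
    (1176, .gen 3785 (51, false)),
    (60, .gen 3785 (51, true)),
    (3205, .gen 3556 (42, false)),
    (3503, .gen 3556 (42, true)),
    (2713, .gen 3556 (43, false)),
    (2942, .gen 3556 (51, false)),
    (1195, .gen 3556 (51, true)),
    (1855, .gen 3624 (42, false)),
    (2962, .gen 3624 (42, true)),
    (959, .gen 3624 (45, false)),
    (1598, .gen 3624 (45, true)),
    (3672, .gen 3624 (51, false)),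
    (2369, .gen 2342 (42, false)),
    (2452, .gen 2342 (42, true)),
    (2971, .gen 2342 (45, false)),
    (3070, .gen 2342 (45, true)),
    (2902, .gen 2399 (43, false)),
    (1099, .gen 2399 (45, false)),
    (384, .gen 2399 (45, true)),
    (593, .gen 2399 (51, false)),
    (235, .gen 2399 (51, true)),
    (3622, .gen 1709 (43, false)),
    (2425, .gen 1709 (45, false)),
    (2544, .gen 1709 (45, true)),
    (2516, .gen 1709 (51, false)),
    (2148, .gen 1709 (51, true)),
    (512, .gen 2090 (43, false)),
    (1664, .gen 2090 (45, false)),
    (289, .gen 2090 (45, true)),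
    (3752, .gen 2090 (51, false)),
    (2338, .gen 2090 (51, true)),
    (2572, .gen 192 (45, false)),
    (24, .gen 192 (45, true)),
    (582, .gen 192 (51, false)),
    (913, .gen 192 (51, true)),
    (455, .gen 3573 (42, false)),
    (3088, .gen 3573 (42, true)),
    (2526, .gen 3573 (43, false)),
    (2107, .gen 3573 (45, false)),
    (481, .gen 3573 (51, false)),
    (2162, .gen 3573 (51, true)),
    (543, .gen 1143 (42, false)),
    (840, .gen 1143 (42, true)),
    (3393, .gen 1143 (43, false)),
    (2595, .gen 1143 (51, false)),
    (3555, .gen 1143 (51, true)),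
    (3601, .gen 3388 (42, false)),
    (803, .gen 3388 (42, true)),
    (1628, .gen 3388 (45, false)),
    (1597, .gen 3388 (45, true)),
    (1958, .gen 3388 (51, false)),
    (1789, .gen 246 (42, false)),
    (3508, .gen 246 (42, true)),
    (2492, .gen 246 (45, false)),
    (3488, .gen 246 (45, true)),
    (617, .gen 1917 (43, false)),
    (3603, .gen 1917 (45, false)),
    (1077, .gen 1917 (45, true)),
    (306, .gen 1917 (51, false)),
    (3258, .gen 1917 (51, true)),
    (661, .gen 413 (43, false)),
    (305, .gen 413 (45, false)),
    (744, .gen 413 (45, true)),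
    (2350, .gen 413 (51, false)),
    (2877, .gen 413 (51, true)),
    (2975, .gen 3737 (43, false)),
    (1587, .gen 3737 (45, false)),
    (2263, .gen 3737 (45, true)),
    (1207, .gen 3737 (51, false)),
    (3589, .gen 3737 (51, true)),
    (232, .gen 2659 (45, false)),
    (103, .gen 2659 (45, true)),
    (2303, .gen 2659 (51, false)),
    (100, .gen 2659 (51, true)),
    (968, .gen 562 (42, false)),
    (1960, .gen 562 (42, true)),
    (2004, .gen 562 (43, false)),
    (1859, .gen 562 (45, false)),
    (3547, .gen 562 (51, false)),
    (353, .gen 562 (51, true)),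
    (1092, .gen 1980 (42, false)),
    (133, .gen 1980 (42, true)),
    (2842, .gen 1980 (43, false)),
    (1231, .gen 1980 (51, false))]

/-- Visits. -/
def v5_6 : List (ℕ × Src) :=
  [(1007, .gen 1980 (51, true)),
    (777, .gen 946 (42, false)),
    (388, .gen 946 (42, true)),
    (586, .gen 946 (45, false)),
    (1761, .gen 946 (45, true)),
    (1239, .gen 946 (51, false)),
    (1025, .gen 3051 (42, false)),
    (687, .gen 3051 (42, true)),
    (1106, .gen 3051 (45, false)),
    (1826, .gen 3051 (45, true)),
    (142, .gen 2963 (43, false)),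
    (2010, .gen 2963 (45, false)),
    (2140, .gen 2963 (45, true)),
    (3517, .gen 2963 (51, false)),
    (2730, .gen 2963 (51, true)),
    (1994, .gen 2219 (43, false)),
    (2973, .gen 2219 (45, false)),
    (834, .gen 2219 (45, true)),
    (526, .gen 2219 (51, false)),
    (3674, .gen 2219 (51, true)),
    (1327, .gen 970 (43, false)),
    (3530, .gen 970 (45, false)),
    (2312, .gen 970 (45, true)),
    (2078, .gen 970 (51, false)),
    (1896, .gen 970 (51, true)),
    (3368, .gen 3204 (45, false)),
    (3740, .gen 3204 (45, true)),
    (2849, .gen 3204 (51, false)),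
    (1938, .gen 3204 (51, true)),
    (3152, .gen 1564 (42, false)),
    (3771, .gen 1564 (42, true)),
    (800, .gen 1564 (43, false)),
    (210, .gen 1564 (45, false)),
    (1348, .gen 1564 (51, false)),
    (2504, .gen 1564 (51, true)),
    (1557, .gen 600 (42, false)),
    (1342, .gen 600 (42, true)),
    (3321, .gen 600 (43, false)),
    (3195, .gen 600 (51, false)),
    (1530, .gen 600 (51, true)),
    (2234, .gen 1499 (42, false)),
    (2183, .gen 1499 (42, true)),
    (597, .gen 1499 (45, false)),
    (1146, .gen 1499 (45, true)),
    (3504, .gen 1499 (51, false)),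
    (1508, .gen 2612 (42, false)),
    (1134, .gen 2612 (42, true)),
    (1746, .gen 2612 (45, false)),
    (671, .gen 2612 (45, true)),
    (3264, .gen 596 (43, false)),
    (355, .gen 596 (45, false)),
    (962, .gen 1829 (42, false)),
    (3500, .gen 3351 (42, false)),
    (3078, .gen 3351 (42, true)),
    (2648, .gen 3351 (51, false)),
    (570, .gen 1684 (45, false)),
    (1878, .gen 2196 (42, false)),
    (3408, .gen 2897 (43, false)),
    (783, .gen 2897 (45, false)),
    (1968, .gen 688 (42, false)),
    (374, .gen 688 (42, true)),
    (28, .gen 688 (51, false)),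
    (477, .gen 2296 (45, false)),
    (2145, .gen 20 (45, true)),
    (2953, .gen 182 (45, true)),
    (730, .gen 182 (51, false)),
    (364, .gen 182 (51, true)),
    (3429, .gen 3160 (43, false)),
    (2691, .gen 3160 (45, false)),
    (1476, .gen 3160 (51, false)),
    (2641, .gen 3160 (51, true)),
    (689, .gen 3700 (51, false)),
    (2423, .gen 3700 (51, true)),
    (3448, .gen 1175 (45, false)),
    (1728, .gen 1175 (45, true)),
    (2372, .gen 1175 (51, false)),
    (3050, .gen 1497 (45, false)),
    (1873, .gen 1497 (45, true)),
    (3579, .gen 2142 (45, true)),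
    (2658, .gen 2142 (51, false)),
    (1957, .gen 2142 (51, true)),
    (2640, .gen 3770 (43, false)),
    (2607, .gen 3770 (45, false)),
    (2591, .gen 3770 (51, false)),
    (3472, .gen 3770 (51, true)),
    (3150, .gen 2821 (51, false)),
    (3358, .gen 2821 (51, true)),
    (1882, .gen 3427 (45, false)),
    (3003, .gen 3427 (45, true)),
    (2072, .gen 3427 (51, false)),
    (3263, .gen 1152 (45, false)),
    (2036, .gen 1152 (45, true)),
    (2855, .gen 2244 (43, false)),
    (203, .gen 2244 (45, false)),
    (3739, .gen 1225 (42, false)),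
    (1675, .gen 1225 (42, true)),
    (2170, .gen 1225 (43, false)),
    (2370, .gen 2400 (42, false)),
    (899, .gen 2400 (42, true)),
    (1670, .gen 2400 (51, false)),
    (1887, .gen 2705 (42, false)),
    (1846, .gen 2705 (42, true)),
    (2481, .gen 2839 (43, false)),
    (385, .gen 2839 (45, false)),
    (787, .gen 487 (43, false)),
    (492, .gen 487 (45, false)),
    (3162, .gen 2085 (45, false)),
    (981, .gen 1532 (42, false)),
    (3147, .gen 1532 (42, true)),
    (888, .gen 1093 (45, false)),
    (1543, .gen 3689 (45, false)),
    (3595, .gen 151 (45, false)),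
    (795, .gen 151 (45, true)),
    (2661, .gen 3132 (45, false)),
    (3022, .gen 3132 (45, true)),
    (820, .gen 887 (42, false)),
    (853, .gen 260 (42, true)),
    (2016, .gen 2161 (42, true)),
    (3531, .gen 2888 (43, false)),
    (847, .gen 2888 (45, false)),
    (2310, .gen 542 (42, false)),
    (3782, .gen 542 (42, true)),
    (3025, .gen 1417 (45, false)),
    (1815, .gen 1417 (45, true)),
    (1514, .gen 2665 (45, false)),
    (1936, .gen 3240 (51, true)),
    (3407, .gen 1718 (45, true)),
    (2919, .gen 1718 (51, true)),
    (1291, .gen 389 (43, false)),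
    (2070, .gen 389 (45, false)),
    (349, .gen 2321 (43, false)),
    (310, .gen 1310 (51, false)),
    (2240, .gen 1310 (51, true)),
    (1673, .gen 3505 (51, false)),
    (3012, .gen 1651 (45, false)),
    (1061, .gen 1073 (51, false)),
    (2542, .gen 1213 (43, false)),
    (1364, .gen 1213 (51, true)),
    (2005, .gen 953 (42, true)),
    (1315, .gen 953 (45, false)),
    (1382, .gen 2929 (51, true)),
    (2723, .gen 1032 (51, true)),
    (1160, .gen 2861 (51, false)),
    (518, .gen 1427 (51, false)),
    (1272, .gen 2777 (51, false)),
    (2714, .gen 3781 (45, true)),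
    (2538, .gen 2251 (51, true)),
    (2768, .gen 2009 (51, true)),
    (11, .gen 2101 (45, true)),
    (3190, .gen 1 (45, false)),
    (2600, .gen 3226 (42, false)),
    (2943, .gen 3226 (42, true)),
    (3276, .gen 998 (45, false)),
    (3108, .gen 1941 (45, false)),
    (2024, .gen 969 (43, false)),
    (1956, .gen 969 (45, false)),
    (2073, .gen 969 (51, false)),
    (3404, .gen 969 (51, true)),
    (545, .gen 2779 (51, false)),
    (676, .gen 2779 (51, true)),
    (1686, .gen 3386 (42, false)),
    (3021, .gen 3386 (42, true)),
    (1346, .gen 3386 (51, false)),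
    (657, .gen 1040 (45, false)),
    (816, .gen 3094 (42, false)),
    (3156, .gen 2792 (51, false)),
    (3341, .gen 2792 (51, true)),
    (1720, .gen 170 (43, false)),
    (1344, .gen 170 (51, false)),
    (1625, .gen 170 (51, true)),
    (3336, .gen 1298 (43, false)),
    (739, .gen 1298 (51, false)),
    (118, .gen 1298 (51, true)),
    (217, .gen 500 (51, false)),
    (2246, .gen 1397 (45, true)),
    (1495, .gen 2265 (45, false)),
    (3168, .gen 2265 (51, false)),
    (1679, .gen 2265 (51, true)),
    (713, .gen 2784 (51, false)),
    (1683, .gen 2784 (51, true)),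
    (2753, .gen 2776 (51, false)),
    (2927, .gen 1835 (45, true)),
    (3392, .gen 892 (45, false)),
    (1234, .gen 892 (51, false)),
    (1542, .gen 892 (51, true)),
    (431, .gen 197 (51, false)),
    (424, .gen 197 (51, true)),
    (1171, .gen 244 (51, false)),
    (1677, .gen 3091 (51, false)),
    (1243, .gen 81 (45, false)),
    (1891, .gen 81 (51, false)),
    (895, .gen 2626 (45, false)),
    (3346, .gen 1018 (45, false)),
    (248, .gen 2108 (45, true)),
    (304, .gen 2674 (45, false)),
    (93, .gen 2674 (45, true)),
    (2417, .gen 2674 (51, false)),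
    (2711, .gen 2674 (51, true)),
    (1044, .gen 2621 (43, false)),
    (2427, .gen 2621 (45, false)),
    (2725, .gen 2621 (51, false)),
    (1217, .gen 2621 (51, true)),
    (320, .gen 3202 (43, false)),
    (1407, .gen 3202 (51, false)),
    (2874, .gen 3202 (51, true)),
    (3480, .gen 1853 (45, false)),
    (1438, .gen 1853 (45, true)),
    (158, .gen 1853 (51, false)),
    (1334, .gen 754 (45, false)),
    (2331, .gen 754 (45, true)),
    (2552, .gen 1834 (45, true)),
    (319, .gen 1834 (51, false)),
    (2120, .gen 1834 (51, true)),
    (1129, .gen 3675 (43, false)),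
    (2304, .gen 3675 (45, false)),
    (1415, .gen 3675 (51, false)),
    (1122, .gen 3675 (51, true)),
    (560, .gen 3379 (51, false)),
    (1519, .gen 3379 (51, true)),
    (3419, .gen 2835 (42, false)),
    (1800, .gen 2835 (42, true)),
    (65, .gen 2835 (45, false)),
    (2923, .gen 2835 (45, true)),
    (2444, .gen 2835 (51, false)),
    (2503, .gen 756 (42, false)),
    (3177, .gen 756 (42, true)),
    (409, .gen 756 (45, false)),
    (1436, .gen 756 (45, true)),
    (1732, .gen 2994 (45, true)),
    (1751, .gen 2994 (51, false)),
    (361, .gen 2994 (51, true)),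
    (2844, .gen 3125 (43, false)),
    (2184, .gen 3125 (45, false)),
    (2769, .gen 3125 (51, false)),
    (1630, .gen 3125 (51, true)),
    (3629, .gen 766 (51, false)),
    (2063, .gen 766 (51, true)),
    (3247, .gen 842 (45, false)),
    (3239, .gen 842 (45, true)),
    (1964, .gen 842 (51, false)),
    (2165, .gen 979 (45, false)),
    (1094, .gen 979 (45, true)),
    (720, .gen 2238 (43, false)),
    (3069, .gen 2238 (45, false)),
    (1693, .gen 3304 (42, false)),
    (3684, .gen 3304 (42, true)),
    (131, .gen 3304 (43, false)),
    (432, .gen 2671 (42, false)),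
    (2829, .gen 2671 (42, true)),
    (1767, .gen 2671 (51, false)),
    (2679, .gen 3742 (42, false)),
    (3630, .gen 3742 (42, true)),
    (1702, .gen 1505 (43, false)),
    (3179, .gen 1505 (45, false)),
    (193, .gen 2189 (43, false)),
    (3621, .gen 2189 (45, false)),
    (2682, .gen 1780 (45, false)),
    (1233, .gen 2122 (42, false)),
    (3369, .gen 2122 (42, true)),
    (3588, .gen 463 (45, false)),
    (2879, .gen 1731 (45, false)),
    (2580, .gen 1418 (45, false)),
    (2418, .gen 1418 (45, true)),
    (628, .gen 2269 (45, false)),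
    (67, .gen 2269 (45, true)),
    (724, .gen 3789 (51, false)),
    (96, .gen 3789 (51, true)),
    (3511, .gen 1886 (45, false)),
    (2865, .gen 1886 (45, true)),
    (1864, .gen 1886 (51, false)),
    (2653, .gen 3363 (45, true)),
    (515, .gen 3363 (51, false)),
    (2080, .gen 793 (43, false)),
    (2232, .gen 2261 (45, false)),
    (1317, .gen 2261 (45, true)),
    (3151, .gen 836 (45, true)),
    (1312, .gen 836 (51, true)),
    (2323, .gen 645 (43, false)),
    (428, .gen 2625 (45, false)),
    (1730, .gen 2625 (45, true)),
    (3636, .gen 2675 (42, false)),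
    (3570, .gen 2675 (42, true)),
    (3225, .gen 2675 (51, false)),
    (397, .gen 3658 (42, false)),
    (1350, .gen 3658 (42, true)),
    (74, .gen 2007 (45, false)),
    (1801, .gen 770 (45, false)),
    (1409, .gen 770 (45, true)),
    (2649, .gen 770 (51, false)),
    (1571, .gen 860 (43, false)),
    (1758, .gen 860 (45, false)),
    (2798, .gen 3414 (43, false)),
    (3514, .gen 3292 (45, false)),
    (2985, .gen 3292 (45, true)),
    (3233, .gen 3352 (45, true)),
    (1629, .gen 3352 (51, false)),
    (3127, .gen 3352 (51, true)),
    (1850, .gen 1055 (43, false)),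
    (2820, .gen 1055 (51, true)),
    (2163, .gen 3692 (51, true))]

/-- Visits. -/
def v5_7 : List (ℕ × Src) :=
  [(2716, .gen 3443 (42, false)),
    (1890, .gen 3443 (42, true)),
    (942, .gen 402 (45, false)),
    (1340, .gen 402 (45, true)),
    (2540, .gen 2135 (51, false)),
    (1900, .gen 2135 (51, true)),
    (976, .gen 1351 (45, false)),
    (3594, .gen 1351 (45, true)),
    (2568, .gen 1034 (45, false)),
    (1051, .gen 3791 (42, false)),
    (1000, .gen 3791 (42, true)),
    (2361, .gen 393 (45, false)),
    (1477, .gen 104 (45, false)),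
    (1483, .gen 104 (45, true)),
    (3340, .gen 104 (51, false)),
    (3669, .gen 104 (51, true)),
    (1172, .gen 2932 (43, false)),
    (1271, .gen 2932 (45, false)),
    (2666, .gen 2932 (51, false)),
    (3399, .gen 2932 (51, true)),
    (223, .gen 534 (43, false)),
    (2986, .gen 534 (51, false)),
    (2513, .gen 534 (51, true)),
    (2601, .gen 3536 (45, false)),
    (3690, .gen 3536 (45, true)),
    (3425, .gen 3536 (51, false)),
    (2222, .gen 3055 (45, false)),
    (781, .gen 3055 (45, true)),
    (1413, .gen 2952 (45, true)),
    (1212, .gen 2952 (51, false)),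
    (2837, .gen 2952 (51, true)),
    (612, .gen 469 (43, false)),
    (3219, .gen 469 (45, false)),
    (3146, .gen 469 (51, false)),
    (2852, .gen 469 (51, true)),
    (2484, .gen 1278 (51, false)),
    (987, .gen 1278 (51, true)),
    (3731, .gen 2967 (42, false)),
    (2582, .gen 2967 (42, true)),
    (3540, .gen 2967 (45, false)),
    (972, .gen 2967 (45, true)),
    (1636, .gen 2967 (51, false)),
    (2862, .gen 633 (42, false)),
    (339, .gen 633 (42, true)),
    (801, .gen 633 (45, false)),
    (1114, .gen 633 (45, true)),
    (283, .gen 1041 (45, true)),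
    (2550, .gen 1041 (51, false)),
    (3135, .gen 1041 (51, true)),
    (1383, .gen 1639 (43, false)),
    (1281, .gen 1639 (45, false)),
    (3763, .gen 1639 (51, false)),
    (3029, .gen 1639 (51, true)),
    (2185, .gen 2830 (51, false)),
    (2803, .gen 2830 (51, true)),
    (2480, .gen 2112 (45, false)),
    (42, .gen 2112 (45, true)),
    (476, .gen 2112 (51, false)),
    (958, .gen 3104 (45, false)),
    (2847, .gen 3104 (45, true)),
    (1710, .gen 3347 (43, false)),
    (971, .gen 3347 (45, false)),
    (1768, .gen 3138 (42, false)),
    (1773, .gen 3138 (42, true)),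
    (113, .gen 3138 (43, false)),
    (2629, .gen 1953 (42, false)),
    (1433, .gen 1953 (42, true)),
    (3391, .gen 1953 (51, false)),
    (3438, .gen 1355 (42, false)),
    (2700, .gen 1355 (42, true)),
    (1005, .gen 116 (43, false)),
    (1763, .gen 116 (45, false)),
    (2387, .gen 604 (43, false)),
    (1676, .gen 604 (45, false)),
    (3516, .gen 837 (45, false)),
    (2706, .gen 3236 (42, false)),
    (3417, .gen 3236 (42, true)),
    (1833, .gen 3115 (45, false)),
    (2613, .gen 1390 (45, false)),
    (2800, .gen 1852 (45, false)),
    (3308, .gen 1852 (45, true)),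
    (3101, .gen 90 (45, false)),
    (2094, .gen 90 (45, true)),
    (411, .gen 1695 (45, false)),
    (328, .gen 1695 (45, true)),
    (3571, .gen 1695 (51, true)),
    (1482, .gen 3614 (43, false)),
    (3447, .gen 3614 (45, false)),
    (878, .gen 3614 (51, false)),
    (1266, .gen 3614 (51, true)),
    (1909, .gen 3528 (43, false)),
    (2908, .gen 3528 (51, false)),
    (2069, .gen 3343 (45, false)),
    (2534, .gen 3343 (51, false)),
    (684, .gen 1787 (45, false)),
    (2198, .gen 1787 (45, true)),
    (1769, .gen 1776 (45, true)),
    (3729, .gen 369 (51, true)),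
    (2900, .gen 607 (51, false)),
    (1215, .gen 607 (51, true)),
    (2645, .gen 2592 (42, true)),
    (1377, .gen 2592 (45, true)),
    (448, .gen 475 (51, false)),
    (2743, .gen 1274 (51, false)),
    (211, .gen 1274 (51, true)),
    (3036, .gen 2088 (45, true)),
    (2224, .gen 1622 (42, false)),
    (1577, .gen 1622 (42, true)),
    (3395, .gen 368 (51, false)),
    (1572, .gen 2605 (43, false)),
    (99, .gen 2437 (45, true)),
    (2216, .gen 1982 (45, false)),
    (1435, .gen 1982 (45, true)),
    (3085, .gen 1982 (51, false)),
    (32, .gen 1982 (51, true)),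
    (2201, .gen 3713 (43, false)),
    (3490, .gen 3713 (45, false)),
    (2788, .gen 3713 (51, false)),
    (2898, .gen 3713 (51, true)),
    (3318, .gen 2436 (43, false)),
    (955, .gen 2436 (51, false)),
    (1009, .gen 2436 (51, true)),
    (3093, .gen 1047 (45, false)),
    (2663, .gen 1047 (45, true)),
    (1926, .gen 1047 (51, false)),
    (729, .gen 1060 (45, false)),
    (430, .gen 1060 (45, true)),
    (3116, .gen 740 (45, true)),
    (2283, .gen 740 (51, false)),
    (3765, .gen 740 (51, true)),
    (2535, .gen 231 (43, false)),
    (1795, .gen 231 (45, false)),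
    (2272, .gen 231 (51, false)),
    (3287, .gen 231 (51, true)),
    (3723, .gen 641 (51, false)),
    (54, .gen 641 (51, true)),
    (2315, .gen 2217 (42, false)),
    (1921, .gen 2217 (42, true)),
    (1167, .gen 2217 (45, false)),
    (952, .gen 2217 (45, true)),
    (406, .gen 2217 (51, false)),
    (2147, .gen 985 (42, false)),
    (2371, .gen 985 (42, true)),
    (642, .gen 985 (45, false)),
    (3550, .gen 985 (45, true)),
    (1465, .gen 132 (45, true)),
    (1056, .gen 132 (51, false)),
    (1565, .gen 132 (51, true)),
    (2680, .gen 3356 (43, false)),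
    (568, .gen 3356 (45, false)),
    (1425, .gen 3356 (51, false)),
    (1633, .gen 3356 (51, true)),
    (1021, .gen 1472 (51, false)),
    (69, .gen 1472 (51, true)),
    (3254, .gen 618 (45, false)),
    (1546, .gen 618 (45, true)),
    (82, .gen 618 (51, false)),
    (552, .gen 2789 (45, false)),
    (226, .gen 2789 (45, true)),
    (1638, .gen 1190 (43, false)),
    (3283, .gen 1190 (45, false)),
    (442, .gen 66 (42, false)),
    (1299, .gen 66 (42, true)),
    (1475, .gen 66 (43, false)),
    (950, .gen 2719 (42, false)),
    (1871, .gen 2719 (42, true)),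
    (1899, .gen 2719 (51, false)),
    (3338, .gen 1180 (42, false)),
    (2532, .gen 1180 (42, true)),
    (3337, .gen 3722 (43, false)),
    (3426, .gen 3722 (45, false)),
    (2701, .gen 916 (43, false)),
    (696, .gen 916 (45, false)),
    (1919, .gen 1621 (45, false)),
    (830, .gen 2840 (42, false)),
    (2549, .gen 2840 (42, true)),
    (3296, .gen 2271 (45, false)),
    (1940, .gen 1609 (45, false)),
    (64, .gen 1016 (45, false)),
    (513, .gen 1016 (45, true)),
    (897, .gen 366 (45, false)),
    (2791, .gen 366 (45, true)),
    (2872, .gen 1823 (45, false)),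
    (1487, .gen 1823 (45, true)),
    (1671, .gen 1823 (51, false)),
    (1925, .gen 1823 (51, true)),
    (653, .gen 2546 (43, false)),
    (2916, .gen 2546 (45, false)),
    (2734, .gen 2546 (51, false)),
    (2472, .gen 2546 (51, true)),
    (2948, .gen 880 (43, false)),
    (2362, .gen 880 (51, false)),
    (1856, .gen 880 (51, true)),
    (2473, .gen 3131 (45, false)),
    (3332, .gen 3131 (45, true)),
    (2678, .gen 3131 (51, false)),
    (3018, .gen 2733 (45, false)),
    (2049, .gen 2733 (45, true)),
    (2239, .gen 3545 (45, true)),
    (2750, .gen 3545 (51, false)),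
    (1580, .gen 3545 (51, true)),
    (2603, .gen 919 (43, false)),
    (3777, .gen 919 (45, false)),
    (1884, .gen 919 (51, false)),
    (2977, .gen 919 (51, true)),
    (292, .gen 3324 (51, false)),
    (2203, .gen 3324 (51, true)),
    (638, .gen 1552 (42, false)),
    (2344, .gen 1552 (42, true)),
    (1135, .gen 1552 (45, false)),
    (736, .gen 1552 (45, true)),
    (91, .gen 1552 (51, false)),
    (2042, .gen 643 (42, false)),
    (2476, .gen 643 (42, true)),
    (3378, .gen 643 (45, false)),
    (3581, .gen 643 (45, true)),
    (652, .gen 929 (45, true)),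
    (2608, .gen 929 (51, false)),
    (2149, .gen 929 (51, true)),
    (2883, .gen 371 (43, false)),
    (2168, .gen 371 (45, false)),
    (2089, .gen 371 (51, false)),
    (3071, .gen 371 (51, true)),
    (46, .gen 1799 (51, false)),
    (553, .gen 1799 (51, true)),
    (2553, .gen 1668 (45, false)),
    (462, .gen 1668 (45, true)),
    (484, .gen 1668 (51, false)),
    (136, .gen 779 (45, false)),
    (1775, .gen 779 (45, true)),
    (1341, .gen 262 (43, false)),
    (2277, .gen 262 (45, false)),
    (2841, .gen 2111 (42, false)),
    (1798, .gen 2111 (42, true)),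
    (2843, .gen 2111 (43, false)),
    (829, .gen 3454 (42, false)),
    (312, .gen 3454 (42, true)),
    (573, .gen 3454 (51, false)),
    (1326, .gen 456 (42, false)),
    (3013, .gen 456 (42, true)),
    (501, .gen 746 (43, false)),
    (1738, .gen 746 (45, false)),
    (539, .gen 602 (43, false)),
    (3288, .gen 602 (45, false)),
    (1667, .gen 1173 (45, false)),
    (2633, .gen 975 (42, false)),
    (3031, .gen 975 (42, true)),
    (1880, .gen 3139 (45, false)),
    (2077, .gen 1874 (45, false)),
    (1247, .gen 1363 (45, false)),
    (2836, .gen 1363 (45, true)),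
    (3198, .gen 1108 (45, false)),
    (706, .gen 1108 (45, true)),
    (2727, .gen 2341 (43, false)),
    (1851, .gen 2341 (45, false)),
    (362, .gen 2341 (51, false)),
    (3496, .gen 2341 (51, true)),
    (1555, .gen 1742 (43, false)),
    (3221, .gen 1742 (51, false)),
    (2134, .gen 1742 (51, true)),
    (1022, .gen 2620 (51, false)),
    (1241, .gen 3214 (43, false)),
    (271, .gen 3214 (45, false)),
    (1681, .gen 3214 (51, false)),
    (1848, .gen 3214 (51, true)),
    (1605, .gen 664 (51, false)),
    (3079, .gen 664 (51, true)),
    (517, .gen 2014 (42, false)),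
    (486, .gen 2014 (42, true)),
    (1576, .gen 2014 (51, false)),
    (1261, .gen 2587 (42, false)),
    (2805, .gen 2587 (42, true)),
    (2785, .gen 2578 (43, false)),
    (341, .gen 2578 (45, false)),
    (644, .gen 2578 (51, false)),
    (2453, .gen 2578 (51, true)),
    (1658, .gen 3590 (51, false)),
    (1839, .gen 3590 (51, true)),
    (219, .gen 2525 (51, false)),
    (1464, .gen 622 (45, false)),
    (222, .gen 2507 (42, false)),
    (2579, .gen 2507 (42, true)),
    (3178, .gen 206 (43, false)),
    (89, .gen 206 (45, false)),
    (991, .gen 1772 (43, false)),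
    (1113, .gen 2243 (51, false)),
    (1144, .gen 407 (43, false)),
    (55, .gen 407 (45, false)),
    (3416, .gen 407 (51, false)),
    (1388, .gen 407 (51, true)),
    (3232, .gen 2206 (51, false)),
    (493, .gen 2206 (51, true)),
    (298, .gen 3746 (42, false)),
    (1391, .gen 3746 (42, true)),
    (2639, .gen 3746 (45, false)),
    (395, .gen 3746 (45, true)),
    (862, .gen 3746 (51, false)),
    (1647, .gen 3023 (42, false)),
    (2468, .gen 3023 (42, true)),
    (418, .gen 3023 (45, false))]

/-- Visits. -/
def v5_8 : List (ℕ × Src) :=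
  [(2317, .gen 3023 (45, true)),
    (496, .gen 944 (43, false)),
    (2670, .gen 944 (45, false)),
    (2264, .gen 2197 (51, false)),
    (120, .gen 224 (45, false)),
    (1164, .gen 377 (42, false)),
    (524, .gen 377 (42, true)),
    (2783, .gen 3716 (45, false)),
    (1277, .gen 3716 (45, true)),
    (161, .gen 3716 (51, false)),
    (2223, .gen 3716 (51, true)),
    (499, .gen 180 (43, false)),
    (963, .gen 180 (45, false)),
    (2439, .gen 180 (51, false)),
    (574, .gen 180 (51, true)),
    (140, .gen 1607 (43, false)),
    (43, .gen 1607 (51, false)),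
    (3607, .gen 1607 (51, true)),
    (18, .gen 1575 (45, false)),
    (3365, .gen 1575 (45, true)),
    (3578, .gen 1575 (51, false)),
    (548, .gen 1224 (45, false)),
    (1707, .gen 1224 (45, true)),
    (1264, .gen 566 (45, true)),
    (1510, .gen 566 (51, false)),
    (2933, .gen 566 (51, true)),
    (3566, .gen 2335 (43, false)),
    (558, .gen 2335 (45, false)),
    (2367, .gen 2335 (51, false)),
    (3370, .gen 2335 (51, true)),
    (3569, .gen 1662 (51, false)),
    (1158, .gen 1662 (51, true)),
    (2031, .gen 1221 (42, false)),
    (1811, .gen 1221 (42, true)),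
    (2311, .gen 1221 (45, false)),
    (1467, .gen 1221 (45, true)),
    (580, .gen 1221 (51, false)),
    (2521, .gen 2828 (42, false)),
    (3403, .gen 2828 (42, true)),
    (2570, .gen 2828 (45, false)),
    (288, .gen 2828 (45, true)),
    (1103, .gen 441 (45, true)),
    (728, .gen 441 (51, false)),
    (2380, .gen 441 (51, true)),
    (1033, .gen 2707 (43, false)),
    (2150, .gen 2707 (45, false)),
    (3678, .gen 2707 (51, false)),
    (507, .gen 2707 (51, true)),
    (741, .gen 1151 (51, false)),
    (590, .gen 1151 (51, true)),
    (2882, .gen 156 (45, false)),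
    (3227, .gen 156 (45, true)),
    (1906, .gen 156 (51, false)),
    (3515, .gen 2467 (45, false)),
    (943, .gen 2467 (45, true)),
    (3725, .gen 3524 (43, false)),
    (1601, .gen 3524 (45, false)),
    (2781, .gen 2854 (42, false)),
    (76, .gen 2854 (42, true)),
    (1842, .gen 2854 (43, false)),
    (2325, .gen 51 (42, false)),
    (1121, .gen 51 (42, true)),
    (1743, .gen 51 (51, false)),
    (1574, .gen 805 (42, false)),
    (2126, .gen 805 (42, true)),
    (2749, .gen 2479 (43, false)),
    (2964, .gen 2479 (45, false)),
    (3653, .gen 2660 (43, false)),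
    (2378, .gen 2660 (45, false)),
    (3644, .gen 1189 (45, false)),
    (88, .gen 1614 (42, false)),
    (654, .gen 1614 (42, true)),
    (57, .gen 1174 (45, false)),
    (3726, .gen 274 (45, false)),
    (1381, .gen 697 (45, false)),
    (195, .gen 697 (45, true)),
    (659, .gen 502 (45, false)),
    (308, .gen 502 (45, true)),
    (1141, .gen 2454 (45, false)),
    (1559, .gen 2454 (45, true)),
    (2129, .gen 2454 (51, false)),
    (1117, .gen 2454 (51, true)),
    (167, .gen 917 (43, false)),
    (1089, .gen 917 (45, false)),
    (851, .gen 917 (51, false)),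
    (2793, .gen 917 (51, true)),
    (482, .gen 978 (43, false)),
    (1809, .gen 978 (51, false)),
    (874, .gen 978 (51, true)),
    (3171, .gen 294 (45, false)),
    (2052, .gen 294 (45, true)),
    (3719, .gen 294 (51, false)),
    (396, .gen 2968 (45, false)),
    (2402, .gen 2968 (45, true)),
    (3585, .gen 2541 (45, true)),
    (2421, .gen 2541 (51, false)),
    (1411, .gen 2541 (51, true)),
    (2210, .gen 2760 (43, false)),
    (92, .gen 2760 (45, false)),
    (1115, .gen 2760 (51, false)),
    (1137, .gen 2760 (51, true)),
    (1420, .gen 1987 (51, false)),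
    (1014, .gen 1987 (51, true)),
    (1804, .gen 184 (42, false)),
    (2297, .gen 184 (42, true)),
    (3306, .gen 184 (45, false)),
    (1755, .gen 184 (45, true)),
    (1784, .gen 184 (51, false)),
    (1002, .gen 2055 (42, false)),
    (1700, .gen 2055 (42, true)),
    (1140, .gen 2055 (45, false)),
    (3382, .gen 2055 (45, true)),
    (2096, .gen 804 (45, true)),
    (920, .gen 804 (51, false)),
    (3211, .gen 804 (51, true)),
    (1162, .gen 2328 (43, false)),
    (3543, .gen 2328 (45, false)),
    (3665, .gen 2328 (51, false)),
    (77, .gen 2328 (51, true)),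
    (3047, .gen 2741 (51, false)),
    (2017, .gen 2741 (51, true)),
    (208, .gen 755 (45, false)),
    (1781, .gen 755 (45, true)),
    (3643, .gen 755 (51, false)),
    (690, .gen 221 (45, false)),
    (658, .gen 221 (45, true)),
    (757, .gen 3158 (43, false)),
    (2211, .gen 3158 (45, false)),
    (3196, .gen 2589 (42, false)),
    (725, .gen 2589 (42, true)),
    (1011, .gen 2589 (43, false)),
    (2646, .gen 228 (42, false)),
    (1434, .gen 228 (42, true)),
    (2761, .gen 228 (51, false)),
    (101, .gen 1038 (42, false)),
    (1006, .gen 1038 (42, true)),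
    (2983, .gen 3309 (43, false)),
    (1865, .gen 3309 (45, false)),
    (1201, .gen 686 (43, false)),
    (1567, .gen 686 (45, false)),
    (2799, .gen 1544 (45, false)),
    (3173, .gen 1123 (42, false)),
    (1287, .gen 1123 (42, true)),
    (867, .gen 2152 (45, false)),
    (3311, .gen 951 (45, false)),
    (855, .gen 166 (45, false)),
    (871, .gen 166 (45, true)),
    (1872, .gen 1463 (45, false)),
    (2236, .gen 1463 (45, true)),
    (1569, .gen 1536 (51, false)),
    (2177, .gen 1536 (51, true)),
    (3342, .gen 421 (45, false)),
    (752, .gen 421 (45, true)),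
    (188, .gen 421 (51, false)),
    (3349, .gen 620 (45, true)),
    (2751, .gen 620 (51, false)),
    (403, .gen 2131 (43, false)),
    (2765, .gen 2295 (45, false)),
    (1892, .gen 2295 (45, true)),
    (2030, .gen 3231 (45, true)),
    (3032, .gen 3231 (51, true)),
    (577, .gen 3186 (43, false)),
    (3377, .gen 2141 (45, false)),
    (3175, .gen 2141 (45, true)),
    (1133, .gen 3758 (42, false)),
    (2602, .gen 3758 (42, true)),
    (2087, .gen 3758 (51, false)),
    (2736, .gen 3366 (42, false)),
    (2136, .gen 3366 (42, true)),
    (2258, .gen 3228 (45, false)),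
    (2172, .gen 1486 (51, false)),
    (2551, .gen 1486 (51, true)),
    (1191, .gen 1881 (45, false)),
    (2282, .gen 1881 (45, true)),
    (1791, .gen 1881 (51, false)),
    (1169, .gen 1948 (45, true)),
    (3494, .gen 1948 (51, false)),
    (2804, .gen 157 (43, false)),
    (956, .gen 1737 (45, false)),
    (2822, .gen 1737 (45, true)),
    (2609, .gen 619 (45, true)),
    (2699, .gen 619 (51, true)),
    (1930, .gen 129 (43, false)),
    (3387, .gen 1912 (45, false)),
    (2354, .gen 1912 (45, true)),
    (903, .gen 1489 (42, false)),
    (1588, .gen 1489 (42, true)),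
    (3420, .gen 1489 (51, false)),
    (1192, .gen 3564 (42, false)),
    (3124, .gen 3564 (42, true)),
    (2173, .gen 738 (45, false)),
    (1082, .gen 737 (51, false)),
    (348, .gen 1019 (45, false)),
    (1916, .gen 1019 (51, true)),
    (1903, .gen 1313 (51, false)),
    (3249, .gen 1313 (51, true)),
    (49, .gen 1591 (45, true)),
    (3114, .gen 1591 (51, false)),
    (3750, .gen 1087 (45, false)),
    (2230, .gen 1087 (45, true)),
    (2796, .gen 1812 (51, false)),
    (321, .gen 1538 (43, false)),
    (1128, .gen 1538 (51, false)),
    (2392, .gen 1674 (42, false)),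
    (3599, .gen 1674 (42, true)),
    (2627, .gen 1674 (45, false)),
    (3, .gen 1674 (45, true)),
    (772, .gen 1627 (45, false)),
    (999, .gen 3084 (51, true)),
    (3194, .gen 3523 (43, false)),
    (2302, .gen 3523 (51, true)),
    (2414, .gen 1268 (45, false)),
    (1414, .gen 2365 (45, false)),
    (2941, .gen 2365 (45, true)),
    (2220, .gen 1100 (43, false)),
    (3187, .gen 3110 (42, true)),
    (702, .gen 2376 (45, false)),
    (528, .gen 2376 (45, true)),
    (3695, .gen 2376 (51, false)),
    (1573, .gen 2376 (51, true)),
    (1030, .gen 115 (43, false)),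
    (1541, .gen 115 (45, false)),
    (3680, .gen 115 (51, false)),
    (2415, .gen 115 (51, true)),
    (1155, .gen 3766 (43, false)),
    (701, .gen 3766 (51, false)),
    (933, .gen 3766 (51, true)),
    (1321, .gen 3551 (45, false)),
    (1905, .gen 3551 (45, true)),
    (386, .gen 3551 (51, false)),
    (1752, .gen 2823 (45, false)),
    (2300, .gen 2823 (45, true)),
    (3484, .gen 1004 (45, true)),
    (3554, .gen 1004 (51, false)),
    (967, .gen 1004 (51, true)),
    (2976, .gen 434 (43, false)),
    (1554, .gen 434 (45, false)),
    (2954, .gen 434 (51, false)),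
    (1646, .gen 434 (51, true)),
    (2248, .gen 3260 (51, false)),
    (716, .gen 3260 (51, true)),
    (2186, .gen 2047 (42, false)),
    (3043, .gen 2047 (42, true)),
    (2156, .gen 2047 (45, false)),
    (3654, .gen 2047 (45, true)),
    (1460, .gen 2047 (51, false)),
    (3697, .gen 3562 (42, false)),
    (1558, .gen 3562 (42, true)),
    (1762, .gen 3562 (45, false)),
    (2920, .gen 3562 (45, true)),
    (1279, .gen 858 (45, true)),
    (468, .gen 858 (51, false)),
    (827, .gen 858 (51, true)),
    (1126, .gen 1610 (43, false)),
    (3470, .gen 1610 (45, false)),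
    (2871, .gen 1610 (51, false)),
    (2434, .gen 1610 (51, true)),
    (2116, .gen 2270 (51, false)),
    (1149, .gen 2270 (51, true)),
    (639, .gen 3440 (45, false)),
    (3712, .gen 3440 (45, true)),
    (886, .gen 3440 (51, false)),
    (1204, .gen 3645 (45, false)),
    (227, .gen 3645 (45, true)),
    (1717, .gen 111 (43, false)),
    (610, .gen 111 (45, false)),
    (2539, .gen 656 (42, false)),
    (446, .gen 656 (42, true)),
    (3095, .gen 656 (43, false)),
    (3648, .gen 3256 (42, false)),
    (2160, .gen 3256 (42, true)),
    (1513, .gen 3256 (51, false)),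
    (1075, .gen 3487 (42, false)),
    (3715, .gen 3487 (42, true)),
    (3027, .gen 2560 (43, false)),
    (1396, .gen 2560 (45, false)),
    (2957, .gen 2564 (43, false)),
    (1652, .gen 2564 (45, false)),
    (1045, .gen 1263 (45, false)),
    (1843, .gen 3626 (42, false)),
    (2433, .gen 3626 (42, true)),
    (435, .gen 1352 (45, false)),
    (3033, .gen 1974 (45, false)),
    (945, .gen 314 (45, false)),
    (2966, .gen 314 (45, true)),
    (3064, .gen 3201 (45, false)),
    (3754, .gen 3201 (45, true)),
    (924, .gen 2895 (45, false)),
    (2586, .gen 2895 (45, true)),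
    (948, .gen 2895 (51, false)),
    (1269, .gen 2895 (51, true)),
    (564, .gen 1803 (43, false)),
    (1330, .gen 1803 (45, false)),
    (2500, .gen 1803 (51, false)),
    (401, .gen 1803 (51, true)),
    (2099, .gen 1845 (43, false)),
    (3526, .gen 1845 (51, false)),
    (1289, .gen 1845 (51, true)),
    (1466, .gen 3780 (45, false)),
    (318, .gen 3780 (45, true))]

/-- Visits. -/
def v5_9 : List (ℕ × Src) :=
  [(1579, .gen 3780 (51, false)),
    (1027, .gen 176 (45, false)),
    (3586, .gen 176 (45, true)),
    (2960, .gen 23 (45, true)),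
    (336, .gen 23 (51, false)),
    (3154, .gen 23 (51, true)),
    (2884, .gen 2195 (43, false)),
    (1531, .gen 2195 (45, false)),
    (1283, .gen 2195 (51, false)),
    (3646, .gen 2195 (51, true)),
    (3541, .gen 3764 (51, false)),
    (3281, .gen 3764 (51, true)),
    (1889, .gen 2396 (42, false)),
    (489, .gen 2396 (42, true)),
    (2505, .gen 2396 (45, false)),
    (3529, .gen 2396 (45, true)),
    (2286, .gen 2396 (51, false)),
    (1107, .gen 2520 (42, false)),
    (3123, .gen 2520 (42, true)),
    (3600, .gen 2520 (45, false)),
    (3300, .gen 2520 (45, true)),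
    (1924, .gen 1208 (45, true)),
    (61, .gen 1208 (51, false)),
    (3620, .gen 1208 (51, true)),
    (3441, .gen 911 (43, false)),
    (1249, .gen 911 (45, false)),
    (1869, .gen 911 (51, false)),
    (3121, .gen 911 (51, true)),
    (3065, .gen 2876 (51, false)),
    (544, .gen 2876 (51, true)),
    (3038, .gen 1374 (45, false)),
    (3360, .gen 1374 (45, true)),
    (2790, .gen 1374 (51, false)),
    (2132, .gen 508 (45, false)),
    (1296, .gen 508 (45, true)),
    (225, .gen 1649 (43, false)),
    (1402, .gen 1649 (45, false)),
    (1284, .gen 796 (42, false)),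
    (2190, .gen 796 (42, true)),
    (1716, .gen 796 (43, false)),
    (1493, .gen 189 (42, false)),
    (3755, .gen 189 (42, true)),
    (3295, .gen 189 (51, false)),
    (614, .gen 1897 (42, false)),
    (1074, .gen 1897 (42, true)),
    (2893, .gen 408 (43, false)),
    (1109, .gen 408 (45, false)),
    (2349, .gen 986 (43, false)),
    (45, .gen 986 (45, false)),
    (2634, .gen 1361 (45, false)),
    (2006, .gen 346 (42, false)),
    (2336, .gen 346 (42, true)),
    (2638, .gen 1303 (45, false)),
    (2448, .gen 1694 (45, false)),
    (2970, .gen 2044 (45, false)),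
    (137, .gen 2044 (45, true)),
    (3042, .gen 1723 (45, false)),
    (790, .gen 1723 (45, true)),
    (748, .gen 1511 (45, false)),
    (1951, .gen 1511 (45, true)),
    (1357, .gen 1511 (51, false)),
    (1931, .gen 1511 (51, true)),
    (240, .gen 3451 (43, false)),
    (3510, .gen 3451 (45, false)),
    (3424, .gen 3451 (51, false)),
    (685, .gen 3451 (51, true)),
    (3694, .gen 3479 (43, false)),
    (2529, .gen 3479 (51, false)),
    (2475, .gen 3479 (51, true)),
    (1375, .gen 1480 (45, false)),
    (2267, .gen 1480 (45, true)),
    (38, .gen 1480 (51, false)),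
    (3325, .gen 2566 (45, false)),
    (2368, .gen 2566 (45, true)),
    (2326, .gen 2619 (45, true)),
    (479, .gen 2619 (51, false)),
    (3639, .gen 2619 (51, true)),
    (3060, .gen 354 (43, false)),
    (3344, .gen 354 (45, false)),
    (535, .gen 354 (51, false)),
    (3010, .gen 354 (51, true)),
    (2949, .gen 2279 (51, false)),
    (1545, .gen 2279 (51, true)),
    (3107, .gen 1485 (42, false)),
    (3245, .gen 1485 (42, true)),
    (606, .gen 1485 (45, false)),
    (2391, .gen 1485 (45, true)),
    (68, .gen 1485 (51, false)),
    (3067, .gen 819 (42, false)),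
    (2329, .gen 819 (42, true)),
    (802, .gen 819 (45, false)),
    (2022, .gen 819 (45, true)),
    (875, .gen 174 (45, true)),
    (2200, .gen 174 (51, false)),
    (2079, .gen 174 (51, true)),
    (1384, .gen 1503 (43, false)),
    (3735, .gen 1503 (45, false)),
    (3206, .gen 1503 (51, false)),
    (2571, .gen 1503 (51, true)),
    (1877, .gen 3418 (51, false)),
    (394, .gen 3418 (51, true)),
    (1635, .gen 378 (45, false)),
    (2744, .gen 378 (45, true)),
    (213, .gen 378 (51, false)),
    (523, .gen 327 (45, false)),
    (2735, .gen 327 (45, true)),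
    (1690, .gen 868 (43, false)),
    (1211, .gen 868 (45, false)),
    (3744, .gen 3203 (42, false)),
    (3265, .gen 3203 (42, true)),
    (3063, .gen 3203 (43, false)),
    (3208, .gen 1369 (42, false)),
    (2657, .gen 1369 (42, true)),
    (2780, .gen 1369 (51, false)),
    (340, .gen 1512 (42, false)),
    (2742, .gen 1512 (42, true)),
    (1620, .gen 207 (43, false)),
    (1949, .gen 207 (45, false)),
    (1238, .gen 2442 (43, false)),
    (1300, .gen 2442 (45, false)),
    (286, .gen 87 (45, false)),
    (2019, .gen 857 (42, false)),
    (1105, .gen 857 (42, true)),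
    (503, .gen 2689 (45, false)),
    (519, .gen 3706 (45, false)),
    (2440, .gen 3087 (45, false)),
    (509, .gen 3087 (45, true)),
    (2896, .gen 2268 (45, false)),
    (261, .gen 2268 (45, true)),
    (1253, .gen 1165 (45, false)),
    (822, .gen 1165 (45, true)),
    (1993, .gen 1165 (51, false)),
    (1703, .gen 1165 (51, true)),
    (3471, .gen 3685 (43, false)),
    (3262, .gen 3685 (45, false)),
    (2095, .gen 3685 (51, false)),
    (1528, .gen 3685 (51, true)),
    (2174, .gen 1459 (43, false)),
    (2875, .gen 1459 (51, false)),
    (1001, .gen 1459 (51, true)),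
    (3303, .gen 2873 (45, false)),
    (732, .gen 2873 (45, true)),
    (1870, .gen 2873 (51, false)),
    (3493, .gen 1086 (45, false)),
    (3733, .gen 1086 (45, true)),
    (1127, .gen 1970 (45, true)),
    (443, .gen 1970 (51, false)),
    (3024, .gen 1970 (51, true)),
    (3677, .gen 3130 (43, false)),
    (2215, .gen 3130 (45, false)),
    (3681, .gen 3130 (51, false)),
    (392, .gen 3130 (51, true)),
    (1218, .gen 2403 (51, false)),
    (2810, .gen 2403 (51, true)),
    (1088, .gen 2301 (42, false)),
    (3217, .gen 2301 (42, true)),
    (1118, .gen 2301 (45, false)),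
    (1245, .gen 2301 (45, true)),
    (3745, .gen 2301 (51, false)),
    (3017, .gen 726 (42, false)),
    (1153, .gen 726 (42, true)),
    (675, .gen 726 (45, false)),
    (2870, .gen 726 (45, true)),
    (148, .gen 3383 (45, true)),
    (947, .gen 3383 (51, false)),
    (3631, .gen 3383 (51, true)),
    (2180, .gen 2795 (43, false)),
    (758, .gen 2795 (45, false)),
    (1488, .gen 2795 (51, false)),
    (932, .gen 2795 (51, true)),
    (788, .gen 2114 (51, false)),
    (2493, .gen 2114 (51, true)),
    (784, .gen 3430 (45, false)),
    (2561, .gen 3430 (45, true)),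
    (2486, .gen 3430 (51, false)),
    (677, .gen 1631 (45, false)),
    (3411, .gen 1631 (45, true)),
    (648, .gen 1640 (43, false)),
    (3259, .gen 1640 (45, false)),
    (122, .gen 2420 (42, false)),
    (2143, .gen 2420 (42, true)),
    (130, .gen 2420 (43, false)),
    (3141, .gen 2555 (42, false)),
    (2188, .gen 2555 (42, true)),
    (3402, .gen 2555 (51, false)),
    (1332, .gen 3661 (42, false)),
    (1446, .gen 3661 (42, true)),
    (522, .gen 2533 (43, false)),
    (1448, .gen 2533 (45, false)),
    (1419, .gen 1518 (43, false)),
    (2002, .gen 1518 (45, false)),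
    (41, .gen 2039 (45, false)),
    (3277, .gen 3696 (42, false)),
    (2137, .gen 3696 (42, true)),
    (1202, .gen 2438 (45, false)),
    (3717, .gen 2950 (45, false)),
    (3291, .gen 164 (45, false)),
    (3485, .gen 164 (45, true)),
    (3140, .gen 324 (45, false)),
    (1282, .gen 324 (45, true)),
    (332, .gen 2061 (45, false)),
    (3463, .gen 2061 (45, true)),
    (2817, .gen 2061 (51, false)),
    (3561, .gen 2061 (51, true)),
    (2128, .gen 2498 (43, false)),
    (3711, .gen 2498 (45, false)),
    (2992, .gen 2498 (51, false)),
    (2697, .gen 2498 (51, true)),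
    (1200, .gen 3406 (43, false)),
    (1185, .gen 3406 (51, false)),
    (2593, .gen 3406 (51, true)),
    (1471, .gen 1932 (45, false)),
    (1501, .gen 1932 (45, true)),
    (3738, .gen 1932 (51, false)),
    (322, .gen 2495 (45, false)),
    (2565, .gen 2495 (45, true)),
    (869, .gen 3103 (45, true)),
    (859, .gen 3103 (51, false)),
    (3605, .gen 3103 (51, true)),
    (1895, .gen 1454 (43, false)),
    (343, .gen 1454 (45, false)),
    (1288, .gen 1454 (51, false)),
    (1650, .gen 1454 (51, true)),
    (36, .gen 1678 (51, false)),
    (2278, .gen 1678 (51, true)),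
    (3446, .gen 12 (42, false)),
    (437, .gen 12 (42, true)),
    (2000, .gen 12 (45, false)),
    (2060, .gen 12 (45, true)),
    (2357, .gen 12 (51, false)),
    (3436, .gen 2466 (42, false)),
    (1644, .gen 2466 (42, true)),
    (753, .gen 2466 (45, false)),
    (83, .gen 2466 (45, true)),
    (3250, .gen 2827 (45, true)),
    (165, .gen 2827 (51, false)),
    (2811, .gen 2827 (51, true)),
    (3475, .gen 727 (43, false)),
    (3357, .gen 727 (45, false)),
    (2754, .gen 727 (51, false)),
    (1197, .gen 727 (51, true)),
    (1548, .gen 2574 (51, false)),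
    (660, .gen 2574 (51, true)),
    (2432, .gen 439 (45, false)),
    (1911, .gen 439 (45, true)),
    (1286, .gen 439 (51, false)),
    (3289, .gen 3660 (45, false)),
    (3136, .gen 3660 (45, true)),
    (2404, .gen 1832 (43, false)),
    (2068, .gen 1832 (45, false)),
    (1984, .gen 2851 (42, false)),
    (587, .gen 2851 (42, true)),
    (2058, .gen 2851 (43, false)),
    (358, .gen 775 (42, false)),
    (3328, .gen 775 (42, true)),
    (2318, .gen 775 (51, false)),
    (121, .gen 3384 (42, false)),
    (1441, .gen 3384 (42, true)),
    (183, .gen 2175 (43, false)),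
    (3532, .gen 2175 (45, false)),
    (2739, .gen 2409 (43, false)),
    (3651, .gen 2409 (45, false)),
    (846, .gen 3474 (45, false)),
    (3401, .gen 1452 (42, false)),
    (1985, .gen 1452 (42, true)),
    (2833, .gen 3120 (45, false)),
    (692, .gen 2389 (45, false)),
    (2450, .gen 2485 (45, false)),
    (3040, .gen 2485 (45, true)),
    (1961, .gen 1371 (45, false)),
    (25, .gen 1371 (45, true)),
    (710, .gen 3538 (45, false)),
    (3704, .gen 3538 (45, true)),
    (1069, .gen 3538 (51, false)),
    (2940, .gen 3538 (51, true)),
    (818, .gen 1893 (43, false)),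
    (609, .gen 1893 (45, false)),
    (450, .gen 1893 (51, false)),
    (2093, .gen 1893 (51, true)),
    (3632, .gen 280 (43, false)),
    (907, .gen 280 (51, false)),
    (290, .gen 280 (51, true)),
    (1156, .gen 410 (45, false)),
    (1219, .gen 410 (45, true)),
    (2020, .gen 410 (51, false)),
    (3170, .gen 1819 (45, false)),
    (2023, .gen 1819 (45, true)),
    (2395, .gen 1250 (45, true)),
    (2718, .gen 1250 (51, false)),
    (2127, .gen 1250 (51, true)),
    (1754, .gen 2488 (43, false)),
    (2483, .gen 2488 (45, false)),
    (123, .gen 2488 (51, false)),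
    (281, .gen 2488 (51, true)),
    (1424, .gen 2514 (51, false)),
    (1996, .gen 2514 (51, true)),
    (1431, .gen 2245 (42, false)),
    (546, .gen 2245 (42, true)),
    (1533, .gen 2245 (45, false)),
    (901, .gen 2245 (45, true))]

/-- Visits. -/
def v5_10 : List (ℕ × Src) :=
  [(2307, .gen 2245 (51, false)),
    (1655, .gen 39 (42, false)),
    (70, .gen 39 (42, true)),
    (3437, .gen 39 (45, false)),
    (1343, .gen 39 (45, true)),
    (3534, .gen 3099 (45, true)),
    (1600, .gen 3099 (51, false)),
    (1246, .gen 3099 (51, true)),
    (2379, .gen 2615 (43, false)),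
    (2554, .gen 2615 (45, false)),
    (1715, .gen 2615 (51, false)),
    (1657, .gen 2615 (51, true)),
    (3394, .gen 1902 (51, false)),
    (1206, .gen 1902 (51, true)),
    (1672, .gen 3701 (45, false)),
    (1618, .gen 3701 (45, true)),
    (236, .gen 3701 (51, false)),
    (2654, .gen 2759 (45, false)),
    (930, .gen 2759 (45, true)),
    (1527, .gen 1735 (43, false)),
    (1468, .gen 1735 (45, false)),
    (1028, .gen 3271 (42, false)),
    (126, .gen 3271 (42, true)),
    (813, .gen 3271 (43, false)),
    (47, .gen 1428 (42, false)),
    (3188, .gen 1428 (42, true)),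
    (243, .gen 1428 (51, false)),
    (3305, .gen 460 (42, false)),
    (1736, .gen 460 (42, true)),
    (249, .gen 1813 (43, false)),
    (2393, .gen 1813 (45, false)),
    (3117, .gen 3061 (43, false)),
    (128, .gen 3061 (45, false)),
    (2158, .gen 1942 (45, false)),
    (719, .gen 2144 (42, false)),
    (212, .gen 2144 (42, true)),
    (1592, .gen 1461 (45, false)),
    (3520, .gen 2757 (45, false)),
    (1783, .gen 3298 (45, false)),
    (1068, .gen 3298 (45, true)),
    (3634, .gen 296 (45, false)),
    (3257, .gen 296 (45, true)),
    (34, .gen 3787 (45, false)),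
    (563, .gen 3787 (45, true)),
    (1474, .gen 3787 (51, false)),
    (2668, .gen 3787 (51, true)),
    (2339, .gen 1583 (43, false)),
    (2991, .gen 1583 (45, false)),
    (2086, .gen 1583 (51, false)),
    (1154, .gen 1583 (51, true)),
    (711, .gen 3567 (43, false)),
    (662, .gen 3567 (51, false)),
    (3242, .gen 3567 (51, true)),
    (2979, .gen 2616 (45, false)),
    (3004, .gen 2616 (45, true)),
    (1665, .gen 2616 (51, false)),
    (555, .gen 2655 (45, false)),
    (1492, .gen 2655 (45, true)),
    (572, .gen 1615 (45, true)),
    (387, .gen 1615 (51, false)),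
    (2046, .gen 1615 (51, true)),
    (1808, .gen 1421 (43, false)),
    (472, .gen 1421 (45, false)),
    (3030, .gen 1421 (51, false)),
    (2712, .gen 1421 (51, true)),
    (1875, .gen 699 (51, false)),
    (2273, .gen 699 (51, true)),
    (668, .gen 447 (42, false)),
    (3320, .gen 447 (42, true)),
    (3092, .gen 447 (45, false)),
    (317, .gen 447 (45, true)),
    (186, .gen 447 (51, false)),
    (2309, .gen 798 (42, false)),
    (856, .gen 798 (42, true)),
    (3362, .gen 798 (45, false)),
    (2048, .gen 798 (45, true)),
    (2610, .gen 983 (45, true)),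
    (2763, .gen 983 (51, false)),
    (1181, .gen 983 (51, true)),
    (2443, .gen 2255 (43, false)),
    (3544, .gen 2255 (45, false)),
    (1479, .gen 2255 (51, false)),
    (2345, .gen 2255 (51, true)),
    (2958, .gen 1570 (51, false)),
    (583, .gen 1570 (51, true)),
    (3072, .gen 541 (45, false)),
    (390, .gen 541 (45, true)),
    (316, .gen 541 (51, false)),
    (2944, .gen 1963 (45, false)),
    (3037, .gen 1963 (45, true)),
    (1331, .gen 1254 (43, false)),
    (338, .gen 1254 (45, false)),
    (2732, .gen 1868 (42, false)),
    (3507, .gen 1868 (42, true)),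
    (870, .gen 1868 (43, false)),
    (3642, .gen 2912 (42, false)),
    (931, .gen 2912 (42, true)),
    (2886, .gen 2912 (51, false)),
    (674, .gen 2139 (42, false)),
    (1273, .gen 2139 (42, true)),
    (254, .gen 4 (43, false)),
    (2262, .gen 4 (45, false)),
    (372, .gen 1035 (43, false)),
    (3542, .gen 1035 (45, false)),
    (1398, .gen 2333 (45, false)),
    (2067, .gen 3687 (42, false)),
    (491, .gen 3687 (42, true)),
    (1324, .gen 2366 (45, false)),
    (2237, .gen 3310 (45, false)),
    (191, .gen 1379 (45, false)),
    (1209, .gen 1379 (45, true)),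
    (1566, .gen 2622 (45, false)),
    (1323, .gen 2622 (45, true)),
    (1522, .gen 591 (45, false)),
    (3234, .gen 591 (45, true)),
    (2464, .gen 591 (51, false)),
    (436, .gen 591 (51, true)),
    (759, .gen 1613 (43, false)),
    (1862, .gen 1613 (45, false)),
    (1825, .gen 1613 (51, false)),
    (1223, .gen 1613 (51, true)),
    (2256, .gen 2890 (43, false)),
    (557, .gen 2890 (51, false)),
    (3165, .gen 2890 (51, true)),
    (444, .gen 994 (45, false)),
    (2722, .gen 994 (45, true)),
    (3633, .gen 994 (51, false)),
    (520, .gen 1807 (45, false)),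
    (1046, .gen 1807 (45, true)),
    (2694, .gen 445 (45, true)),
    (2118, .gen 445 (51, false)),
    (3389, .gen 445 (51, true)),
    (3618, .gen 1757 (43, false)),
    (922, .gen 1757 (45, false)),
    (2710, .gen 1757 (51, false)),
    (473, .gen 1757 (51, true)),
    (63, .gen 1841 (51, false)),
    (993, .gen 1841 (51, true)),
    (527, .gen 1983 (42, false)),
    (1097, .gen 1983 (42, true)),
    (1520, .gen 1983 (45, false)),
    (2987, .gen 1983 (45, true)),
    (2848, .gen 1983 (51, false)),
    (3122, .gen 3159 (42, false)),
    (2028, .gen 3159 (42, true)),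
    (367, .gen 3159 (45, false)),
    (52, .gen 3159 (45, true)),
    (608, .gen 1408 (45, true)),
    (10, .gen 1408 (51, false)),
    (1830, .gen 1408 (51, true)),
    (906, .gen 1927 (43, false)),
    (852, .gen 1927 (45, false)),
    (2931, .gen 1927 (51, false)),
    (2225, .gen 1927 (51, true)),
    (1687, .gen 2071 (51, false)),
    (3273, .gen 2071 (51, true)),
    (181, .gen 404 (45, false)),
    (3181, .gen 404 (45, true)),
    (3008, .gen 404 (51, false)),
    (3431, .gen 2082 (45, false)),
    (2945, .gen 2082 (45, true)),
    (2276, .gen 2703 (43, false)),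
    (3098, .gen 2703 (45, false)),
    (266, .gen 1971 (42, false)),
    (3252, .gen 1971 (42, true)),
    (2508, .gen 1971 (43, false)),
    (342, .gen 1913 (42, false)),
    (578, .gen 1913 (42, true)),
    (1828, .gen 1913 (51, false)),
    (35, .gen 2825 (42, false)),
    (3207, .gen 2825 (42, true)),
    (31, .gen 2816 (43, false)),
    (2242, .gen 2816 (45, false)),
    (1320, .gen 832 (43, false)),
    (241, .gen 832 (45, false)),
    (59, .gen 2910 (45, false)),
    (3598, .gen 1062 (42, false)),
    (707, .gen 1062 (42, true)),
    (3096, .gen 1748 (45, false)),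
    (3462, .gen 2537 (45, false)),
    (1837, .gen 75 (45, false)),
    (3435, .gen 75 (45, true)),
    (2965, .gen 1333 (45, false)),
    (2445, .gen 1333 (45, true)),
    (2316, .gen 1692 (45, false)),
    (935, .gen 1692 (45, true)),
    (3433, .gen 1692 (51, false)),
    (257, .gen 1692 (51, true)),
    (3224, .gen 2193 (43, false)),
    (2794, .gen 2193 (45, false)),
    (2528, .gen 2193 (51, false)),
    (3270, .gen 2193 (51, true)),
    (1786, .gen 2860 (43, false)),
    (1216, .gen 2860 (51, false)),
    (1534, .gen 2860 (51, true)),
    (3576, .gen 2489 (45, false)),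
    (551, .gen 2489 (45, true)),
    (2728, .gen 2489 (51, false)),
    (352, .gen 2511 (45, false)),
    (3525, .gen 2511 (45, true)),
    (2687, .gen 536 (45, true)),
    (73, .gen 536 (51, false)),
    (1952, .gen 536 (51, true)),
    (3169, .gen 3434 (43, false)),
    (1325, .gen 3434 (45, false)),
    (1729, .gen 3434 (51, false)),
    (267, .gen 3434 (51, true)),
    (2469, .gen 1556 (51, false)),
    (1765, .gen 1556 (51, true)),
    (417, .gen 1453 (42, false)),
    (571, .gen 1453 (42, true)),
    (2171, .gen 1453 (45, false)),
    (2681, .gen 1453 (45, true)),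
    (2782, .gen 1453 (51, false)),
    (678, .gen 2337 (42, false)),
    (239, .gen 2337 (42, true)),
    (2334, .gen 2337 (45, false)),
    (2731, .gen 2337 (45, true)),
    (1584, .gen 399 (45, true)),
    (1831, .gen 399 (51, false)),
    (311, .gen 399 (51, true)),
    (2764, .gen 3144 (43, false)),
    (673, .gen 3144 (45, false)),
    (3688, .gen 3144 (51, false)),
    (988, .gen 3144 (51, true)),
    (3707, .gen 2097 (51, false)),
    (412, .gen 2097 (51, true)),
    (2512, .gen 2911 (45, false)),
    (3183, .gen 2911 (45, true)),
    (1645, .gen 2911 (51, false)),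
    (2834, .gen 2424 (45, false)),
    (1777, .gen 2424 (45, true)),
    (1498, .gen 2040 (43, false)),
    (27, .gen 2040 (45, false)),
    (3326, .gen 965 (42, false)),
    (966, .gen 965 (42, true)),
    (680, .gen 965 (43, false)),
    (2618, .gen 1098 (42, false)),
    (2509, .gen 1098 (42, true)),
    (357, .gen 1098 (51, false)),
    (2969, .gen 1934 (42, false)),
    (1593, .gen 1934 (42, true)),
    (973, .gen 3359 (43, false)),
    (1500, .gen 3359 (45, false)),
    (2218, .gen 977 (43, false)),
    (2204, .gen 977 (45, false)),
    (1759, .gen 3374 (45, false)),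
    (1547, .gen 1309 (42, false)),
    (3641, .gen 1309 (42, true)),
    (187, .gen 646 (45, false)),
    (3613, .gen 1509 (45, false)),
    (2628, .gen 2257 (45, false)),
    (3307, .gen 2257 (45, true)),
    (2990, .gen 2176 (45, false)),
    (1563, .gen 2176 (45, true)),
    (2179, .gen 2351 (45, false)),
    (997, .gen 2351 (45, true)),
    (95, .gen 2351 (51, false)),
    (877, .gen 2351 (51, true)),
    (3319, .gen 3743 (43, false)),
    (2885, .gen 3743 (45, false)),
    (1145, .gen 3743 (51, false)),
    (3244, .gen 3743 (51, true)),
    (427, .gen 831 (43, false)),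
    (1179, .gen 831 (51, false)),
    (3768, .gen 831 (51, true)),
    (915, .gen 1551 (45, false)),
    (1739, .gen 1551 (45, true)),
    (1125, .gen 1551 (51, false)),
    (112, .gen 2562 (45, false)),
    (1537, .gen 2562 (45, true)),
    (3568, .gen 3335 (45, true)),
    (717, .gen 3335 (51, false)),
    (1048, .gen 3335 (51, true)),
    (3059, .gen 1235 (43, false)),
    (1067, .gen 1235 (45, false)),
    (1429, .gen 1235 (51, false)),
    (1727, .gen 1235 (51, true)),
    (2012, .gen 2531 (51, false)),
    (1894, .gen 2531 (51, true)),
    (2996, .gen 1054 (42, false)),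
    (1504, .gen 1054 (42, true)),
    (2460, .gen 1054 (45, false)),
    (3215, .gen 1054 (45, true)),
    (3330, .gen 1054 (51, false)),
    (506, .gen 1150 (42, false)),
    (1072, .gen 1150 (42, true)),
    (2084, .gen 1150 (45, false)),
    (613, .gen 1150 (45, true)),
    (1529, .gen 485 (45, true)),
    (2746, .gen 485 (51, false)),
    (1205, .gen 485 (51, true)),
    (3209, .gen 2656 (43, false)),
    (3119, .gen 2656 (45, false)),
    (1066, .gen 2656 (51, false)),
    (2291, .gen 2656 (51, true)),
    (1733, .gen 2696 (51, false)),
    (1935, .gen 2696 (51, true)),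
    (3253, .gen 2011 (45, false)),
    (2604, .gen 2011 (45, true))]

/-- Visits. -/
def v5_11 : List (ℕ × Src) :=
  [(2559, .gen 2011 (51, false)),
    (2394, .gen 171 (45, false)),
    (425, .gen 171 (45, true)),
    (2353, .gen 3778 (43, false)),
    (1997, .gen 3778 (45, false)),
    (1766, .gen 2934 (42, false)),
    (2704, .gen 2934 (42, true)),
    (2938, .gen 2934 (43, false)),
    (1885, .gen 106 (42, false)),
    (1455, .gen 106 (42, true)),
    (2510, .gen 106 (51, false)),
    (2998, .gen 3049 (42, false)),
    (270, .gen 3049 (42, true)),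
    (3756, .gen 3596 (43, false)),
    (2899, .gen 3596 (45, false)),
    (2773, .gen 3759 (43, false)),
    (1929, .gen 3759 (45, false)),
    (2635, .gen 2808 (45, false)),
    (2050, .gen 3709 (42, false)),
    (264, .gen 3709 (42, true)),
    (2407, .gen 1977 (45, false)),
    (918, .gen 2330 (45, false)),
    (3769, .gen 1439 (45, false)),
    (2104, .gen 1439 (45, true)),
    (3466, .gen 876 (45, false)),
    (1595, .gen 876 (45, true)),
    (3456, .gen 2745 (45, false)),
    (2228, .gen 2745 (45, true)),
    (2815, .gen 2745 (51, false)),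
    (585, .gen 2745 (51, true)),
    (3481, .gen 3553 (43, false)),
    (2133, .gen 3553 (45, false)),
    (1857, .gen 3553 (51, false)),
    (2630, .gen 3553 (51, true)),
    (3372, .gen 3637 (43, false)),
    (902, .gen 3637 (51, false)),
    (2419, .gen 3637 (51, true)),
    (1203, .gen 3662 (45, false)),
    (2319, .gen 3662 (45, true)),
    (3565, .gen 3662 (51, false)),
    (2702, .gen 2416 (45, false)),
    (3774, .gen 2416 (45, true)),
    (3354, .gen 2721 (45, true)),
    (2178, .gen 2721 (51, false)),
    (2461, .gen 2721 (51, true)),
    (3730, .gen 3439 (43, false)),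
    (2496, .gen 3439 (45, false)),
    (866, .gen 3439 (51, false)),
    (3315, .gen 3439 (51, true)),
    (821, .gen 1854 (51, false)),
    (1457, .gen 1854 (51, true)),
    (205, .gen 2766 (42, false)),
    (2253, .gen 2766 (42, true)),
    (630, .gen 2766 (45, false)),
    (3118, .gen 2766 (45, true)),
    (1659, .gen 2766 (51, false)),
    (2755, .gen 2457 (42, false)),
    (2026, .gen 2457 (42, true)),
    (2935, .gen 2457 (45, false)),
    (253, .gen 2457 (45, true)),
    (494, .gen 2451 (45, true)),
    (2306, .gen 2451 (51, false)),
    (785, .gen 2451 (51, true)),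
    (1596, .gen 3235 (43, false)),
    (1792, .gen 3235 (45, false)),
    (1440, .gen 3235 (51, false)),
    (1232, .gen 3235 (51, true)),
    (3491, .gen 2720 (51, false)),
    (1922, .gen 2720 (51, true)),
    (861, .gen 2214 (45, false)),
    (3020, .gen 2214 (45, true)),
    (3676, .gen 2214 (51, false)),
    (1049, .gen 2435 (45, false)),
    (252, .gen 2435 (45, true)),
    (715, .gen 1020 (43, false)),
    (601, .gen 1020 (45, false)),
    (1416, .gen 1470 (42, false)),
    (380, .gen 1470 (42, true)),
    (531, .gen 1470 (43, false)),
    (3267, .gen 256 (42, false)),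
    (705, .gen 256 (42, true)),
    (2281, .gen 256 (51, false)),
    (1516, .gen 3649 (42, false)),
    (3421, .gen 3649 (42, true)),
    (533, .gen 3452 (43, false)),
    (466, .gen 3452 (45, false)),
    (634, .gen 2465 (43, false)),
    (2113, .gen 2465 (45, false)),
    (3442, .gen 1764 (45, false)),
    (2869, .gen 714 (42, false)),
    (3767, .gen 714 (42, true)),
    (1756, .gen 1176 (45, false)),
    (3331, .gen 60 (45, false)),
    (3468, .gen 3205 (45, false)),
    (1682, .gen 3205 (45, true)),
    (3537, .gen 3503 (45, false)),
    (2284, .gen 3503 (45, true)),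
    (3667, .gen 2902 (45, false)),
    (2692, .gen 2902 (45, true)),
    (1950, .gen 2902 (51, false)),
    (139, .gen 2902 (51, true)),
    (3213, .gen 1099 (43, false)),
    (2573, .gen 1099 (45, false)),
    (3097, .gen 1099 (51, false)),
    (2845, .gen 1099 (51, true)),
    (303, .gen 384 (43, false)),
    (592, .gen 384 (51, false)),
    (2359, .gen 384 (51, true)),
    (925, .gen 593 (45, false)),
    (2569, .gen 593 (45, true)),
    (1451, .gen 593 (51, false)),
    (1050, .gen 235 (45, false)),
    (2254, .gen 235 (45, true)),
    (1318, .gen 3622 (45, true)),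
    (926, .gen 3622 (51, false)),
    (2157, .gen 3622 (51, true)),
    (1131, .gen 2425 (43, false)),
    (3237, .gen 2425 (45, false)),
    (2802, .gen 2425 (51, false)),
    (1660, .gen 2425 (51, true)),
    (667, .gen 2544 (51, false)),
    (350, .gen 2544 (51, true)),
    (3053, .gen 2516 (42, false)),
    (3577, .gen 2516 (42, true)),
    (1258, .gen 2516 (45, false)),
    (693, .gen 2516 (45, true)),
    (3498, .gen 2516 (51, false)),
    (162, .gen 2148 (42, false)),
    (110, .gen 2148 (42, true)),
    (682, .gen 2148 (45, false)),
    (14, .gen 2148 (45, true)),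
    (1778, .gen 512 (45, true)),
    (773, .gen 512 (51, false)),
    (2346, .gen 512 (51, true)),
    (1721, .gen 1664 (43, false)),
    (3428, .gen 1664 (45, false)),
    (3035, .gen 1664 (51, false)),
    (2293, .gen 1664 (51, true)),
    (845, .gen 289 (51, false)),
    (3334, .gen 289 (51, true)),
    (3699, .gen 3752 (45, false)),
    (3606, .gen 3752 (45, true)),
    (549, .gen 3752 (51, false)),
    (3327, .gen 2338 (45, false)),
    (2124, .gen 2338 (45, true)),
    (1788, .gen 2572 (43, false)),
    (1606, .gen 2572 (45, false)),
    (1373, .gen 24 (42, false)),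
    (199, .gen 24 (42, true)),
    (1704, .gen 24 (43, false)),
    (1978, .gen 582 (42, false)),
    (2106, .gen 582 (42, true)),
    (3148, .gen 582 (51, false)),
    (521, .gen 913 (42, false)),
    (457, .gen 913 (42, true)),
    (2470, .gen 455 (43, false)),
    (3238, .gen 455 (45, false)),
    (561, .gen 3088 (43, false)),
    (185, .gen 3088 (45, false)),
    (307, .gen 2526 (45, false)),
    (1810, .gen 2107 (42, false)),
    (1148, .gen 2107 (42, true)),
    (429, .gen 481 (45, false)),
    (1849, .gen 2162 (45, false)),
    (2644, .gen 543 (45, false)),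
    (414, .gen 543 (45, true)),
    (575, .gen 840 (45, false)),
    (1248, .gen 840 (45, true)),
    (233, .gen 617 (45, false)),
    (6, .gen 617 (45, true)),
    (3345, .gen 617 (51, false)),
    (1360, .gen 617 (51, true)),
    (287, .gen 3603 (43, false)),
    (2748, .gen 3603 (45, false)),
    (464, .gen 3603 (51, false)),
    (1562, .gen 3603 (51, true)),
    (268, .gen 1077 (43, false)),
    (459, .gen 1077 (51, false)),
    (1285, .gen 1077 (51, true)),
    (3580, .gen 306 (45, false)),
    (1026, .gen 306 (45, true)),
    (3659, .gen 306 (51, false)),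
    (637, .gen 3258 (45, false)),
    (3192, .gen 3258 (45, true)),
    (3143, .gen 661 (45, true)),
    (2577, .gen 661 (51, false)),
    (3373, .gen 661 (51, true)),
    (72, .gen 305 (43, false)),
    (1257, .gen 305 (45, false)),
    (1059, .gen 305 (51, false)),
    (3185, .gen 305 (51, true)),
    (3790, .gen 744 (51, false)),
    (2314, .gen 744 (51, true)),
    (124, .gen 2350 (42, false)),
    (2035, .gen 2350 (42, true)),
    (1904, .gen 2350 (45, false)),
    (2057, .gen 2350 (45, true)),
    (216, .gen 2350 (51, false)),
    (3100, .gen 2877 (42, false)),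
    (3229, .gen 2877 (42, true)),
    (1304, .gen 2877 (45, false)),
    (3682, .gen 2877 (45, true)),
    (3278, .gen 2975 (45, true)),
    (2386, .gen 2975 (51, false)),
    (173, .gen 2975 (51, true)),
    (458, .gen 1587 (43, false)),
    (2166, .gen 1587 (45, false)),
    (2672, .gen 1587 (51, false)),
    (949, .gen 1587 (51, true)),
    (516, .gen 2263 (51, false)),
    (1104, .gen 2263 (51, true)),
    (3647, .gen 1207 (45, false)),
    (2092, .gen 1207 (45, true)),
    (3286, .gen 1207 (51, false)),
    (743, .gen 3589 (45, false)),
    (3432, .gen 3589 (45, true)),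
    (1973, .gen 232 (43, false)),
    (300, .gen 232 (45, false)),
    (2045, .gen 103 (42, false)),
    (2585, .gen 103 (42, true)),
    (2643, .gen 103 (43, false)),
    (1506, .gen 2303 (42, false)),
    (302, .gen 2303 (42, true)),
    (3683, .gen 2303 (51, false)),
    (1594, .gen 100 (42, false)),
    (2091, .gen 100 (42, true)),
    (3329, .gen 968 (43, false)),
    (416, .gen 968 (45, false)),
    (2290, .gen 1960 (43, false)),
    (1689, .gen 1960 (45, false)),
    (3753, .gen 2004 (45, false)),
    (3708, .gen 1859 (42, false)),
    (681, .gen 1859 (42, true)),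
    (3546, .gen 3547 (45, false)),
    (3582, .gen 353 (45, false)),
    (2252, .gen 1092 (45, false)),
    (3693, .gen 1092 (45, true)),
    (928, .gen 133 (45, false)),
    (3757, .gen 133 (45, true)),
    (3301, .gen 142 (45, false)),
    (105, .gen 142 (45, true)),
    (1399, .gen 142 (51, false)),
    (982, .gen 142 (51, true)),
    (1163, .gen 2010 (43, false)),
    (2664, .gen 2010 (45, false)),
    (3522, .gen 2010 (51, false)),
    (2401, .gen 2010 (51, true)),
    (2575, .gen 2140 (43, false)),
    (2864, .gen 2140 (51, false)),
    (1444, .gen 2140 (51, true)),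
    (873, .gen 3517 (45, false)),
    (3583, .gen 3517 (45, true)),
    (3502, .gen 3517 (51, false)),
    (2930, .gen 2730 (45, false)),
    (666, .gen 2730 (45, true)),
    (1753, .gen 1994 (45, true)),
    (670, .gen 1994 (51, false)),
    (2347, .gen 1994 (51, true)),
    (2599, .gen 2973 (43, false)),
    (1036, .gen 2973 (45, false)),
    (363, .gen 2973 (51, false)),
    (2729, .gen 2973 (51, true)),
    (1517, .gen 834 (51, false)),
    (2775, .gen 834 (51, true)),
    (1139, .gen 526 (42, false)),
    (2906, .gen 526 (42, true)),
    (3044, .gen 526 (45, false)),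
    (624, .gen 526 (45, true)),
    (2747, .gen 526 (51, false)),
    (2037, .gen 3674 (42, false)),
    (1959, .gen 3674 (42, true)),
    (588, .gen 3674 (45, false)),
    (2972, .gen 3674 (45, true)),
    (3558, .gen 1327 (45, true)),
    (2053, .gen 1327 (51, false)),
    (2384, .gen 1327 (51, true)),
    (1442, .gen 3530 (43, false)),
    (79, .gen 3530 (45, false)),
    (2497, .gen 3530 (51, false)),
    (1979, .gen 3530 (51, true)),
    (3333, .gen 2312 (51, false)),
    (1535, .gen 2312 (51, true)),
    (3007, .gen 2078 (45, false)),
    (2355, .gen 2078 (45, true)),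
    (2651, .gen 2078 (51, false)),
    (1945, .gen 1896 (45, false)),
    (3375, .gen 1896 (45, true)),
    (623, .gen 3368 (43, false)),
    (2812, .gen 3368 (45, false)),
    (1661, .gen 3740 (42, false)),
    (1590, .gen 3740 (42, true)),
    (2787, .gen 3740 (43, false)),
    (237, .gen 2849 (42, false)),
    (1142, .gen 2849 (42, true)),
    (2038, .gen 2849 (51, false)),
    (704, .gen 1938 (42, false)),
    (474, .gen 1938 (42, true)),
    (825, .gen 3152 (43, false)),
    (2324, .gen 3152 (45, false)),
    (2662, .gen 3771 (43, false))]

/-- Visits. -/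
def v5_12 : List (ℕ × Src) :=
  [(824, .gen 3771 (45, false)),
    (3597, .gen 800 (45, false)),
    (2397, .gen 210 (42, false)),
    (3128, .gen 210 (42, true)),
    (1876, .gen 1348 (45, false)),
    (275, .gen 2504 (45, false)),
    (1256, .gen 1557 (45, false)),
    (1136, .gen 1557 (45, true)),
    (2951, .gen 1342 (45, false)),
    (3157, .gen 1342 (45, true)),
    (1623, .gen 3156 (51, false)),
    (3282, .gen 304 (43, false)),
    (2100, .gen 304 (45, false)),
    (565, .gen 93 (43, false)),
    (1275, .gen 2417 (51, false)),
    (2456, .gen 1044 (45, false)),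
    (3519, .gen 2725 (45, false)),
    (1473, .gen 1217 (45, false)),
    (1734, .gen 2304 (42, false)),
    (629, .gen 2304 (42, true)),
    (3002, .gen 1801 (45, false)),
    (3000, .gen 1571 (45, false)),
    (576, .gen 1477 (43, false)),
    (1335, .gen 1477 (45, false)),
    (2167, .gen 1483 (43, false)),
    (3339, .gen 3340 (51, false)),
    (2154, .gen 1172 (45, false)),
    (2838, .gen 2666 (45, false)),
    (2231, .gen 3399 (45, false)),
    (3611, .gen 3219 (42, false)),
    (1267, .gen 3219 (42, true)),
    (1168, .gen 2216 (43, false)),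
    (3727, .gen 2216 (45, false)),
    (2358, .gen 1435 (43, false)),
    (2413, .gen 3085 (51, false)),
    (2289, .gen 2201 (45, false)),
    (3167, .gen 2788 (45, false)),
    (3285, .gen 2898 (45, false)),
    (1521, .gen 1795 (42, false)),
    (1198, .gen 1795 (42, true)),
    (989, .gen 2872 (43, false)),
    (2770, .gen 2872 (45, false)),
    (297, .gen 1487 (43, false)),
    (1079, .gen 1671 (51, false)),
    (2482, .gen 653 (45, false)),
    (3134, .gen 2734 (45, false)),
    (2686, .gen 2472 (45, false)),
    (1550, .gen 3777 (42, false)),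
    (1484, .gen 3777 (42, true)),
    (2915, .gen 2727 (45, false)),
    (30, .gen 3178 (45, false)),
    (1292, .gen 2783 (43, false)),
    (3663, .gen 2783 (45, false)),
    (1722, .gen 1277 (43, false)),
    (2536, .gen 161 (51, false)),
    (1816, .gen 499 (45, false)),
    (3638, .gen 2439 (45, false)),
    (1962, .gen 574 (45, false)),
    (905, .gen 558 (42, false)),
    (2076, .gen 558 (42, true)),
    (3710, .gen 1141 (43, false)),
    (3548, .gen 1141 (45, false)),
    (3083, .gen 1559 (43, false)),
    (1797, .gen 2129 (51, false)),
    (1827, .gen 167 (45, false)),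
    (3518, .gen 851 (45, false)),
    (204, .gen 2793 (45, false)),
    (1159, .gen 92 (42, false)),
    (1744, .gen 92 (42, true)),
    (1262, .gen 702 (43, false)),
    (1422, .gen 702 (45, false)),
    (3129, .gen 528 (43, false)),
    (3794, .gen 3695 (51, false)),
    (2250, .gen 1030 (45, false)),
    (3476, .gen 3680 (45, false)),
    (3137, .gen 2415 (45, false)),
    (2490, .gen 1554 (42, false)),
    (3761, .gen 1554 (42, true)),
    (2786, .gen 924 (43, false)),
    (21, .gen 924 (45, false)),
    (1711, .gen 2586 (43, false)),
    (1053, .gen 948 (51, false)),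
    (3189, .gen 564 (45, false)),
    (695, .gen 2500 (45, false)),
    (1923, .gen 401 (45, false)),
    (141, .gen 1531 (42, false)),
    (3174, .gen 1531 (42, true)),
    (497, .gen 748 (43, false)),
    (135, .gen 748 (45, false)),
    (742, .gen 1951 (43, false)),
    (3353, .gen 1357 (51, false)),
    (3045, .gen 240 (45, false)),
    (2676, .gen 3424 (45, false)),
    (2892, .gen 685 (45, false)),
    (598, .gen 3344 (42, false)),
    (483, .gen 3344 (42, true)),
    (1578, .gen 1253 (43, false)),
    (1359, .gen 1253 (45, false)),
    (258, .gen 822 (43, false)),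
    (2266, .gen 1993 (51, false)),
    (495, .gen 3471 (45, false)),
    (554, .gen 2095 (45, false)),
    (1972, .gen 1528 (45, false)),
    (843, .gen 2215 (42, false)),
    (1095, .gen 2215 (42, true)),
    (1858, .gen 332 (43, false)),
    (3668, .gen 332 (45, false)),
    (1771, .gen 3463 (43, false)),
    (2313, .gen 2817 (51, false)),
    (2332, .gen 2128 (45, false)),
    (2693, .gen 2992 (45, false)),
    (550, .gen 2697 (45, false)),
    (2235, .gen 343 (42, false)),
    (242, .gen 343 (42, true)),
    (3640, .gen 710 (43, false)),
    (768, .gen 710 (45, false)),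
    (792, .gen 3704 (43, false)),
    (3149, .gen 1069 (51, false)),
    (1549, .gen 818 (45, false)),
    (3619, .gen 450 (45, false)),
    (3513, .gen 2093 (45, false)),
    (2588, .gen 2483 (42, false)),
    (1365, .gen 2483 (42, true)),
    (201, .gen 34 (43, false)),
    (2130, .gen 34 (45, false)),
    (921, .gen 563 (43, false)),
    (2447, .gen 1474 (51, false)),
    (3081, .gen 2339 (45, false)),
    (1928, .gen 2086 (45, false)),
    (669, .gen 1154 (45, false)),
    (1992, .gen 472 (42, false)),
    (1502, .gen 472 (42, true)),
    (3734, .gen 1522 (43, false)),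
    (282, .gen 1522 (45, false)),
    (1316, .gen 3234 (43, false)),
    (2008, .gen 2464 (51, false)),
    (196, .gen 759 (45, false)),
    (2033, .gen 1825 (45, false)),
    (449, .gen 1223 (45, false)),
    (616, .gen 922 (42, false)),
    (150, .gen 922 (42, true)),
    (849, .gen 2316 (43, false)),
    (2065, .gen 2316 (45, false)),
    (721, .gen 935 (43, false)),
    (3775, .gen 3433 (51, false)),
    (98, .gen 3224 (45, false)),
    (2360, .gen 2528 (45, false)),
    (1456, .gen 3270 (45, false)),
    (3153, .gen 1325 (42, false)),
    (2926, .gen 1325 (42, true)),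
    (2221, .gen 2179 (43, false)),
    (1654, .gen 2179 (45, false)),
    (698, .gen 997 (43, false)),
    (209, .gen 95 (51, false)),
    (839, .gen 3319 (45, false)),
    (146, .gen 1145 (45, false)),
    (3657, .gen 3244 (45, false)),
    (1954, .gen 1067 (42, false)),
    (2846, .gen 1067 (42, true)),
    (471, .gen 3456 (43, false)),
    (3312, .gen 3456 (45, false)),
    (326, .gen 2228 (43, false)),
    (2867, .gen 2815 (51, false)),
    (1395, .gen 3481 (45, false)),
    (3783, .gen 1857 (45, false)),
    (3628, .gen 2630 (45, false)),
    (2921, .gen 2496 (42, false)),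
    (2410, .gen 2496 (42, true)),
    (3075, .gen 3667 (43, false)),
    (2159, .gen 3667 (45, false)),
    (2138, .gen 2692 (43, false)),
    (2999, .gen 1950 (51, false)),
    (1612, .gen 3213 (45, false)),
    (2352, .gen 3097 (45, false)),
    (769, .gen 2845 (45, false)),
    (632, .gen 3237 (42, false)),
    (3142, .gen 3237 (42, true)),
    (611, .gen 233 (43, false)),
    (3459, .gen 233 (45, false)),
    (1339, .gen 6 (43, false)),
    (2907, .gen 3345 (51, false)),
    (2463, .gen 287 (45, false)),
    (761, .gen 464 (45, false)),
    (2426, .gen 1562 (45, false)),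
    (3172, .gen 1257 (42, false)),
    (179, .gen 1257 (42, true)),
    (2590, .gen 3301 (43, false)),
    (333, .gen 3301 (45, false)),
    (1385, .gen 105 (43, false)),
    (2340, .gen 1399 (51, false)),
    (1380, .gen 1163 (45, false)),
    (2205, .gen 3522 (45, false)),
    (3361, .gen 2401 (45, false)),
    (2891, .gen 1036 (42, false)),
    (1405, .gen 1036 (42, true))]

/-- The visits of node 5. -/
def visits5 : List (ℕ × Src) :=
  v5_0 ++ v5_1 ++ v5_2 ++ v5_3 ++ v5_4 ++ v5_5 ++ v5_6 ++ v5_7 ++ v5_8 ++ v5_9 ++ v5_10 ++ v5_11 ++ v5_12


end Cfsg.Agent.J4Bound.Data
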