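import Cfsg.Agent.Lib.J4Pres.Bound.Cover

/-! Data of the double coset enumeration for the presented fourth Janko group (tools/j4/bound/emitb.py). -/

set_option autoImplicit false
set_option maxRecDepth 100000
set_option maxHeartbeats 0

namespace Cfsg.Agent.J4Bound.Data

/-- Visits. -/
def v8_0 : List (ℕ × Src) :=
  [(48, .edge 89 true),
    (910, .edge 95 false),
    (119, .edge 95 true),
    (238, .edge 97 false),
    (498, .edge 98 false),
    (2614, .edge 99 false),
    (360, .edge 99 true),
    (2182, .edge 100 false),
    (276, .edge 100 true),
    (1673, .edge 102 false),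
    (265, .edge 136 false),
    (513, .edge 196 true),
    (122, .edge 198 true),
    (2316, .edge 287 false),
    (32, .edge 673 false),
    (1157, .gen 48 (94, false)),
    (17, .gen 48 (94, true)),
    (376, .gen 48 (96, false)),
    (315, .gen 48 (96, true)),
    (969, .gen 48 (101, false)),
    (89, .gen 910 (94, false)),
    (405, .gen 910 (94, true)),
    (1110, .gen 910 (96, false)),
    (273, .gen 910 (101, false)),
    (120, .gen 119 (94, false)),
    (1423, .gen 119 (94, true)),
    (149, .gen 119 (96, true)),
    (1310, .gen 119 (101, false)),
    (649, .gen 238 (96, false)),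
    (904, .gen 238 (101, false)),
    (8, .gen 498 (94, false)),
    (2, .gen 498 (94, true)),
    (85, .gen 2614 (90, false)),
    (334, .gen 2614 (93, false)),
    (812, .gen 2614 (94, false)),
    (961, .gen 360 (93, false)),
    (1642, .gen 360 (101, false)),
    (1867, .gen 2182 (92, false)),
    (1023, .gen 2182 (93, false)),
    (355, .gen 2182 (94, false)),
    (29, .gen 2182 (94, true)),
    (1965, .gen 2182 (96, false)),
    (2066, .gen 2182 (101, false)),
    (3505, .gen 276 (92, false)),
    (1878, .gen 276 (94, false)),
    (2648, .gen 276 (94, true)),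
    (771, .gen 1673 (90, false)),
    (470, .gen 1673 (92, false)),
    (1394, .gen 1673 (93, false)),
    (3094, .gen 1673 (94, false)),
    (1626, .gen 1673 (94, true)),
    (451, .gen 265 (90, false)),
    (1073, .gen 265 (91, false)),
    (763, .gen 265 (92, false)),
    (2005, .gen 265 (94, false)),
    (356, .gen 265 (96, false)),
    (953, .gen 265 (96, true)),
    (224, .gen 265 (101, false)),
    (722, .gen 513 (90, false)),
    (3426, .gen 513 (91, false)),
    (3607, .gen 513 (92, false)),
    (511, .gen 513 (94, false)),
    (1090, .gen 513 (94, true)),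
    (2035, .gen 513 (96, false)),
    (761, .gen 513 (96, true)),
    (1739, .gen 513 (101, false)),
    (2180, .gen 122 (90, false)),
    (2114, .gen 122 (91, false)),
    (258, .gen 122 (92, false)),
    (1253, .gen 122 (93, false)),
    (1808, .gen 122 (94, false)),
    (204, .gen 122 (94, true)),
    (97, .gen 122 (96, false)),
    (2174, .gen 122 (96, true)),
    (1038, .gen 122 (101, false)),
    (2860, .gen 2316 (90, false)),
    (3224, .gen 2316 (91, false)),
    (849, .gen 2316 (93, false)),
    (214, .gen 2316 (94, false)),
    (721, .gen 2316 (94, true)),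
    (3433, .gen 2316 (96, false)),
    (3313, .gen 2316 (96, true)),
    (2168, .gen 2316 (101, false)),
    (1921, .gen 32 (90, false)),
    (3085, .gen 32 (91, false)),
    (727, .gen 32 (92, false)),
    (1819, .gen 32 (93, false)),
    (2371, .gen 32 (94, false)),
    (211, .gen 32 (94, true)),
    (1257, .gen 32 (96, false)),
    (416, .gen 32 (96, true)),
    (1180, .gen 32 (101, false)),
    (1814, .gen 1157 (90, false)),
    (194, .gen 1157 (91, false)),
    (3539, .gen 1157 (96, false)),
    (9, .gen 1157 (96, true)),
    (596, .gen 1157 (101, false)),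
    (1315, .gen 17 (96, false)),
    (1364, .gen 17 (96, true)),
    (2897, .gen 17 (101, false)),
    (3232, .gen 376 (94, false)),
    (1388, .gen 376 (94, true)),
    (58, .gen 376 (96, false)),
    (1818, .gen 376 (101, false)),
    (2317, .gen 315 (94, false)),
    (418, .gen 315 (94, true)),
    (525, .gen 315 (101, false)),
    (2779, .gen 969 (90, false)),
    (2024, .gen 969 (91, false)),
    (398, .gen 969 (92, false)),
    (2901, .gen 969 (93, false)),
    (665, .gen 969 (94, false)),
    (900, .gen 969 (94, true)),
    (1113, .gen 89 (90, false)),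
    (30, .gen 89 (91, false)),
    (2670, .gen 89 (96, false)),
    (55, .gen 89 (96, true)),
    (1641, .gen 89 (101, false)),
    (2264, .gen 405 (96, false)),
    (862, .gen 405 (96, true)),
    (461, .gen 273 (90, false)),
    (344, .gen 273 (92, false)),
    (2507, .gen 273 (94, false)),
    (172, .gen 273 (94, true)),
    (1214, .gen 120 (90, false)),
    (377, .gen 120 (91, false)),
    (1164, .gen 120 (96, false)),
    (524, .gen 120 (96, true)),
    (28, .gen 120 (101, false)),
    (747, .gen 1423 (96, false)),
    (1358, .gen 1423 (96, true)),
    (570, .gen 1423 (101, false)),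
    (272, .gen 1310 (92, false)),
    (2915, .gen 1310 (94, false)),
    (814, .gen 1310 (94, true)),
    (2260, .gen 649 (94, false)),
    (2946, .gen 649 (94, true)),
    (1955, .gen 1867 (91, false)),
    (1081, .gen 1867 (93, false)),
    (477, .gen 1867 (94, false)),
    (1464, .gen 1023 (94, false)),
    (1022, .gen 1023 (94, true)),
    (923, .gen 355 (90, false)),
    (2145, .gen 355 (92, false)),
    (375, .gen 355 (94, false)),
    (783, .gen 355 (96, false)),
    (2013, .gen 355 (96, true)),
    (293, .gen 29 (93, false)),
    (341, .gen 29 (94, true)),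
    (1995, .gen 29 (96, false)),
    (218, .gen 1965 (92, false)),
    (2196, .gen 2066 (94, false)),
    (1370, .gen 2066 (94, true)),
    (219, .gen 1878 (94, false)),
    (222, .gen 2648 (94, true)),
    (992, .gen 2648 (96, true)),
    (1956, .gen 771 (94, false)),
    (144, .gen 771 (94, true)),
    (657, .gen 470 (94, false)),
    (1346, .gen 470 (94, true)),
    (816, .gen 1394 (94, false)),
    (37, .gen 1394 (94, true)),
    (1329, .gen 451 (92, false)),
    (547, .gen 451 (96, false)),
    (647, .gen 451 (96, true)),
    (496, .gen 451 (101, false)),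
    (2199, .gen 1073 (92, false)),
    (255, .gen 1073 (96, false)),
    (1651, .gen 1073 (96, true)),
    (3178, .gen 1073 (101, false)),
    (56, .gen 763 (96, false)),
    (365, .gen 763 (96, true)),
    (2727, .gen 763 (101, false)),
    (941, .gen 2005 (92, false)),
    (234, .gen 2005 (96, false)),
    (1319, .gen 2005 (96, true)),
    (1144, .gen 2005 (101, false)),
    (1177, .gen 356 (92, false)),
    (776, .gen 356 (93, false)),
    (1839, .gen 356 (94, false)),
    (3559, .gen 356 (94, true)),
    (263, .gen 356 (96, false)),
    (71, .gen 356 (101, false)),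
    (679, .gen 953 (92, false)),
    (964, .gen 953 (93, false)),
    (1605, .gen 953 (94, false)),
    (1838, .gen 953 (94, true)),
    (2206, .gen 953 (101, false)),
    (1071, .gen 224 (90, false)),
    (1222, .gen 224 (91, false)),
    (881, .gen 224 (92, false)),
    (786, .gen 224 (93, false)),
    (3746, .gen 224 (94, false)),
    (82, .gen 722 (91, false)),
    (1318, .gen 722 (92, false)),
    (388, .gen 722 (93, false)),
    (2108, .gen 722 (94, true)),
    (3345, .gen 722 (96, false)),
    (946, .gen 722 (96, true)),
    (602, .gen 722 (101, false)),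
    (331, .gen 3426 (92, false)),
    (568, .gen 3426 (93, false)),
    (2853, .gen 3426 (94, false)),
    (3229, .gen 3426 (96, false)),
    (2426, .gen 3426 (96, true)),
    (1179, .gen 3426 (101, false)),
    (595, .gen 3607 (90, false)),
    (43, .gen 3607 (91, false)),
    (1017, .gen 3607 (94, false)),
    (3075, .gen 3607 (96, false)),
    (2572, .gen 3607 (96, true)),
    (1951, .gen 3607 (101, false)),
    (723, .gen 511 (90, false)),
    (3390, .gen 511 (92, false)),
    (3635, .gen 511 (93, false)),
    (64, .gen 511 (94, false)),
    (735, .gen 511 (96, false)),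
    (1140, .gen 511 (101, false)),
    (302, .gen 1090 (92, false)),
    (2544, .gen 1090 (93, false)),
    (303, .gen 1090 (96, false)),
    (1143, .gen 1090 (96, true)),
    (469, .gen 1090 (101, false)),
    (1360, .gen 2035 (90, false)),
    (1788, .gen 2035 (92, false)),
    (1919, .gen 2035 (93, false)),
    (726, .gen 2035 (94, false)),
    (3258, .gen 2035 (94, true)),
    (830, .gen 2035 (96, false)),
    (1413, .gen 2035 (101, false)),
    (3051, .gen 761 (90, false)),
    (3667, .gen 761 (92, false)),
    (2289, .gen 761 (93, false)),
    (3430, .gen 761 (94, false)),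
    (1768, .gen 761 (101, false)),
    (1977, .gen 1739 (90, false)),
    (1537, .gen 1739 (91, false)),
    (283, .gen 1739 (92, false)),
    (1491, .gen 1739 (93, false)),
    (2398, .gen 1739 (94, false)),
    (1160, .gen 1739 (94, true)),
    (1278, .gen 1739 (96, false)),
    (1852, .gen 1739 (96, true)),
    (2533, .gen 2180 (91, false)),
    (1578, .gen 2180 (92, false)),
    (822, .gen 2180 (93, false)),
    (1006, .gen 2180 (94, false)),
    (711, .gen 2180 (94, true)),
    (2039, .gen 2180 (96, false)),
    (3685, .gen 2180 (96, true)),
    (1583, .gen 2114 (94, false)),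
    (2055, .gen 2114 (94, true)),
    (130, .gen 2114 (96, false)),
    (294, .gen 2114 (101, false)),
    (3471, .gen 258 (90, false)),
    (1459, .gen 258 (91, false)),
    (2795, .gen 258 (93, false)),
    (4, .gen 258 (94, false)),
    (221, .gen 258 (94, true)),
    (164, .gen 258 (96, false)),
    (2403, .gen 258 (96, true)),
    (1434, .gen 258 (101, false)),
    (2646, .gen 1253 (94, false)),
    (2732, .gen 1253 (94, true)),
    (522, .gen 1253 (96, false)),
    (1518, .gen 1253 (96, true)),
    (1411, .gen 1253 (101, false)),
    (3507, .gen 1808 (90, false)),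
    (1035, .gen 1808 (91, false)),
    (1331, .gen 1808 (92, false)),
    (2968, .gen 1808 (93, false)),
    (2333, .gen 1808 (96, false)),
    (2255, .gen 1808 (101, false)),
    (1599, .gen 204 (90, false)),
    (3518, .gen 204 (91, false)),
    (2622, .gen 204 (93, false)),
    (1640, .gen 97 (90, false)),
    (324, .gen 97 (92, false)),
    (1419, .gen 97 (93, false)),
    (34, .gen 97 (94, false)),
    (1804, .gen 97 (94, true)),
    (1127, .gen 97 (96, false)),
    (101, .gen 97 (101, false)),
    (1254, .gen 2174 (94, false)),
    (2297, .gen 2174 (94, true)),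
    (2110, .gen 2174 (101, false)),
    (1002, .gen 1038 (90, false)),
    (228, .gen 1038 (91, false)),
    (2443, .gen 1038 (93, false)),
    (1322, .gen 1038 (96, false)),
    (1952, .gen 2860 (92, false)),
    (1453, .gen 2860 (93, false)),
    (367, .gen 2860 (94, false)),
    (1967, .gen 2860 (94, true)),
    (571, .gen 2860 (96, false)),
    (2360, .gen 2860 (96, true)),
    (918, .gen 2860 (101, false)),
    (2193, .gen 3224 (92, false)),
    (163, .gen 3224 (94, false)),
    (3273, .gen 3224 (94, true))]

/-- Visits. -/
def v8_1 : List (ℕ × Src) :=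
  [(257, .gen 3224 (96, false)),
    (1774, .gen 3224 (96, true)),
    (706, .gen 3224 (101, false)),
    (1786, .gen 849 (90, false)),
    (2597, .gen 849 (94, false)),
    (935, .gen 849 (94, true)),
    (2511, .gen 849 (96, false)),
    (1934, .gen 849 (96, true)),
    (3777, .gen 849 (101, false)),
    (2098, .gen 214 (90, false)),
    (1514, .gen 214 (92, false)),
    (1708, .gen 214 (93, false)),
    (2348, .gen 214 (96, false)),
    (2768, .gen 214 (96, true)),
    (472, .gen 214 (101, false)),
    (2337, .gen 721 (92, false)),
    (73, .gen 721 (93, false)),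
    (239, .gen 721 (96, false)),
    (1456, .gen 721 (96, true)),
    (506, .gen 721 (101, false)),
    (977, .gen 3433 (93, false)),
    (757, .gen 3433 (94, false)),
    (1760, .gen 3433 (94, true)),
    (1498, .gen 3433 (96, false)),
    (38, .gen 3433 (101, false)),
    (3359, .gen 3313 (93, false)),
    (3710, .gen 3313 (94, false)),
    (3578, .gen 3313 (94, true)),
    (2780, .gen 3313 (101, false)),
    (1247, .gen 2168 (90, false)),
    (3031, .gen 2168 (91, false)),
    (1579, .gen 2168 (92, false)),
    (752, .gen 2168 (93, false)),
    (2607, .gen 2168 (94, false)),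
    (505, .gen 2168 (94, true)),
    (1511, .gen 2168 (96, false)),
    (2617, .gen 2168 (96, true)),
    (3401, .gen 1921 (92, false)),
    (2307, .gen 1921 (93, false)),
    (321, .gen 1921 (94, false)),
    (1662, .gen 1921 (94, true)),
    (661, .gen 1921 (96, false)),
    (3737, .gen 1921 (96, true)),
    (682, .gen 1921 (101, false)),
    (2175, .gen 3085 (92, false)),
    (2940, .gen 3085 (93, false)),
    (3566, .gen 3085 (94, false)),
    (2819, .gen 3085 (94, true)),
    (3708, .gen 3085 (96, false)),
    (3693, .gen 3085 (96, true)),
    (1047, .gen 3085 (101, false)),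
    (3250, .gen 727 (90, false)),
    (183, .gen 727 (91, false)),
    (2887, .gen 727 (93, false)),
    (3659, .gen 727 (94, false)),
    (3688, .gen 727 (94, true)),
    (782, .gen 727 (96, false)),
    (2061, .gen 727 (96, true)),
    (3594, .gen 727 (101, false)),
    (1592, .gen 1819 (90, false)),
    (410, .gen 1819 (91, false)),
    (1810, .gen 1819 (94, false)),
    (3775, .gen 1819 (94, true)),
    (1365, .gen 1819 (96, false)),
    (1549, .gen 1819 (96, true)),
    (2113, .gen 1819 (101, false)),
    (3651, .gen 2371 (92, false)),
    (1250, .gen 2371 (93, false)),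
    (2534, .gen 2371 (94, false)),
    (928, .gen 2371 (96, false)),
    (3286, .gen 2371 (96, true)),
    (2802, .gen 2371 (101, false)),
    (2032, .gen 211 (90, false)),
    (2743, .gen 211 (91, false)),
    (98, .gen 211 (92, false)),
    (412, .gen 211 (93, false)),
    (2031, .gen 211 (94, true)),
    (369, .gen 211 (96, false)),
    (1787, .gen 211 (96, true)),
    (3740, .gen 211 (101, false)),
    (823, .gen 1257 (92, false)),
    (2062, .gen 1257 (93, false)),
    (2602, .gen 1257 (94, false)),
    (2838, .gen 1257 (94, true)),
    (1478, .gen 1257 (96, false)),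
    (774, .gen 416 (92, false)),
    (159, .gen 416 (93, false)),
    (1133, .gen 416 (94, false)),
    (2613, .gen 416 (94, true)),
    (2147, .gen 1180 (90, false)),
    (2719, .gen 1180 (91, false)),
    (2409, .gen 1180 (92, false)),
    (2598, .gen 1180 (93, false)),
    (2707, .gen 1180 (94, false)),
    (2959, .gen 1180 (94, true)),
    (681, .gen 1180 (96, false)),
    (3757, .gen 1180 (96, true)),
    (1918, .gen 1814 (94, false)),
    (3012, .gen 1814 (96, false)),
    (584, .gen 1814 (96, true)),
    (2894, .gen 1814 (101, false)),
    (1061, .gen 194 (96, false)),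
    (1412, .gen 194 (96, true)),
    (1946, .gen 194 (101, false)),
    (1013, .gen 3539 (94, false)),
    (3404, .gen 3539 (94, true)),
    (2109, .gen 3539 (96, false)),
    (3465, .gen 3539 (101, false)),
    (269, .gen 9 (94, false)),
    (2073, .gen 9 (94, true)),
    (20, .gen 9 (101, false)),
    (3449, .gen 596 (90, false)),
    (1684, .gen 596 (91, false)),
    (1, .gen 596 (92, false)),
    (2683, .gen 596 (93, false)),
    (3294, .gen 596 (94, false)),
    (1188, .gen 596 (94, true)),
    (2611, .gen 596 (96, false)),
    (672, .gen 596 (96, true)),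
    (3314, .gen 1315 (94, false)),
    (3748, .gen 1315 (94, true)),
    (22, .gen 1315 (96, false)),
    (3054, .gen 1364 (94, false)),
    (1116, .gen 1364 (94, true)),
    (0, .gen 1364 (101, false)),
    (2296, .gen 2897 (91, false)),
    (995, .gen 2897 (92, false)),
    (2187, .gen 2897 (94, false)),
    (1450, .gen 2897 (94, true)),
    (1829, .gen 2897 (96, false)),
    (962, .gen 2897 (96, true)),
    (3416, .gen 3232 (90, false)),
    (493, .gen 3232 (91, false)),
    (1619, .gen 3232 (96, false)),
    (2997, .gen 3232 (96, true)),
    (998, .gen 3232 (101, false)),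
    (1725, .gen 1388 (96, false)),
    (514, .gen 1388 (96, true)),
    (3276, .gen 1388 (101, false)),
    (175, .gen 1818 (90, false)),
    (885, .gen 1818 (92, false)),
    (3486, .gen 1818 (93, false)),
    (1236, .gen 1818 (94, false)),
    (486, .gen 1818 (94, true)),
    (2639, .gen 2317 (90, false)),
    (395, .gen 2317 (91, false)),
    (1941, .gen 2317 (101, false)),
    (2385, .gen 418 (101, false)),
    (1040, .gen 525 (90, false)),
    (138, .gen 525 (92, false)),
    (2818, .gen 525 (93, false)),
    (517, .gen 525 (94, true)),
    (1401, .gen 2779 (91, false)),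
    (635, .gen 2779 (92, false)),
    (3650, .gen 2779 (93, false)),
    (1490, .gen 2779 (94, false)),
    (1261, .gen 2779 (94, true)),
    (2056, .gen 2779 (101, false)),
    (2594, .gen 2024 (92, false)),
    (3612, .gen 2024 (93, false)),
    (2620, .gen 2024 (94, false)),
    (3602, .gen 2024 (94, true)),
    (2164, .gen 398 (93, false)),
    (3467, .gen 398 (94, false)),
    (2525, .gen 398 (94, true)),
    (3066, .gen 2901 (96, false)),
    (1496, .gen 665 (91, false)),
    (3455, .gen 665 (92, false)),
    (2587, .gen 665 (101, false)),
    (2478, .gen 900 (101, false)),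
    (1915, .gen 2670 (94, true)),
    (391, .gen 55 (94, true)),
    (1301, .gen 1641 (93, false)),
    (1851, .gen 1641 (94, true)),
    (2240, .gen 2264 (94, false)),
    (310, .gen 862 (94, false)),
    (109, .gen 461 (92, false)),
    (2579, .gen 344 (94, false)),
    (1576, .gen 344 (94, true)),
    (271, .gen 2915 (92, false)),
    (1372, .gen 1329 (96, true)),
    (2785, .gen 1329 (101, false)),
    (1908, .gen 547 (94, false)),
    (1681, .gen 547 (94, true)),
    (2542, .gen 547 (96, false)),
    (991, .gen 547 (101, false)),
    (817, .gen 647 (92, false)),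
    (2155, .gen 647 (94, false)),
    (2453, .gen 647 (94, true)),
    (1076, .gen 647 (101, false)),
    (944, .gen 496 (91, false)),
    (1430, .gen 496 (92, false)),
    (2043, .gen 496 (93, false)),
    (3351, .gen 496 (94, false)),
    (349, .gen 496 (94, true)),
    (622, .gen 2199 (101, false)),
    (3079, .gen 255 (94, false)),
    (1306, .gen 255 (94, true)),
    (2125, .gen 255 (96, false)),
    (1643, .gen 255 (101, false)),
    (1658, .gen 1651 (94, false)),
    (3290, .gen 1651 (94, true)),
    (1187, .gen 1651 (101, false)),
    (206, .gen 3178 (91, false)),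
    (1186, .gen 3178 (92, false)),
    (2981, .gen 3178 (93, false)),
    (2197, .gen 3178 (94, false)),
    (2134, .gen 56 (94, false)),
    (362, .gen 56 (94, true)),
    (625, .gen 56 (96, false)),
    (908, .gen 56 (101, false)),
    (2814, .gen 365 (94, false)),
    (3499, .gen 365 (94, true)),
    (1742, .gen 365 (101, false)),
    (329, .gen 2727 (91, false)),
    (3762, .gen 2727 (92, false)),
    (2458, .gen 2727 (93, false)),
    (688, .gen 2727 (94, false)),
    (1555, .gen 2727 (96, false)),
    (3779, .gen 2727 (96, true)),
    (1241, .gen 941 (101, false)),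
    (1078, .gen 234 (94, false)),
    (644, .gen 234 (94, true)),
    (1213, .gen 234 (96, false)),
    (3014, .gen 1319 (94, false)),
    (1848, .gen 1319 (94, true)),
    (1772, .gen 1319 (101, false)),
    (407, .gen 1144 (91, false)),
    (712, .gen 1144 (92, false)),
    (1637, .gen 1144 (93, false)),
    (3482, .gen 1144 (94, false)),
    (1688, .gen 1144 (94, true)),
    (3221, .gen 1177 (94, false)),
    (3496, .gen 1177 (94, true)),
    (359, .gen 1177 (96, true)),
    (3732, .gen 776 (94, false)),
    (841, .gen 776 (94, true)),
    (780, .gen 776 (96, true)),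
    (3590, .gen 776 (101, false)),
    (1063, .gen 1839 (92, false)),
    (2226, .gen 3559 (96, false)),
    (78, .gen 3559 (101, false)),
    (960, .gen 71 (92, false)),
    (284, .gen 71 (93, false)),
    (3501, .gen 71 (94, false)),
    (3500, .gen 71 (94, true)),
    (3691, .gen 679 (94, false)),
    (3557, .gen 679 (94, true)),
    (1008, .gen 964 (94, true)),
    (879, .gen 964 (96, false)),
    (2947, .gen 964 (101, false)),
    (301, .gen 1605 (101, false)),
    (3350, .gen 1838 (96, true)),
    (154, .gen 1838 (101, false)),
    (337, .gen 2206 (92, false)),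
    (3255, .gen 2206 (93, false)),
    (3078, .gen 2206 (94, true)),
    (2545, .gen 1071 (92, false)),
    (1376, .gen 1071 (93, false)),
    (3222, .gen 1071 (94, false)),
    (510, .gen 1071 (94, true)),
    (285, .gen 1222 (92, false)),
    (1130, .gen 1222 (93, false)),
    (3023, .gen 1222 (94, false)),
    (627, .gen 881 (93, false)),
    (423, .gen 881 (96, false)),
    (540, .gen 881 (96, true)),
    (220, .gen 786 (96, false)),
    (636, .gen 786 (96, true)),
    (3533, .gen 786 (101, false)),
    (1713, .gen 3746 (92, false)),
    (809, .gen 3746 (93, false)),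
    (864, .gen 3746 (96, false)),
    (2027, .gen 3746 (96, true)),
    (2243, .gen 3746 (101, false)),
    (1560, .gen 82 (94, true)),
    (371, .gen 82 (101, false)),
    (2425, .gen 1318 (90, false)),
    (840, .gen 1318 (91, false)),
    (2577, .gen 1318 (94, false)),
    (1706, .gen 1318 (94, true)),
    (943, .gen 1318 (96, false)),
    (741, .gen 1318 (96, true)),
    (2872, .gen 1318 (101, false)),
    (3373, .gen 388 (90, false)),
    (687, .gen 388 (91, false)),
    (561, .gen 388 (94, false)),
    (835, .gen 388 (94, true)),
    (1982, .gen 388 (96, false)),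
    (1790, .gen 388 (96, true)),
    (3347, .gen 388 (101, false)),
    (1042, .gen 2108 (90, false)),
    (145, .gen 2108 (91, false)),
    (277, .gen 2108 (96, true)),
    (3057, .gen 2108 (101, false)),
    (1467, .gen 3345 (92, false)),
    (3582, .gen 3345 (94, false)),
    (1446, .gen 3345 (94, true)),
    (740, .gen 3345 (96, false)),
    (3451, .gen 3345 (101, false))]

/-- Visits. -/
def v8_2 : List (ℕ × Src) :=
  [(1158, .gen 946 (92, false)),
    (306, .gen 946 (93, false)),
    (1332, .gen 946 (94, true)),
    (87, .gen 946 (101, false)),
    (3324, .gen 602 (90, false)),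
    (2603, .gen 602 (91, false)),
    (1173, .gen 602 (92, false)),
    (333, .gen 602 (93, false)),
    (2712, .gen 602 (94, false)),
    (3204, .gen 602 (94, true)),
    (748, .gen 602 (96, false)),
    (1690, .gen 602 (96, true)),
    (2439, .gen 331 (90, false)),
    (2051, .gen 331 (91, false)),
    (574, .gen 331 (94, true)),
    (3213, .gen 331 (96, false)),
    (3573, .gen 331 (96, true)),
    (3479, .gen 331 (101, false)),
    (2549, .gen 568 (91, false)),
    (132, .gen 568 (94, true)),
    (3546, .gen 568 (96, false)),
    (3100, .gen 568 (96, true)),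
    (2412, .gen 568 (101, false)),
    (102, .gen 2853 (92, false)),
    (848, .gen 2853 (93, false)),
    (2626, .gen 2853 (96, true)),
    (1809, .gen 2853 (101, false)),
    (2526, .gen 3229 (92, false)),
    (2840, .gen 3229 (93, false)),
    (3661, .gen 3229 (94, false)),
    (3393, .gen 3229 (94, true)),
    (1795, .gen 3229 (96, false)),
    (2830, .gen 3229 (101, false)),
    (1099, .gen 2426 (92, false)),
    (3490, .gen 2426 (93, false)),
    (1993, .gen 2426 (94, false)),
    (90, .gen 2426 (101, false)),
    (480, .gen 1179 (90, false)),
    (3768, .gen 1179 (91, false)),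
    (1543, .gen 1179 (93, false)),
    (3247, .gen 1179 (94, false)),
    (2919, .gen 1179 (94, true)),
    (1773, .gen 1179 (96, true)),
    (2692, .gen 595 (96, false)),
    (1704, .gen 595 (96, true)),
    (116, .gen 595 (101, false)),
    (3673, .gen 43 (101, false)),
    (581, .gen 1017 (96, false)),
    (3410, .gen 1017 (96, true)),
    (1115, .gen 1017 (101, false)),
    (124, .gen 3075 (92, false)),
    (2570, .gen 3075 (93, false)),
    (1631, .gen 3075 (94, false)),
    (3365, .gen 3075 (96, false)),
    (652, .gen 3075 (101, false)),
    (2882, .gen 2572 (93, false)),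
    (2301, .gen 2572 (94, false)),
    (24, .gen 2572 (94, true)),
    (1798, .gen 2572 (101, false)),
    (3694, .gen 1951 (91, false)),
    (1217, .gen 1951 (93, false)),
    (1415, .gen 1951 (94, false)),
    (1378, .gen 1951 (94, true)),
    (1799, .gen 1951 (96, false)),
    (1108, .gen 1951 (96, true)),
    (3445, .gen 723 (92, false)),
    (2774, .gen 723 (96, false)),
    (77, .gen 723 (101, false)),
    (1131, .gen 3390 (94, true)),
    (3193, .gen 3390 (96, true)),
    (1966, .gen 3390 (101, false)),
    (2350, .gen 3635 (94, true)),
    (2665, .gen 3635 (96, true)),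
    (851, .gen 3635 (101, false)),
    (2303, .gen 64 (96, true)),
    (919, .gen 64 (101, false)),
    (1691, .gen 735 (90, false)),
    (3248, .gen 735 (92, false)),
    (3240, .gen 735 (93, false)),
    (289, .gen 735 (94, false)),
    (3589, .gen 735 (94, true)),
    (3171, .gen 735 (101, false)),
    (3047, .gen 1140 (90, false)),
    (3306, .gen 1140 (91, false)),
    (650, .gen 1140 (92, false)),
    (3617, .gen 1140 (93, false)),
    (2340, .gen 1140 (94, false)),
    (1497, .gen 1140 (94, true)),
    (2152, .gen 1140 (96, false)),
    (2877, .gen 302 (90, false)),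
    (2091, .gen 302 (91, false)),
    (1926, .gen 302 (96, false)),
    (1899, .gen 302 (96, true)),
    (760, .gen 302 (101, false)),
    (3088, .gen 2544 (90, false)),
    (199, .gen 2544 (91, false)),
    (3569, .gen 2544 (96, false)),
    (288, .gen 2544 (96, true)),
    (2546, .gen 2544 (101, false)),
    (1083, .gen 303 (92, false)),
    (1153, .gen 303 (94, true)),
    (274, .gen 303 (96, false)),
    (2413, .gen 1143 (92, false)),
    (3017, .gen 1143 (94, true)),
    (2330, .gen 1143 (101, false)),
    (2387, .gen 469 (91, false)),
    (1477, .gen 469 (92, false)),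
    (253, .gen 469 (93, false)),
    (898, .gen 469 (94, false)),
    (3502, .gen 469 (94, true)),
    (3244, .gen 469 (96, false)),
    (112, .gen 469 (96, true)),
    (590, .gen 1360 (92, false)),
    (100, .gen 1360 (93, false)),
    (1088, .gen 1360 (94, true)),
    (897, .gen 1360 (96, false)),
    (868, .gen 1360 (101, false)),
    (3370, .gen 1788 (93, false)),
    (3024, .gen 1788 (94, false)),
    (2081, .gen 1788 (96, true)),
    (2841, .gen 1788 (101, false)),
    (3283, .gen 1919 (91, false)),
    (2936, .gen 1919 (94, false)),
    (1207, .gen 1919 (96, true)),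
    (2948, .gen 1919 (101, false)),
    (2188, .gen 726 (90, false)),
    (1202, .gen 726 (92, false)),
    (3227, .gen 726 (94, false)),
    (3217, .gen 726 (96, false)),
    (554, .gen 726 (96, true)),
    (1171, .gen 726 (101, false)),
    (2213, .gen 3258 (94, true)),
    (1561, .gen 3258 (96, false)),
    (2547, .gen 3258 (101, false)),
    (2791, .gen 830 (93, false)),
    (18, .gen 830 (94, true)),
    (1445, .gen 1413 (92, false)),
    (828, .gen 1413 (93, false)),
    (252, .gen 1413 (94, false)),
    (2958, .gen 1413 (94, true)),
    (1822, .gen 1413 (96, false)),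
    (497, .gen 3051 (101, false)),
    (384, .gen 3667 (90, false)),
    (3678, .gen 3667 (93, false)),
    (947, .gen 3667 (94, false)),
    (2138, .gen 3667 (94, true)),
    (2239, .gen 3667 (101, false)),
    (2636, .gen 2289 (90, false)),
    (3727, .gen 2289 (91, false)),
    (3141, .gen 2289 (94, false)),
    (173, .gen 2289 (96, false)),
    (880, .gen 2289 (101, false)),
    (1972, .gen 3430 (92, false)),
    (3218, .gen 3430 (93, false)),
    (3717, .gen 3430 (96, true)),
    (1495, .gen 3430 (101, false)),
    (1383, .gen 1768 (90, false)),
    (2909, .gen 1768 (92, false)),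
    (1152, .gen 1768 (93, false)),
    (3118, .gen 1768 (94, false)),
    (2273, .gen 1768 (94, true)),
    (1894, .gen 1977 (92, false)),
    (959, .gen 1977 (93, false)),
    (1718, .gen 1977 (94, false)),
    (2063, .gen 1977 (94, true)),
    (612, .gen 1977 (96, false)),
    (1639, .gen 1977 (96, true)),
    (853, .gen 1537 (93, false)),
    (409, .gen 1537 (94, false)),
    (2070, .gen 1537 (94, true)),
    (2658, .gen 283 (93, false)),
    (3491, .gen 283 (94, false)),
    (3037, .gen 283 (94, true)),
    (2705, .gen 1491 (90, false)),
    (2034, .gen 1491 (91, false)),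
    (2932, .gen 1491 (94, false)),
    (951, .gen 1491 (94, true)),
    (866, .gen 1491 (96, false)),
    (630, .gen 1491 (96, true)),
    (3019, .gen 1491 (101, false)),
    (260, .gen 2398 (90, false)),
    (3736, .gen 2398 (91, false)),
    (60, .gen 2398 (92, false)),
    (1935, .gen 2398 (93, false)),
    (1623, .gen 2398 (94, false)),
    (2630, .gen 2398 (96, false)),
    (2702, .gen 2398 (96, true)),
    (2506, .gen 2398 (101, false)),
    (1032, .gen 1160 (91, false)),
    (3092, .gen 1160 (92, false)),
    (1145, .gen 1160 (94, true)),
    (1981, .gen 1160 (96, false)),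
    (2861, .gen 1160 (101, false)),
    (604, .gen 1278 (90, false)),
    (1898, .gen 1278 (93, false)),
    (2891, .gen 1278 (94, false)),
    (1052, .gen 1278 (94, true)),
    (1005, .gen 1852 (90, false)),
    (3427, .gen 1852 (93, false)),
    (1405, .gen 1852 (94, false)),
    (1492, .gen 1852 (94, true)),
    (422, .gen 2533 (94, false)),
    (699, .gen 2533 (94, true)),
    (148, .gen 1578 (93, false)),
    (2610, .gen 1578 (94, true)),
    (920, .gen 1578 (101, false)),
    (254, .gen 822 (94, false)),
    (184, .gen 1006 (90, false)),
    (2129, .gen 1006 (92, false)),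
    (247, .gen 1006 (101, false)),
    (201, .gen 711 (90, false)),
    (563, .gen 711 (91, false)),
    (2421, .gen 711 (93, false)),
    (1868, .gen 711 (101, false)),
    (921, .gen 2039 (94, true)),
    (3130, .gen 2039 (96, false)),
    (3211, .gen 2039 (101, false)),
    (870, .gen 3685 (94, true)),
    (3567, .gen 2055 (93, false)),
    (3311, .gen 2055 (96, true)),
    (2143, .gen 130 (92, false)),
    (3677, .gen 130 (93, false)),
    (372, .gen 130 (94, false)),
    (1888, .gen 130 (101, false)),
    (894, .gen 294 (96, true)),
    (755, .gen 3471 (101, false)),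
    (1863, .gen 2795 (96, false)),
    (867, .gen 2795 (101, false)),
    (1570, .gen 4 (90, false)),
    (2339, .gen 4 (92, false)),
    (1700, .gen 221 (96, false)),
    (648, .gen 221 (101, false)),
    (2420, .gen 164 (96, false)),
    (1117, .gen 2403 (101, false)),
    (2121, .gen 1434 (93, false)),
    (2688, .gen 2732 (96, true)),
    (1379, .gen 1518 (94, true)),
    (2388, .gen 3507 (96, false)),
    (572, .gen 2622 (91, false)),
    (1421, .gen 1254 (92, false)),
    (2961, .gen 1952 (90, false)),
    (143, .gen 1952 (94, false)),
    (229, .gen 1952 (94, true)),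
    (2097, .gen 1952 (96, false)),
    (2176, .gen 1952 (96, true)),
    (509, .gen 1952 (101, false)),
    (1593, .gen 1453 (90, false)),
    (591, .gen 1453 (94, false)),
    (2642, .gen 1453 (94, true)),
    (2257, .gen 1453 (96, false)),
    (1556, .gen 1453 (96, true)),
    (261, .gen 1453 (101, false)),
    (1687, .gen 367 (90, false)),
    (1520, .gen 367 (91, false)),
    (2931, .gen 367 (92, false)),
    (445, .gen 367 (96, false)),
    (278, .gen 367 (96, true)),
    (2094, .gen 367 (101, false)),
    (2153, .gen 1967 (96, false)),
    (1064, .gen 1967 (96, true)),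
    (1502, .gen 1967 (101, false)),
    (678, .gen 571 (93, false)),
    (3644, .gen 571 (94, false)),
    (2589, .gen 571 (94, true)),
    (3126, .gen 571 (96, false)),
    (2800, .gen 571 (101, false)),
    (1816, .gen 2360 (94, false)),
    (1559, .gen 2360 (94, true)),
    (1636, .gen 2360 (101, false)),
    (1551, .gen 918 (90, false)),
    (2407, .gen 918 (91, false)),
    (2976, .gen 918 (92, false)),
    (1669, .gen 918 (93, false)),
    (2950, .gen 918 (94, false)),
    (1029, .gen 918 (94, true)),
    (703, .gen 918 (96, false)),
    (2952, .gen 918 (96, true)),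
    (700, .gen 2193 (94, false)),
    (52, .gen 2193 (94, true)),
    (2489, .gen 2193 (96, false)),
    (1098, .gen 2193 (96, true)),
    (2836, .gen 2193 (101, false)),
    (3346, .gen 163 (92, false)),
    (1243, .gen 163 (93, false)),
    (1112, .gen 163 (96, false)),
    (345, .gen 163 (96, true)),
    (2130, .gen 163 (101, false)),
    (282, .gen 3273 (92, false)),
    (1862, .gen 3273 (93, false)),
    (3598, .gen 3273 (96, false)),
    (3435, .gen 3273 (96, true)),
    (483, .gen 3273 (101, false)),
    (3434, .gen 257 (93, false)),
    (2096, .gen 257 (94, false)),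
    (3723, .gen 257 (94, true)),
    (2826, .gen 257 (96, false)),
    (3068, .gen 257 (101, false)),
    (3144, .gen 1774 (93, false)),
    (3585, .gen 1774 (94, false)),
    (69, .gen 1774 (94, true))]

/-- Visits. -/
def v8_3 : List (ℕ × Src) :=
  [(807, .gen 1774 (101, false)),
    (230, .gen 706 (90, false)),
    (3288, .gen 706 (91, false)),
    (734, .gen 706 (92, false)),
    (2194, .gen 706 (93, false)),
    (3675, .gen 706 (94, false)),
    (1382, .gen 706 (94, true)),
    (1750, .gen 706 (96, false)),
    (3353, .gen 706 (96, true)),
    (940, .gen 1786 (94, true)),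
    (3613, .gen 1786 (96, false)),
    (417, .gen 1786 (96, true)),
    (146, .gen 1786 (101, false)),
    (1270, .gen 2597 (90, false)),
    (1634, .gen 2597 (96, false)),
    (556, .gen 2597 (96, true)),
    (3544, .gen 2597 (101, false)),
    (187, .gen 935 (96, false)),
    (1072, .gen 935 (101, false)),
    (2218, .gen 2511 (93, false)),
    (3158, .gen 2511 (94, false)),
    (1743, .gen 2511 (94, true)),
    (2040, .gen 2511 (96, false)),
    (973, .gen 1934 (93, false)),
    (1141, .gen 1934 (94, false)),
    (2536, .gen 1934 (94, true)),
    (3198, .gen 3777 (90, false)),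
    (2633, .gen 3777 (91, false)),
    (709, .gen 3777 (92, false)),
    (1091, .gen 3777 (93, false)),
    (385, .gen 3777 (94, false)),
    (2988, .gen 3777 (94, true)),
    (1724, .gen 2098 (92, false)),
    (1012, .gen 2098 (93, false)),
    (1259, .gen 2098 (96, false)),
    (1779, .gen 2098 (96, true)),
    (1209, .gen 2098 (101, false)),
    (2685, .gen 1514 (96, false)),
    (1910, .gen 1514 (96, true)),
    (3291, .gen 1514 (101, false)),
    (1936, .gen 1708 (96, false)),
    (1840, .gen 1708 (96, true)),
    (3140, .gen 1708 (101, false)),
    (537, .gen 2348 (93, false)),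
    (441, .gen 2348 (94, false)),
    (1582, .gen 2348 (94, true)),
    (1802, .gen 2348 (96, false)),
    (1665, .gen 2348 (101, false)),
    (2868, .gen 2768 (93, false)),
    (566, .gen 2768 (94, false)),
    (2663, .gen 2768 (94, true)),
    (2886, .gen 2768 (101, false)),
    (1566, .gen 472 (90, false)),
    (2067, .gen 472 (91, false)),
    (2809, .gen 472 (92, false)),
    (3666, .gen 472 (93, false)),
    (1854, .gen 472 (94, false)),
    (2913, .gen 472 (94, true)),
    (3787, .gen 472 (96, false)),
    (733, .gen 472 (96, true)),
    (2509, .gen 2337 (90, false)),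
    (1584, .gen 2337 (96, false)),
    (966, .gen 2337 (96, true)),
    (3735, .gen 2337 (101, false)),
    (1553, .gen 73 (90, false)),
    (3326, .gen 73 (96, false)),
    (2687, .gen 73 (96, true)),
    (3344, .gen 73 (101, false)),
    (3254, .gen 239 (94, false)),
    (2983, .gen 239 (94, true)),
    (965, .gen 239 (96, false)),
    (178, .gen 239 (101, false)),
    (642, .gen 1456 (94, false)),
    (1201, .gen 1456 (94, true)),
    (1041, .gen 1456 (101, false)),
    (3049, .gen 506 (90, false)),
    (2996, .gen 506 (91, false)),
    (2560, .gen 506 (92, false)),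
    (2282, .gen 506 (93, false)),
    (1488, .gen 506 (94, false)),
    (2807, .gen 506 (94, true)),
    (3101, .gen 506 (96, false)),
    (476, .gen 506 (96, true)),
    (3169, .gen 977 (91, false)),
    (668, .gen 977 (94, false)),
    (1960, .gen 977 (94, true)),
    (2543, .gen 977 (96, true)),
    (651, .gen 977 (101, false)),
    (323, .gen 757 (90, false)),
    (3176, .gen 757 (91, false)),
    (931, .gen 757 (92, false)),
    (725, .gen 757 (93, false)),
    (3329, .gen 757 (94, false)),
    (1162, .gen 757 (96, false)),
    (2760, .gen 757 (96, true)),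
    (251, .gen 757 (101, false)),
    (1601, .gen 1760 (90, false)),
    (44, .gen 1760 (91, false)),
    (1789, .gen 1760 (92, false)),
    (2237, .gen 1760 (94, true)),
    (139, .gen 1760 (96, false)),
    (246, .gen 1760 (96, true)),
    (1803, .gen 1760 (101, false)),
    (2181, .gen 1498 (94, false)),
    (680, .gen 1498 (94, true)),
    (135, .gen 38 (90, false)),
    (796, .gen 38 (92, false)),
    (403, .gen 38 (93, false)),
    (2675, .gen 38 (94, false)),
    (2875, .gen 38 (94, true)),
    (2764, .gen 3359 (91, false)),
    (2618, .gen 3359 (96, false)),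
    (1455, .gen 3359 (101, false)),
    (482, .gen 3710 (90, false)),
    (917, .gen 3710 (91, false)),
    (3642, .gen 3710 (92, false)),
    (2210, .gen 3710 (96, false)),
    (2328, .gen 3710 (96, true)),
    (244, .gen 3710 (101, false)),
    (3663, .gen 3578 (90, false)),
    (3284, .gen 3578 (91, false)),
    (3508, .gen 3578 (92, false)),
    (3550, .gen 3578 (93, false)),
    (582, .gen 3578 (96, false)),
    (593, .gen 3578 (96, true)),
    (564, .gen 3578 (101, false)),
    (857, .gen 2780 (90, false)),
    (1711, .gen 2780 (92, false)),
    (577, .gen 2780 (93, false)),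
    (96, .gen 2780 (94, false)),
    (980, .gen 2780 (94, true)),
    (929, .gen 1247 (91, false)),
    (2349, .gen 1247 (92, false)),
    (3570, .gen 1247 (93, false)),
    (1085, .gen 1247 (94, false)),
    (1418, .gen 1247 (94, true)),
    (3510, .gen 1247 (96, false)),
    (1211, .gen 1247 (96, true)),
    (2895, .gen 3031 (92, false)),
    (3216, .gen 3031 (93, false)),
    (3125, .gen 3031 (94, false)),
    (518, .gen 3031 (94, true)),
    (21, .gen 1579 (90, false)),
    (15, .gen 1579 (91, false)),
    (2552, .gen 1579 (93, false)),
    (2465, .gen 1579 (94, false)),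
    (3173, .gen 1579 (94, true)),
    (2099, .gen 1579 (96, false)),
    (1747, .gen 1579 (96, true)),
    (1167, .gen 1579 (101, false)),
    (3228, .gen 752 (90, false)),
    (3572, .gen 752 (91, false)),
    (2746, .gen 752 (94, false)),
    (2989, .gen 752 (94, true)),
    (74, .gen 752 (96, false)),
    (33, .gen 752 (96, true)),
    (3175, .gen 752 (101, false)),
    (2661, .gen 2607 (90, false)),
    (981, .gen 2607 (91, false)),
    (129, .gen 2607 (92, false)),
    (863, .gen 2607 (93, false)),
    (3341, .gen 2607 (94, false)),
    (3481, .gen 2607 (96, false)),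
    (3785, .gen 2607 (96, true)),
    (320, .gen 2607 (101, false)),
    (3407, .gen 505 (91, false)),
    (804, .gen 505 (92, false)),
    (2522, .gen 505 (101, false)),
    (598, .gen 1511 (90, false)),
    (1975, .gen 1511 (92, false)),
    (2102, .gen 1511 (93, false)),
    (3747, .gen 1511 (94, false)),
    (1245, .gen 1511 (94, true)),
    (286, .gen 2617 (90, false)),
    (1845, .gen 2617 (92, false)),
    (2292, .gen 2617 (93, false)),
    (2431, .gen 2617 (94, false)),
    (3411, .gen 2617 (94, true)),
    (3103, .gen 3401 (90, false)),
    (343, .gen 3401 (91, false)),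
    (1962, .gen 3401 (93, false)),
    (3664, .gen 3401 (94, false)),
    (2992, .gen 3401 (94, true)),
    (2851, .gen 3401 (96, false)),
    (1771, .gen 3401 (96, true)),
    (3483, .gen 3401 (101, false)),
    (128, .gen 2307 (90, false)),
    (313, .gen 2307 (91, false)),
    (2230, .gen 2307 (94, false)),
    (290, .gen 2307 (94, true)),
    (3701, .gen 2307 (96, false)),
    (2718, .gen 2307 (96, true)),
    (3132, .gen 2307 (101, false)),
    (1102, .gen 321 (90, false)),
    (13, .gen 321 (91, false)),
    (1522, .gen 321 (92, false)),
    (578, .gen 321 (93, false)),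
    (1472, .gen 321 (94, false)),
    (737, .gen 321 (96, false)),
    (891, .gen 321 (96, true)),
    (2711, .gen 321 (101, false)),
    (2660, .gen 1662 (90, false)),
    (76, .gen 1662 (91, false)),
    (2833, .gen 1662 (92, false)),
    (3534, .gen 1662 (93, false)),
    (350, .gen 1662 (96, false)),
    (693, .gen 1662 (96, true)),
    (3463, .gen 661 (92, false)),
    (691, .gen 661 (93, false)),
    (2863, .gen 661 (94, false)),
    (1632, .gen 661 (94, true)),
    (3167, .gen 661 (96, false)),
    (2058, .gen 3737 (92, false)),
    (1367, .gen 3737 (93, false)),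
    (3055, .gen 3737 (94, false)),
    (2673, .gen 3737 (94, true)),
    (2749, .gen 3737 (101, false)),
    (845, .gen 682 (90, false)),
    (1258, .gen 682 (91, false)),
    (2446, .gen 682 (92, false)),
    (930, .gen 682 (93, false)),
    (1953, .gen 682 (94, false)),
    (393, .gen 682 (94, true)),
    (2335, .gen 682 (96, false)),
    (1033, .gen 682 (96, true)),
    (2574, .gen 2175 (90, false)),
    (3475, .gen 2175 (91, false)),
    (1294, .gen 2175 (93, false)),
    (1597, .gen 2175 (94, false)),
    (1316, .gen 2175 (94, true)),
    (2318, .gen 2175 (96, false)),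
    (3738, .gen 2175 (96, true)),
    (2163, .gen 2175 (101, false)),
    (546, .gen 2940 (90, false)),
    (1069, .gen 2940 (91, false)),
    (1904, .gen 2940 (94, false)),
    (1983, .gen 2940 (94, true)),
    (1468, .gen 2940 (96, false)),
    (609, .gen 2940 (96, true)),
    (2869, .gen 2940 (101, false)),
    (2502, .gen 3566 (92, false)),
    (1589, .gen 3566 (93, false)),
    (3699, .gen 3566 (96, false)),
    (3035, .gen 3566 (96, true)),
    (3207, .gen 2819 (92, false)),
    (759, .gen 2819 (93, false)),
    (2680, .gen 2819 (94, true)),
    (2302, .gen 2819 (96, false)),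
    (1414, .gen 2819 (96, true)),
    (785, .gen 2819 (101, false)),
    (2313, .gen 3708 (92, false)),
    (1736, .gen 3708 (93, false)),
    (1714, .gen 3708 (94, false)),
    (2476, .gen 3708 (94, true)),
    (1138, .gen 3708 (96, false)),
    (3251, .gen 3693 (92, false)),
    (3305, .gen 3693 (93, false)),
    (1409, .gen 3693 (94, false)),
    (2042, .gen 3693 (94, true)),
    (1940, .gen 1047 (90, false)),
    (1060, .gen 1047 (91, false)),
    (3296, .gen 1047 (94, false)),
    (1377, .gen 1047 (94, true)),
    (1689, .gen 1047 (96, false)),
    (2166, .gen 1047 (96, true)),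
    (2485, .gen 3250 (91, false)),
    (1917, .gen 3250 (92, false)),
    (3237, .gen 3250 (93, false)),
    (3734, .gen 3250 (94, false)),
    (1628, .gen 3250 (94, true)),
    (2068, .gen 3250 (96, false)),
    (3711, .gen 3250 (96, true)),
    (2383, .gen 3250 (101, false)),
    (51, .gen 183 (93, false)),
    (592, .gen 183 (94, false)),
    (3234, .gen 183 (94, true)),
    (1850, .gen 183 (101, false)),
    (3638, .gen 2887 (94, false)),
    (448, .gen 2887 (94, true)),
    (1958, .gen 2887 (96, false)),
    (2999, .gen 2887 (96, true)),
    (2794, .gen 2887 (101, false)),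
    (3459, .gen 3659 (90, false)),
    (2728, .gen 3659 (94, false)),
    (1565, .gen 3659 (96, false)),
    (985, .gen 3659 (96, true)),
    (617, .gen 3659 (101, false)),
    (2681, .gen 3688 (90, false)),
    (988, .gen 3688 (91, false)),
    (3478, .gen 3688 (92, false)),
    (1622, .gen 3688 (93, false)),
    (1248, .gen 3688 (94, true)),
    (2204, .gen 3688 (96, false)),
    (673, .gen 3688 (96, true)),
    (3318, .gen 3688 (101, false)),
    (846, .gen 782 (90, false)),
    (490, .gen 782 (93, false)),
    (833, .gen 782 (94, false)),
    (2888, .gen 782 (94, true)),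
    (1895, .gen 782 (96, false))]

/-- Visits. -/
def v8_4 : List (ℕ × Src) :=
  [(3420, .gen 782 (101, false)),
    (2235, .gen 2061 (90, false)),
    (1403, .gen 2061 (93, false)),
    (3527, .gen 2061 (94, false)),
    (2244, .gen 2061 (94, true)),
    (1791, .gen 2061 (101, false)),
    (1939, .gen 3594 (90, false)),
    (1183, .gen 3594 (91, false)),
    (2696, .gen 3594 (92, false)),
    (1882, .gen 3594 (93, false)),
    (2480, .gen 3594 (94, false)),
    (2169, .gen 3594 (96, false)),
    (1486, .gen 3594 (96, true)),
    (3520, .gen 1592 (91, false)),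
    (939, .gen 1592 (94, false)),
    (2057, .gen 1592 (94, true)),
    (243, .gen 1592 (96, false)),
    (2020, .gen 1592 (96, true)),
    (1734, .gen 1592 (101, false)),
    (949, .gen 410 (94, false)),
    (3389, .gen 410 (94, true)),
    (2144, .gen 410 (96, false)),
    (768, .gen 410 (96, true)),
    (3767, .gen 410 (101, false)),
    (3622, .gen 1810 (90, false)),
    (2334, .gen 1810 (94, false)),
    (1221, .gen 1810 (96, false)),
    (728, .gen 1810 (96, true)),
    (1765, .gen 1810 (101, false)),
    (1692, .gen 3775 (91, false)),
    (2907, .gen 3775 (94, true)),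
    (3477, .gen 3775 (96, false)),
    (1509, .gen 3775 (96, true)),
    (1761, .gen 3775 (101, false)),
    (3056, .gen 1365 (90, false)),
    (1451, .gen 1365 (92, false)),
    (2532, .gen 1365 (93, false)),
    (1680, .gen 1365 (94, false)),
    (671, .gen 1365 (94, true)),
    (460, .gen 1365 (96, false)),
    (3148, .gen 1549 (92, false)),
    (3338, .gen 1549 (93, false)),
    (3448, .gen 1549 (94, false)),
    (3583, .gen 1549 (94, true)),
    (2855, .gen 1549 (101, false)),
    (1659, .gen 2113 (90, false)),
    (2284, .gen 2113 (91, false)),
    (3135, .gen 2113 (92, false)),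
    (1770, .gen 2113 (93, false)),
    (2517, .gen 2113 (94, false)),
    (3160, .gen 2113 (96, false)),
    (2085, .gen 2113 (96, true)),
    (2357, .gen 3651 (90, false)),
    (25, .gen 3651 (91, false)),
    (2001, .gen 3651 (94, true)),
    (1696, .gen 3651 (96, false)),
    (1200, .gen 3651 (96, true)),
    (903, .gen 3651 (101, false)),
    (719, .gen 1250 (90, false)),
    (3634, .gen 1250 (91, false)),
    (2483, .gen 1250 (94, true)),
    (1600, .gen 1250 (96, false)),
    (2245, .gen 1250 (96, true)),
    (1675, .gen 1250 (101, false)),
    (2731, .gen 2534 (92, false)),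
    (3153, .gen 2534 (93, false)),
    (805, .gen 2534 (94, false)),
    (1769, .gen 2534 (96, false)),
    (2224, .gen 2534 (96, true)),
    (3406, .gen 928 (92, false)),
    (3149, .gen 928 (93, false)),
    (1925, .gen 928 (94, false)),
    (3514, .gen 928 (94, true)),
    (3285, .gen 928 (96, false)),
    (1989, .gen 3286 (92, false)),
    (3454, .gen 3286 (94, false)),
    (1586, .gen 3286 (94, true)),
    (3606, .gen 2802 (90, false)),
    (1660, .gen 2802 (91, false)),
    (1161, .gen 2802 (92, false)),
    (1206, .gen 2802 (93, false)),
    (2274, .gen 2802 (94, false)),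
    (3032, .gen 2802 (94, true)),
    (2479, .gen 2802 (96, false)),
    (3653, .gen 2802 (96, true)),
    (3707, .gen 2032 (92, false)),
    (2065, .gen 2032 (93, false)),
    (442, .gen 2032 (94, false)),
    (3001, .gen 2032 (96, false)),
    (1274, .gen 2032 (96, true)),
    (1093, .gen 2032 (101, false)),
    (3722, .gen 2743 (94, true)),
    (467, .gen 2743 (96, false)),
    (3343, .gen 2743 (96, true)),
    (2140, .gen 2743 (101, false)),
    (1199, .gen 98 (90, false)),
    (2463, .gen 98 (94, false)),
    (1796, .gen 98 (96, false)),
    (2581, .gen 98 (96, true)),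
    (2171, .gen 412 (90, false)),
    (575, .gen 412 (94, false)),
    (2990, .gen 412 (96, false)),
    (1645, .gen 412 (96, true)),
    (3428, .gen 412 (101, false)),
    (2521, .gen 2031 (91, false)),
    (2107, .gen 2031 (96, false)),
    (2159, .gen 2031 (96, true)),
    (31, .gen 2031 (101, false)),
    (3525, .gen 369 (92, false)),
    (352, .gen 369 (93, false)),
    (1340, .gen 369 (94, false)),
    (2962, .gen 369 (94, true)),
    (3036, .gen 369 (96, false)),
    (1800, .gen 369 (101, false)),
    (1216, .gen 1787 (92, false)),
    (488, .gen 1787 (93, false)),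
    (1855, .gen 1787 (94, true)),
    (3519, .gen 1787 (101, false)),
    (1564, .gen 3740 (90, false)),
    (3321, .gen 3740 (91, false)),
    (1303, .gen 3740 (92, false)),
    (428, .gen 3740 (93, false)),
    (1493, .gen 3740 (94, false)),
    (3588, .gen 3740 (96, false)),
    (2503, .gen 3740 (96, true)),
    (2332, .gen 823 (90, false)),
    (1121, .gen 823 (93, false)),
    (2007, .gen 823 (94, false)),
    (1454, .gen 823 (96, true)),
    (3034, .gen 823 (101, false)),
    (3269, .gen 2062 (91, false)),
    (1666, .gen 2062 (94, false)),
    (3330, .gen 2062 (94, true)),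
    (3257, .gen 2062 (96, false)),
    (212, .gen 2062 (96, true)),
    (1834, .gen 2062 (101, false)),
    (2295, .gen 2602 (90, false)),
    (2136, .gen 2602 (91, false)),
    (1015, .gen 2602 (92, false)),
    (1228, .gen 2602 (93, false)),
    (3739, .gen 2602 (94, false)),
    (1227, .gen 2602 (96, false)),
    (567, .gen 2602 (96, true)),
    (3458, .gen 2838 (90, false)),
    (2231, .gen 2838 (91, false)),
    (2133, .gen 2838 (92, false)),
    (2700, .gen 2838 (93, false)),
    (3600, .gen 2838 (94, true)),
    (1929, .gen 2838 (96, false)),
    (3119, .gen 2838 (96, true)),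
    (1149, .gen 2838 (101, false)),
    (3155, .gen 1478 (93, false)),
    (2900, .gen 1478 (94, true)),
    (242, .gen 774 (90, false)),
    (2325, .gen 774 (93, false)),
    (3364, .gen 774 (94, false)),
    (3531, .gen 774 (94, true)),
    (2173, .gen 774 (101, false)),
    (1246, .gen 159 (90, false)),
    (2850, .gen 159 (91, false)),
    (1269, .gen 159 (94, false)),
    (3769, .gen 159 (94, true)),
    (1068, .gen 159 (96, false)),
    (1389, .gen 159 (101, false)),
    (2141, .gen 1133 (90, false)),
    (2736, .gen 1133 (91, false)),
    (1856, .gen 1133 (92, false)),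
    (2417, .gen 1133 (93, false)),
    (3579, .gen 1133 (94, false)),
    (1585, .gen 1133 (96, false)),
    (2857, .gen 1133 (96, true)),
    (358, .gen 1133 (101, false)),
    (3536, .gen 2613 (90, false)),
    (1833, .gen 2613 (91, false)),
    (714, .gen 2613 (92, false)),
    (2832, .gen 2613 (93, false)),
    (3646, .gen 2613 (94, true)),
    (2899, .gen 2613 (96, false)),
    (1067, .gen 2613 (96, true)),
    (2920, .gen 2613 (101, false)),
    (2315, .gen 2147 (91, false)),
    (3532, .gen 2147 (92, false)),
    (2123, .gen 2147 (93, false)),
    (3729, .gen 2147 (94, false)),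
    (2252, .gen 2147 (96, false)),
    (216, .gen 2147 (96, true)),
    (3327, .gen 2147 (101, false)),
    (1678, .gen 2409 (90, false)),
    (2223, .gen 2409 (93, false)),
    (3555, .gen 2409 (94, false)),
    (1971, .gen 2409 (94, true)),
    (3619, .gen 2598 (90, false)),
    (743, .gen 2598 (94, false)),
    (2082, .gen 2598 (94, true)),
    (1682, .gen 2598 (101, false)),
    (1103, .gen 2707 (90, false)),
    (3405, .gen 2707 (92, false)),
    (1156, .gen 2707 (93, false)),
    (2889, .gen 2707 (94, false)),
    (3599, .gen 2959 (90, false)),
    (1082, .gen 2959 (91, false)),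
    (3293, .gen 2959 (92, false)),
    (2910, .gen 2959 (93, false)),
    (2535, .gen 2959 (94, true)),
    (2457, .gen 2959 (101, false)),
    (2975, .gen 681 (90, false)),
    (1920, .gen 681 (94, false)),
    (2686, .gen 681 (94, true)),
    (413, .gen 3757 (90, false)),
    (2985, .gen 3757 (94, false)),
    (1880, .gen 3757 (94, true)),
    (2275, .gen 1918 (96, true)),
    (545, .gen 3012 (94, false)),
    (1043, .gen 3012 (96, false)),
    (676, .gen 584 (94, false)),
    (3408, .gen 2894 (91, false)),
    (11, .gen 2894 (92, false)),
    (2083, .gen 2894 (93, false)),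
    (3398, .gen 1061 (94, true)),
    (153, .gen 1061 (96, false)),
    (3679, .gen 1412 (94, true)),
    (3264, .gen 1946 (91, false)),
    (3164, .gen 1946 (94, false)),
    (2101, .gen 3465 (92, false)),
    (1656, .gen 3465 (93, false)),
    (3090, .gen 3465 (94, true)),
    (3592, .gen 269 (101, false)),
    (198, .gen 20 (92, false)),
    (1740, .gen 20 (93, false)),
    (1861, .gen 20 (94, true)),
    (3386, .gen 1684 (94, false)),
    (3021, .gen 1 (94, false)),
    (2308, .gen 1 (96, false)),
    (599, .gen 1 (96, true)),
    (3604, .gen 2683 (96, false)),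
    (3316, .gen 3294 (91, false)),
    (3109, .gen 3294 (94, false)),
    (2491, .gen 2611 (93, false)),
    (3230, .gen 672 (93, false)),
    (1132, .gen 672 (94, true)),
    (1101, .gen 0 (93, false)),
    (2583, .gen 0 (94, true)),
    (3190, .gen 995 (96, false)),
    (3108, .gen 995 (96, true)),
    (1817, .gen 2187 (94, false)),
    (2014, .gen 2187 (96, false)),
    (2382, .gen 2187 (101, false)),
    (3180, .gen 962 (93, false)),
    (1686, .gen 962 (94, true)),
    (3464, .gen 493 (101, false)),
    (2824, .gen 3276 (94, true)),
    (420, .gen 175 (92, false)),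
    (2805, .gen 486 (91, false)),
    (3381, .gen 1040 (101, false)),
    (791, .gen 1401 (92, false)),
    (2119, .gen 1372 (94, true)),
    (664, .gen 1372 (101, false)),
    (134, .gen 2785 (90, false)),
    (3214, .gen 2785 (91, false)),
    (663, .gen 2785 (92, false)),
    (789, .gen 817 (94, true)),
    (3226, .gen 2155 (101, false)),
    (1400, .gen 2453 (101, false)),
    (882, .gen 1076 (92, false)),
    (1297, .gen 1076 (93, false)),
    (1354, .gen 1076 (94, true)),
    (3623, .gen 944 (94, false)),
    (2321, .gen 944 (94, true)),
    (298, .gen 1430 (93, false)),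
    (1968, .gen 1430 (94, false)),
    (3367, .gen 1430 (94, true)),
    (3772, .gen 2043 (101, false)),
    (1604, .gen 3351 (90, false)),
    (3670, .gen 3351 (91, false)),
    (2980, .gen 3351 (92, false)),
    (2943, .gen 3351 (94, false)),
    (2233, .gen 3351 (96, true)),
    (3560, .gen 349 (96, false)),
    (2341, .gen 622 (91, false)),
    (826, .gen 622 (92, false)),
    (3112, .gen 622 (93, false)),
    (1260, .gen 622 (94, false)),
    (778, .gen 1306 (101, false)),
    (2939, .gen 1643 (93, false)),
    (1947, .gen 1658 (101, false)),
    (3041, .gen 3290 (101, false)),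
    (1879, .gen 1187 (93, false)),
    (3111, .gen 1187 (94, true)),
    (808, .gen 206 (92, false)),
    (2956, .gen 206 (94, false)),
    (2374, .gen 2197 (101, false)),
    (3348, .gen 908 (92, false)),
    (1458, .gen 1742 (92, false)),
    (2146, .gen 1742 (93, false)),
    (374, .gen 1742 (94, true)),
    (107, .gen 329 (92, false)),
    (2650, .gen 2458 (96, false)),
    (1295, .gen 1555 (92, false)),
    (3413, .gen 1555 (93, false)),
    (1210, .gen 1555 (94, true))]

/-- Visits. -/
def v8_5 : List (ℕ × Src) :=
  [(3089, .gen 3779 (92, false)),
    (3409, .gen 3779 (93, false)),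
    (3400, .gen 3779 (94, true)),
    (2578, .gen 1241 (91, false)),
    (3705, .gen 1241 (92, false)),
    (3223, .gen 1772 (93, false)),
    (1070, .gen 1772 (94, true)),
    (2468, .gen 712 (93, false)),
    (2600, .gen 3482 (94, false)),
    (3241, .gen 3590 (93, false)),
    (1391, .gen 3590 (94, true)),
    (1647, .gen 301 (93, false)),
    (1337, .gen 1130 (101, false)),
    (208, .gen 1560 (101, false)),
    (501, .gen 371 (91, false)),
    (2086, .gen 371 (94, false)),
    (861, .gen 371 (94, true)),
    (240, .gen 371 (96, true)),
    (2367, .gen 2425 (96, false)),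
    (2311, .gen 2425 (96, true)),
    (1429, .gen 2425 (101, false)),
    (1663, .gen 840 (101, false)),
    (1521, .gen 2577 (96, false)),
    (3087, .gen 2577 (101, false)),
    (81, .gen 1706 (96, false)),
    (2555, .gen 943 (94, true)),
    (1373, .gen 943 (96, false)),
    (1384, .gen 943 (101, false)),
    (1703, .gen 741 (94, true)),
    (354, .gen 741 (101, false)),
    (653, .gen 2872 (91, false)),
    (2974, .gen 2872 (93, false)),
    (2767, .gen 2872 (94, false)),
    (1620, .gen 2872 (96, false)),
    (2442, .gen 2872 (96, true)),
    (3265, .gen 3373 (101, false)),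
    (2084, .gen 561 (101, false)),
    (1018, .gen 835 (96, false)),
    (3382, .gen 835 (101, false)),
    (507, .gen 1982 (94, false)),
    (1086, .gen 1982 (94, true)),
    (1594, .gen 1982 (96, false)),
    (613, .gen 1982 (101, false)),
    (2012, .gen 1790 (101, false)),
    (1712, .gen 3347 (90, false)),
    (837, .gen 3347 (91, false)),
    (3242, .gen 3347 (94, false)),
    (2725, .gen 3347 (94, true)),
    (1733, .gen 3347 (96, false)),
    (425, .gen 3347 (96, true)),
    (1311, .gen 1042 (96, true)),
    (2052, .gen 1042 (101, false)),
    (177, .gen 145 (96, true)),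
    (155, .gen 145 (101, false)),
    (683, .gen 277 (92, false)),
    (1426, .gen 277 (93, false)),
    (1778, .gen 277 (94, false)),
    (455, .gen 277 (94, true)),
    (658, .gen 277 (101, false)),
    (2793, .gen 3057 (90, false)),
    (330, .gen 3057 (91, false)),
    (217, .gen 3057 (92, false)),
    (1049, .gen 3057 (94, false)),
    (1175, .gen 3057 (94, true)),
    (1420, .gen 3057 (96, true)),
    (2873, .gen 1467 (94, true)),
    (1503, .gen 1467 (101, false)),
    (1198, .gen 3582 (93, false)),
    (443, .gen 3582 (94, false)),
    (1193, .gen 1446 (96, true)),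
    (1611, .gen 1446 (101, false)),
    (777, .gen 740 (93, false)),
    (696, .gen 740 (94, false)),
    (1136, .gen 3451 (93, false)),
    (2883, .gen 3451 (96, false)),
    (3060, .gen 1158 (101, false)),
    (406, .gen 306 (96, false)),
    (62, .gen 1332 (101, false)),
    (3063, .gen 87 (90, false)),
    (3157, .gen 87 (93, false)),
    (708, .gen 3324 (92, false)),
    (560, .gen 3324 (93, false)),
    (1922, .gen 3324 (94, false)),
    (3004, .gen 3324 (94, true)),
    (742, .gen 3324 (96, false)),
    (3203, .gen 3324 (96, true)),
    (1341, .gen 2603 (92, false)),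
    (3310, .gen 2603 (94, false)),
    (2935, .gen 2603 (94, true)),
    (2843, .gen 1173 (90, false)),
    (262, .gen 1173 (91, false)),
    (2331, .gen 1173 (93, false)),
    (2048, .gen 1173 (94, false)),
    (589, .gen 1173 (94, true)),
    (543, .gen 1173 (101, false)),
    (1380, .gen 333 (91, false)),
    (1438, .gen 333 (96, false)),
    (2874, .gen 333 (96, true)),
    (1957, .gen 333 (101, false)),
    (3030, .gen 2712 (91, false)),
    (1988, .gen 2712 (93, false)),
    (2984, .gen 2712 (96, false)),
    (3362, .gen 2712 (101, false)),
    (2038, .gen 3204 (91, false)),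
    (970, .gen 3204 (92, false)),
    (463, .gen 3204 (96, true)),
    (2397, .gen 3204 (101, false)),
    (2324, .gen 748 (93, false)),
    (3161, .gen 748 (94, false)),
    (1519, .gen 748 (94, true)),
    (824, .gen 1690 (93, false)),
    (3629, .gen 1690 (94, true)),
    (2955, .gen 3213 (96, false)),
    (3515, .gen 3573 (93, false)),
    (1363, .gen 3479 (92, false)),
    (1166, .gen 3479 (94, true)),
    (746, .gen 132 (101, false)),
    (915, .gen 2412 (90, false)),
    (2769, .gen 2412 (94, false)),
    (279, .gen 2412 (94, true)),
    (1014, .gen 102 (101, false)),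
    (1781, .gen 848 (101, false)),
    (1624, .gen 1809 (90, false)),
    (874, .gen 1809 (91, false)),
    (2294, .gen 1809 (92, false)),
    (2963, .gen 1809 (94, false)),
    (1697, .gen 1809 (94, true)),
    (1707, .gen 2526 (96, true)),
    (2386, .gen 2840 (96, true)),
    (297, .gen 2840 (101, false)),
    (3631, .gen 3661 (93, false)),
    (2259, .gen 3661 (94, false)),
    (909, .gen 3661 (101, false)),
    (3597, .gen 2830 (94, false)),
    (1487, .gen 3490 (101, false)),
    (1265, .gen 1993 (96, false)),
    (1677, .gen 1993 (101, false)),
    (662, .gen 90 (94, true)),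
    (478, .gen 480 (91, false)),
    (3760, .gen 480 (94, false)),
    (2519, .gen 3768 (93, false)),
    (86, .gen 3768 (94, false)),
    (2723, .gen 3768 (94, true)),
    (888, .gen 1543 (91, false)),
    (2017, .gen 1543 (94, true)),
    (3315, .gen 1543 (96, true)),
    (2165, .gen 3247 (91, false)),
    (1238, .gen 3247 (93, false)),
    (1036, .gen 3247 (96, false)),
    (2979, .gen 2919 (92, false)),
    (2161, .gen 1773 (93, false)),
    (1457, .gen 1773 (94, false)),
    (317, .gen 1773 (94, true)),
    (1174, .gen 2692 (96, false)),
    (2944, .gen 116 (94, false)),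
    (1232, .gen 116 (94, true)),
    (3480, .gen 3673 (93, false)),
    (2370, .gen 3673 (94, false)),
    (1025, .gen 581 (94, false)),
    (1664, .gen 581 (94, true)),
    (396, .gen 3410 (101, false)),
    (1137, .gen 1115 (91, false)),
    (2375, .gen 1115 (94, true)),
    (655, .gen 2570 (101, false)),
    (2923, .gen 652 (93, false)),
    (2664, .gen 652 (94, false)),
    (2470, .gen 2882 (96, false)),
    (1397, .gen 2301 (101, false)),
    (548, .gen 24 (96, true)),
    (1094, .gen 1798 (93, false)),
    (210, .gen 1798 (94, false)),
    (390, .gen 1798 (94, true)),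
    (2762, .gen 3694 (93, false)),
    (899, .gen 3694 (94, false)),
    (142, .gen 1217 (96, false)),
    (370, .gen 1217 (96, true)),
    (3239, .gen 1415 (90, false)),
    (1122, .gen 1415 (91, false)),
    (3128, .gen 1415 (96, true)),
    (1010, .gen 1378 (91, false)),
    (3072, .gen 1378 (92, false)),
    (1251, .gen 1378 (96, false)),
    (1436, .gen 1799 (93, false)),
    (3020, .gen 1799 (94, false)),
    (539, .gen 1108 (90, false)),
    (1437, .gen 1108 (94, true)),
    (1506, .gen 2774 (94, false)),
    (1721, .gen 2774 (94, true)),
    (3665, .gen 77 (91, false)),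
    (2753, .gen 77 (92, false)),
    (2291, .gen 1131 (101, false)),
    (690, .gen 3193 (101, false)),
    (2784, .gen 1966 (92, false)),
    (1540, .gen 1966 (93, false)),
    (3744, .gen 2350 (101, false)),
    (2726, .gen 851 (92, false)),
    (3422, .gen 851 (93, false)),
    (1440, .gen 919 (94, true)),
    (875, .gen 3589 (101, false)),
    (2927, .gen 3171 (92, false)),
    (1603, .gen 3171 (93, false)),
    (2016, .gen 3171 (94, false)),
    (3336, .gen 3047 (92, false)),
    (1096, .gen 3047 (93, false)),
    (821, .gen 3047 (94, true)),
    (2402, .gen 3047 (96, false)),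
    (3392, .gen 3306 (92, false)),
    (530, .gen 650 (90, false)),
    (892, .gen 650 (96, false)),
    (197, .gen 650 (96, true)),
    (2951, .gen 2340 (92, false)),
    (2326, .gen 2340 (93, false)),
    (79, .gen 2340 (101, false)),
    (2265, .gen 2152 (92, false)),
    (2408, .gen 2152 (93, false)),
    (2812, .gen 2152 (94, true)),
    (2268, .gen 2877 (101, false)),
    (3138, .gen 760 (90, false)),
    (1710, .gen 760 (91, false)),
    (2400, .gen 760 (93, false)),
    (3253, .gen 3088 (101, false)),
    (989, .gen 2546 (91, false)),
    (1334, .gen 2546 (94, true)),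
    (3215, .gen 1083 (101, false)),
    (2246, .gen 1153 (101, false)),
    (2604, .gen 2330 (92, false)),
    (1857, .gen 2330 (93, false)),
    (534, .gen 1477 (90, false)),
    (1172, .gen 1477 (91, false)),
    (2596, .gen 253 (96, false)),
    (364, .gen 253 (96, true)),
    (2111, .gen 898 (94, false)),
    (2747, .gen 3502 (92, false)),
    (1731, .gen 3502 (96, false)),
    (1176, .gen 3244 (93, false)),
    (207, .gen 590 (101, false)),
    (1462, .gen 100 (94, true)),
    (1835, .gen 3024 (101, false)),
    (583, .gen 2841 (94, true)),
    (1298, .gen 2936 (101, false)),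
    (2279, .gen 1207 (101, false)),
    (3418, .gen 2948 (92, false)),
    (1327, .gen 2948 (93, false)),
    (202, .gen 2948 (94, false)),
    (50, .gen 2188 (101, false)),
    (170, .gen 2213 (101, false)),
    (1846, .gen 1445 (94, false)),
    (2419, .gen 828 (96, false)),
    (2319, .gen 828 (96, true)),
    (223, .gen 3678 (101, false)),
    (1875, .gen 2239 (94, true)),
    (309, .gen 3141 (101, false)),
    (1745, .gen 1972 (101, false)),
    (555, .gen 1383 (94, false)),
    (3504, .gen 1383 (94, true)),
    (1887, .gen 2909 (94, false)),
    (2942, .gen 1152 (96, false)),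
    (3070, .gen 1152 (96, true)),
    (3718, .gen 3118 (96, false)),
    (730, .gen 3118 (96, true)),
    (2499, .gen 2273 (96, false)),
    (454, .gen 1894 (94, false)),
    (1256, .gen 1894 (94, true)),
    (2971, .gen 959 (91, false)),
    (65, .gen 2063 (90, false)),
    (576, .gen 612 (92, false)),
    (1154, .gen 612 (94, false)),
    (2366, .gen 1639 (94, false)),
    (3584, .gen 3037 (92, false)),
    (1994, .gen 2705 (101, false)),
    (1483, .gen 2932 (90, false)),
    (1727, .gen 866 (93, false)),
    (1066, .gen 630 (93, false)),
    (1338, .gen 630 (94, true)),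
    (1598, .gen 260 (96, false)),
    (1195, .gen 260 (96, true)),
    (1203, .gen 3736 (96, true)),
    (3774, .gen 60 (90, false)),
    (2460, .gen 1935 (90, false)),
    (2792, .gen 1623 (91, false)),
    (2345, .gen 1623 (93, false)),
    (1720, .gen 1623 (96, false)),
    (1479, .gen 1032 (92, false)),
    (902, .gen 1898 (96, false)),
    (3469, .gen 1052 (92, false)),
    (1407, .gen 1405 (96, false)),
    (3728, .gen 1492 (92, false)),
    (1267, .gen 2961 (101, false)),
    (196, .gen 143 (90, false)),
    (3633, .gen 143 (91, false)),
    (3046, .gen 143 (96, false)),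
    (3052, .gen 143 (96, true)),
    (2770, .gen 143 (101, false)),
    (1860, .gen 229 (96, false)),
    (2623, .gen 229 (96, true)),
    (2266, .gen 229 (101, false)),
    (2338, .gen 2097 (94, false)),
    (2763, .gen 2097 (94, true)),
    (2424, .gen 2097 (96, false)),
    (1823, .gen 2097 (101, false))]

/-- Visits. -/
def v8_6 : List (ℕ × Src) :=
  [(2516, .gen 2176 (94, false)),
    (2046, .gen 2176 (94, true)),
    (2669, .gen 2176 (101, false)),
    (3784, .gen 509 (90, false)),
    (1949, .gen 509 (91, false)),
    (1705, .gen 509 (94, false)),
    (2678, .gen 509 (96, false)),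
    (573, .gen 509 (96, true)),
    (3611, .gen 1593 (101, false)),
    (616, .gen 591 (90, false)),
    (2008, .gen 591 (91, false)),
    (557, .gen 591 (96, false)),
    (1046, .gen 591 (96, true)),
    (2277, .gen 591 (101, false)),
    (2430, .gen 2642 (96, false)),
    (872, .gen 2642 (96, true)),
    (3402, .gen 2642 (101, false)),
    (773, .gen 2257 (94, false)),
    (1963, .gen 2257 (94, true)),
    (1831, .gen 2257 (96, false)),
    (1031, .gen 2257 (101, false)),
    (2157, .gen 1556 (94, false)),
    (447, .gen 1556 (94, true)),
    (7, .gen 1556 (101, false)),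
    (974, .gen 261 (90, false)),
    (1300, .gen 261 (91, false)),
    (1402, .gen 261 (92, false)),
    (3656, .gen 261 (93, false)),
    (2454, .gen 261 (94, false)),
    (2557, .gen 261 (96, false)),
    (1079, .gen 261 (96, true)),
    (922, .gen 1687 (96, false)),
    (2242, .gen 1687 (96, true)),
    (2225, .gen 1520 (93, false)),
    (2965, .gen 1520 (96, false)),
    (3008, .gen 1520 (96, true)),
    (1281, .gen 1520 (101, false)),
    (2987, .gen 2931 (90, false)),
    (2064, .gen 2931 (96, false)),
    (1408, .gen 2931 (96, true)),
    (3308, .gen 2931 (101, false)),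
    (3073, .gen 445 (93, false)),
    (1463, .gen 445 (94, false)),
    (473, .gen 445 (96, false)),
    (3165, .gen 278 (93, false)),
    (166, .gen 278 (94, false)),
    (106, .gen 278 (101, false)),
    (1676, .gen 2094 (91, false)),
    (1155, .gen 2094 (92, false)),
    (2540, .gen 2094 (93, false)),
    (3022, .gen 2094 (94, false)),
    (1427, .gen 2094 (94, true)),
    (95, .gen 2094 (96, false)),
    (3005, .gen 2094 (96, true)),
    (1244, .gen 2153 (93, false)),
    (659, .gen 2153 (94, false)),
    (88, .gen 2153 (94, true)),
    (2305, .gen 2153 (96, false)),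
    (1891, .gen 1064 (93, false)),
    (1381, .gen 1064 (94, false)),
    (654, .gen 1064 (94, true)),
    (316, .gen 1064 (101, false)),
    (3489, .gen 1502 (90, false)),
    (3687, .gen 1502 (91, false)),
    (500, .gen 1502 (92, false)),
    (2906, .gen 1502 (94, false)),
    (1000, .gen 1502 (94, true)),
    (1726, .gen 1502 (96, false)),
    (983, .gen 1502 (96, true)),
    (1425, .gen 678 (94, false)),
    (686, .gen 678 (94, true)),
    (905, .gen 3644 (92, false)),
    (2585, .gen 3644 (93, false)),
    (2655, .gen 3644 (94, false)),
    (3577, .gen 3644 (96, false)),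
    (2352, .gen 3644 (96, true)),
    (656, .gen 3644 (101, false)),
    (3278, .gen 2589 (94, true)),
    (3196, .gen 2589 (96, false)),
    (118, .gen 2589 (101, false)),
    (181, .gen 3126 (94, false)),
    (291, .gen 3126 (94, true)),
    (886, .gen 2800 (92, false)),
    (956, .gen 2800 (93, false)),
    (2207, .gen 2800 (94, false)),
    (1178, .gen 2800 (94, true)),
    (3657, .gen 2800 (96, false)),
    (2076, .gen 1816 (92, false)),
    (2139, .gen 1816 (94, false)),
    (3053, .gen 1816 (96, false)),
    (1849, .gen 1816 (96, true)),
    (3095, .gen 1816 (101, false)),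
    (810, .gen 1559 (101, false)),
    (3064, .gen 1636 (92, false)),
    (3387, .gen 1636 (93, false)),
    (2072, .gen 1636 (94, true)),
    (2562, .gen 1551 (91, false)),
    (2490, .gen 1551 (92, false)),
    (2361, .gen 1551 (93, false)),
    (452, .gen 1551 (94, false)),
    (2561, .gen 1551 (94, true)),
    (1763, .gen 1551 (96, false)),
    (3219, .gen 1551 (96, true)),
    (2957, .gen 2407 (92, false)),
    (2021, .gen 2407 (93, false)),
    (392, .gen 2407 (94, false)),
    (3789, .gen 2407 (94, true)),
    (446, .gen 2976 (90, false)),
    (2564, .gen 2976 (91, false)),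
    (847, .gen 2976 (93, false)),
    (3609, .gen 2976 (94, false)),
    (2558, .gen 2976 (94, true)),
    (694, .gen 2976 (96, false)),
    (858, .gen 2976 (96, true)),
    (3457, .gen 1669 (90, false)),
    (938, .gen 1669 (94, false)),
    (2135, .gen 1669 (96, false)),
    (2363, .gen 1669 (96, true)),
    (3733, .gen 2950 (90, false)),
    (2438, .gen 2950 (91, false)),
    (3702, .gen 2950 (92, false)),
    (1999, .gen 2950 (93, false)),
    (3201, .gen 2950 (94, false)),
    (932, .gen 2950 (96, false)),
    (677, .gen 2950 (96, true)),
    (3776, .gen 2950 (101, false)),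
    (531, .gen 1029 (92, false)),
    (971, .gen 1029 (93, false)),
    (1448, .gen 1029 (94, true)),
    (1351, .gen 1029 (96, false)),
    (1629, .gen 1029 (96, true)),
    (3492, .gen 1029 (101, false)),
    (2524, .gen 703 (94, false)),
    (2706, .gen 2952 (90, false)),
    (1004, .gen 2952 (92, false)),
    (157, .gen 2952 (93, false)),
    (1732, .gen 2952 (94, true)),
    (2995, .gen 700 (96, false)),
    (1024, .gen 700 (96, true)),
    (338, .gen 700 (101, false)),
    (2445, .gen 52 (96, false)),
    (707, .gen 52 (96, true)),
    (1546, .gen 2489 (94, true)),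
    (3374, .gen 2489 (96, false)),
    (2527, .gen 2836 (90, false)),
    (1738, .gen 2836 (91, false)),
    (2844, .gen 2836 (94, false)),
    (594, .gen 2836 (94, true)),
    (895, .gen 3346 (96, true)),
    (893, .gen 3346 (101, false)),
    (912, .gen 1243 (96, false)),
    (2914, .gen 1243 (101, false)),
    (2271, .gen 1112 (94, false)),
    (430, .gen 1112 (94, true)),
    (2738, .gen 1112 (96, false)),
    (2518, .gen 1112 (101, false)),
    (2898, .gen 345 (94, false)),
    (5, .gen 345 (94, true)),
    (1615, .gen 345 (101, false)),
    (3081, .gen 2130 (91, false)),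
    (838, .gen 2130 (92, false)),
    (389, .gen 2130 (93, false)),
    (3354, .gen 2130 (94, false)),
    (1084, .gen 2130 (94, true)),
    (191, .gen 2130 (96, false)),
    (186, .gen 2130 (96, true)),
    (1825, .gen 282 (96, false)),
    (444, .gen 282 (96, true)),
    (2011, .gen 282 (101, false)),
    (3026, .gen 1862 (96, false)),
    (2537, .gen 1862 (96, true)),
    (1150, .gen 1862 (101, false)),
    (852, .gen 3598 (93, false)),
    (3181, .gen 3598 (96, false)),
    (552, .gen 3435 (94, false)),
    (91, .gen 3435 (101, false)),
    (45, .gen 483 (92, false)),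
    (3493, .gen 483 (94, false)),
    (1864, .gen 483 (94, true)),
    (3545, .gen 483 (96, true)),
    (3385, .gen 3434 (94, false)),
    (2106, .gen 3434 (94, true)),
    (2969, .gen 3434 (96, true)),
    (270, .gen 3434 (101, false)),
    (1928, .gen 2096 (92, false)),
    (1978, .gen 2096 (94, false)),
    (1011, .gen 2096 (96, true)),
    (54, .gen 3723 (91, false)),
    (968, .gen 3723 (92, false)),
    (937, .gen 3723 (94, true)),
    (3603, .gen 3723 (96, false)),
    (2004, .gen 3723 (96, true)),
    (1242, .gen 3723 (101, false)),
    (2737, .gen 2826 (94, false)),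
    (63, .gen 2826 (94, true)),
    (2765, .gen 3068 (93, false)),
    (2810, .gen 3068 (94, true)),
    (2474, .gen 3144 (96, false)),
    (3275, .gen 3144 (101, false)),
    (3083, .gen 3585 (96, true)),
    (1021, .gen 69 (91, false)),
    (562, .gen 69 (96, false)),
    (287, .gen 69 (96, true)),
    (1119, .gen 69 (101, false)),
    (3045, .gen 807 (90, false)),
    (3377, .gen 807 (93, false)),
    (788, .gen 807 (94, true)),
    (911, .gen 230 (92, false)),
    (1111, .gen 230 (93, false)),
    (3299, .gen 230 (94, false)),
    (640, .gen 230 (94, true)),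
    (3295, .gen 3288 (92, false)),
    (1037, .gen 3288 (93, false)),
    (542, .gen 3288 (94, false)),
    (3039, .gen 3288 (94, true)),
    (2634, .gen 734 (90, false)),
    (982, .gen 734 (94, false)),
    (415, .gen 734 (94, true)),
    (2530, .gen 2194 (90, false)),
    (3574, .gen 2194 (96, false)),
    (1986, .gen 2194 (101, false)),
    (193, .gen 3675 (91, false)),
    (3280, .gen 3675 (94, false)),
    (1508, .gen 3675 (96, false)),
    (1142, .gen 3675 (96, true)),
    (2797, .gen 3675 (101, false)),
    (3548, .gen 1382 (92, false)),
    (1323, .gen 1382 (93, false)),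
    (484, .gen 1382 (94, true)),
    (2075, .gen 1382 (101, false)),
    (2586, .gen 1750 (92, false)),
    (3186, .gen 1750 (93, false)),
    (1886, .gen 1750 (94, false)),
    (1716, .gen 3353 (92, false)),
    (2131, .gen 3353 (93, false)),
    (1523, .gen 3353 (94, false)),
    (2373, .gen 3353 (94, true)),
    (936, .gen 940 (96, false)),
    (2632, .gen 940 (96, true)),
    (1992, .gen 940 (101, false)),
    (538, .gen 3613 (96, false)),
    (3074, .gen 146 (90, false)),
    (1126, .gen 146 (92, false)),
    (884, .gen 146 (93, false)),
    (738, .gen 146 (94, true)),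
    (2856, .gen 1270 (96, false)),
    (2009, .gen 1270 (96, true)),
    (1701, .gen 1634 (93, false)),
    (1065, .gen 1634 (94, false)),
    (1009, .gen 1634 (94, true)),
    (2459, .gen 1634 (101, false)),
    (1525, .gen 556 (93, false)),
    (1507, .gen 556 (94, false)),
    (2299, .gen 556 (94, true)),
    (2447, .gen 556 (101, false)),
    (491, .gen 3544 (91, false)),
    (2724, .gen 3544 (92, false)),
    (3205, .gen 3544 (94, false)),
    (3352, .gen 3544 (94, true)),
    (3287, .gen 187 (94, false)),
    (3309, .gen 187 (94, true)),
    (1504, .gen 1072 (91, false)),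
    (784, .gen 1072 (94, false)),
    (1124, .gen 1072 (94, true)),
    (2290, .gen 2218 (94, true)),
    (815, .gen 2218 (101, false)),
    (433, .gen 3158 (90, false)),
    (1544, .gen 3158 (91, false)),
    (745, .gen 3158 (101, false)),
    (1614, .gen 1743 (90, false)),
    (914, .gen 1743 (91, false)),
    (3320, .gen 1743 (94, true)),
    (2494, .gen 1743 (101, false)),
    (1885, .gen 973 (101, false)),
    (978, .gen 1141 (90, false)),
    (167, .gen 1141 (91, false)),
    (963, .gen 2536 (90, false)),
    (3716, .gen 2536 (91, false)),
    (1361, .gen 2536 (101, false)),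
    (2893, .gen 3198 (92, false)),
    (1196, .gen 3198 (93, false)),
    (3379, .gen 3198 (94, true)),
    (3627, .gen 2633 (92, false)),
    (3197, .gen 2633 (93, false)),
    (1129, .gen 2633 (94, false)),
    (1693, .gen 709 (93, false)),
    (533, .gen 709 (94, false)),
    (871, .gen 709 (94, true)),
    (1633, .gen 709 (101, false)),
    (1048, .gen 1091 (94, false)),
    (2030, .gen 1091 (101, false)),
    (795, .gen 385 (91, false)),
    (2804, .gen 385 (92, false)),
    (3091, .gen 385 (94, false)),
    (3086, .gen 385 (101, false)),
    (3266, .gen 2988 (92, false)),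
    (2538, .gen 2988 (101, false)),
    (2624, .gen 1012 (101, false)),
    (2788, .gen 1259 (94, false)),
    (2150, .gen 1259 (94, true))]

/-- Visits. -/
def v8_7 : List (ℕ × Src) :=
  [(2029, .gen 1259 (96, false)),
    (1609, .gen 1779 (94, false)),
    (558, .gen 1779 (94, true)),
    (2262, .gen 1209 (91, false)),
    (1876, .gen 1209 (94, false)),
    (913, .gen 2685 (94, false)),
    (268, .gen 2685 (94, true)),
    (168, .gen 2685 (96, false)),
    (495, .gen 2685 (101, false)),
    (1950, .gen 1910 (94, false)),
    (2842, .gen 1910 (94, true)),
    (1095, .gen 1910 (101, false)),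
    (758, .gen 3291 (90, false)),
    (3383, .gen 3291 (91, false)),
    (3473, .gen 3291 (92, false)),
    (2377, .gen 3291 (93, false)),
    (3304, .gen 3291 (94, false)),
    (3262, .gen 3291 (96, false)),
    (3259, .gen 3291 (96, true)),
    (3388, .gen 1936 (94, false)),
    (1077, .gen 1936 (94, true)),
    (1314, .gen 1936 (96, false)),
    (41, .gen 1936 (101, false)),
    (235, .gen 1840 (94, false)),
    (1980, .gen 1840 (94, true)),
    (843, .gen 1840 (101, false)),
    (2215, .gen 3140 (90, false)),
    (1970, .gen 3140 (91, false)),
    (2904, .gen 3140 (92, false)),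
    (2777, .gen 3140 (93, false)),
    (565, .gen 3140 (94, false)),
    (3696, .gen 3140 (96, false)),
    (1359, .gen 3140 (96, true)),
    (1785, .gen 537 (96, true)),
    (521, .gen 441 (96, false)),
    (803, .gen 441 (96, true)),
    (744, .gen 1582 (96, false)),
    (1092, .gen 1582 (96, true)),
    (2966, .gen 1582 (101, false)),
    (1542, .gen 1665 (92, false)),
    (3076, .gen 1665 (93, false)),
    (1938, .gen 1665 (94, true)),
    (2429, .gen 2868 (96, false)),
    (2378, .gen 566 (94, false)),
    (457, .gen 566 (96, false)),
    (3601, .gen 566 (96, true)),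
    (434, .gen 566 (101, false)),
    (3093, .gen 2663 (94, true)),
    (2263, .gen 2663 (96, false)),
    (133, .gen 2663 (96, true)),
    (2433, .gen 2663 (101, false)),
    (424, .gen 2886 (92, false)),
    (2487, .gen 2886 (93, false)),
    (402, .gen 2886 (94, false)),
    (1399, .gen 2886 (94, true)),
    (2405, .gen 1566 (92, false)),
    (3495, .gen 1566 (93, false)),
    (2612, .gen 1566 (94, true)),
    (2991, .gen 1566 (96, false)),
    (3361, .gen 2067 (94, false)),
    (1515, .gen 2067 (94, true)),
    (1159, .gen 2809 (93, false)),
    (1679, .gen 2809 (96, false)),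
    (1683, .gen 2809 (96, true)),
    (1291, .gen 3666 (96, false)),
    (2471, .gen 3666 (101, false)),
    (380, .gen 1854 (91, false)),
    (2609, .gen 1854 (92, false)),
    (1030, .gen 1854 (94, false)),
    (1293, .gen 1854 (96, false)),
    (3025, .gen 1854 (96, true)),
    (237, .gen 1854 (101, false)),
    (1900, .gen 2913 (90, false)),
    (2918, .gen 2913 (91, false)),
    (1596, .gen 2913 (92, false)),
    (2998, .gen 2913 (94, true)),
    (2041, .gen 2913 (96, false)),
    (1432, .gen 2913 (96, true)),
    (1312, .gen 2913 (101, false)),
    (1234, .gen 3787 (92, false)),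
    (1943, .gen 3787 (93, false)),
    (1782, .gen 3787 (94, false)),
    (1398, .gen 733 (90, false)),
    (431, .gen 733 (92, false)),
    (2523, .gen 733 (93, false)),
    (3452, .gen 733 (94, true)),
    (2045, .gen 1584 (94, false)),
    (1474, .gen 1584 (94, true)),
    (311, .gen 1584 (96, false)),
    (2440, .gen 3735 (90, false)),
    (1105, .gen 3735 (91, false)),
    (3189, .gen 3735 (92, false)),
    (1865, .gen 3735 (94, false)),
    (1335, .gen 1553 (101, false)),
    (2911, .gen 3326 (96, false)),
    (3143, .gen 2687 (94, false)),
    (1805, .gen 2687 (94, true)),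
    (2896, .gen 3344 (90, false)),
    (2019, .gen 3344 (91, false)),
    (92, .gen 3344 (94, false)),
    (6, .gen 3254 (96, false)),
    (2643, .gen 3254 (96, true)),
    (103, .gen 642 (96, false)),
    (1339, .gen 642 (96, true)),
    (713, .gen 1201 (101, false)),
    (3417, .gen 1041 (90, false)),
    (1930, .gen 1041 (93, false)),
    (3684, .gen 1041 (94, true)),
    (3626, .gen 3049 (92, false)),
    (1758, .gen 3049 (93, false)),
    (3720, .gen 3049 (94, true)),
    (1610, .gen 2996 (92, false)),
    (2095, .gen 2996 (94, false)),
    (2677, .gen 2996 (94, true)),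
    (2270, .gen 2560 (90, false)),
    (3162, .gen 2560 (93, false)),
    (3202, .gen 2560 (94, true)),
    (1793, .gen 2282 (96, false)),
    (1051, .gen 2282 (96, true)),
    (3106, .gen 1488 (93, false)),
    (2970, .gen 1488 (94, false)),
    (3380, .gen 1488 (96, false)),
    (1118, .gen 1488 (101, false)),
    (3225, .gen 2807 (91, false)),
    (2078, .gen 2807 (92, false)),
    (1550, .gen 2807 (93, false)),
    (1460, .gen 3101 (92, false)),
    (2929, .gen 3101 (94, false)),
    (945, .gen 476 (92, false)),
    (3396, .gen 476 (93, false)),
    (3595, .gen 476 (94, true)),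
    (2912, .gen 668 (90, false)),
    (2309, .gen 668 (91, false)),
    (3395, .gen 668 (101, false)),
    (72, .gen 1960 (91, false)),
    (408, .gen 1960 (101, false)),
    (615, .gen 2543 (94, false)),
    (1062, .gen 2543 (94, true)),
    (1271, .gen 2543 (101, false)),
    (717, .gen 651 (90, false)),
    (1554, .gen 651 (92, false)),
    (896, .gen 651 (93, false)),
    (855, .gen 651 (94, true)),
    (2154, .gen 651 (96, true)),
    (1181, .gen 323 (92, false)),
    (3752, .gen 323 (94, true)),
    (2741, .gen 323 (96, false)),
    (1625, .gen 323 (101, false)),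
    (2740, .gen 3176 (92, false)),
    (2776, .gen 3176 (101, false)),
    (798, .gen 931 (90, false)),
    (1273, .gen 931 (91, false)),
    (2616, .gen 931 (96, true)),
    (190, .gen 931 (101, false)),
    (1987, .gen 725 (91, false)),
    (1587, .gen 3329 (91, false)),
    (2668, .gen 1162 (92, false)),
    (1824, .gen 2760 (92, false)),
    (1123, .gen 251 (93, false)),
    (110, .gen 1601 (96, false)),
    (769, .gen 1601 (96, true)),
    (3766, .gen 1601 (101, false)),
    (226, .gen 44 (93, false)),
    (1685, .gen 44 (94, true)),
    (1649, .gen 44 (101, false)),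
    (2346, .gen 1789 (90, false)),
    (1906, .gen 1789 (96, true)),
    (1324, .gen 2237 (91, false)),
    (621, .gen 2237 (101, false)),
    (2247, .gen 139 (93, false)),
    (580, .gen 246 (92, false)),
    (729, .gen 246 (93, false)),
    (141, .gen 246 (101, false)),
    (2786, .gen 1803 (91, false)),
    (474, .gen 1803 (93, false)),
    (3199, .gen 1803 (94, false)),
    (1890, .gen 1803 (94, true)),
    (346, .gen 1803 (96, false)),
    (1226, .gen 2181 (90, false)),
    (3542, .gen 2181 (101, false)),
    (137, .gen 135 (92, false)),
    (114, .gen 135 (93, false)),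
    (2708, .gen 135 (94, true)),
    (579, .gen 796 (94, false)),
    (2714, .gen 796 (94, true)),
    (1568, .gen 403 (94, true)),
    (2261, .gen 403 (96, false)),
    (3658, .gen 2675 (91, false)),
    (304, .gen 2675 (92, false)),
    (3745, .gen 2675 (94, false)),
    (3000, .gen 2675 (101, false)),
    (1001, .gen 2875 (91, false)),
    (1109, .gen 2875 (94, true)),
    (3113, .gen 2764 (101, false)),
    (248, .gen 2618 (94, false)),
    (3098, .gen 2618 (94, true)),
    (3236, .gen 2618 (101, false)),
    (1652, .gen 1455 (92, false)),
    (883, .gen 1455 (93, false)),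
    (767, .gen 1455 (94, false)),
    (3643, .gen 1455 (94, true)),
    (3516, .gen 1455 (96, false)),
    (387, .gen 482 (92, false)),
    (926, .gen 482 (94, true)),
    (1866, .gen 482 (101, false)),
    (541, .gen 3642 (90, false)),
    (674, .gen 3642 (91, false)),
    (2441, .gen 3642 (101, false)),
    (241, .gen 2210 (94, false)),
    (865, .gen 244 (91, false)),
    (2211, .gen 244 (93, false)),
    (2269, .gen 244 (94, false)),
    (3168, .gen 244 (96, true)),
    (162, .gen 3663 (96, false)),
    (429, .gen 3663 (96, true)),
    (225, .gen 3284 (101, false)),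
    (952, .gen 3550 (91, false)),
    (117, .gen 3550 (101, false)),
    (3174, .gen 582 (101, false)),
    (924, .gen 564 (91, false)),
    (2183, .gen 564 (93, false)),
    (1330, .gen 564 (96, true)),
    (2006, .gen 857 (92, false)),
    (3166, .gen 857 (94, true)),
    (2945, .gen 857 (101, false)),
    (131, .gen 1711 (93, false)),
    (1648, .gen 1711 (94, false)),
    (1892, .gen 577 (90, false)),
    (3610, .gen 577 (94, true)),
    (2625, .gen 577 (96, false)),
    (515, .gen 577 (96, true)),
    (724, .gen 96 (91, false)),
    (2238, .gen 96 (92, false)),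
    (927, .gen 96 (96, false)),
    (2716, .gen 96 (101, false)),
    (3303, .gen 980 (90, false)),
    (3724, .gen 980 (92, false)),
    (1057, .gen 980 (93, false)),
    (1531, .gen 980 (94, true)),
    (732, .gen 980 (101, false)),
    (2884, .gen 929 (92, false)),
    (1328, .gen 929 (93, false)),
    (2142, .gen 929 (94, true)),
    (1723, .gen 2349 (90, false)),
    (2195, .gen 2349 (91, false)),
    (3461, .gen 2349 (94, false)),
    (2667, .gen 2349 (94, true)),
    (1350, .gen 3570 (91, false)),
    (1284, .gen 3570 (94, true)),
    (1089, .gen 1085 (92, false)),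
    (2229, .gen 1085 (101, false)),
    (1702, .gen 1418 (90, false)),
    (670, .gen 1418 (96, false)),
    (2730, .gen 1418 (101, false)),
    (2336, .gen 3510 (92, false)),
    (1191, .gen 3510 (94, true)),
    (993, .gen 3510 (101, false)),
    (790, .gen 1211 (92, false)),
    (3681, .gen 1211 (94, false)),
    (1053, .gen 2895 (91, false)),
    (2849, .gen 2895 (94, false)),
    (3342, .gen 3216 (90, false)),
    (3636, .gen 3125 (92, false)),
    (1134, .gen 3125 (96, false)),
    (3048, .gen 3125 (101, false)),
    (889, .gen 15 (94, true)),
    (2053, .gen 2552 (96, false)),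
    (526, .gen 2552 (96, true)),
    (3730, .gen 2465 (91, false)),
    (1717, .gen 2465 (93, false)),
    (3782, .gen 2465 (96, true)),
    (2541, .gen 3173 (90, false)),
    (3397, .gen 3173 (92, false)),
    (171, .gen 3173 (94, true)),
    (1567, .gen 3173 (101, false)),
    (2649, .gen 2099 (94, false)),
    (954, .gen 2099 (94, true)),
    (3791, .gen 1747 (94, false)),
    (2272, .gen 1167 (92, false)),
    (68, .gen 3228 (94, true)),
    (250, .gen 3228 (101, false)),
    (1205, .gen 2746 (91, false)),
    (2236, .gen 2746 (94, false)),
    (104, .gen 2746 (96, false)),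
    (749, .gen 2746 (96, true)),
    (634, .gen 2989 (94, true)),
    (2347, .gen 74 (92, false)),
    (975, .gen 74 (93, false)),
    (3485, .gen 74 (94, true)),
    (3376, .gen 74 (101, false)),
    (1896, .gen 33 (92, false)),
    (2916, .gen 33 (93, false)),
    (1282, .gen 33 (94, true)),
    (2234, .gen 3175 (92, false)),
    (2924, .gen 3175 (94, false)),
    (1045, .gen 3175 (94, true)),
    (3443, .gen 2661 (92, false)),
    (419, .gen 2661 (93, false)),
    (3637, .gen 2661 (96, false)),
    (2713, .gen 2661 (96, true))]

/-- Visits. -/
def v8_8 : List (ℕ × Src) :=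
  [(3456, .gen 981 (96, false)),
    (715, .gen 981 (96, true)),
    (3764, .gen 129 (94, true)),
    (3292, .gen 129 (96, false)),
    (3156, .gen 3341 (91, false)),
    (2858, .gen 3341 (93, false)),
    (3751, .gen 3341 (96, false)),
    (326, .gen 3481 (90, false)),
    (2227, .gen 3481 (92, false)),
    (2878, .gen 3481 (93, false)),
    (368, .gen 3481 (94, false)),
    (2482, .gen 3481 (94, true)),
    (1139, .gen 3481 (101, false)),
    (1470, .gen 3785 (90, false)),
    (386, .gen 3785 (93, false)),
    (215, .gen 3785 (94, false)),
    (1667, .gen 3785 (94, true)),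
    (275, .gen 3785 (101, false)),
    (3282, .gen 320 (90, false)),
    (93, .gen 320 (91, false)),
    (3027, .gen 320 (94, false)),
    (1959, .gen 320 (96, true)),
    (1287, .gen 804 (90, false)),
    (2859, .gen 2522 (90, false)),
    (1528, .gen 2522 (92, false)),
    (1653, .gen 2522 (96, true)),
    (3781, .gen 1975 (94, true)),
    (2192, .gen 2102 (94, true)),
    (569, .gen 2102 (96, false)),
    (3363, .gen 2102 (96, true)),
    (2310, .gen 3747 (92, false)),
    (1165, .gen 3747 (94, false)),
    (2870, .gen 1245 (91, false)),
    (631, .gen 1245 (92, false)),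
    (3786, .gen 1845 (93, false)),
    (383, .gen 2292 (90, false)),
    (3794, .gen 2292 (94, false)),
    (957, .gen 2292 (94, true)),
    (836, .gen 2292 (96, true)),
    (1302, .gen 3411 (92, false)),
    (996, .gen 3411 (93, false)),
    (1961, .gen 3103 (91, false)),
    (2404, .gen 3103 (96, false)),
    (332, .gen 3103 (96, true)),
    (620, .gen 3103 (101, false)),
    (2088, .gen 343 (94, false)),
    (1588, .gen 343 (101, false)),
    (3110, .gen 1962 (94, false)),
    (1016, .gen 1962 (94, true)),
    (307, .gen 1962 (96, false)),
    (632, .gen 1962 (96, true)),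
    (906, .gen 1962 (101, false)),
    (1237, .gen 3664 (90, false)),
    (3750, .gen 3664 (91, false)),
    (2118, .gen 3664 (92, false)),
    (2256, .gen 3664 (93, false)),
    (750, .gen 3664 (94, false)),
    (1627, .gen 3664 (96, false)),
    (999, .gen 3664 (96, true)),
    (1347, .gen 3664 (101, false)),
    (3521, .gen 2992 (90, false)),
    (2697, .gen 2992 (91, false)),
    (2811, .gen 2992 (96, false)),
    (2466, .gen 2992 (96, true)),
    (3450, .gen 2851 (90, false)),
    (1481, .gen 2851 (94, false)),
    (2734, .gen 2851 (94, true)),
    (3040, .gen 2851 (96, false)),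
    (2128, .gen 1771 (90, false)),
    (2933, .gen 1771 (93, false)),
    (1125, .gen 1771 (94, false)),
    (1874, .gen 1771 (94, true)),
    (1948, .gen 3483 (90, false)),
    (3317, .gen 3483 (91, false)),
    (3596, .gen 3483 (92, false)),
    (1366, .gen 3483 (93, false)),
    (1320, .gen 3483 (94, false)),
    (2323, .gen 3483 (94, true)),
    (2756, .gen 3483 (96, false)),
    (3414, .gen 3483 (96, true)),
    (2355, .gen 128 (101, false)),
    (3773, .gen 313 (94, false)),
    (2759, .gen 313 (96, false)),
    (2127, .gen 313 (96, true)),
    (3084, .gen 2230 (90, false)),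
    (49, .gen 2230 (91, false)),
    (438, .gen 2230 (94, false)),
    (16, .gen 2230 (96, false)),
    (2220, .gen 2230 (96, true)),
    (1557, .gen 2230 (101, false)),
    (3625, .gen 290 (90, false)),
    (907, .gen 290 (91, false)),
    (813, .gen 290 (96, false)),
    (3704, .gen 290 (96, true)),
    (3442, .gen 290 (101, false)),
    (47, .gen 3701 (90, false)),
    (1612, .gen 3701 (92, false)),
    (327, .gen 3701 (94, false)),
    (1352, .gen 3701 (94, true)),
    (1783, .gen 3701 (96, false)),
    (381, .gen 3701 (101, false)),
    (3142, .gen 2718 (92, false)),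
    (618, .gen 2718 (93, false)),
    (1485, .gen 2718 (94, false)),
    (2415, .gen 2718 (94, true)),
    (2745, .gen 2718 (101, false)),
    (787, .gen 3132 (90, false)),
    (2806, .gen 3132 (92, false)),
    (2410, .gen 3132 (93, false)),
    (504, .gen 3132 (94, false)),
    (2798, .gen 3132 (94, true)),
    (2281, .gen 3132 (96, false)),
    (3565, .gen 3132 (96, true)),
    (348, .gen 1102 (96, false)),
    (2414, .gen 1102 (96, true)),
    (2766, .gen 1102 (101, false)),
    (1613, .gen 13 (92, false)),
    (1387, .gen 13 (93, false)),
    (3, .gen 13 (96, false)),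
    (1901, .gen 13 (96, true)),
    (2890, .gen 1522 (90, false)),
    (1984, .gen 1522 (94, true)),
    (2028, .gen 1522 (96, false)),
    (449, .gen 1522 (96, true)),
    (3159, .gen 578 (90, false)),
    (70, .gen 578 (94, true)),
    (75, .gen 578 (96, false)),
    (1841, .gen 578 (96, true)),
    (1465, .gen 578 (101, false)),
    (1028, .gen 1472 (92, false)),
    (1644, .gen 1472 (93, false)),
    (586, .gen 1472 (96, false)),
    (3547, .gen 1472 (96, true)),
    (3122, .gen 737 (92, false)),
    (2825, .gen 737 (93, false)),
    (2306, .gen 737 (94, false)),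
    (421, .gen 737 (94, true)),
    (3523, .gen 737 (96, false)),
    (3301, .gen 737 (101, false)),
    (3096, .gen 891 (92, false)),
    (2464, .gen 891 (93, false)),
    (2461, .gen 891 (94, false)),
    (2280, .gen 891 (94, true)),
    (623, .gen 891 (101, false)),
    (1283, .gen 2711 (92, false)),
    (3792, .gen 2711 (93, false)),
    (3067, .gen 2711 (94, false)),
    (3437, .gen 2711 (94, true)),
    (2010, .gen 2711 (96, false)),
    (800, .gen 2711 (96, true)),
    (1185, .gen 2660 (92, false)),
    (2093, .gen 2660 (93, false)),
    (2293, .gen 2660 (96, true)),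
    (437, .gen 76 (92, false)),
    (1902, .gen 76 (93, false)),
    (667, .gen 76 (96, false)),
    (14, .gen 76 (96, true)),
    (2495, .gen 2833 (90, false)),
    (692, .gen 2833 (91, false)),
    (1911, .gen 2833 (96, false)),
    (660, .gen 2833 (96, true)),
    (347, .gen 2833 (101, false)),
    (2615, .gen 3534 (90, false)),
    (3298, .gen 3534 (91, false)),
    (2654, .gen 3534 (96, false)),
    (1657, .gen 3534 (96, true)),
    (2504, .gen 3534 (101, false)),
    (83, .gen 350 (92, false)),
    (280, .gen 350 (93, false)),
    (638, .gen 350 (94, true)),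
    (697, .gen 350 (96, false)),
    (36, .gen 693 (92, false)),
    (1608, .gen 693 (93, false)),
    (2344, .gen 693 (94, true)),
    (3334, .gen 693 (101, false)),
    (2498, .gen 3463 (90, false)),
    (209, .gen 3463 (94, false)),
    (2473, .gen 3463 (94, true)),
    (1985, .gen 3463 (96, true)),
    (466, .gen 691 (94, false)),
    (1431, .gen 691 (96, true)),
    (1225, .gen 2863 (92, false)),
    (1595, .gen 2863 (93, false)),
    (544, .gen 2863 (94, false)),
    (1869, .gen 2863 (101, false)),
    (1719, .gen 1632 (92, false)),
    (2839, .gen 1632 (94, true)),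
    (2232, .gen 1632 (96, false)),
    (127, .gen 1632 (96, true)),
    (53, .gen 1632 (101, false)),
    (236, .gen 3167 (93, false)),
    (3194, .gen 3167 (94, false)),
    (1151, .gen 3167 (94, true)),
    (3474, .gen 2058 (90, false)),
    (2467, .gen 2058 (93, false)),
    (2510, .gen 2058 (94, false)),
    (2158, .gen 1367 (90, false)),
    (1280, .gen 1367 (91, false)),
    (2496, .gen 1367 (94, false)),
    (3195, .gen 1367 (101, false)),
    (2953, .gen 3055 (92, false)),
    (264, .gen 3055 (93, false)),
    (3360, .gen 3055 (94, false)),
    (2559, .gen 3055 (96, false)),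
    (3466, .gen 3055 (96, true)),
    (2475, .gen 2673 (92, false)),
    (834, .gen 2673 (93, false)),
    (751, .gen 2673 (96, true)),
    (2827, .gen 2673 (101, false)),
    (2565, .gen 2749 (92, false)),
    (1461, .gen 2749 (93, false)),
    (1410, .gen 2749 (94, false)),
    (2781, .gen 2749 (94, true)),
    (2928, .gen 845 (93, false)),
    (299, .gen 845 (94, false)),
    (2077, .gen 845 (94, true)),
    (502, .gen 845 (96, false)),
    (121, .gen 1258 (92, false)),
    (1424, .gen 1258 (93, false)),
    (2733, .gen 1258 (94, false)),
    (2751, .gen 1258 (94, true)),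
    (731, .gen 2446 (91, false)),
    (2201, .gen 2446 (93, false)),
    (3460, .gen 2446 (94, false)),
    (2666, .gen 2446 (94, true)),
    (281, .gen 930 (90, false)),
    (1618, .gen 930 (91, false)),
    (1873, .gen 930 (94, true)),
    (2488, .gen 930 (96, false)),
    (2379, .gen 930 (96, true)),
    (3676, .gen 930 (101, false)),
    (3731, .gen 1953 (90, false)),
    (1355, .gen 1953 (91, false)),
    (2151, .gen 1953 (92, false)),
    (854, .gen 1953 (94, false)),
    (3335, .gen 1953 (96, false)),
    (2477, .gen 1953 (96, true)),
    (2505, .gen 1953 (101, false)),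
    (1034, .gen 393 (91, false)),
    (427, .gen 393 (92, false)),
    (2253, .gen 393 (93, false)),
    (2209, .gen 393 (94, true)),
    (619, .gen 393 (96, false)),
    (2422, .gen 393 (96, true)),
    (1264, .gen 2335 (90, false)),
    (2593, .gen 2335 (92, false)),
    (450, .gen 2335 (93, false)),
    (2392, .gen 2335 (94, false)),
    (1501, .gen 1033 (92, false)),
    (2757, .gen 1033 (93, false)),
    (3172, .gen 2574 (94, true)),
    (3356, .gen 1294 (94, false)),
    (40, .gen 1294 (96, false)),
    (2902, .gen 1294 (96, true)),
    (1759, .gen 1294 (101, false)),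
    (3097, .gen 1597 (90, false)),
    (3488, .gen 1597 (91, false)),
    (3561, .gen 1597 (92, false)),
    (1813, .gen 1597 (93, false)),
    (2783, .gen 1597 (96, false)),
    (3725, .gen 1597 (96, true)),
    (1368, .gen 1316 (96, true)),
    (1452, .gen 2318 (90, false)),
    (2212, .gen 2318 (93, false)),
    (2551, .gen 2318 (94, false)),
    (1581, .gen 2318 (94, true)),
    (2739, .gen 2318 (96, false)),
    (3668, .gen 3738 (90, false)),
    (1184, .gen 3738 (93, false)),
    (1489, .gen 3738 (94, false)),
    (3080, .gen 3738 (94, true)),
    (976, .gen 2163 (90, false)),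
    (2937, .gen 2163 (91, false)),
    (1766, .gen 2163 (92, false)),
    (3263, .gen 2163 (93, false)),
    (1884, .gen 2163 (94, false)),
    (2627, .gen 2163 (94, true)),
    (3498, .gen 546 (94, true)),
    (3538, .gen 546 (96, true)),
    (2100, .gen 546 (101, false)),
    (2588, .gen 1069 (96, true)),
    (1104, .gen 1904 (90, false)),
    (1304, .gen 1904 (91, false)),
    (1638, .gen 1904 (96, false)),
    (2216, .gen 1904 (96, true)),
    (832, .gen 1983 (96, true)),
    (2399, .gen 1468 (92, false)),
    (1871, .gen 1468 (93, false)),
    (2721, .gen 1468 (94, true)),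
    (192, .gen 609 (92, false)),
    (950, .gen 609 (93, false)),
    (3742, .gen 609 (94, false)),
    (2451, .gen 609 (94, true)),
    (2550, .gen 2869 (92, false)),
    (1390, .gen 2869 (94, false)),
    (3394, .gen 2869 (94, true)),
    (3328, .gen 2502 (96, true)),
    (2653, .gen 2502 (101, false)),
    (1942, .gen 1589 (96, false)),
    (1893, .gen 1589 (96, true))]

/-- Visits. -/
def v8_9 : List (ℕ × Src) :=
  [(2304, .gen 1589 (101, false)),
    (3512, .gen 3699 (92, false)),
    (860, .gen 3699 (94, true)),
    (1996, .gen 3035 (93, false)),
    (3212, .gen 3035 (94, true)),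
    (608, .gen 3207 (96, false)),
    (3252, .gen 3207 (96, true)),
    (641, .gen 3207 (101, false)),
    (1097, .gen 759 (96, false)),
    (2033, .gen 759 (96, true)),
    (2672, .gen 759 (101, false)),
    (1285, .gen 2680 (96, false)),
    (1026, .gen 2680 (96, true)),
    (2694, .gen 2302 (92, false)),
    (1757, .gen 2302 (93, false)),
    (689, .gen 2302 (101, false)),
    (266, .gen 1414 (92, false)),
    (1927, .gen 1414 (93, false)),
    (1055, .gen 1414 (94, false)),
    (2369, .gen 785 (90, false)),
    (3256, .gen 785 (92, false)),
    (2434, .gen 785 (94, false)),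
    (2059, .gen 785 (96, false)),
    (3563, .gen 785 (96, true)),
    (2126, .gen 2313 (93, false)),
    (3686, .gen 2313 (94, false)),
    (2674, .gen 2313 (94, true)),
    (1220, .gen 2313 (101, false)),
    (3188, .gen 1736 (91, false)),
    (701, .gen 1736 (94, false)),
    (2364, .gen 1736 (94, true)),
    (2393, .gen 1736 (96, true)),
    (2444, .gen 1736 (101, false)),
    (3741, .gen 1714 (92, false)),
    (3689, .gen 1714 (93, false)),
    (3621, .gen 1714 (94, false)),
    (1671, .gen 2476 (90, false)),
    (1517, .gen 2476 (92, false)),
    (850, .gen 2476 (93, false)),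
    (2047, .gen 2476 (94, true)),
    (2200, .gen 2476 (96, false)),
    (1374, .gen 2476 (101, false)),
    (1428, .gen 1138 (93, false)),
    (1591, .gen 1138 (94, true)),
    (1574, .gen 3251 (93, false)),
    (1881, .gen 3251 (94, false)),
    (1976, .gen 3251 (94, true)),
    (2428, .gen 3251 (101, false)),
    (2300, .gen 3305 (94, false)),
    (3208, .gen 3305 (94, true)),
    (2554, .gen 3305 (96, false)),
    (628, .gen 3305 (101, false)),
    (781, .gen 1409 (92, false)),
    (2184, .gen 1409 (94, false)),
    (2556, .gen 1409 (96, true)),
    (456, .gen 2042 (90, false)),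
    (1535, .gen 2042 (92, false)),
    (1326, .gen 2042 (93, false)),
    (468, .gen 2042 (94, true)),
    (3639, .gen 2042 (96, false)),
    (3620, .gen 2042 (101, false)),
    (1538, .gen 1940 (94, false)),
    (3593, .gen 1060 (94, true)),
    (1695, .gen 1377 (90, false)),
    (3447, .gen 1377 (91, false)),
    (1305, .gen 1377 (96, false)),
    (475, .gen 1377 (96, true)),
    (105, .gen 1377 (101, false)),
    (1616, .gen 1689 (94, false)),
    (2406, .gen 2166 (94, false)),
    (2582, .gen 2166 (94, true)),
    (1056, .gen 1917 (96, false)),
    (2217, .gen 1917 (96, true)),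
    (1239, .gen 1917 (101, false)),
    (2828, .gen 3237 (96, false)),
    (2380, .gen 3237 (96, true)),
    (516, .gen 3734 (94, false)),
    (2359, .gen 1628 (90, false)),
    (2492, .gen 1628 (91, false)),
    (140, .gen 1628 (96, false)),
    (351, .gen 1628 (96, true)),
    (3765, .gen 2068 (92, false)),
    (2573, .gen 2068 (93, false)),
    (820, .gen 2068 (94, false)),
    (2606, .gen 2068 (94, true)),
    (587, .gen 2068 (96, false)),
    (2789, .gen 3711 (92, false)),
    (2170, .gen 3711 (94, false)),
    (3191, .gen 3711 (94, true)),
    (2177, .gen 3711 (101, false)),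
    (685, .gen 2383 (92, false)),
    (2662, .gen 2383 (93, false)),
    (84, .gen 2383 (94, false)),
    (3366, .gen 2383 (96, false)),
    (3703, .gen 2383 (96, true)),
    (1932, .gen 592 (92, false)),
    (249, .gen 592 (93, false)),
    (1292, .gen 592 (96, false)),
    (3524, .gen 592 (96, true)),
    (1449, .gen 3234 (92, false)),
    (3497, .gen 3234 (93, false)),
    (1807, .gen 3234 (96, false)),
    (942, .gen 1850 (90, false)),
    (169, .gen 1850 (91, false)),
    (2704, .gen 1850 (92, false)),
    (3472, .gen 1850 (93, false)),
    (1135, .gen 1850 (94, false)),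
    (1128, .gen 1850 (94, true)),
    (1606, .gen 3638 (96, false)),
    (1577, .gen 448 (96, false)),
    (2645, .gen 448 (96, true)),
    (3662, .gen 1958 (94, false)),
    (3013, .gen 1958 (94, true)),
    (161, .gen 1958 (96, false)),
    (2342, .gen 2999 (94, false)),
    (1534, .gen 2794 (96, false)),
    (551, .gen 2794 (96, true)),
    (1240, .gen 3459 (96, false)),
    (1722, .gen 3459 (101, false)),
    (2528, .gen 2728 (96, false)),
    (3576, .gen 2728 (96, true)),
    (3192, .gen 2728 (101, false)),
    (200, .gen 1565 (90, false)),
    (39, .gen 1565 (93, false)),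
    (2729, .gen 1565 (94, false)),
    (698, .gen 1565 (94, true)),
    (3683, .gen 1565 (96, false)),
    (2497, .gen 985 (94, false)),
    (2938, .gen 985 (94, true)),
    (2462, .gen 2681 (96, false)),
    (399, .gen 2681 (96, true)),
    (414, .gen 2681 (101, false)),
    (108, .gen 988 (92, false)),
    (2074, .gen 988 (93, false)),
    (1563, .gen 988 (96, false)),
    (3641, .gen 988 (96, true)),
    (1475, .gen 988 (101, false)),
    (1524, .gen 3478 (91, false)),
    (1469, .gen 3478 (96, false)),
    (1990, .gen 3478 (96, true)),
    (3628, .gen 3478 (101, false)),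
    (2288, .gen 1622 (91, false)),
    (2813, .gen 1622 (96, false)),
    (2191, .gen 1622 (96, true)),
    (1806, .gen 1622 (101, false)),
    (1709, .gen 1248 (90, false)),
    (185, .gen 1248 (91, false)),
    (2782, .gen 2204 (90, false)),
    (2069, .gen 2204 (92, false)),
    (3011, .gen 2204 (94, true)),
    (2512, .gen 2204 (96, false)),
    (2628, .gen 673 (90, false)),
    (878, .gen 673 (92, false)),
    (607, .gen 673 (93, false)),
    (2531, .gen 673 (94, false)),
    (3358, .gen 673 (94, true)),
    (2092, .gen 673 (101, false)),
    (1168, .gen 3318 (90, false)),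
    (1435, .gen 3318 (91, false)),
    (3271, .gen 3318 (92, false)),
    (3136, .gen 3318 (93, false)),
    (3554, .gen 3318 (94, false)),
    (151, .gen 3318 (94, true)),
    (2314, .gen 3318 (96, true)),
    (2122, .gen 846 (94, false)),
    (1569, .gen 846 (101, false)),
    (2090, .gen 490 (96, true)),
    (3587, .gen 833 (90, false)),
    (3268, .gen 833 (92, false)),
    (2599, .gen 833 (93, false)),
    (3758, .gen 833 (96, false)),
    (3700, .gen 2888 (90, false)),
    (3429, .gen 2888 (91, false)),
    (2846, .gen 2888 (92, false)),
    (1224, .gen 1895 (93, false)),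
    (267, .gen 1895 (94, true)),
    (3788, .gen 3420 (90, false)),
    (1307, .gen 3420 (92, false)),
    (2427, .gen 2235 (94, false)),
    (2690, .gen 2235 (101, false)),
    (1510, .gen 1403 (90, false)),
    (512, .gen 1403 (96, false)),
    (2508, .gen 1403 (101, false)),
    (2327, .gen 3527 (90, false)),
    (3511, .gen 3527 (91, false)),
    (1375, .gen 3527 (92, false)),
    (3530, .gen 3527 (93, false)),
    (1371, .gen 3527 (101, false)),
    (2103, .gen 2244 (90, false)),
    (1954, .gen 2244 (92, false)),
    (3297, .gen 2244 (93, false)),
    (2172, .gen 1791 (90, false)),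
    (3115, .gen 1791 (92, false)),
    (2423, .gen 1791 (93, false)),
    (2820, .gen 1939 (91, false)),
    (3146, .gen 1939 (92, false)),
    (2203, .gen 1939 (94, true)),
    (3564, .gen 1939 (96, false)),
    (3015, .gen 1939 (96, true)),
    (1650, .gen 1939 (101, false)),
    (1529, .gen 1183 (92, false)),
    (3200, .gen 1183 (93, false)),
    (136, .gen 1183 (94, false)),
    (2116, .gen 2696 (93, false)),
    (2656, .gen 2696 (94, false)),
    (2601, .gen 2696 (96, false)),
    (3003, .gen 1882 (94, false)),
    (2755, .gen 1882 (96, false)),
    (1756, .gen 1882 (96, true)),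
    (2631, .gen 1882 (101, false)),
    (987, .gen 2480 (90, false)),
    (958, .gen 2480 (91, false)),
    (2156, .gen 2480 (93, false)),
    (1404, .gen 2480 (94, false)),
    (2353, .gen 2480 (96, false)),
    (2179, .gen 2480 (96, true)),
    (3540, .gen 2480 (101, false)),
    (1276, .gen 2169 (92, false)),
    (890, .gen 2169 (93, false)),
    (3289, .gen 2169 (94, false)),
    (2000, .gen 1486 (94, false)),
    (3069, .gen 3520 (101, false)),
    (2845, .gen 939 (94, false)),
    (2071, .gen 939 (96, false)),
    (1333, .gen 939 (96, true)),
    (3116, .gen 939 (101, false)),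
    (3682, .gen 2057 (91, false)),
    (1547, .gen 2057 (101, false)),
    (156, .gen 243 (92, false)),
    (3522, .gen 243 (94, false)),
    (1655, .gen 243 (96, false)),
    (666, .gen 243 (101, false)),
    (2864, .gen 2020 (101, false)),
    (695, .gen 1734 (94, false)),
    (1190, .gen 949 (96, false)),
    (2276, .gen 949 (101, false)),
    (2816, .gen 3389 (96, false)),
    (1003, .gen 2144 (93, false)),
    (754, .gen 2144 (94, false)),
    (3302, .gen 2144 (94, true)),
    (80, .gen 2144 (101, false)),
    (1792, .gen 3767 (91, false)),
    (2837, .gen 3767 (92, false)),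
    (1913, .gen 3622 (101, false)),
    (1325, .gen 2334 (96, false)),
    (1500, .gen 2334 (96, true)),
    (3102, .gen 2334 (101, false)),
    (2481, .gen 1221 (94, false)),
    (3300, .gen 1221 (94, true)),
    (2469, .gen 1765 (91, false)),
    (1215, .gen 1765 (93, false)),
    (3790, .gen 1765 (94, false)),
    (2515, .gen 1765 (94, true)),
    (646, .gen 1692 (96, true)),
    (1231, .gen 1692 (101, false)),
    (2748, .gen 2907 (90, false)),
    (2283, .gen 2907 (96, true)),
    (2659, .gen 2907 (101, false)),
    (2198, .gen 3477 (92, false)),
    (3571, .gen 3477 (93, false)),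
    (2298, .gen 3477 (94, false)),
    (3151, .gen 3477 (94, true)),
    (2202, .gen 3477 (96, false)),
    (231, .gen 3477 (101, false)),
    (2908, .gen 1509 (92, false)),
    (1027, .gen 1509 (94, false)),
    (464, .gen 1761 (90, false)),
    (1826, .gen 1761 (91, false)),
    (3640, .gen 1761 (92, false)),
    (3783, .gen 1761 (94, true)),
    (916, .gen 1761 (96, false)),
    (3337, .gen 1761 (96, true)),
    (2879, .gen 3056 (94, true)),
    (1444, .gen 3056 (101, false)),
    (256, .gen 1451 (94, false)),
    (1944, .gen 1451 (94, true)),
    (3778, .gen 2532 (94, false)),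
    (2972, .gen 2532 (94, true)),
    (1859, .gen 2532 (96, true)),
    (1229, .gen 1680 (91, false)),
    (3645, .gen 1680 (92, false)),
    (2676, .gen 1680 (94, false)),
    (2452, .gen 1680 (96, false)),
    (3267, .gen 1680 (96, true)),
    (2401, .gen 671 (90, false)),
    (1146, .gen 671 (91, false)),
    (2905, .gen 671 (92, false)),
    (3453, .gen 671 (94, true)),
    (2682, .gen 671 (96, true)),
    (1148, .gen 460 (94, false)),
    (357, .gen 460 (94, true)),
    (585, .gen 3148 (94, false)),
    (2221, .gen 3338 (94, false)),
    (300, .gen 3338 (96, false)),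
    (3050, .gen 3448 (91, false)),
    (3245, .gen 3448 (94, false)),
    (705, .gen 3448 (96, true)),
    (1348, .gen 3583 (90, false)),
    (629, .gen 3583 (96, false)),
    (2456, .gen 3583 (96, true))]

/-- Visits. -/
def v8_10 : List (ℕ × Src) :=
  [(839, .gen 2855 (92, false)),
    (189, .gen 2855 (94, true)),
    (1907, .gen 1659 (94, true)),
    (1417, .gen 1659 (96, false)),
    (3104, .gen 2284 (92, false)),
    (3672, .gen 2284 (93, false)),
    (901, .gen 2284 (94, true)),
    (3145, .gen 3135 (94, false)),
    (2885, .gen 3135 (96, false)),
    (1997, .gen 3135 (96, true)),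
    (1466, .gen 3135 (101, false)),
    (1342, .gen 1770 (94, false)),
    (2362, .gen 2517 (90, false)),
    (2411, .gen 2517 (91, false)),
    (2638, .gen 2517 (93, false)),
    (523, .gen 2517 (96, false)),
    (2571, .gen 2517 (96, true)),
    (3018, .gen 2517 (101, false)),
    (3709, .gen 3160 (92, false)),
    (3537, .gen 3160 (93, false)),
    (2060, .gen 3160 (94, false)),
    (1905, .gen 3160 (94, true)),
    (1654, .gen 2085 (92, false)),
    (3468, .gen 2085 (93, false)),
    (2548, .gen 2085 (94, true)),
    (934, .gen 25 (101, false)),
    (1832, .gen 2001 (96, false)),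
    (1858, .gen 2001 (96, true)),
    (3231, .gen 2001 (101, false)),
    (1821, .gen 1696 (94, false)),
    (2222, .gen 1696 (94, true)),
    (3357, .gen 1696 (96, false)),
    (2566, .gen 1200 (94, false)),
    (1912, .gen 903 (90, false)),
    (1192, .gen 903 (91, false)),
    (3209, .gen 903 (92, false)),
    (3270, .gen 903 (94, false)),
    (2775, .gen 719 (101, false)),
    (3123, .gen 1600 (94, true)),
    (2050, .gen 2245 (94, false)),
    (1107, .gen 2245 (94, true)),
    (2640, .gen 1675 (90, false)),
    (2821, .gen 1675 (91, false)),
    (1309, .gen 805 (101, false)),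
    (3421, .gen 1769 (101, false)),
    (1357, .gen 3406 (94, false)),
    (3399, .gen 3406 (94, true)),
    (1252, .gen 3406 (101, false)),
    (873, .gen 3149 (94, false)),
    (1728, .gen 3149 (94, true)),
    (3513, .gen 3149 (96, true)),
    (1530, .gen 3149 (101, false)),
    (2160, .gen 1925 (94, false)),
    (2742, .gen 1925 (96, true)),
    (3562, .gen 1925 (101, false)),
    (997, .gen 3514 (92, false)),
    (2026, .gen 3514 (93, false)),
    (1737, .gen 3514 (96, false)),
    (2699, .gen 3514 (96, true)),
    (1749, .gen 3514 (101, false)),
    (3099, .gen 3285 (93, false)),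
    (984, .gen 3285 (94, false)),
    (1512, .gen 1989 (94, false)),
    (1039, .gen 3454 (94, false)),
    (2758, .gen 3454 (96, false)),
    (340, .gen 3454 (96, true)),
    (2934, .gen 1586 (92, false)),
    (2994, .gen 1586 (94, true)),
    (3494, .gen 1586 (96, true)),
    (2124, .gen 3606 (91, false)),
    (792, .gen 3606 (93, false)),
    (339, .gen 3606 (94, true)),
    (3669, .gen 1660 (94, false)),
    (1571, .gen 1660 (94, true)),
    (3605, .gen 1161 (90, false)),
    (2982, .gen 1161 (94, false)),
    (1533, .gen 1206 (90, false)),
    (597, .gen 1206 (94, false)),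
    (3177, .gen 1206 (94, true)),
    (3117, .gen 1206 (96, true)),
    (2801, .gen 2274 (91, false)),
    (378, .gen 2274 (93, false)),
    (3281, .gen 2274 (94, false)),
    (2657, .gen 2274 (96, false)),
    (2529, .gen 3032 (92, false)),
    (1590, .gen 3032 (93, false)),
    (1964, .gen 3032 (94, true)),
    (2080, .gen 3032 (96, false)),
    (645, .gen 3032 (96, true)),
    (1286, .gen 3032 (101, false)),
    (3698, .gen 2479 (92, false)),
    (3170, .gen 2479 (93, false)),
    (1336, .gen 2479 (94, false)),
    (2817, .gen 3707 (94, true)),
    (536, .gen 3707 (96, false)),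
    (2709, .gen 3707 (96, true)),
    (2866, .gen 2065 (96, false)),
    (2684, .gen 2065 (96, true)),
    (1106, .gen 442 (96, false)),
    (353, .gen 442 (96, true)),
    (342, .gen 442 (101, false)),
    (2178, .gen 3001 (94, false)),
    (3233, .gen 3001 (94, true)),
    (123, .gen 1093 (94, true)),
    (1516, .gen 1093 (96, false)),
    (459, .gen 3722 (96, false)),
    (806, .gen 467 (96, false)),
    (1473, .gen 467 (101, false)),
    (1536, .gen 3343 (94, false)),
    (2590, .gen 3343 (94, true)),
    (1385, .gen 2140 (91, false)),
    (2500, .gen 2140 (92, false)),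
    (1762, .gen 2140 (94, false)),
    (3114, .gen 2140 (94, true)),
    (3419, .gen 2140 (96, false)),
    (532, .gen 2463 (101, false)),
    (3137, .gen 1796 (94, true)),
    (2926, .gen 1796 (96, false)),
    (1776, .gen 2581 (93, false)),
    (1349, .gen 2581 (94, false)),
    (435, .gen 2581 (94, true)),
    (3307, .gen 2171 (96, true)),
    (2358, .gen 2171 (101, false)),
    (684, .gen 2990 (93, false)),
    (842, .gen 2990 (94, false)),
    (2735, .gen 2990 (94, true)),
    (3183, .gen 2990 (96, false)),
    (756, .gen 1645 (94, false)),
    (2391, .gen 1645 (94, true)),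
    (2644, .gen 3428 (90, false)),
    (2778, .gen 3428 (94, false)),
    (126, .gen 3428 (94, true)),
    (3618, .gen 2521 (101, false)),
    (633, .gen 2107 (94, false)),
    (3726, .gen 2107 (96, false)),
    (404, .gen 2107 (101, false)),
    (2112, .gen 2159 (94, false)),
    (2365, .gen 31 (92, false)),
    (1794, .gen 31 (93, false)),
    (1694, .gen 31 (94, false)),
    (3124, .gen 31 (94, true)),
    (10, .gen 31 (96, false)),
    (2831, .gen 3525 (93, false)),
    (1558, .gen 3525 (94, true)),
    (3551, .gen 352 (94, false)),
    (2771, .gen 352 (96, true)),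
    (2917, .gen 1340 (90, false)),
    (2591, .gen 1340 (93, false)),
    (3763, .gen 1340 (94, false)),
    (2954, .gen 2962 (92, false)),
    (716, .gen 2962 (94, true)),
    (1811, .gen 3036 (94, true)),
    (2575, .gen 1800 (96, false)),
    (600, .gen 1800 (96, true)),
    (2054, .gen 1216 (93, false)),
    (3697, .gen 1216 (94, true)),
    (1120, .gen 488 (96, false)),
    (3654, .gen 1855 (94, true)),
    (2641, .gen 1855 (96, false)),
    (718, .gen 3519 (90, false)),
    (614, .gen 1564 (92, false)),
    (2248, .gen 1564 (94, true)),
    (1853, .gen 1564 (96, false)),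
    (2671, .gen 1564 (96, true)),
    (639, .gen 3321 (94, false)),
    (318, .gen 1303 (90, false)),
    (553, .gen 1303 (93, false)),
    (3586, .gen 1303 (94, false)),
    (489, .gen 1303 (96, true)),
    (793, .gen 428 (91, false)),
    (3368, .gen 1493 (92, false)),
    (2089, .gen 1493 (93, false)),
    (1266, .gen 1493 (94, false)),
    (3412, .gen 1493 (101, false)),
    (2448, .gen 3588 (92, false)),
    (1343, .gen 3588 (94, false)),
    (2695, .gen 3588 (101, false)),
    (1889, .gen 2503 (92, false)),
    (1480, .gen 2503 (94, true)),
    (887, .gen 1121 (94, true)),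
    (2865, .gen 2007 (90, false)),
    (2698, .gen 2007 (91, false)),
    (3706, .gen 2007 (92, false)),
    (1442, .gen 2007 (93, false)),
    (869, .gen 1454 (90, false)),
    (764, .gen 3269 (94, false)),
    (559, .gen 1666 (91, false)),
    (3526, .gen 1666 (96, false)),
    (829, .gen 1666 (101, false)),
    (3340, .gen 3330 (96, false)),
    (1494, .gen 3330 (101, false)),
    (3333, .gen 3257 (101, false)),
    (1916, .gen 212 (94, true)),
    (3375, .gen 212 (101, false)),
    (1233, .gen 1834 (90, false)),
    (2368, .gen 2295 (92, false)),
    (1661, .gen 2295 (93, false)),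
    (2049, .gen 2136 (92, false)),
    (67, .gen 2136 (94, false)),
    (1730, .gen 2136 (96, true)),
    (1441, .gen 2136 (101, false)),
    (794, .gen 1015 (91, false)),
    (394, .gen 1015 (96, false)),
    (2744, .gen 1015 (96, true)),
    (2773, .gen 1015 (101, false)),
    (3062, .gen 3739 (90, false)),
    (3509, .gen 3739 (91, false)),
    (3616, .gen 3739 (92, false)),
    (3312, .gen 3739 (93, false)),
    (3506, .gen 3739 (96, false)),
    (2949, .gen 1227 (92, false)),
    (1058, .gen 1227 (93, false)),
    (2022, .gen 567 (92, false)),
    (2881, .gen 567 (93, false)),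
    (3715, .gen 3458 (94, false)),
    (485, .gen 3458 (96, true)),
    (2132, .gen 3458 (101, false)),
    (1395, .gen 2231 (92, false)),
    (3652, .gen 2231 (93, false)),
    (227, .gen 2231 (101, false)),
    (2867, .gen 2133 (90, false)),
    (2921, .gen 2133 (91, false)),
    (2967, .gen 2700 (90, false)),
    (1433, .gen 2700 (91, false)),
    (3065, .gen 3600 (90, false)),
    (3332, .gen 3600 (93, false)),
    (373, .gen 3600 (96, false)),
    (1735, .gen 1929 (94, true)),
    (3770, .gen 3119 (92, false)),
    (710, .gen 3119 (94, true)),
    (1163, .gen 1149 (94, false)),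
    (2796, .gen 1149 (94, true)),
    (1075, .gen 1149 (96, true)),
    (2787, .gen 2900 (101, false)),
    (3038, .gen 2325 (94, false)),
    (1699, .gen 3364 (90, false)),
    (2322, .gen 3364 (91, false)),
    (3424, .gen 3364 (92, false)),
    (2973, .gen 3364 (93, false)),
    (2635, .gen 3531 (92, false)),
    (3780, .gen 3531 (94, true)),
    (1752, .gen 1246 (94, true)),
    (3243, .gen 2850 (94, false)),
    (2580, .gen 2850 (101, false)),
    (948, .gen 1269 (91, false)),
    (3163, .gen 1269 (101, false)),
    (1820, .gen 1068 (94, true)),
    (624, .gen 1068 (101, false)),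
    (2208, .gen 2141 (92, false)),
    (1753, .gen 2141 (93, false)),
    (3721, .gen 2736 (92, false)),
    (3369, .gen 2736 (94, false)),
    (1317, .gen 2736 (96, true)),
    (3759, .gen 1856 (101, false)),
    (3438, .gen 3579 (92, false)),
    (601, .gen 3579 (93, false)),
    (2829, .gen 1585 (93, false)),
    (432, .gen 2857 (93, false)),
    (439, .gen 358 (90, false)),
    (3713, .gen 358 (93, false)),
    (2351, .gen 358 (94, false)),
    (2567, .gen 3536 (94, false)),
    (2629, .gen 1833 (93, false)),
    (827, .gen 1833 (94, true)),
    (2104, .gen 1833 (96, false)),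
    (3272, .gen 714 (101, false)),
    (933, .gen 2832 (101, false)),
    (1296, .gen 3646 (90, false)),
    (626, .gen 3646 (93, false)),
    (3220, .gen 2899 (101, false)),
    (1527, .gen 1067 (94, true)),
    (3648, .gen 1067 (101, false)),
    (2592, .gen 3532 (94, false)),
    (411, .gen 2123 (94, false)),
    (1801, .gen 2252 (94, true)),
    (3131, .gen 216 (94, false)),
    (3753, .gen 1678 (94, true)),
    (925, .gen 3555 (90, false)),
    (2595, .gen 3555 (91, false)),
    (2105, .gen 3555 (92, false)),
    (3061, .gen 3555 (93, false)),
    (3322, .gen 1971 (90, false)),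
    (3249, .gen 1971 (92, false)),
    (1059, .gen 1971 (94, true)),
    (549, .gen 3619 (94, true)),
    (3647, .gen 743 (91, false)),
    (35, .gen 2082 (90, false)),
    (2254, .gen 2082 (94, true)),
    (2693, .gen 1103 (92, false)),
    (2514, .gen 1103 (93, false)),
    (322, .gen 3405 (90, false)),
    (2450, .gen 3405 (94, true)),
    (1539, .gen 1156 (90, false)),
    (818, .gen 1156 (96, false)),
    (325, .gen 1156 (96, true)),
    (1575, .gen 2889 (94, false)),
    (2941, .gen 2889 (96, false)),
    (3403, .gen 1082 (94, true)),
    (2343, .gen 3293 (91, false)),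
    (2703, .gen 2910 (91, false))]

/-- Visits. -/
def v8_11 : List (ℕ × Src) :=
  [(527, .gen 2910 (96, false)),
    (3462, .gen 2910 (96, true)),
    (1299, .gen 2535 (90, false)),
    (1476, .gen 1920 (93, false)),
    (3179, .gen 1920 (94, false)),
    (3134, .gen 2686 (91, false)),
    (336, .gen 2686 (101, false)),
    (2986, .gen 2985 (92, false)),
    (967, .gen 1880 (94, true)),
    (2520, .gen 1880 (101, false)),
    (2167, .gen 2311 (101, false)),
    (113, .gen 1429 (92, false)),
    (2652, .gen 1429 (94, true)),
    (3615, .gen 1521 (101, false)),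
    (1630, .gen 1384 (93, false)),
    (2715, .gen 3265 (94, true)),
    (811, .gen 3265 (96, true)),
    (1755, .gen 3382 (91, false)),
    (2394, .gen 2012 (90, false)),
    (1836, .gen 1733 (94, false)),
    (2651, .gen 425 (94, true)),
    (94, .gen 155 (92, false)),
    (426, .gen 2793 (93, false)),
    (2717, .gen 1503 (94, false)),
    (2219, .gen 1503 (94, true)),
    (3133, .gen 1624 (93, false)),
    (3444, .gen 662 (92, false)),
    (465, .gen 1267 (90, false)),
    (1356, .gen 1267 (94, true)),
    (1223, .gen 196 (96, false)),
    (520, .gen 196 (96, true)),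
    (3058, .gen 3633 (96, false)),
    (1484, .gen 3633 (101, false)),
    (2584, .gen 3046 (96, false)),
    (2848, .gen 3052 (93, false)),
    (856, .gen 3052 (94, false)),
    (174, .gen 3052 (101, false)),
    (2925, .gen 2770 (92, false)),
    (213, .gen 2770 (96, true)),
    (765, .gen 1860 (96, false)),
    (1393, .gen 2266 (92, false)),
    (3749, .gen 2266 (93, false)),
    (1670, .gen 2266 (94, false)),
    (2137, .gen 2266 (96, true)),
    (2286, .gen 2338 (101, false)),
    (382, .gen 2424 (94, false)),
    (2241, .gen 2424 (94, true)),
    (3714, .gen 1823 (94, false)),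
    (2148, .gen 2516 (91, false)),
    (2964, .gen 2516 (96, false)),
    (3042, .gen 2516 (101, false)),
    (2285, .gen 2046 (101, false)),
    (3543, .gen 1949 (94, false)),
    (2799, .gen 1705 (90, false)),
    (1392, .gen 1705 (91, false)),
    (1362, .gen 1705 (92, false)),
    (2117, .gen 2678 (94, false)),
    (3556, .gen 573 (94, true)),
    (2539, .gen 3611 (92, false)),
    (1991, .gen 616 (96, false)),
    (1748, .gen 616 (96, true)),
    (2722, .gen 2008 (96, true)),
    (1837, .gen 557 (93, false)),
    (669, .gen 557 (94, false)),
    (2619, .gen 1046 (101, false)),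
    (1526, .gen 2277 (92, false)),
    (2002, .gen 872 (101, false)),
    (3575, .gen 3402 (91, false)),
    (2372, .gen 3402 (94, false)),
    (3277, .gen 3402 (96, true)),
    (2790, .gen 773 (101, false)),
    (3082, .gen 1963 (101, false)),
    (245, .gen 447 (101, false)),
    (2044, .gen 974 (92, false)),
    (1797, .gen 2454 (91, false)),
    (2637, .gen 2557 (94, false)),
    (3349, .gen 1079 (93, false)),
    (3372, .gen 1079 (94, true)),
    (2710, .gen 2965 (96, false)),
    (2189, .gen 1281 (94, false)),
    (877, .gen 1281 (96, true)),
    (3147, .gen 3308 (94, false)),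
    (458, .gen 3073 (94, true)),
    (1828, .gen 3073 (96, true)),
    (305, .gen 3165 (94, true)),
    (2455, .gen 3165 (96, false)),
    (3246, .gen 166 (101, false)),
    (3129, .gen 1676 (92, false)),
    (1505, .gen 1676 (94, false)),
    (1262, .gen 1155 (90, false)),
    (528, .gen 1155 (91, false)),
    (3439, .gen 1155 (94, false)),
    (1422, .gen 1155 (96, true)),
    (770, .gen 2540 (101, false)),
    (1308, .gen 3022 (90, false)),
    (492, .gen 3022 (91, false)),
    (471, .gen 3022 (96, false)),
    (1020, .gen 3022 (96, true)),
    (1541, .gen 95 (92, false)),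
    (2568, .gen 95 (93, false)),
    (610, .gen 3005 (92, false)),
    (3002, .gen 3005 (93, false)),
    (233, .gen 1244 (94, false)),
    (611, .gen 659 (93, false)),
    (2752, .gen 659 (94, false)),
    (1973, .gen 1891 (94, false)),
    (232, .gen 1381 (93, false)),
    (955, .gen 654 (93, false)),
    (2876, .gen 654 (101, false)),
    (3517, .gen 316 (94, true)),
    (2390, .gen 3489 (93, false)),
    (494, .gen 3687 (94, false)),
    (1147, .gen 500 (90, false)),
    (1080, .gen 500 (91, false)),
    (739, .gen 500 (96, false)),
    (111, .gen 2906 (94, false)),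
    (3553, .gen 2906 (101, false)),
    (1406, .gen 1726 (93, false)),
    (3423, .gen 1726 (94, false)),
    (3210, .gen 983 (93, false)),
    (3235, .gen 983 (94, true)),
    (314, .gen 2585 (101, false)),
    (1345, .gen 656 (90, false)),
    (3260, .gen 3278 (101, false)),
    (3431, .gen 181 (91, false)),
    (1396, .gen 886 (90, false)),
    (1617, .gen 886 (94, false)),
    (1169, .gen 886 (94, true)),
    (1843, .gen 956 (94, true)),
    (440, .gen 956 (96, false)),
    (1744, .gen 2207 (92, false)),
    (603, .gen 1178 (91, false)),
    (675, .gen 3657 (94, false)),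
    (990, .gen 2139 (101, false)),
    (1263, .gen 3095 (90, false)),
    (3274, .gen 3095 (91, false)),
    (2250, .gen 3095 (96, false)),
    (3761, .gen 3095 (96, true)),
    (2115, .gen 3064 (94, false)),
    (2356, .gen 3387 (96, false)),
    (400, .gen 3387 (96, true)),
    (3127, .gen 2072 (92, false)),
    (1194, .gen 2562 (93, false)),
    (2376, .gen 2490 (90, false)),
    (2605, .gen 2361 (94, true)),
    (2354, .gen 2361 (96, false)),
    (1780, .gen 452 (92, false)),
    (125, .gen 452 (94, false)),
    (2493, .gen 2561 (101, false)),
    (1815, .gen 2957 (93, false)),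
    (3261, .gen 2021 (90, false)),
    (3674, .gen 3789 (92, false)),
    (397, .gen 3789 (101, false)),
    (2880, .gen 446 (94, false)),
    (3470, .gen 446 (96, true)),
    (3793, .gen 3609 (92, false)),
    (2647, .gen 3609 (93, false)),
    (1416, .gen 2558 (96, true)),
    (3754, .gen 694 (90, false)),
    (2486, .gen 938 (91, false)),
    (182, .gen 938 (94, false)),
    (797, .gen 2438 (92, false)),
    (1914, .gen 2438 (93, false)),
    (1170, .gen 3702 (96, true)),
    (3484, .gen 3201 (91, false)),
    (2691, .gen 3201 (94, false)),
    (1218, .gen 677 (90, false)),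
    (1764, .gen 531 (90, false)),
    (3028, .gen 971 (90, false)),
    (2576, .gen 1448 (93, false)),
    (1870, .gen 893 (91, false)),
    (1230, .gen 2914 (93, false)),
    (308, .gen 2271 (94, false)),
    (195, .gen 5 (93, false)),
    (1872, .gen 838 (93, false)),
    (3503, .gen 3354 (91, false)),
    (1344, .gen 186 (92, false)),
    (2903, .gen 186 (93, false)),
    (3719, .gen 2011 (94, false)),
    (3425, .gen 2011 (96, false)),
    (3391, .gen 2011 (96, true)),
    (1933, .gen 2537 (101, false)),
    (1054, .gen 1150 (91, false)),
    (115, .gen 1150 (92, false)),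
    (2761, .gen 1150 (94, false)),
    (3339, .gen 1150 (96, true)),
    (23, .gen 3493 (94, false)),
    (3441, .gen 3545 (92, false)),
    (3009, .gen 3385 (101, false)),
    (3549, .gen 1928 (101, false)),
    (2449, .gen 968 (96, false)),
    (1513, .gen 1242 (91, false)),
    (2251, .gen 1242 (94, false)),
    (702, .gen 1119 (96, true)),
    (1249, .gen 3045 (92, false)),
    (1386, .gen 788 (92, false)),
    (26, .gen 788 (93, false)),
    (1924, .gen 911 (90, false)),
    (3279, .gen 911 (94, false)),
    (2228, .gen 640 (96, true)),
    (2384, .gen 3574 (92, false)),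
    (766, .gen 3280 (94, false)),
    (2720, .gen 1508 (101, false)),
    (1827, .gen 3548 (91, false)),
    (2037, .gen 1323 (94, false)),
    (986, .gen 484 (92, false)),
    (720, .gen 1886 (92, false)),
    (1969, .gen 2131 (94, true)),
    (2437, .gen 2373 (93, false)),
    (2205, .gen 1992 (94, false)),
    (1532, .gen 1126 (93, false)),
    (3371, .gen 2459 (93, false)),
    (1499, .gen 2447 (94, true)),
    (147, .gen 815 (93, false)),
    (1784, .gen 815 (94, true)),
    (704, .gen 1361 (93, false)),
    (2190, .gen 1196 (94, true)),
    (1290, .gen 2624 (93, false)),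
    (2960, .gen 2150 (101, false)),
    (1272, .gen 3383 (93, false)),
    (1572, .gen 3473 (96, false)),
    (99, .gen 3262 (92, false)),
    (1044, .gen 3262 (94, true)),
    (2018, .gen 1970 (93, false)),
    (2621, .gen 1359 (94, true)),
    (59, .gen 1785 (94, false)),
    (1279, .gen 1092 (101, false)),
    (150, .gen 2429 (94, false)),
    (203, .gen 1293 (90, false)),
    (2822, .gen 2998 (93, false)),
    (1208, .gen 2970 (91, false)),
    (487, .gen 620 (94, true)),
    (295, .gen 2088 (101, false)),
    (3059, .gen 1588 (92, false)),
    (772, .gen 3110 (96, false)),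
    (2435, .gen 3110 (101, false)),
    (1562, .gen 1016 (96, false)),
    (637, .gen 1016 (96, true)),
    (643, .gen 307 (94, false)),
    (1668, .gen 632 (94, false)),
    (1268, .gen 906 (92, false)),
    (3695, .gen 906 (94, false)),
    (3187, .gen 1237 (96, false)),
    (1100, .gen 1237 (96, true)),
    (1674, .gen 3750 (96, false)),
    (152, .gen 3750 (96, true)),
    (994, .gen 2256 (96, false)),
    (1313, .gen 1627 (90, false)),
    (1812, .gen 1627 (96, false)),
    (2978, .gen 999 (90, false)),
    (3712, .gen 999 (94, false)),
    (605, .gen 1347 (91, false)),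
    (2416, .gen 1347 (96, false)),
    (3649, .gen 1347 (96, true)),
    (165, .gen 2697 (96, false)),
    (12, .gen 2697 (96, true)),
    (2329, .gen 2811 (94, true)),
    (1471, .gen 2811 (96, false)),
    (1607, .gen 2466 (92, false)),
    (3107, .gen 3450 (94, true)),
    (2287, .gen 1481 (91, false)),
    (2186, .gen 1481 (101, false)),
    (2472, .gen 2734 (91, false)),
    (2025, .gen 2734 (92, false)),
    (535, .gen 2734 (96, false)),
    (606, .gen 2734 (96, true)),
    (57, .gen 3040 (93, false)),
    (3608, .gen 3040 (94, false)),
    (2389, .gen 3040 (94, true)),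
    (3476, .gen 1125 (101, false)),
    (3139, .gen 1874 (91, false)),
    (3323, .gen 1874 (92, false)),
    (1923, .gen 1874 (93, false)),
    (42, .gen 1948 (92, false)),
    (3010, .gen 3596 (94, true)),
    (1182, .gen 3596 (96, true)),
    (979, .gen 1366 (94, true)),
    (1847, .gen 1320 (94, false)),
    (2513, .gen 2756 (92, false)),
    (3690, .gen 3414 (92, false)),
    (363, .gen 2355 (90, false)),
    (335, .gen 49 (96, false)),
    (3016, .gen 49 (96, true)),
    (859, .gen 438 (96, true)),
    (1019, .gen 16 (90, false)),
    (3182, .gen 16 (92, false)),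
    (1775, .gen 16 (94, false)),
    (1903, .gen 16 (96, false)),
    (436, .gen 2220 (92, false)),
    (736, .gen 2220 (94, false)),
    (361, .gen 2220 (101, false)),
    (825, .gen 1557 (90, false)),
    (3558, .gen 1557 (91, false)),
    (2120, .gen 1557 (96, false)),
    (2418, .gen 3625 (101, false)),
    (3632, .gen 907 (96, true)),
    (2436, .gen 813 (92, false)),
    (1219, .gen 813 (96, false)),
    (1277, .gen 3442 (94, false)),
    (3624, .gen 3442 (94, true))]

/-- Visits. -/
def v8_12 : List (ℕ × Src) :=
  [(799, .gen 47 (101, false)),
    (2149, .gen 1612 (94, false)),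
    (1974, .gen 1352 (91, false)),
    (1998, .gen 1352 (96, false)),
    (1573, .gen 1352 (96, true)),
    (503, .gen 1352 (101, false)),
    (2501, .gen 1783 (94, false)),
    (2772, .gen 1783 (94, true)),
    (2750, .gen 3142 (94, false)),
    (3007, .gen 618 (94, false)),
    (819, .gen 1485 (91, false)),
    (3680, .gen 2415 (91, false)),
    (2312, .gen 2745 (94, false)),
    (2808, .gen 2806 (94, true)),
    (3535, .gen 2281 (92, false)),
    (205, .gen 2281 (94, false)),
    (2258, .gen 348 (94, false)),
    (2087, .gen 2414 (94, false)),
    (1353, .gen 2766 (94, false)),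
    (3671, .gen 2766 (94, true)),
    (3591, .gen 2766 (96, true)),
    (3185, .gen 1613 (101, false)),
    (1447, .gen 449 (92, false)),
    (3355, .gen 449 (101, false)),
    (3033, .gen 75 (94, true)),
    (3580, .gen 1465 (96, true)),
    (366, .gen 586 (96, false)),
    (3660, .gen 3547 (93, false)),
    (2815, .gen 3547 (94, false)),
    (3184, .gen 2306 (92, false)),
    (3755, .gen 3301 (92, false)),
    (2396, .gen 3301 (94, true)),
    (1741, .gen 3096 (94, false)),
    (1621, .gen 3096 (101, false)),
    (3568, .gen 2464 (94, false)),
    (2823, .gen 2461 (92, false)),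
    (1087, .gen 2461 (101, false)),
    (3071, .gen 2280 (92, false)),
    (972, .gen 2280 (94, true)),
    (3415, .gen 623 (92, false)),
    (508, .gen 623 (94, true)),
    (1767, .gen 3067 (92, false)),
    (1580, .gen 3067 (96, false)),
    (779, .gen 3067 (96, true)),
    (3552, .gen 3067 (101, false)),
    (296, .gen 3437 (96, true)),
    (1074, .gen 2010 (92, false)),
    (2278, .gen 437 (96, false)),
    (1883, .gen 437 (101, false)),
    (2930, .gen 1902 (101, false)),
    (1548, .gen 667 (92, false)),
    (753, .gen 2495 (96, true)),
    (188, .gen 692 (101, false)),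
    (1288, .gen 1911 (90, false)),
    (1275, .gen 1911 (94, true)),
    (3436, .gen 1911 (96, false)),
    (319, .gen 347 (93, false)),
    (1672, .gen 3298 (96, false)),
    (1715, .gen 3298 (96, true)),
    (2854, .gen 2654 (93, false)),
    (2015, .gen 2654 (101, false)),
    (1197, .gen 83 (90, false)),
    (66, .gen 83 (93, false)),
    (550, .gen 83 (96, true)),
    (2563, .gen 638 (93, false)),
    (479, .gen 638 (96, false)),
    (2395, .gen 697 (93, false)),
    (158, .gen 36 (94, true)),
    (2023, .gen 1608 (96, false)),
    (312, .gen 2344 (93, false)),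
    (2079, .gen 2344 (96, false)),
    (3154, .gen 2344 (101, false)),
    (2862, .gen 3334 (94, true)),
    (519, .gen 2498 (94, true)),
    (1212, .gen 209 (93, false)),
    (2267, .gen 544 (93, false)),
    (3529, .gen 1869 (90, false)),
    (3121, .gen 1869 (91, false)),
    (3325, .gen 1719 (90, false)),
    (1443, .gen 1719 (91, false)),
    (462, .gen 1719 (96, true)),
    (292, .gen 2232 (92, false)),
    (3581, .gen 127 (92, false)),
    (179, .gen 53 (92, false)),
    (762, .gen 3474 (92, false)),
    (3541, .gen 2467 (94, true)),
    (3043, .gen 2510 (101, false)),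
    (1746, .gen 1280 (94, false)),
    (379, .gen 2475 (90, false)),
    (2185, .gen 2475 (101, false)),
    (3771, .gen 834 (90, false)),
    (1844, .gen 2827 (94, true)),
    (2701, .gen 2565 (93, false)),
    (1909, .gen 2565 (94, false)),
    (3614, .gen 1461 (94, false)),
    (160, .gen 1410 (96, false)),
    (3446, .gen 2781 (92, false)),
    (1897, .gen 2928 (94, false)),
    (61, .gen 2077 (101, false)),
    (1931, .gen 731 (94, false)),
    (259, .gen 2666 (93, false)),
    (876, .gen 2666 (96, true)),
    (27, .gen 2488 (94, false)),
    (3331, .gen 854 (92, false)),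
    (831, .gen 854 (93, false)),
    (2803, .gen 427 (96, true)),
    (1114, .gen 619 (92, false)),
    (2484, .gen 2422 (92, false)),
    (2214, .gen 2422 (93, false)),
    (3120, .gen 1501 (90, false)),
    (2922, .gen 2757 (94, false)),
    (499, .gen 3488 (96, false)),
    (844, .gen 3488 (96, true)),
    (2993, .gen 2783 (94, true)),
    (1189, .gen 2783 (101, false)),
    (180, .gen 3725 (101, false)),
    (3077, .gen 976 (91, false)),
    (2852, .gen 976 (92, false)),
    (1439, .gen 2937 (92, false)),
    (453, .gen 2937 (93, false)),
    (2977, .gen 1884 (91, false)),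
    (2162, .gen 1871 (101, false)),
    (2249, .gen 2550 (94, false)),
    (401, .gen 2550 (101, false)),
    (588, .gen 1942 (101, false)),
    (1979, .gen 2304 (96, false)),
    (1945, .gen 2304 (96, true)),
    (1754, .gen 1996 (96, false)),
    (2381, .gen 3252 (94, true)),
    (2835, .gen 1097 (94, false)),
    (3756, .gen 2033 (94, true)),
    (2608, .gen 1285 (94, false)),
    (2432, .gen 1026 (93, false)),
    (1289, .gen 2694 (94, true)),
    (3487, .gen 1757 (94, false)),
    (2320, .gen 266 (94, true)),
    (1830, .gen 1927 (96, false)),
    (2871, .gen 2434 (91, false)),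
    (3384, .gen 3686 (101, false)),
    (1235, .gen 3741 (96, true)),
    (3044, .gen 3621 (96, false)),
    (1369, .gen 850 (96, true)),
    (3206, .gen 1374 (93, false)),
    (1255, .gen 1574 (101, false)),
    (1204, .gen 3208 (101, false)),
    (328, .gen 2554 (94, true)),
    (802, .gen 3620 (93, false)),
    (19, .gen 1239 (91, false)),
    (3238, .gen 2828 (96, false)),
    (2569, .gen 2359 (101, false)),
    (1842, .gen 2492 (96, true)),
    (481, .gen 140 (96, false)),
    (2689, .gen 351 (94, false)),
    (1602, .gen 2606 (96, false)),
    (1050, .gen 587 (94, true)),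
    (1937, .gen 3191 (96, false)),
    (2847, .gen 2177 (94, true)),
    (176, .gen 685 (93, false)),
    (3378, .gen 685 (96, true)),
    (2892, .gen 84 (93, false)),
    (1646, .gen 84 (101, false)),
    (2553, .gen 3703 (92, false)),
    (3150, .gen 3497 (101, false)),
    (3692, .gen 942 (91, false)),
    (1698, .gen 169 (93, false)),
    (801, .gen 169 (94, false)),
    (1552, .gen 3013 (90, false)),
    (2036, .gen 2342 (96, true)),
    (3655, .gen 551 (94, true)),
    (3105, .gen 1722 (94, false)),
    (3319, .gen 698 (90, false)),
    (46, .gen 2938 (101, false)),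
    (3006, .gen 1563 (92, false)),
    (2834, .gen 1563 (96, false)),
    (3432, .gen 1563 (101, false)),
    (1751, .gen 1806 (90, false)),
    (2003, .gen 1806 (92, false)),
    (1545, .gen 2782 (94, true)),
    (1877, .gen 2628 (94, true)),
    (1777, .gen 2092 (94, true)),
    (2679, .gen 2599 (96, false)),
    (1321, .gen 3700 (94, false)),
    (529, .gen 3429 (94, true)),
    (1729, .gen 267 (91, false)),
    (3743, .gen 3788 (92, false)),
    (3152, .gen 3511 (93, false)),
    (775, .gen 2172 (101, false)),
    (3440, .gen 2156 (96, true)),
    (1007, .gen 3289 (93, false)),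
    (1635, .gen 1913 (94, false)),
    (2754, .gen 2515 (96, false)),
    (3528, .gen 3698 (94, false)),
    (1482, .gen 3170 (94, false)),
    (3630, .gen 3307 (94, true)),
    (3029, .gen 2365 (94, true))]

/-- The visits of node 8. -/
def visits8 : List (ℕ × Src) :=
  v8_0 ++ v8_1 ++ v8_2 ++ v8_3 ++ v8_4 ++ v8_5 ++ v8_6 ++ v8_7 ++ v8_8 ++ v8_9 ++ v8_10 ++ v8_11 ++ v8_12

/-- Visits. -/
def v9_0 : List (ℕ × Src) :=
  [(9, .edge 103 true),
    (315, .edge 106 false),
    (649, .edge 108 false),
    (679, .edge 109 false),
    (964, .edge 109 true),
    (2275, .edge 111 false),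
    (961, .edge 112 true),
    (2, .edge 113 false),
    (1708, .edge 114 false),
    (3248, .edge 114 true),
    (2056, .edge 115 false),
    (376, .edge 116 false),
    (1642, .edge 117 false),
    (3445, .edge 118 false),
    (58, .edge 120 false),
    (334, .edge 121 false),
    (812, .edge 121 true),
    (149, .edge 122 false),
    (498, .edge 123 false),
    (119, .edge 124 false),
    (1840, .edge 125 false),
    (1110, .edge 126 false),
    (3397, .edge 127 false),
    (3133, .edge 127 true),
    (613, .edge 128 false),
    (612, .edge 128 true),
    (1640, .edge 129 false),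
    (2352, .edge 130 false),
    (88, .edge 130 true),
    (153, .edge 131 false),
    (310, .edge 132 false),
    (2240, .edge 133 false),
    (194, .edge 134 false),
    (1157, .edge 134 true),
    (872, .edge 135 false),
    (145, .edge 136 true),
    (735, .edge 137 false),
    (168, .edge 146 false),
    (33, .edge 160 false),
    (1346, .edge 181 true),
    (1208, .edge 189 false),
    (3080, .edge 239 true),
    (255, .edge 253 false),
    (721, .edge 260 false),
    (941, .edge 263 true),
    (98, .edge 264 false),
    (3773, .edge 269 true),
    (188, .edge 270 false),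
    (1817, .edge 274 false),
    (155, .edge 275 true),
    (1802, .edge 293 false),
    (2030, .edge 357 true),
    (598, .edge 368 true),
    (2146, .edge 369 true),
    (1799, .edge 373 true),
    (962, .edge 402 true),
    (37, .edge 419 true),
    (1411, .edge 422 true),
    (732, .edge 429 true),
    (2535, .edge 432 true),
    (445, .edge 438 true),
    (607, .edge 484 false),
    (1790, .edge 582 false),
    (55, .edge 583 false),
    (2997, .edge 584 false),
    (3449, .edge 588 true),
    (1401, .edge 618 true),
    (174, .edge 640 true),
    (2796, .edge 650 true),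
    (3173, .edge 654 true),
    (1284, .edge 655 true),
    (3435, .edge 1075 false),
    (814, .edge 1093 true),
    (2206, .edge 1116 true),
    (2648, .edge 1138 true),
    (417, .edge 1161 true),
    (992, .edge 1163 true),
    (908, .edge 1200 true),
    (1301, .edge 1296 true),
    (1071, .edge 1302 false),
    (1555, .edge 1303 false),
    (853, .edge 1318 true),
    (1429, .edge 1336 true),
    (1336, .edge 1340 true),
    (1534, .edge 1353 true),
    (1155, .edge 1361 true),
    (106, .edge 1364 true),
    (877, .edge 1366 true),
    (1126, .edge 1376 true),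
    (584, .gen 9 (107, false)),
    (1412, .gen 9 (110, false)),
    (1027, .gen 9 (119, false)),
    (1109, .gen 9 (119, true)),
    (700, .gen 315 (119, false)),
    (1967, .gen 315 (119, true)),
    (3781, .gen 649 (119, false)),
    (2117, .gen 649 (119, true)),
    (56, .gen 679 (104, false)),
    (817, .gen 679 (107, false)),
    (428, .gen 679 (119, false)),
    (2675, .gen 679 (119, true)),
    (2131, .gen 964 (119, false)),
    (3366, .gen 964 (119, true)),
    (3106, .gen 2275 (119, false)),
    (1393, .gen 2275 (119, true)),
    (85, .gen 961 (105, false)),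
    (904, .gen 961 (110, false)),
    (518, .gen 961 (119, false)),
    (3461, .gen 961 (119, true)),
    (2260, .gen 2 (105, false)),
    (8, .gen 2 (107, false)),
    (2070, .gen 2 (119, false)),
    (1836, .gen 2 (119, true)),
    (1514, .gen 1708 (104, false)),
    (1012, .gen 1708 (110, false)),
    (745, .gen 1708 (119, false)),
    (309, .gen 1708 (119, true)),
    (3193, .gen 3248 (104, false)),
    (2665, .gen 3248 (107, false)),
    (3144, .gen 3248 (119, false)),
    (257, .gen 3248 (119, true)),
    (2856, .gen 2056 (119, false)),
    (2348, .gen 2056 (119, true)),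
    (3395, .gen 376 (119, false)),
    (2192, .gen 376 (119, true)),
    (360, .gen 1642 (107, false)),
    (3066, .gen 1642 (119, false)),
    (3612, .gen 1642 (119, true)),
    (3635, .gen 3445 (104, false)),
    (3410, .gen 3445 (105, false)),
    (650, .gen 3445 (119, false)),
    (1611, .gen 3445 (119, true)),
    (26, .gen 58 (119, false)),
    (2924, .gen 58 (119, true)),
    (3199, .gen 334 (119, false)),
    (2637, .gen 334 (119, true)),
    (954, .gen 812 (119, false)),
    (1302, .gen 812 (119, true)),
    (631, .gen 149 (119, false)),
    (1170, .gen 149 (119, true)),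
    (276, .gen 498 (119, false)),
    (1965, .gen 498 (119, true)),
    (1910, .gen 1840 (104, false)),
    (1701, .gen 1840 (107, false)),
    (537, .gen 1840 (110, false)),
    (863, .gen 1840 (119, false)),
    (1321, .gen 1840 (119, true)),
    (109, .gen 1110 (119, false)),
    (344, .gen 1110 (119, true)),
    (1943, .gen 3397 (104, false)),
    (1378, .gen 3397 (105, false)),
    (389, .gen 3397 (107, false)),
    (3407, .gen 3397 (110, false)),
    (1160, .gen 3397 (119, false)),
    (3223, .gen 3397 (119, true)),
    (3422, .gen 3133 (104, false)),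
    (3299, .gen 3133 (105, false)),
    (3760, .gen 3133 (107, false)),
    (2861, .gen 3133 (110, false)),
    (1291, .gen 3133 (119, false)),
    (3222, .gen 3133 (119, true)),
    (1935, .gen 613 (104, false)),
    (2351, .gen 613 (105, false)),
    (1413, .gen 613 (107, false)),
    (469, .gen 613 (110, false)),
    (551, .gen 613 (119, false)),
    (1792, .gen 613 (119, true)),
    (2863, .gen 612 (105, false)),
    (2460, .gen 612 (107, false)),
    (3062, .gen 612 (119, false)),
    (1500, .gen 612 (119, true)),
    (648, .gen 1640 (104, false)),
    (1631, .gen 1640 (105, false)),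
    (97, .gen 1640 (107, false)),
    (3053, .gen 2352 (104, false)),
    (2544, .gen 2352 (105, false)),
    (1507, .gen 2352 (107, false)),
    (308, .gen 2352 (110, false)),
    (1538, .gen 2352 (119, false)),
    (3088, .gen 2352 (119, true)),
    (574, .gen 88 (105, false)),
    (582, .gen 88 (107, false)),
    (2051, .gen 88 (119, false)),
    (3497, .gen 88 (119, true)),
    (22, .gen 153 (105, false)),
    (1043, .gen 153 (107, false)),
    (2109, .gen 153 (110, false)),
    (111, .gen 153 (119, false)),
    (1075, .gen 153 (119, true)),
    (470, .gen 310 (105, false)),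
    (1394, .gen 2240 (105, false)),
    (1310, .gen 2240 (119, false)),
    (1023, .gen 2240 (119, true)),
    (1814, .gen 194 (105, false)),
    (52, .gen 194 (119, false)),
    (994, .gen 194 (119, true)),
    (17, .gen 1157 (105, false)),
    (266, .gen 1157 (119, false)),
    (616, .gen 1157 (119, true)),
    (2623, .gen 872 (104, false)),
    (1244, .gen 872 (110, false)),
    (2108, .gen 872 (119, false)),
    (2853, .gen 145 (104, false)),
    (1691, .gen 735 (104, false)),
    (1314, .gen 168 (104, false)),
    (2429, .gen 168 (105, false)),
    (1785, .gen 168 (110, false)),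
    (581, .gen 168 (119, false)),
    (3225, .gen 33 (104, false)),
    (2653, .gen 33 (105, false)),
    (1986, .gen 33 (107, false)),
    (2102, .gen 33 (110, false)),
    (625, .gen 33 (119, false)),
    (793, .gen 33 (119, true)),
    (3314, .gen 1346 (105, false)),
    (1956, .gen 1346 (107, false)),
    (390, .gen 1346 (119, false)),
    (2345, .gen 1346 (119, true)),
    (2925, .gen 1208 (104, false)),
    (3586, .gen 1208 (105, false)),
    (225, .gen 1208 (107, false)),
    (1975, .gen 1208 (110, false)),
    (248, .gen 1208 (119, true)),
    (2674, .gen 3080 (104, false)),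
    (2063, .gen 3080 (105, false)),
    (2729, .gen 3080 (107, false)),
    (3375, .gen 3080 (110, false)),
    (1068, .gen 3080 (119, false)),
    (1846, .gen 3080 (119, true)),
    (356, .gen 255 (104, false)),
    (234, .gen 255 (110, false)),
    (2816, .gen 255 (119, false)),
    (1807, .gen 255 (119, true)),
    (935, .gen 721 (104, false)),
    (1593, .gen 721 (105, false)),
    (1453, .gen 721 (110, false)),
    (304, .gen 721 (119, false)),
    (1403, .gen 721 (119, true)),
    (1329, .gen 941 (104, false)),
    (763, .gen 941 (107, false)),
    (2199, .gen 941 (110, false)),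
    (3396, .gen 941 (119, false)),
    (2173, .gen 941 (119, true)),
    (3153, .gen 98 (104, false)),
    (2171, .gen 98 (105, false)),
    (2731, .gen 98 (107, false)),
    (988, .gen 98 (110, false)),
    (1936, .gen 98 (119, false)),
    (2257, .gen 98 (119, true)),
    (3478, .gen 3773 (104, false)),
    (2288, .gen 3773 (105, false)),
    (448, .gen 3773 (107, false)),
    (3447, .gen 3773 (110, false)),
    (3516, .gen 3773 (119, false)),
    (987, .gen 3773 (119, true)),
    (2258, .gen 188 (104, false)),
    (1648, .gen 188 (105, false)),
    (2857, .gen 188 (107, false)),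
    (751, .gen 188 (110, false)),
    (2756, .gen 188 (119, false)),
    (2441, .gen 188 (119, true)),
    (420, .gen 1817 (104, false)),
    (2594, .gen 1817 (105, false)),
    (885, .gen 1817 (107, false)),
    (2737, .gen 1817 (119, false)),
    (996, .gen 1817 (119, true)),
    (2402, .gen 155 (104, false)),
    (2858, .gen 155 (105, false)),
    (1809, .gen 155 (107, false)),
    (1624, .gen 155 (110, false)),
    (951, .gen 155 (119, false)),
    (1446, .gen 155 (119, true)),
    (2181, .gen 1802 (104, false)),
    (1226, .gen 1802 (105, false)),
    (402, .gen 1802 (119, false)),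
    (129, .gen 1802 (119, true)),
    (1892, .gen 2030 (104, false)),
    (1937, .gen 2030 (105, false)),
    (3789, .gen 2030 (107, false)),
    (1886, .gen 2030 (110, false)),
    (3610, .gen 2030 (119, false)),
    (2913, .gen 2030 (119, true)),
    (3045, .gen 598 (104, false)),
    (2571, .gen 598 (105, false)),
    (2770, .gen 598 (107, false)),
    (2678, .gen 598 (110, false)),
    (504, .gen 598 (119, false)),
    (395, .gen 598 (119, true)),
    (3413, .gen 2146 (104, false)),
    (2478, .gen 2146 (105, false)),
    (2458, .gen 2146 (107, false)),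
    (349, .gen 2146 (110, false)),
    (3584, .gen 2146 (119, false)),
    (2576, .gen 2146 (119, true)),
    (1363, .gen 1799 (104, false)),
    (1880, .gen 1799 (105, false)),
    (1620, .gen 1799 (107, false)),
    (3087, .gen 1799 (110, false)),
    (2877, .gen 1799 (119, false)),
    (1214, .gen 1799 (119, true))]

/-- Visits. -/
def v9_1 : List (ℕ × Src) :=
  [(1829, .gen 962 (104, false)),
    (3500, .gen 962 (105, false)),
    (20, .gen 962 (107, false)),
    (2296, .gen 962 (110, false)),
    (3663, .gen 962 (119, false)),
    (1168, .gen 962 (119, true)),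
    (545, .gen 37 (105, false)),
    (3094, .gen 37 (107, false)),
    (254, .gen 37 (119, false)),
    (372, .gen 37 (119, true)),
    (184, .gen 1411 (104, false)),
    (917, .gen 1411 (105, false)),
    (894, .gen 1411 (107, false)),
    (920, .gen 1411 (110, false)),
    (1578, .gen 1411 (119, false)),
    (3609, .gen 732 (104, false)),
    (3291, .gen 732 (105, false)),
    (2438, .gen 732 (110, false)),
    (2950, .gen 732 (119, false)),
    (130, .gen 732 (119, true)),
    (231, .gen 2535 (104, false)),
    (1138, .gen 2535 (105, false)),
    (2314, .gen 2535 (107, false)),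
    (3647, .gen 2535 (110, false)),
    (471, .gen 2535 (119, false)),
    (3260, .gen 2535 (119, true)),
    (2064, .gen 445 (104, false)),
    (3058, .gen 445 (105, false)),
    (1223, .gen 445 (107, false)),
    (3118, .gen 445 (119, false)),
    (1092, .gen 445 (119, true)),
    (3001, .gen 607 (104, false)),
    (1469, .gen 607 (107, false)),
    (2908, .gen 607 (110, false)),
    (1940, .gen 607 (119, false)),
    (442, .gen 607 (119, true)),
    (2259, .gen 1790 (104, false)),
    (54, .gen 1790 (105, false)),
    (761, .gen 1790 (107, false)),
    (3051, .gen 1790 (110, false)),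
    (1552, .gen 1790 (119, false)),
    (1715, .gen 1790 (119, true)),
    (1619, .gen 55 (105, false)),
    (2264, .gen 55 (107, false)),
    (2670, .gen 55 (110, false)),
    (3319, .gen 55 (119, false)),
    (3566, .gen 55 (119, true)),
    (524, .gen 2997 (105, false)),
    (269, .gen 2997 (107, false)),
    (3748, .gen 2997 (110, false)),
    (2967, .gen 2997 (119, false)),
    (457, .gen 2997 (119, true)),
    (0, .gen 3449 (104, false)),
    (3078, .gen 3449 (105, false)),
    (2611, .gen 3449 (107, false)),
    (2897, .gen 3449 (110, false)),
    (3403, .gen 3449 (119, false)),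
    (955, .gen 3449 (119, true)),
    (2779, .gen 1401 (104, false)),
    (1686, .gen 1401 (105, false)),
    (2024, .gen 1401 (110, false)),
    (2309, .gen 1401 (119, false)),
    (2130, .gen 1401 (119, true)),
    (3784, .gen 174 (104, false)),
    (2368, .gen 174 (105, false)),
    (929, .gen 174 (107, false)),
    (3031, .gen 174 (110, false)),
    (16, .gen 174 (119, true)),
    (1627, .gen 2796 (104, false)),
    (772, .gen 2796 (107, false)),
    (3114, .gen 2796 (110, false)),
    (340, .gen 2796 (119, false)),
    (3673, .gen 2796 (119, true)),
    (2236, .gen 3173 (104, false)),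
    (2793, .gen 3173 (105, false)),
    (3543, .gen 3173 (107, false)),
    (855, .gen 3173 (110, false)),
    (2421, .gen 3173 (119, false)),
    (3380, .gen 3173 (119, true)),
    (1924, .gen 1284 (104, false)),
    (2448, .gen 1284 (105, false)),
    (1402, .gen 1284 (107, false)),
    (709, .gen 1284 (110, false)),
    (2573, .gen 1284 (119, false)),
    (1505, .gen 1284 (119, true)),
    (707, .gen 3435 (104, false)),
    (444, .gen 3435 (105, false)),
    (3073, .gen 3435 (107, false)),
    (520, .gen 3435 (110, false)),
    (1380, .gen 3435 (119, false)),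
    (1949, .gen 3435 (119, true)),
    (1022, .gen 814 (104, false)),
    (1605, .gen 814 (105, false)),
    (341, .gen 814 (107, false)),
    (1576, .gen 814 (110, false)),
    (1911, .gen 814 (119, false)),
    (1349, .gen 814 (119, true)),
    (1643, .gen 2206 (104, false)),
    (1647, .gen 2206 (105, false)),
    (1187, .gen 2206 (107, false)),
    (944, .gen 2206 (110, false)),
    (1339, .gen 2206 (119, false)),
    (1823, .gen 2206 (119, true)),
    (923, .gen 2648 (104, false)),
    (3732, .gen 2648 (105, false)),
    (783, .gen 2648 (107, false)),
    (1995, .gen 2648 (110, false)),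
    (1561, .gen 2648 (119, false)),
    (590, .gen 2648 (119, true)),
    (2360, .gen 417 (104, false)),
    (2176, .gen 417 (105, false)),
    (3169, .gen 417 (107, false)),
    (966, .gen 417 (110, false)),
    (854, .gen 417 (119, false)),
    (1, .gen 417 (119, true)),
    (1641, .gen 992 (104, false)),
    (1078, .gen 992 (105, false)),
    (1878, .gen 992 (107, false)),
    (1370, .gen 992 (110, false)),
    (3105, .gen 992 (119, false)),
    (2949, .gen 992 (119, true)),
    (3779, .gen 908 (104, false)),
    (1132, .gen 908 (105, false)),
    (2947, .gen 908 (107, false)),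
    (1241, .gen 908 (110, false)),
    (2851, .gen 908 (119, false)),
    (1194, .gen 908 (119, true)),
    (172, .gen 1301 (104, false)),
    (3079, .gen 1301 (105, false)),
    (2579, .gen 1301 (107, false)),
    (375, .gen 1301 (110, false)),
    (1678, .gen 1301 (119, false)),
    (3483, .gen 1301 (119, true)),
    (1076, .gen 1071 (104, false)),
    (627, .gen 1071 (105, false)),
    (991, .gen 1071 (107, false)),
    (3178, .gen 1071 (110, false)),
    (2952, .gen 1071 (119, false)),
    (2148, .gen 1071 (119, true)),
    (1742, .gen 1555 (104, false)),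
    (1861, .gen 1555 (105, false)),
    (134, .gen 1555 (107, false)),
    (2785, .gen 1555 (110, false)),
    (2992, .gen 1555 (119, false)),
    (3636, .gen 1555 (119, true)),
    (2034, .gen 853 (104, false)),
    (2821, .gen 853 (105, false)),
    (959, .gen 853 (107, false)),
    (2419, .gen 853 (110, false)),
    (1069, .gen 853 (119, false)),
    (979, .gen 853 (119, true)),
    (2394, .gen 1429 (104, false)),
    (3709, .gen 1429 (105, false)),
    (1639, .gen 1429 (107, false)),
    (283, .gen 1429 (110, false)),
    (1612, .gen 1429 (119, false)),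
    (1996, .gen 1429 (119, true)),
    (1410, .gen 1336 (104, false)),
    (806, .gen 1336 (105, false)),
    (3614, .gen 1336 (107, false)),
    (328, .gen 1336 (110, false)),
    (1521, .gen 1336 (119, false)),
    (3722, .gen 1336 (119, true)),
    (2866, .gen 1534 (104, false)),
    (2462, .gen 1534 (105, false)),
    (2782, .gen 1534 (107, false)),
    (2204, .gen 1534 (110, false)),
    (3740, .gen 1534 (119, false)),
    (1318, .gen 1534 (119, true)),
    (3766, .gen 1155 (104, false)),
    (3220, .gen 1155 (105, false)),
    (3064, .gen 1155 (107, false)),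
    (1554, .gen 1155 (110, false)),
    (1765, .gen 1155 (119, false)),
    (3276, .gen 1155 (119, true)),
    (3074, .gen 106 (104, false)),
    (2773, .gen 106 (105, false)),
    (3339, .gen 106 (107, false)),
    (1271, .gen 106 (110, false)),
    (3019, .gen 106 (119, false)),
    (1723, .gen 106 (119, true)),
    (1551, .gen 877 (104, false)),
    (2656, .gen 877 (105, false)),
    (3391, .gen 877 (107, false)),
    (3236, .gen 877 (110, false)),
    (2645, .gen 877 (119, false)),
    (2084, .gen 877 (119, true)),
    (1610, .gen 1126 (104, false)),
    (3551, .gen 1126 (105, false)),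
    (610, .gen 1126 (107, false)),
    (2878, .gen 1126 (110, false)),
    (946, .gen 1126 (119, false)),
    (1698, .gen 1126 (119, true)),
    (1364, .gen 584 (110, false)),
    (796, .gen 584 (119, false)),
    (3415, .gen 584 (119, true)),
    (2494, .gen 1412 (119, false)),
    (3620, .gen 1412 (119, true)),
    (1303, .gen 1027 (104, false)),
    (1493, .gen 1027 (107, false)),
    (1374, .gen 1027 (110, false)),
    (1249, .gen 1109 (104, false)),
    (1716, .gen 1109 (107, false)),
    (1361, .gen 1109 (110, false)),
    (163, .gen 700 (104, false)),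
    (940, .gen 700 (107, false)),
    (2471, .gen 3781 (104, false)),
    (3749, .gen 3781 (107, false)),
    (1585, .gen 56 (119, false)),
    (3574, .gen 56 (119, true)),
    (3349, .gen 817 (119, false)),
    (1883, .gen 817 (119, true)),
    (127, .gen 428 (104, false)),
    (2690, .gen 428 (107, false)),
    (2087, .gen 428 (110, false)),
    (1523, .gen 2675 (104, false)),
    (403, .gen 2675 (107, false)),
    (3175, .gen 2675 (110, false)),
    (2807, .gen 2131 (110, false)),
    (567, .gen 3366 (110, false)),
    (2614, .gen 85 (110, false)),
    (1981, .gen 85 (119, false)),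
    (3444, .gen 85 (119, true)),
    (2929, .gen 904 (119, false)),
    (1617, .gen 904 (119, true)),
    (594, .gen 518 (104, false)),
    (1362, .gen 518 (107, false)),
    (1406, .gen 518 (110, false)),
    (3666, .gen 3461 (110, false)),
    (2946, .gen 2260 (107, false)),
    (1085, .gen 2260 (119, false)),
    (3210, .gen 2260 (119, true)),
    (1251, .gen 8 (119, false)),
    (454, .gen 8 (119, true)),
    (279, .gen 2070 (104, false)),
    (1096, .gen 2070 (107, false)),
    (2715, .gen 2070 (110, false)),
    (2919, .gen 1836 (107, false)),
    (1724, .gen 1514 (110, false)),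
    (1171, .gen 1514 (119, false)),
    (2405, .gen 1514 (119, true)),
    (2724, .gen 1012 (119, false)),
    (3336, .gen 1012 (119, true)),
    (3280, .gen 745 (104, false)),
    (1344, .gen 745 (107, false)),
    (3751, .gen 745 (110, false)),
    (50, .gen 309 (104, false)),
    (1495, .gen 309 (107, false)),
    (3392, .gen 309 (110, false)),
    (3240, .gen 3193 (107, false)),
    (3707, .gen 3193 (119, false)),
    (2728, .gen 3193 (119, true)),
    (2334, .gen 2665 (119, false)),
    (2065, .gen 2665 (119, true)),
    (2764, .gen 3144 (104, false)),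
    (3613, .gen 3144 (107, false)),
    (2489, .gen 3144 (110, false)),
    (3326, .gen 257 (107, false)),
    (1259, .gen 2856 (104, false)),
    (1634, .gen 2856 (107, false)),
    (2824, .gen 360 (119, false)),
    (2818, .gen 360 (119, true)),
    (1450, .gen 3066 (104, false)),
    (3486, .gen 3066 (107, false)),
    (2901, .gen 3612 (104, false)),
    (3650, .gen 3612 (107, false)),
    (3390, .gen 3635 (105, false)),
    (530, .gen 3635 (119, false)),
    (170, .gen 3635 (119, true)),
    (251, .gen 3410 (119, false)),
    (118, .gen 3410 (119, true)),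
    (1397, .gen 650 (104, false)),
    (62, .gen 650 (107, false)),
    (1720, .gen 650 (110, false)),
    (1835, .gen 1611 (110, false)),
    (368, .gen 26 (104, false)),
    (99, .gen 26 (107, false)),
    (2075, .gen 3199 (104, false)),
    (1230, .gen 3199 (107, false)),
    (1356, .gen 2637 (104, false)),
    (1653, .gen 2637 (107, false)),
    (1386, .gen 631 (104, false)),
    (2229, .gen 631 (107, false)),
    (2966, .gen 1910 (119, false)),
    (3243, .gen 1910 (119, true)),
    (1039, .gen 1701 (119, false)),
    (1345, .gen 1701 (119, true)),
    (827, .gen 537 (119, false)),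
    (656, .gen 537 (119, true)),
    (858, .gen 863 (104, false)),
    (3095, .gen 863 (107, false)),
    (1263, .gen 863 (110, false)),
    (1974, .gen 1321 (104, false)),
    (3440, .gen 1321 (107, false)),
    (3648, .gen 1321 (110, false)),
    (2859, .gen 1943 (119, false)),
    (900, .gen 1943 (119, true)),
    (2717, .gen 1378 (107, false)),
    (1297, .gen 1378 (119, false)),
    (2523, .gen 1378 (119, true))]

/-- Visits. -/
def v9_2 : List (ℕ × Src) :=
  [(3455, .gen 389 (119, false)),
    (1290, .gen 389 (119, true)),
    (1656, .gen 3407 (119, false)),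
    (2777, .gen 3407 (119, true)),
    (1713, .gen 3223 (104, false)),
    (2981, .gen 3223 (107, false)),
    (786, .gen 3223 (110, false)),
    (2714, .gen 3422 (119, false)),
    (1337, .gen 3422 (119, true)),
    (2390, .gen 3299 (107, false)),
    (1130, .gen 3299 (119, false)),
    (2408, .gen 3299 (119, true)),
    (2650, .gen 3760 (119, false)),
    (3714, .gen 3760 (119, true)),
    (3501, .gen 2861 (119, false)),
    (2018, .gen 2861 (119, true)),
    (1376, .gen 3222 (110, false)),
    (3460, .gen 1935 (105, false)),
    (1773, .gen 1935 (107, false)),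
    (839, .gen 1935 (119, false)),
    (211, .gen 1935 (119, true)),
    (2862, .gen 2351 (107, false)),
    (1355, .gen 2351 (110, false)),
    (1176, .gen 2351 (119, false)),
    (2628, .gen 2351 (119, true)),
    (2291, .gen 1413 (110, false)),
    (1622, .gen 1413 (119, false)),
    (108, .gen 469 (119, false)),
    (2684, .gen 551 (104, false)),
    (673, .gen 551 (110, false)),
    (466, .gen 1792 (104, false)),
    (887, .gen 1792 (107, false)),
    (2209, .gen 1792 (110, false)),
    (352, .gen 2863 (119, false)),
    (1175, .gen 2863 (119, true)),
    (2032, .gen 2460 (119, true)),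
    (3676, .gen 3062 (107, false)),
    (947, .gen 648 (105, false)),
    (247, .gen 648 (107, false)),
    (1332, .gen 1631 (107, false)),
    (840, .gen 3053 (105, false)),
    (566, .gen 3053 (107, false)),
    (1136, .gen 3053 (119, false)),
    (1553, .gen 3053 (119, true)),
    (3607, .gen 2544 (107, false)),
    (595, .gen 2544 (110, false)),
    (246, .gen 2544 (119, false)),
    (3110, .gen 2544 (119, true)),
    (2860, .gen 1507 (119, false)),
    (2725, .gen 1507 (119, true)),
    (2316, .gen 308 (119, false)),
    (1697, .gen 308 (119, true)),
    (321, .gen 1538 (104, false)),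
    (1449, .gen 1538 (107, false)),
    (3750, .gen 1538 (110, false)),
    (561, .gen 3088 (104, false)),
    (49, .gen 574 (119, false)),
    (970, .gen 582 (119, false)),
    (73, .gen 582 (119, true)),
    (1102, .gen 3497 (107, false)),
    (3274, .gen 22 (119, false)),
    (3645, .gen 22 (119, true)),
    (1905, .gen 1043 (119, false)),
    (3470, .gen 1043 (119, true)),
    (1352, .gen 2109 (119, false)),
    (945, .gen 2109 (119, true)),
    (1717, .gen 111 (104, false)),
    (1396, .gen 111 (107, false)),
    (886, .gen 111 (110, false)),
    (2567, .gen 1075 (104, false)),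
    (529, .gen 1075 (107, false)),
    (1752, .gen 1075 (110, false)),
    (1955, .gen 1394 (119, false)),
    (1867, .gen 1394 (119, true)),
    (906, .gen 1814 (119, false)),
    (591, .gen 1814 (119, true)),
    (3273, .gen 52 (104, false)),
    (143, .gen 52 (107, false)),
    (196, .gen 52 (110, false)),
    (436, .gen 994 (104, false)),
    (1927, .gen 994 (107, false)),
    (608, .gen 994 (110, false)),
    (2225, .gen 17 (119, false)),
    (3462, .gen 17 (119, true)),
    (1097, .gen 266 (107, false)),
    (1520, .gen 616 (107, false)),
    (895, .gen 2623 (110, false)),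
    (1042, .gen 1244 (119, false)),
    (2774, .gen 2429 (119, true)),
    (1730, .gen 3225 (105, false)),
    (579, .gen 3225 (107, false)),
    (3377, .gen 3225 (110, false)),
    (345, .gen 3225 (119, true)),
    (347, .gen 2653 (107, false)),
    (2280, .gen 2653 (110, false)),
    (3658, .gen 2653 (119, false)),
    (359, .gen 2653 (119, true)),
    (1064, .gen 2102 (119, false)),
    (114, .gen 2102 (119, true)),
    (780, .gen 625 (107, false)),
    (879, .gen 625 (110, false)),
    (2080, .gen 793 (104, false)),
    (3679, .gen 3314 (107, false)),
    (1992, .gen 3314 (119, false)),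
    (2886, .gen 3314 (119, true)),
    (3030, .gen 1956 (119, false)),
    (2048, .gen 1956 (119, true)),
    (1875, .gen 390 (104, false)),
    (583, .gen 390 (107, false)),
    (3092, .gen 390 (110, false)),
    (2944, .gen 2345 (107, false)),
    (3655, .gen 2925 (105, false)),
    (1649, .gen 2925 (107, false)),
    (1747, .gen 2925 (110, false)),
    (2542, .gen 2925 (119, false)),
    (61, .gen 3586 (107, false)),
    (1353, .gen 3586 (110, false)),
    (2336, .gen 225 (110, false)),
    (137, .gen 1975 (119, false)),
    (263, .gen 1975 (119, true)),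
    (615, .gen 248 (104, false)),
    (2241, .gen 248 (107, false)),
    (765, .gen 248 (110, false)),
    (1436, .gen 2674 (105, false)),
    (3007, .gen 2674 (107, false)),
    (2775, .gen 2674 (110, false)),
    (1373, .gen 2674 (119, false)),
    (2638, .gen 2674 (119, true)),
    (1405, .gen 2063 (107, false)),
    (3204, .gen 2063 (110, false)),
    (820, .gen 2063 (119, false)),
    (1156, .gen 2063 (119, true)),
    (2456, .gen 2729 (110, false)),
    (3646, .gen 2729 (119, false)),
    (1707, .gen 2729 (119, true)),
    (1296, .gen 3375 (119, false)),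
    (274, .gen 3375 (119, true)),
    (212, .gen 1068 (104, false)),
    (1655, .gen 1068 (107, false)),
    (460, .gen 1068 (110, false)),
    (86, .gen 1846 (104, false)),
    (1049, .gen 1846 (107, false)),
    (821, .gen 1846 (110, false)),
    (547, .gen 356 (110, false)),
    (2931, .gen 356 (119, false)),
    (1862, .gen 356 (119, true)),
    (2987, .gen 234 (119, false)),
    (2008, .gen 234 (119, true)),
    (31, .gen 2816 (104, false)),
    (2464, .gen 2816 (107, false)),
    (2028, .gen 2816 (110, false)),
    (75, .gen 1807 (110, false)),
    (2961, .gen 935 (105, false)),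
    (1952, .gen 935 (110, false)),
    (623, .gen 935 (119, false)),
    (3327, .gen 935 (119, true)),
    (3224, .gen 1593 (110, false)),
    (140, .gen 1593 (119, false)),
    (756, .gen 1593 (119, true)),
    (1292, .gen 1453 (119, false)),
    (2829, .gen 1453 (119, true)),
    (3282, .gen 304 (104, false)),
    (1896, .gen 304 (107, false)),
    (704, .gen 304 (110, false)),
    (1121, .gen 1403 (104, false)),
    (2107, .gen 1403 (107, false)),
    (3148, .gen 1403 (110, false)),
    (147, .gen 1329 (119, false)),
    (3015, .gen 1329 (119, true)),
    (860, .gen 763 (119, false)),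
    (1793, .gen 763 (119, true)),
    (1409, .gen 2199 (119, false)),
    (3127, .gen 2199 (119, true)),
    (956, .gen 3396 (104, false)),
    (3443, .gen 3396 (107, false)),
    (1000, .gen 3396 (110, false)),
    (1791, .gen 2173 (104, false)),
    (1920, .gen 2173 (107, false)),
    (1571, .gen 2173 (110, false)),
    (412, .gen 3153 (107, false)),
    (2005, .gen 3153 (119, true)),
    (1692, .gen 2171 (107, false)),
    (239, .gen 2171 (119, false)),
    (2868, .gen 2171 (119, true)),
    (1199, .gen 2731 (110, false)),
    (1073, .gen 988 (119, false)),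
    (2685, .gen 1936 (104, false)),
    (1525, .gen 1936 (110, false)),
    (2097, .gen 2257 (104, false)),
    (2511, .gen 2257 (107, false)),
    (187, .gen 2257 (110, false)),
    (2074, .gen 3478 (105, false)),
    (2534, .gen 3478 (107, false)),
    (2743, .gen 3478 (110, false)),
    (1470, .gen 3478 (119, false)),
    (785, .gen 3478 (119, true)),
    (749, .gen 2288 (119, false)),
    (2480, .gen 2288 (119, true)),
    (3011, .gen 448 (119, false)),
    (847, .gen 448 (119, true)),
    (3263, .gen 3447 (119, false)),
    (2372, .gen 3447 (119, true)),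
    (1267, .gen 3516 (104, false)),
    (2407, .gen 3516 (107, false)),
    (2562, .gen 3516 (110, false)),
    (2847, .gen 987 (104, false)),
    (3596, .gen 987 (107, false)),
    (2696, .gen 987 (110, false)),
    (383, .gen 2258 (105, false)),
    (1227, .gen 2258 (107, false)),
    (2232, .gen 2258 (110, false)),
    (809, .gen 2258 (119, false)),
    (2292, .gen 2258 (119, true)),
    (74, .gen 1648 (107, false)),
    (452, .gen 1648 (110, false)),
    (245, .gen 1648 (119, false)),
    (2918, .gen 1648 (119, true)),
    (1569, .gen 2857 (110, false)),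
    (1186, .gen 2857 (119, true)),
    (881, .gen 751 (119, true)),
    (1252, .gen 2756 (104, false)),
    (2169, .gen 2756 (107, false)),
    (1489, .gen 2756 (110, false)),
    (190, .gen 2441 (104, false)),
    (1568, .gen 2441 (110, false)),
    (398, .gen 420 (105, false)),
    (138, .gen 420 (107, false)),
    (621, .gen 420 (119, false)),
    (1779, .gen 420 (119, true)),
    (635, .gen 2594 (107, false)),
    (990, .gen 2594 (119, false)),
    (2738, .gen 2594 (119, true)),
    (556, .gen 885 (119, false)),
    (957, .gen 885 (119, true)),
    (291, .gen 2737 (107, false)),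
    (215, .gen 996 (104, false)),
    (1572, .gen 996 (107, false)),
    (804, .gen 2402 (105, false)),
    (330, .gen 2402 (107, false)),
    (851, .gen 2402 (110, false)),
    (2301, .gen 2402 (119, false)),
    (3171, .gen 2402 (119, true)),
    (1784, .gen 2858 (107, false)),
    (1567, .gen 2858 (110, false)),
    (258, .gen 2858 (119, false)),
    (1287, .gen 2858 (119, true)),
    (2213, .gen 1809 (119, true)),
    (3024, .gen 1624 (119, true)),
    (2029, .gen 2181 (105, false)),
    (2428, .gen 2181 (119, false)),
    (3414, .gen 2181 (119, true)),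
    (2551, .gen 1226 (119, false)),
    (1801, .gen 1226 (119, true)),
    (1629, .gen 402 (104, false)),
    (1930, .gen 402 (107, false)),
    (2822, .gen 402 (110, false)),
    (2363, .gen 129 (110, false)),
    (1536, .gen 1892 (105, false)),
    (1124, .gen 1892 (107, false)),
    (96, .gen 1892 (110, false)),
    (712, .gen 1892 (119, true)),
    (1317, .gen 1937 (107, false)),
    (2323, .gen 1937 (110, false)),
    (1714, .gen 1937 (119, false)),
    (3009, .gen 1937 (119, true)),
    (3186, .gen 3789 (110, false)),
    (423, .gen 3789 (119, false)),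
    (960, .gen 1886 (119, false)),
    (1914, .gen 3610 (104, false)),
    (1057, .gen 3610 (107, false)),
    (2135, .gen 2913 (104, false)),
    (1169, .gen 2913 (107, false)),
    (157, .gen 2913 (110, false)),
    (606, .gen 3045 (105, false)),
    (2916, .gen 3045 (107, false)),
    (1079, .gen 3045 (110, false)),
    (1153, .gen 3045 (119, false)),
    (3378, .gen 2571 (107, false)),
    (46, .gen 2571 (110, false)),
    (1113, .gen 2571 (119, false)),
    (3338, .gen 2571 (119, true)),
    (1511, .gen 2770 (110, false)),
    (807, .gen 2770 (119, false)),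
    (1993, .gen 2770 (119, true)),
    (3102, .gen 504 (104, false)),
    (459, .gen 504 (107, false)),
    (1106, .gen 504 (110, false)),
    (3416, .gen 395 (107, false)),
    (3232, .gen 395 (110, false)),
    (3180, .gen 3413 (105, false)),
    (3560, .gen 3413 (107, false)),
    (2321, .gen 3413 (110, false)),
    (284, .gen 3413 (119, false)),
    (3604, .gen 2478 (107, false)),
    (1490, .gen 2478 (110, false)),
    (2377, .gen 2478 (119, false)),
    (2988, .gen 2478 (119, true)),
    (3241, .gen 2458 (110, false)),
    (2043, .gen 2458 (119, true)),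
    (1637, .gen 349 (119, true))]

/-- Visits. -/
def v9_3 : List (ℕ × Src) :=
  [(1603, .gen 3584 (104, false)),
    (1010, .gen 3584 (107, false)),
    (1032, .gen 3584 (110, false)),
    (3702, .gen 2576 (104, false)),
    (3793, .gen 2576 (107, false)),
    (2476, .gen 1363 (105, false)),
    (207, .gen 1363 (107, false)),
    (3418, .gen 1363 (110, false)),
    (2795, .gen 1363 (119, false)),
    (1357, .gen 1880 (107, false)),
    (2329, .gen 1880 (110, false)),
    (493, .gen 1880 (119, false)),
    (233, .gen 1880 (119, true)),
    (746, .gen 1620 (110, false)),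
    (501, .gen 1620 (119, false)),
    (148, .gen 1620 (119, true)),
    (2577, .gen 2877 (104, false)),
    (722, .gen 2877 (107, false)),
    (513, .gen 2877 (110, false)),
    (30, .gen 1214 (107, false)),
    (405, .gen 1214 (110, false)),
    (3111, .gen 1829 (105, false)),
    (3465, .gen 1829 (107, false)),
    (2894, .gen 1829 (110, false)),
    (1763, .gen 1829 (119, false)),
    (456, .gen 1829 (119, true)),
    (1968, .gen 3500 (107, false)),
    (688, .gen 3500 (110, false)),
    (2283, .gen 3500 (119, false)),
    (2570, .gen 3500 (119, true)),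
    (1684, .gen 20 (110, false)),
    (3067, .gen 20 (119, false)),
    (2746, .gen 20 (119, true)),
    (1512, .gen 2296 (119, false)),
    (3113, .gen 2296 (119, true)),
    (963, .gen 3663 (104, false)),
    (521, .gen 3663 (107, false)),
    (2338, .gen 3663 (110, false)),
    (2216, .gen 1168 (104, false)),
    (353, .gen 1168 (107, false)),
    (3192, .gen 1168 (110, false)),
    (2073, .gen 545 (107, false)),
    (2912, .gen 545 (119, false)),
    (1474, .gen 545 (119, true)),
    (1379, .gen 3094 (119, false)),
    (2622, .gen 3094 (119, true)),
    (4, .gen 254 (104, false)),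
    (699, .gen 254 (107, false)),
    (1035, .gen 254 (110, false)),
    (1570, .gen 372 (107, false)),
    (167, .gen 184 (105, false)),
    (101, .gen 184 (107, false)),
    (221, .gen 184 (110, false)),
    (323, .gen 917 (107, false)),
    (757, .gen 917 (110, false)),
    (443, .gen 917 (119, true)),
    (2110, .gen 894 (110, false)),
    (1459, .gen 894 (119, false)),
    (1253, .gen 920 (119, false)),
    (2174, .gen 1578 (107, false)),
    (2486, .gen 3609 (105, false)),
    (3493, .gen 3609 (110, false)),
    (1863, .gen 3609 (119, false)),
    (3303, .gen 3609 (119, true)),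
    (758, .gen 3291 (110, false)),
    (3141, .gen 3291 (119, false)),
    (2137, .gen 3291 (119, true)),
    (3733, .gen 2438 (119, false)),
    (2039, .gen 2438 (119, true)),
    (2420, .gen 130 (104, false)),
    (1180, .gen 231 (105, false)),
    (3432, .gen 231 (107, false)),
    (3185, .gen 231 (110, false)),
    (2588, .gen 231 (119, false)),
    (2472, .gen 231 (119, true)),
    (19, .gen 1138 (107, false)),
    (3753, .gen 1138 (110, false)),
    (3476, .gen 1138 (119, false)),
    (2178, .gen 1138 (119, true)),
    (1299, .gen 2314 (110, false)),
    (379, .gen 2314 (119, false)),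
    (2718, .gen 2314 (119, true)),
    (2475, .gen 3647 (119, false)),
    (2062, .gen 3647 (119, true)),
    (3456, .gen 471 (104, false)),
    (3048, .gen 471 (107, false)),
    (2310, .gen 471 (110, false)),
    (3201, .gen 3260 (104, false)),
    (117, .gen 3260 (107, false)),
    (2250, .gen 3260 (110, false)),
    (3165, .gen 2064 (105, false)),
    (1991, .gen 2064 (107, false)),
    (2170, .gen 2064 (119, false)),
    (3727, .gen 2064 (119, true)),
    (3598, .gen 3058 (107, false)),
    (3229, .gen 3058 (119, false)),
    (2867, .gen 3058 (119, true)),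
    (3345, .gen 1223 (119, false)),
    (2133, .gen 1223 (119, true)),
    (3491, .gen 3118 (104, false)),
    (2161, .gen 3118 (107, false)),
    (3736, .gen 3118 (110, false)),
    (2263, .gen 1092 (104, false)),
    (952, .gen 1092 (107, false)),
    (1425, .gen 1092 (110, false)),
    (878, .gen 3001 (107, false)),
    (2813, .gen 3001 (110, false)),
    (2815, .gen 3001 (119, false)),
    (533, .gen 3001 (119, true)),
    (2695, .gen 1469 (110, false)),
    (603, .gen 1469 (119, false)),
    (890, .gen 1469 (119, true)),
    (795, .gen 2908 (119, false)),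
    (3448, .gen 2908 (119, true)),
    (1921, .gen 1940 (104, false)),
    (3459, .gen 1940 (107, false)),
    (3659, .gen 1940 (110, false)),
    (1465, .gen 442 (104, false)),
    (1304, .gen 442 (107, false)),
    (516, .gen 442 (110, false)),
    (226, .gen 2259 (105, false)),
    (124, .gen 2259 (107, false)),
    (2303, .gen 2259 (110, false)),
    (3184, .gen 2259 (119, false)),
    (2113, .gen 2259 (119, true)),
    (744, .gen 54 (107, false)),
    (1960, .gen 54 (110, false)),
    (609, .gen 54 (119, false)),
    (653, .gen 54 (119, true)),
    (1919, .gen 761 (110, false)),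
    (3579, .gen 761 (119, false)),
    (2871, .gen 761 (119, true)),
    (3770, .gen 3051 (119, false)),
    (3654, .gen 3051 (119, true)),
    (1580, .gen 1552 (104, false)),
    (2742, .gen 1552 (107, false)),
    (1485, .gen 1552 (110, false)),
    (3437, .gen 1715 (104, false)),
    (818, .gen 1715 (107, false)),
    (792, .gen 1715 (110, false)),
    (1013, .gen 1619 (107, false)),
    (1116, .gen 1619 (110, false)),
    (2887, .gen 1619 (119, false)),
    (1054, .gen 1619 (119, true)),
    (862, .gen 2264 (110, false)),
    (2845, .gen 2264 (119, false)),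
    (2666, .gen 2264 (119, true)),
    (3488, .gen 2670 (119, false)),
    (3741, .gen 2670 (119, true)),
    (3743, .gen 3319 (104, false)),
    (1276, .gen 3319 (107, false)),
    (2986, .gen 3319 (110, false)),
    (2335, .gen 3566 (104, false)),
    (1628, .gen 3566 (107, false)),
    (2359, .gen 3566 (110, false)),
    (747, .gen 524 (107, false)),
    (1164, .gen 524 (110, false)),
    (2138, .gen 524 (119, false)),
    (1172, .gen 524 (119, true)),
    (514, .gen 269 (110, false)),
    (1614, .gen 269 (119, false)),
    (3335, .gen 269 (119, true)),
    (1743, .gen 3748 (119, false)),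
    (2050, .gen 3748 (119, true)),
    (2837, .gen 2967 (104, false)),
    (3412, .gen 2967 (107, false)),
    (1595, .gen 2967 (110, false)),
    (803, .gen 457 (104, false)),
    (1601, .gen 457 (107, false)),
    (1760, .gen 457 (110, false)),
    (1604, .gen 0 (105, false)),
    (672, .gen 0 (107, false)),
    (3408, .gen 0 (110, false)),
    (2832, .gen 0 (119, false)),
    (2277, .gen 0 (119, true)),
    (374, .gen 3078 (107, false)),
    (2233, .gen 3078 (110, false)),
    (406, .gen 3078 (119, false)),
    (697, .gen 3078 (119, true)),
    (596, .gen 2611 (110, false)),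
    (286, .gen 2611 (119, false)),
    (2104, .gen 2611 (119, true)),
    (2617, .gen 2897 (119, false)),
    (2477, .gen 2897 (119, true)),
    (57, .gen 3403 (104, false)),
    (512, .gen 3403 (107, false)),
    (1148, .gen 3403 (110, false)),
    (5, .gen 955 (104, false)),
    (232, .gen 955 (107, false)),
    (1980, .gen 955 (110, false)),
    (3021, .gen 2779 (105, false)),
    (969, .gen 2779 (110, false)),
    (1398, .gen 2779 (119, false)),
    (2668, .gen 2779 (119, true)),
    (3316, .gen 1686 (110, false)),
    (3362, .gen 1686 (119, false)),
    (572, .gen 1686 (119, true)),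
    (2139, .gen 2024 (119, false)),
    (1665, .gen 2024 (119, true)),
    (669, .gen 2309 (104, false)),
    (2616, .gen 2309 (107, false)),
    (2237, .gen 2309 (110, false)),
    (2991, .gen 2130 (104, false)),
    (1502, .gen 2130 (107, false)),
    (3489, .gen 2130 (110, false)),
    (1443, .gen 3784 (105, false)),
    (2527, .gen 3784 (107, false)),
    (2836, .gen 3784 (110, false)),
    (1830, .gen 3784 (119, false)),
    (1959, .gen 3784 (119, true)),
    (2049, .gen 2368 (107, false)),
    (1874, .gen 2368 (110, false)),
    (1105, .gen 929 (110, false)),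
    (3675, .gen 929 (119, false)),
    (2508, .gen 929 (119, true)),
    (2552, .gen 3031 (119, false)),
    (2910, .gen 3031 (119, true)),
    (3187, .gen 16 (104, false)),
    (1447, .gen 16 (107, false)),
    (2627, .gen 16 (110, false)),
    (348, .gen 1627 (107, false)),
    (3, .gen 1627 (110, false)),
    (1122, .gen 1627 (119, false)),
    (629, .gen 1627 (119, true)),
    (335, .gen 772 (110, false)),
    (624, .gen 772 (119, false)),
    (2340, .gen 772 (119, true)),
    (2497, .gen 3114 (119, false)),
    (2664, .gen 3114 (119, true)),
    (84, .gen 340 (104, false)),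
    (779, .gen 340 (107, false)),
    (1326, .gen 340 (110, false)),
    (708, .gen 3673 (104, false)),
    (262, .gen 3673 (107, false)),
    (3615, .gen 3673 (110, false)),
    (1966, .gen 2236 (105, false)),
    (1865, .gen 2236 (107, false)),
    (3643, .gen 2236 (110, false)),
    (3776, .gen 2236 (119, false)),
    (1434, .gen 2236 (119, true)),
    (2152, .gen 2793 (107, false)),
    (2052, .gen 2793 (110, false)),
    (1282, .gen 2793 (119, false)),
    (3710, .gen 2793 (119, true)),
    (2541, .gen 3543 (110, false)),
    (3211, .gen 3543 (119, false)),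
    (2095, .gen 3543 (119, true)),
    (1322, .gen 855 (119, false)),
    (2373, .gen 855 (119, true)),
    (2055, .gen 2421 (104, false)),
    (1528, .gen 3380 (104, false)),
    (1001, .gen 3380 (110, false)),
    (489, .gen 1924 (105, false)),
    (346, .gen 1924 (107, false)),
    (3295, .gen 1924 (110, false)),
    (2803, .gen 1924 (119, false)),
    (2755, .gen 1924 (119, true)),
    (2132, .gen 2448 (107, false)),
    (3541, .gen 2448 (110, false)),
    (754, .gen 2448 (119, false)),
    (3035, .gen 2448 (119, true)),
    (3441, .gen 1402 (110, false)),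
    (1680, .gen 1402 (119, false)),
    (1235, .gen 1402 (119, true)),
    (689, .gen 709 (119, false)),
    (3568, .gen 709 (119, true)),
    (2159, .gen 2573 (104, false)),
    (490, .gen 2573 (107, false)),
    (2380, .gen 2573 (110, false)),
    (1702, .gen 1505 (104, false)),
    (1139, .gen 1505 (107, false)),
    (2849, .gen 1505 (110, false)),
    (2537, .gen 707 (105, false)),
    (2722, .gen 707 (107, false)),
    (1748, .gen 707 (110, false)),
    (3419, .gen 707 (119, false)),
    (1173, .gen 707 (119, true)),
    (3008, .gen 444 (107, false)),
    (2242, .gen 444 (110, false)),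
    (3325, .gen 444 (119, false)),
    (3044, .gen 444 (119, true)),
    (278, .gen 3073 (110, false)),
    (3203, .gen 3073 (119, false)),
    (3530, .gen 3073 (119, true)),
    (2547, .gen 520 (119, false)),
    (3558, .gen 520 (119, true)),
    (2891, .gen 1380 (104, false)),
    (3239, .gen 1380 (107, false)),
    (1415, .gen 1380 (110, false)),
    (3735, .gen 1949 (104, false)),
    (1738, .gen 1949 (107, false)),
    (484, .gen 1949 (110, false)),
    (1658, .gen 1022 (105, false)),
    (271, .gen 1022 (107, false)),
    (219, .gen 1022 (110, false)),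
    (183, .gen 1022 (119, false)),
    (1632, .gen 1022 (119, true)),
    (3557, .gen 1605 (107, false)),
    (3221, .gen 1605 (110, false)),
    (2041, .gen 1605 (119, false))]

/-- Visits. -/
def v9_4 : List (ℕ × Src) :=
  [(2318, .gen 1605 (119, true)),
    (1851, .gen 341 (110, false)),
    (2007, .gen 341 (119, false)),
    (3401, .gen 341 (119, true)),
    (2865, .gen 1576 (119, false)),
    (3103, .gen 1576 (119, true)),
    (36, .gen 1911 (104, false)),
    (121, .gen 1911 (107, false)),
    (3660, .gen 1911 (110, false)),
    (619, .gen 1349 (104, false)),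
    (3233, .gen 1349 (107, false)),
    (1055, .gen 1349 (110, false)),
    (298, .gen 1643 (105, false)),
    (71, .gen 1643 (107, false)),
    (496, .gen 1643 (110, false)),
    (1826, .gen 1643 (119, false)),
    (2077, .gen 1643 (119, true)),
    (1391, .gen 1647 (107, false)),
    (2027, .gen 1647 (110, false)),
    (3581, .gen 1647 (119, false)),
    (2091, .gen 1647 (119, true)),
    (407, .gen 1187 (110, false)),
    (1480, .gen 1187 (119, false)),
    (1475, .gen 1187 (119, true)),
    (519, .gen 944 (119, false)),
    (1621, .gen 944 (119, true)),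
    (6, .gen 1339 (104, false)),
    (729, .gen 1339 (107, false)),
    (2299, .gen 1339 (110, false)),
    (7, .gen 1823 (104, false)),
    (38, .gen 1823 (107, false)),
    (135, .gen 1823 (110, false)),
    (1063, .gen 923 (105, false)),
    (2013, .gen 923 (107, false)),
    (28, .gen 923 (110, false)),
    (539, .gen 923 (119, false)),
    (760, .gen 923 (119, true)),
    (1306, .gen 3732 (107, false)),
    (3014, .gen 3732 (110, false)),
    (3284, .gen 3732 (119, false)),
    (1009, .gen 3732 (119, true)),
    (2196, .gen 783 (110, false)),
    (2909, .gen 783 (119, false)),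
    (2268, .gen 783 (119, true)),
    (112, .gen 1995 (119, false)),
    (1238, .gen 1995 (119, true)),
    (740, .gen 1561 (104, false)),
    (1207, .gen 1561 (107, false)),
    (1506, .gen 1561 (110, false)),
    (288, .gen 590 (104, false)),
    (2526, .gen 590 (107, false)),
    (1704, .gen 590 (110, false)),
    (1556, .gen 2360 (105, false)),
    (3434, .gen 2360 (107, false)),
    (2687, .gen 2360 (110, false)),
    (1745, .gen 2360 (119, false)),
    (45, .gen 2360 (119, true)),
    (3313, .gen 2176 (107, false)),
    (1456, .gen 2176 (110, false)),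
    (3226, .gen 2176 (119, false)),
    (528, .gen 2176 (119, true)),
    (1098, .gen 3169 (110, false)),
    (2586, .gen 3169 (119, false)),
    (1677, .gen 3169 (119, true)),
    (1803, .gen 966 (119, false)),
    (2792, .gen 966 (119, true)),
    (3715, .gen 854 (104, false)),
    (2548, .gen 854 (107, false)),
    (2415, .gen 854 (110, false)),
    (3464, .gen 1 (104, false)),
    (3108, .gen 1 (107, false)),
    (599, .gen 1 (110, false)),
    (1908, .gen 1641 (105, false)),
    (570, .gen 1641 (107, false)),
    (29, .gen 1641 (110, false)),
    (2595, .gen 1641 (119, false)),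
    (3286, .gen 1641 (119, true)),
    (2119, .gen 1078 (107, false)),
    (3350, .gen 1078 (110, false)),
    (1750, .gen 1078 (119, false)),
    (1205, .gen 1078 (119, true)),
    (477, .gen 1878 (110, false)),
    (762, .gen 1878 (119, false)),
    (1103, .gen 1878 (119, true)),
    (3765, .gen 1370 (119, false)),
    (2707, .gen 1370 (119, true)),
    (2808, .gen 3105 (104, false)),
    (1390, .gen 3105 (107, false)),
    (781, .gen 3105 (110, false)),
    (2744, .gen 2949 (104, false)),
    (1775, .gen 2949 (107, false)),
    (2977, .gen 2949 (110, false)),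
    (3467, .gen 3779 (105, false)),
    (3590, .gen 3779 (107, false)),
    (3214, .gen 3779 (110, false)),
    (332, .gen 3779 (119, false)),
    (836, .gen 3779 (119, true)),
    (2805, .gen 1132 (107, false)),
    (1496, .gen 1132 (110, false)),
    (1939, .gen 1132 (119, false)),
    (2446, .gen 1132 (119, true)),
    (2727, .gen 2947 (110, false)),
    (1515, .gen 2947 (119, false)),
    (3668, .gen 2947 (119, true)),
    (1782, .gen 1241 (119, false)),
    (3738, .gen 1241 (119, true)),
    (2058, .gen 2851 (104, false)),
    (782, .gen 2851 (107, false)),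
    (846, .gen 2851 (110, false)),
    (2568, .gen 1194 (104, false)),
    (1669, .gen 1194 (107, false)),
    (3457, .gen 1194 (110, false)),
    (1839, .gen 172 (105, false)),
    (222, .gen 172 (107, false)),
    (293, .gen 172 (110, false)),
    (2000, .gen 172 (119, false)),
    (3792, .gen 172 (119, true)),
    (3499, .gen 3079 (107, false)),
    (2134, .gen 3079 (110, false)),
    (3261, .gen 3079 (119, false)),
    (2693, .gen 3079 (119, true)),
    (1464, .gen 2579 (110, false)),
    (3587, .gen 2579 (119, false)),
    (12, .gen 2579 (119, true)),
    (833, .gen 375 (119, false)),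
    (1441, .gen 375 (119, true)),
    (1371, .gen 1678 (104, false)),
    (2827, .gen 1678 (107, false)),
    (1985, .gen 1678 (110, false)),
    (1192, .gen 3483 (104, false)),
    (2163, .gen 3483 (107, false)),
    (976, .gen 3483 (110, false)),
    (1070, .gen 1076 (105, false)),
    (1772, .gen 1076 (107, false)),
    (206, .gen 1076 (110, false)),
    (633, .gen 1076 (119, false)),
    (3237, .gen 1076 (119, true)),
    (510, .gen 627 (107, false)),
    (3746, .gen 627 (110, false)),
    (3667, .gen 627 (119, false)),
    (1182, .gen 627 (119, true)),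
    (224, .gen 991 (110, false)),
    (1294, .gen 991 (119, false)),
    (3466, .gen 991 (119, true)),
    (3638, .gen 3178 (119, false)),
    (1067, .gen 3178 (119, true)),
    (178, .gen 2952 (104, false)),
    (651, .gen 2952 (107, false)),
    (717, .gen 2952 (110, false)),
    (926, .gen 2148 (104, false)),
    (44, .gen 2148 (107, false)),
    (3644, .gen 2148 (110, false)),
    (3090, .gen 1742 (105, false)),
    (664, .gen 1742 (107, false)),
    (2578, .gen 1742 (110, false)),
    (3405, .gen 1742 (119, false)),
    (2356, .gen 1742 (119, true)),
    (517, .gen 1861 (107, false)),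
    (2620, .gen 1861 (110, false)),
    (2383, .gen 1861 (119, false)),
    (343, .gen 1861 (119, true)),
    (622, .gen 134 (110, false)),
    (2677, .gen 134 (119, false)),
    (550, .gen 134 (119, true)),
    (3747, .gen 2785 (119, false)),
    (2515, .gen 2785 (119, true)),
    (438, .gen 2992 (104, false)),
    (1932, .gen 2992 (107, false)),
    (692, .gen 2992 (110, false)),
    (1196, .gen 3636 (104, false)),
    (2194, .gen 3636 (107, false)),
    (2530, .gen 3636 (110, false)),
    (3132, .gen 2034 (105, false)),
    (2630, .gen 2034 (107, false)),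
    (3070, .gen 2034 (110, false)),
    (2092, .gen 2034 (119, false)),
    (2823, .gen 2034 (119, true)),
    (2284, .gen 2821 (107, false)),
    (3302, .gen 2821 (110, false)),
    (2238, .gen 2821 (119, false)),
    (249, .gen 2821 (119, true)),
    (2596, .gen 959 (110, false)),
    (1646, .gen 959 (119, false)),
    (916, .gen 959 (119, true)),
    (227, .gen 2419 (119, false)),
    (641, .gen 2419 (119, true)),
    (1819, .gen 1069 (104, false)),
    (313, .gen 1069 (107, false)),
    (3257, .gen 1069 (110, false)),
    (1751, .gen 979 (104, false)),
    (1163, .gen 979 (107, false)),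
    (1385, .gen 979 (110, false)),
    (1997, .gen 2394 (105, false)),
    (1383, .gen 2394 (107, false)),
    (1768, .gen 2394 (110, false)),
    (1897, .gen 2394 (119, false)),
    (1229, .gen 2394 (119, true)),
    (3669, .gen 3709 (107, false)),
    (2582, .gen 3709 (110, false)),
    (1367, .gen 3709 (119, false)),
    (1258, .gen 3709 (119, true)),
    (2604, .gen 1639 (110, false)),
    (205, .gen 1639 (119, false)),
    (3065, .gen 1639 (119, true)),
    (256, .gen 283 (119, false)),
    (3600, .gen 283 (119, true)),
    (632, .gen 1612 (104, false)),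
    (1574, .gen 1612 (107, false)),
    (2467, .gen 1612 (110, false)),
    (930, .gen 1996 (104, false)),
    (3271, .gen 1996 (107, false)),
    (325, .gen 1996 (110, false)),
    (1215, .gen 1410 (105, false)),
    (1482, .gen 1410 (107, false)),
    (2592, .gen 1410 (110, false)),
    (585, .gen 1410 (119, false)),
    (630, .gen 1410 (119, true)),
    (1909, .gen 806 (107, false)),
    (1844, .gen 806 (110, false)),
    (1060, .gen 806 (119, false)),
    (1633, .gen 806 (119, true)),
    (3036, .gen 3614 (110, false)),
    (2398, .gen 3614 (119, false)),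
    (3563, .gen 3614 (119, true)),
    (260, .gen 328 (119, false)),
    (3050, .gen 328 (119, true)),
    (2289, .gen 1521 (104, false)),
    (1360, .gen 1521 (107, false)),
    (2035, .gen 1521 (110, false)),
    (3337, .gen 3722 (104, false)),
    (1104, .gen 3722 (107, false)),
    (1904, .gen 3722 (110, false)),
    (536, .gen 2866 (105, false)),
    (2990, .gen 2866 (107, false)),
    (1325, .gen 2866 (110, false)),
    (2974, .gen 2866 (119, false)),
    (1184, .gen 2866 (119, true)),
    (1216, .gen 2462 (107, false)),
    (3477, .gen 2462 (110, false)),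
    (162, .gen 2462 (119, false)),
    (1508, .gen 2462 (119, true)),
    (488, .gen 2782 (110, false)),
    (307, .gen 2782 (119, false)),
    (2651, .gen 2782 (119, true)),
    (40, .gen 2204 (119, false)),
    (2324, .gen 2204 (119, true)),
    (2787, .gen 3740 (104, false)),
    (295, .gen 3740 (107, false)),
    (2120, .gen 3740 (110, false)),
    (199, .gen 1318 (104, false)),
    (331, .gen 1318 (107, false)),
    (2439, .gen 1318 (110, false)),
    (2160, .gen 3766 (105, false)),
    (1460, .gen 3766 (107, false)),
    (1652, .gen 3766 (110, false)),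
    (2265, .gen 3766 (119, false)),
    (2584, .gen 3766 (119, true)),
    (764, .gen 3220 (107, false)),
    (3680, .gen 3220 (110, false)),
    (3089, .gen 3220 (119, false)),
    (1120, .gen 3220 (119, true)),
    (1262, .gen 3064 (110, false)),
    (3181, .gen 3064 (119, false)),
    (94, .gen 3064 (119, true)),
    (2710, .gen 1554 (119, false)),
    (217, .gen 1554 (119, true)),
    (1777, .gen 1765 (104, false)),
    (1309, .gen 1765 (107, false)),
    (357, .gen 1765 (110, false)),
    (2385, .gen 3276 (104, false)),
    (1941, .gen 3276 (107, false)),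
    (3109, .gen 3276 (110, false)),
    (3759, .gen 3074 (105, false)),
    (3425, .gen 3074 (107, false)),
    (1335, .gen 3074 (110, false)),
    (1280, .gen 3074 (119, false)),
    (2470, .gen 3074 (119, true)),
    (972, .gen 2773 (107, false)),
    (3763, .gen 2773 (110, false)),
    (1889, .gen 2773 (119, false)),
    (1417, .gen 2773 (119, true)),
    (2996, .gen 3339 (110, false)),
    (548, .gen 3339 (119, false)),
    (3305, .gen 3339 (119, true)),
    (2081, .gen 1271 (119, false)),
    (2759, .gen 1271 (119, true)),
    (899, .gen 3019 (104, false)),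
    (3315, .gen 3019 (107, false)),
    (252, .gen 3019 (110, false)),
    (3764, .gen 1723 (104, false)),
    (141, .gen 1723 (107, false)),
    (2895, .gen 1723 (110, false)),
    (3209, .gen 1551 (105, false)),
    (3028, .gen 1551 (107, false)),
    (971, .gen 1551 (110, false)),
    (3774, .gen 1551 (119, false)),
    (2618, .gen 1551 (119, true)),
    (42, .gen 2656 (107, false)),
    (3146, .gen 2656 (110, false)),
    (1654, .gen 2656 (119, false))]

/-- Visits. -/
def v9_5 : List (ℕ × Src) :=
  [(160, .gen 2656 (119, true)),
    (1504, .gen 3391 (110, false)),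
    (3126, .gen 3391 (119, false)),
    (1497, .gen 3391 (119, true)),
    (1498, .gen 3236 (119, false)),
    (888, .gen 3236 (119, true)),
    (2224, .gen 2645 (104, false)),
    (3006, .gen 2645 (107, false)),
    (1404, .gen 2645 (110, false)),
    (1066, .gen 2084 (104, false)),
    (604, .gen 2084 (107, false)),
    (1278, .gen 2084 (110, false)),
    (1573, .gen 1610 (105, false)),
    (3626, .gen 1610 (107, false)),
    (1513, .gen 1610 (110, false)),
    (91, .gen 1610 (119, false)),
    (1994, .gen 1610 (119, true)),
    (1204, .gen 3551 (107, false)),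
    (2248, .gen 3551 (110, false)),
    (203, .gen 3551 (119, false)),
    (72, .gen 3551 (119, true)),
    (2539, .gen 610 (110, false)),
    (202, .gen 610 (119, false)),
    (2896, .gen 610 (119, true)),
    (3480, .gen 2878 (119, false)),
    (3344, .gen 2878 (119, true)),
    (100, .gen 946 (104, false)),
    (3283, .gen 946 (107, false)),
    (1083, .gen 946 (110, false)),
    (2591, .gen 1698 (104, false)),
    (3421, .gen 1698 (107, false)),
    (2766, .gen 1698 (110, false)),
    (2320, .gen 1364 (119, false)),
    (2790, .gen 1364 (119, true)),
    (2970, .gen 796 (110, false)),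
    (318, .gen 3415 (110, false)),
    (835, .gen 1303 (119, false)),
    (1706, .gen 1493 (119, true)),
    (848, .gen 1249 (119, true)),
    (102, .gen 1716 (119, false)),
    (48, .gen 163 (119, false)),
    (910, .gen 2471 (119, false)),
    (936, .gen 127 (119, false)),
    (2995, .gen 2087 (119, true)),
    (1112, .gen 1523 (119, true)),
    (2153, .gen 3175 (119, false)),
    (1718, .gen 2614 (119, false)),
    (3728, .gen 2614 (119, true)),
    (3617, .gen 1981 (104, false)),
    (3469, .gen 1981 (107, false)),
    (2652, .gen 1981 (110, false)),
    (1166, .gen 3444 (110, false)),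
    (461, .gen 594 (119, false)),
    (273, .gen 1362 (119, true)),
    (2207, .gen 2946 (119, false)),
    (2903, .gen 2946 (119, true)),
    (1382, .gen 1085 (104, false)),
    (3495, .gen 1085 (107, false)),
    (2115, .gen 1085 (110, false)),
    (1427, .gen 3210 (107, false)),
    (1673, .gen 279 (119, false)),
    (771, .gen 1096 (119, true)),
    (2753, .gen 1724 (119, false)),
    (739, .gen 1724 (119, true)),
    (1298, .gen 1171 (110, false)),
    (865, .gen 2405 (110, false)),
    (912, .gen 3280 (119, false)),
    (1891, .gen 1344 (119, true)),
    (1860, .gen 3751 (119, true)),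
    (2430, .gen 50 (119, true)),
    (1584, .gen 3240 (119, false)),
    (571, .gen 3240 (119, true)),
    (2681, .gen 3707 (104, false)),
    (2794, .gen 3707 (107, false)),
    (3775, .gen 3707 (110, false)),
    (3688, .gen 2728 (107, false)),
    (1315, .gen 2764 (119, false)),
    (1061, .gen 3613 (119, true)),
    (3012, .gen 2489 (119, true)),
    (3539, .gen 3326 (119, false)),
    (3381, .gen 1259 (119, false)),
    (2066, .gen 1450 (119, false)),
    (2182, .gen 2901 (119, true)),
    (2809, .gen 3390 (119, false)),
    (1866, .gen 3390 (119, true)),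
    (244, .gen 251 (104, false)),
    (810, .gen 251 (107, false)),
    (1625, .gen 251 (110, false)),
    (2776, .gen 118 (110, false)),
    (1018, .gen 1397 (119, false)),
    (683, .gen 1720 (119, true)),
    (1918, .gen 368 (119, false)),
    (272, .gen 2075 (119, false)),
    (1081, .gen 1356 (119, true)),
    (238, .gen 1386 (119, false)),
    (2433, .gen 2966 (104, false)),
    (2300, .gen 3243 (104, false)),
    (953, .gen 858 (119, false)),
    (1319, .gen 1263 (119, true)),
    (647, .gen 1974 (119, true)),
    (1651, .gen 3648 (119, false)),
    (2251, .gen 2859 (104, false)),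
    (3602, .gen 900 (104, false)),
    (1101, .gen 900 (107, false)),
    (1740, .gen 900 (110, false)),
    (3409, .gen 2717 (119, true)),
    (1236, .gen 3455 (110, false)),
    (3772, .gen 1713 (119, true)),
    (3112, .gen 2981 (119, false)),
    (1688, .gen 786 (119, false)),
    (2522, .gen 2714 (104, false)),
    (2980, .gen 1337 (104, false)),
    (1188, .gen 2390 (119, true)),
    (2231, .gen 3460 (107, false)),
    (3739, .gen 1773 (119, false)),
    (1645, .gen 1773 (119, true)),
    (1954, .gen 839 (104, false)),
    (1377, .gen 211 (104, false)),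
    (2088, .gen 211 (107, false)),
    (1524, .gen 211 (110, false)),
    (2702, .gen 1176 (104, false)),
    (2506, .gen 1176 (107, false)),
    (364, .gen 1176 (110, false)),
    (646, .gen 2628 (110, false)),
    (3468, .gen 2291 (119, true)),
    (1695, .gen 1622 (110, false)),
    (1543, .gen 2684 (119, false)),
    (2319, .gen 673 (119, true)),
    (2942, .gen 466 (119, true)),
    (1462, .gen 947 (107, false)),
    (1786, .gen 840 (119, false)),
    (873, .gen 840 (119, true)),
    (3128, .gen 1136 (104, false)),
    (2762, .gen 1136 (107, false)),
    (1407, .gen 1136 (110, false)),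
    (2509, .gen 1553 (104, false)),
    (849, .gen 1553 (110, false)),
    (2304, .gen 3607 (119, false)),
    (628, .gen 595 (119, false)),
    (2337, .gen 595 (119, true)),
    (1327, .gen 2725 (110, false)),
    (3621, .gen 321 (119, false)),
    (2504, .gen 1449 (119, true)),
    (666, .gen 3750 (119, true)),
    (1530, .gen 561 (119, true)),
    (2444, .gen 1102 (119, false)),
    (419, .gen 3274 (104, false)),
    (468, .gen 3645 (104, false)),
    (1560, .gen 1717 (119, false)),
    (1017, .gen 1396 (119, true)),
    (511, .gen 2567 (119, true)),
    (723, .gen 529 (119, false)),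
    (177, .gen 3273 (119, false)),
    (1311, .gen 143 (119, true)),
    (2626, .gen 436 (119, true)),
    (277, .gen 1927 (119, false)),
    (1602, .gen 1730 (107, false)),
    (3758, .gen 1730 (110, false)),
    (1024, .gen 1730 (119, false)),
    (2632, .gen 345 (110, false)),
    (3787, .gen 3679 (119, false)),
    (3687, .gen 3679 (119, true)),
    (3081, .gen 1992 (104, false)),
    (338, .gen 1992 (107, false)),
    (2459, .gen 1992 (110, false)),
    (2989, .gen 2886 (107, false)),
    (1626, .gen 1875 (119, false)),
    (657, .gen 583 (119, true)),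
    (508, .gen 3655 (107, false)),
    (614, .gen 3655 (110, false)),
    (2125, .gen 3655 (119, true)),
    (1213, .gen 2542 (104, false)),
    (1694, .gen 61 (110, false)),
    (1466, .gen 1353 (119, true)),
    (3597, .gen 1436 (107, false)),
    (370, .gen 1436 (110, false)),
    (2876, .gen 1436 (119, false)),
    (1849, .gen 1436 (119, true)),
    (1734, .gen 3007 (110, false)),
    (866, .gen 3007 (119, false)),
    (3513, .gen 3007 (119, true)),
    (3020, .gen 2775 (119, false)),
    (3155, .gen 2775 (119, true)),
    (1778, .gen 1373 (104, false)),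
    (2955, .gen 1373 (107, false)),
    (18, .gen 1373 (110, false)),
    (3123, .gen 2638 (104, false)),
    (3038, .gen 2638 (107, false)),
    (3281, .gen 2638 (110, false)),
    (65, .gen 1405 (110, false)),
    (441, .gen 1405 (119, false)),
    (3174, .gen 1405 (119, true)),
    (654, .gen 3204 (119, false)),
    (3627, .gen 3204 (119, true)),
    (2953, .gen 820 (104, false)),
    (601, .gen 820 (107, false)),
    (3672, .gen 820 (110, false)),
    (2757, .gen 1156 (104, false)),
    (2395, .gen 1156 (107, false)),
    (2488, .gen 1156 (110, false)),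
    (2123, .gen 2456 (119, false)),
    (3427, .gen 2456 (119, true)),
    (948, .gen 3646 (110, false)),
    (1664, .gen 1707 (110, false)),
    (1833, .gen 212 (119, false)),
    (3535, .gen 1655 (119, true)),
    (2846, .gen 460 (119, true)),
    (2635, .gen 86 (119, true)),
    (3340, .gen 1049 (119, false)),
    (339, .gen 821 (119, false)),
    (2071, .gen 547 (119, false)),
    (3096, .gen 547 (119, true)),
    (367, .gen 2931 (104, false)),
    (282, .gen 2931 (107, false)),
    (3633, .gen 2931 (110, false)),
    (1687, .gen 1862 (110, false)),
    (1243, .gen 31 (119, false)),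
    (229, .gen 2464 (119, true)),
    (2642, .gen 2028 (119, true)),
    (3346, .gen 75 (119, false)),
    (2193, .gen 2961 (110, false)),
    (1606, .gen 2961 (119, false)),
    (2053, .gen 2961 (119, true)),
    (1958, .gen 1952 (119, false)),
    (2234, .gen 1952 (119, true)),
    (3368, .gen 623 (104, false)),
    (319, .gen 623 (107, false)),
    (2881, .gen 623 (110, false)),
    (2802, .gen 3327 (104, false)),
    (1607, .gen 3327 (107, false)),
    (2783, .gen 3327 (110, false)),
    (3202, .gen 3224 (119, false)),
    (1510, .gen 3224 (119, true)),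
    (3606, .gen 140 (110, false)),
    (600, .gen 756 (110, false)),
    (13, .gen 3282 (119, false)),
    (1237, .gen 1896 (119, true)),
    (3664, .gen 704 (119, true)),
    (3084, .gen 1121 (119, true)),
    (3593, .gen 2107 (119, false)),
    (2392, .gen 3148 (119, false)),
    (250, .gen 147 (104, false)),
    (2172, .gen 3015 (104, false)),
    (2098, .gen 956 (119, false)),
    (214, .gen 1000 (119, true)),
    (2597, .gen 1791 (119, true)),
    (1270, .gen 1571 (119, false)),
    (3433, .gen 412 (119, false)),
    (451, .gen 2005 (104, false)),
    (265, .gen 2005 (110, false)),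
    (3359, .gen 239 (107, false)),
    (973, .gen 1199 (119, true)),
    (3785, .gen 2074 (119, false)),
    (2369, .gen 2074 (119, true)),
    (3756, .gen 2534 (119, false)),
    (1072, .gen 2534 (119, true)),
    (1439, .gen 2743 (119, false)),
    (95, .gen 2743 (119, true)),
    (531, .gen 1470 (104, false)),
    (2691, .gen 1470 (107, false)),
    (3025, .gen 1470 (110, false)),
    (2214, .gen 785 (104, false)),
    (3003, .gen 785 (107, false)),
    (3200, .gen 785 (110, false)),
    (465, .gen 749 (104, false)),
    (2852, .gen 2480 (104, false)),
    (3267, .gen 3011 (110, false)),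
    (1764, .gen 847 (110, false)),
    (3576, .gen 1267 (119, false)),
    (3641, .gen 2407 (119, true)),
    (399, .gen 2562 (119, true)),
    (2709, .gen 2847 (119, true)),
    (3525, .gen 3596 (119, false)),
    (1509, .gen 2696 (119, false)),
    (1864, .gen 383 (107, false)),
    (724, .gen 383 (110, false)),
    (3703, .gen 383 (119, false)),
    (2545, .gen 383 (119, true)),
    (3082, .gen 1227 (119, false)),
    (1220, .gen 1227 (119, true)),
    (1969, .gen 2232 (119, false)),
    (3686, .gen 2232 (119, true)),
    (1400, .gen 809 (104, false)),
    (808, .gen 809 (107, false)),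
    (285, .gen 809 (110, false)),
    (2765, .gen 2292 (104, false)),
    (2904, .gen 245 (110, false)),
    (1051, .gen 2918 (104, false)),
    (896, .gen 2918 (107, false)),
    (3387, .gen 2918 (110, false)),
    (3514, .gen 1569 (119, false)),
    (882, .gen 1186 (110, false)),
    (3423, .gen 1252 (119, false)),
    (883, .gen 190 (119, true)),
    (2540, .gen 1568 (119, false)),
    (791, .gen 398 (107, false)),
    (2009, .gen 398 (119, false)),
    (2605, .gen 138 (119, false)),
    (2305, .gen 138 (119, true)),
    (3549, .gen 621 (104, false))]

/-- Visits. -/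
def v9_6 : List (ℕ × Src) :=
  [(2768, .gen 1779 (107, false)),
    (1872, .gen 804 (107, false)),
    (92, .gen 804 (110, false)),
    (871, .gen 804 (119, false)),
    (3471, .gen 804 (119, true)),
    (822, .gen 1784 (119, false)),
    (3685, .gen 1567 (119, false)),
    (3352, .gen 2029 (119, false)),
    (2609, .gen 2029 (119, true)),
    (1486, .gen 2428 (104, false)),
    (2798, .gen 2428 (107, false)),
    (1586, .gen 2428 (110, false)),
    (1881, .gen 3414 (110, false)),
    (1177, .gen 1629 (119, false)),
    (1372, .gen 1930 (119, true)),
    (776, .gen 2822 (119, true)),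
    (365, .gen 2363 (119, false)),
    (3151, .gen 1536 (107, false)),
    (645, .gen 1536 (110, false)),
    (577, .gen 1124 (110, false)),
    (2354, .gen 1124 (119, false)),
    (3473, .gen 1124 (119, true)),
    (2804, .gen 96 (119, false)),
    (2647, .gen 96 (119, true)),
    (1947, .gen 712 (104, false)),
    (337, .gen 712 (107, false)),
    (540, .gen 712 (110, false)),
    (2177, .gen 1317 (110, false)),
    (2985, .gen 1714 (104, false)),
    (3034, .gen 1714 (107, false)),
    (3564, .gen 1714 (110, false)),
    (1999, .gen 3009 (107, false)),
    (1900, .gen 3186 (119, true)),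
    (301, .gen 423 (110, false)),
    (3788, .gen 1914 (119, false)),
    (3212, .gen 1057 (119, true)),
    (2089, .gen 606 (107, false)),
    (736, .gen 606 (110, false)),
    (164, .gen 606 (119, true)),
    (1761, .gen 2916 (119, true)),
    (464, .gen 1079 (119, true)),
    (1202, .gen 1153 (104, false)),
    (1086, .gen 1153 (107, false)),
    (2022, .gen 3378 (110, false)),
    (522, .gen 3378 (119, false)),
    (394, .gen 3378 (119, true)),
    (377, .gen 1113 (107, false)),
    (1423, .gen 1113 (110, false)),
    (1240, .gen 3338 (104, false)),
    (216, .gen 3338 (107, false)),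
    (1689, .gen 3338 (110, false)),
    (1190, .gen 1511 (119, false)),
    (418, .gen 1511 (119, true)),
    (1638, .gen 459 (119, true)),
    (2683, .gen 3180 (107, false)),
    (2083, .gen 3180 (110, false)),
    (3533, .gen 3560 (110, false)),
    (1272, .gen 3560 (119, false)),
    (2723, .gen 3560 (119, true)),
    (3724, .gen 2321 (119, false)),
    (3161, .gen 2321 (119, true)),
    (1879, .gen 284 (104, false)),
    (220, .gen 284 (107, false)),
    (636, .gen 284 (110, false)),
    (2491, .gen 3604 (110, false)),
    (797, .gen 2377 (107, false)),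
    (3039, .gen 2988 (104, false)),
    (3279, .gen 2988 (107, false)),
    (2487, .gen 2988 (110, false)),
    (1540, .gen 3241 (119, false)),
    (3255, .gen 2043 (110, false)),
    (3371, .gen 3702 (119, true)),
    (505, .gen 3793 (119, false)),
    (2566, .gen 2476 (107, false)),
    (503, .gen 2476 (110, false)),
    (1703, .gen 2476 (119, true)),
    (132, .gen 207 (119, true)),
    (2549, .gen 3418 (119, true)),
    (2180, .gen 2795 (104, false)),
    (122, .gen 2795 (107, false)),
    (2733, .gen 1357 (110, false)),
    (3217, .gen 1357 (119, false)),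
    (1671, .gen 1357 (119, true)),
    (2639, .gen 493 (107, false)),
    (2317, .gen 493 (110, false)),
    (611, .gen 233 (104, false)),
    (2752, .gen 233 (107, false)),
    (3093, .gen 233 (110, false)),
    (302, .gen 746 (119, false)),
    (120, .gen 746 (119, true)),
    (687, .gen 722 (119, true)),
    (3400, .gen 3111 (107, false)),
    (3367, .gen 3111 (110, false)),
    (919, .gen 3111 (119, false)),
    (2222, .gen 3111 (119, true)),
    (1946, .gen 3465 (110, false)),
    (3580, .gen 3465 (119, false)),
    (3601, .gen 3465 (119, true)),
    (1007, .gen 2894 (119, false)),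
    (773, .gen 2894 (119, true)),
    (1281, .gen 1763 (104, false)),
    (171, .gen 1763 (107, false)),
    (2998, .gen 1763 (110, false)),
    (2274, .gen 456 (104, false)),
    (2892, .gen 456 (107, false)),
    (1821, .gen 456 (110, false)),
    (3482, .gen 1968 (110, false)),
    (2353, .gen 1968 (119, false)),
    (2326, .gen 1968 (119, true)),
    (2993, .gen 688 (119, false)),
    (354, .gen 688 (119, true)),
    (985, .gen 2283 (104, false)),
    (681, .gen 2283 (107, false)),
    (2975, .gen 2283 (110, false)),
    (3678, .gen 2570 (104, false)),
    (1143, .gen 2570 (107, false)),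
    (2572, .gen 2570 (110, false)),
    (3578, .gen 1684 (119, false)),
    (3318, .gen 1684 (119, true)),
    (2686, .gen 3067 (110, false)),
    (2800, .gen 2746 (110, false)),
    (1755, .gen 963 (119, false)),
    (1781, .gen 521 (119, true)),
    (1115, .gen 2338 (119, true)),
    (690, .gen 2216 (119, true)),
    (1140, .gen 353 (119, false)),
    (3047, .gen 3192 (119, false)),
    (668, .gen 2073 (119, false)),
    (856, .gen 2073 (119, true)),
    (1824, .gen 2912 (104, false)),
    (1324, .gen 2912 (107, false)),
    (2655, .gen 2912 (110, false)),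
    (1928, .gen 1474 (107, false)),
    (816, .gen 4 (119, false)),
    (144, .gen 699 (119, true)),
    (433, .gen 167 (107, false)),
    (3158, .gen 167 (110, false)),
    (1006, .gen 101 (110, false)),
    (1559, .gen 323 (110, false)),
    (2188, .gen 323 (119, true)),
    (726, .gen 757 (119, true)),
    (2936, .gen 443 (107, false)),
    (1448, .gen 2486 (110, false)),
    (3485, .gen 2486 (119, false)),
    (3631, .gen 2486 (119, true)),
    (980, .gen 3493 (119, true)),
    (3430, .gen 758 (119, false)),
    (3383, .gen 758 (119, true)),
    (1265, .gen 3141 (104, false)),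
    (2659, .gen 1180 (107, false)),
    (179, .gen 1180 (110, false)),
    (2633, .gen 1180 (119, false)),
    (1657, .gen 1180 (119, true)),
    (3116, .gen 3432 (110, false)),
    (2376, .gen 3432 (119, false)),
    (2797, .gen 3432 (119, true)),
    (2490, .gen 3185 (119, false)),
    (3162, .gen 3185 (119, true)),
    (1549, .gen 2588 (104, false)),
    (39, .gen 2588 (107, false)),
    (3188, .gen 2588 (110, false)),
    (2411, .gen 2472 (104, false)),
    (685, .gen 2472 (107, false)),
    (3145, .gen 2472 (110, false)),
    (3285, .gen 19 (110, false)),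
    (3640, .gen 19 (119, false)),
    (261, .gen 19 (119, true)),
    (3632, .gen 3753 (119, false)),
    (974, .gen 3753 (119, true)),
    (2186, .gen 3476 (104, false)),
    (1149, .gen 3476 (107, false)),
    (2156, .gen 3476 (110, false)),
    (2457, .gen 2178 (104, false)),
    (1347, .gen 2178 (107, false)),
    (3472, .gen 2178 (110, false)),
    (3372, .gen 1299 (119, false)),
    (2564, .gen 1299 (119, true)),
    (1856, .gen 379 (110, false)),
    (691, .gen 2718 (110, false)),
    (2575, .gen 3456 (119, false)),
    (432, .gen 3048 (119, true)),
    (842, .gen 2310 (119, true)),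
    (361, .gen 3201 (119, true)),
    (3301, .gen 117 (119, false)),
    (2140, .gen 2250 (119, false)),
    (2445, .gen 3165 (107, false)),
    (642, .gen 3165 (119, false)),
    (2370, .gen 3165 (119, true)),
    (1021, .gen 1991 (119, false)),
    (828, .gen 1991 (119, true)),
    (1225, .gen 2170 (104, false)),
    (3312, .gen 2170 (107, false)),
    (3565, .gen 2170 (110, false)),
    (3490, .gen 3727 (104, false)),
    (3258, .gen 3727 (107, false)),
    (3546, .gen 3727 (110, false)),
    (1440, .gen 3598 (119, false)),
    (3329, .gen 3598 (119, true)),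
    (2413, .gen 3229 (107, false)),
    (80, .gen 2867 (107, false)),
    (1769, .gen 3491 (119, false)),
    (2631, .gen 2161 (119, true)),
    (2831, .gen 3736 (119, true)),
    (1776, .gen 2263 (119, true)),
    (1305, .gen 952 (119, false)),
    (1577, .gen 1425 (119, false)),
    (467, .gen 878 (110, false)),
    (2672, .gen 878 (119, false)),
    (2748, .gen 878 (119, true)),
    (2057, .gen 2813 (119, false)),
    (2907, .gen 2813 (119, true)),
    (2416, .gen 2815 (104, false)),
    (1873, .gen 2815 (107, false)),
    (3689, .gen 2815 (110, false)),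
    (3452, .gen 533 (104, false)),
    (640, .gen 533 (107, false)),
    (3147, .gen 533 (110, false)),
    (1047, .gen 2695 (119, false)),
    (2680, .gen 2695 (119, true)),
    (2720, .gen 603 (110, false)),
    (1756, .gen 890 (110, false)),
    (241, .gen 1921 (119, false)),
    (3046, .gen 3459 (119, true)),
    (1825, .gen 3659 (119, true)),
    (3026, .gen 1465 (119, true)),
    (2965, .gen 1304 (119, false)),
    (922, .gen 516 (119, false)),
    (133, .gen 226 (107, false)),
    (2290, .gen 226 (110, false)),
    (2971, .gen 226 (119, false)),
    (2976, .gen 226 (119, true)),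
    (1198, .gen 124 (110, false)),
    (1893, .gen 124 (119, false)),
    (2758, .gen 124 (119, true)),
    (3704, .gen 2303 (119, false)),
    (3639, .gen 2303 (119, true)),
    (3487, .gen 3184 (104, false)),
    (1762, .gen 3184 (107, false)),
    (2116, .gen 3184 (110, false)),
    (2496, .gen 2113 (104, false)),
    (1675, .gen 2113 (107, false)),
    (2640, .gen 2113 (110, false)),
    (3254, .gen 744 (110, false)),
    (1541, .gen 744 (119, false)),
    (1491, .gen 744 (119, true)),
    (3794, .gen 1960 (119, false)),
    (2705, .gen 1960 (119, true)),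
    (768, .gen 609 (104, false)),
    (2245, .gen 609 (107, false)),
    (1736, .gen 609 (110, false)),
    (2546, .gen 653 (104, false)),
    (742, .gen 653 (107, false)),
    (240, .gen 653 (110, false)),
    (3013, .gen 1919 (119, false)),
    (901, .gen 1919 (119, true)),
    (3537, .gen 3579 (110, false)),
    (3697, .gen 2871 (110, false)),
    (1036, .gen 1580 (119, false)),
    (1334, .gen 2742 (119, true)),
    (2375, .gen 1485 (119, true)),
    (1438, .gen 3437 (119, true)),
    (2747, .gen 818 (119, false)),
    (824, .gen 792 (119, false)),
    (1725, .gen 1013 (110, false)),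
    (3219, .gen 1013 (119, false)),
    (1810, .gen 1013 (119, true)),
    (3101, .gen 1116 (119, false)),
    (3622, .gen 1116 (119, true)),
    (805, .gen 2887 (104, false)),
    (1248, .gen 2887 (107, false)),
    (1709, .gen 2887 (110, false)),
    (1048, .gen 1054 (104, false)),
    (1676, .gen 1054 (107, false)),
    (1636, .gen 1054 (110, false)),
    (698, .gen 862 (119, false)),
    (76, .gen 862 (119, true)),
    (1264, .gen 2845 (110, false)),
    (997, .gen 2666 (110, false)),
    (1419, .gen 3743 (119, false)),
    (324, .gen 1276 (119, true)),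
    (1518, .gen 2335 (119, true)),
    (2403, .gen 1628 (119, false)),
    (1358, .gen 747 (110, false)),
    (1445, .gen 747 (119, false)),
    (2367, .gen 747 (119, true)),
    (3244, .gen 1164 (119, false)),
    (3227, .gen 1164 (119, true)),
    (2692, .gen 2138 (104, false)),
    (3515, .gen 2138 (107, false)),
    (3569, .gen 2138 (110, false)),
    (2932, .gen 1172 (104, false)),
    (3768, .gen 1172 (107, false)),
    (478, .gen 1172 (110, false)),
    (2700, .gen 514 (119, false)),
    (2516, .gen 514 (119, true)),
    (2157, .gen 1614 (110, false)),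
    (3616, .gen 3335 (110, false)),
    (3017, .gen 2837 (119, false)),
    (3661, .gen 3412 (119, true)),
    (1972, .gen 803 (119, true))]

/-- Visits. -/
def v9_7 : List (ℕ × Src) :=
  [(3218, .gen 1601 (119, false)),
    (1210, .gen 1604 (107, false)),
    (1260, .gen 1604 (110, false)),
    (136, .gen 1604 (119, false)),
    (655, .gen 1604 (119, true)),
    (3264, .gen 672 (110, false)),
    (1973, .gen 672 (119, false)),
    (2090, .gen 672 (119, true)),
    (2842, .gen 3408 (119, false)),
    (414, .gen 3408 (119, true)),
    (3438, .gen 2832 (104, false)),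
    (264, .gen 2832 (107, false)),
    (485, .gen 2832 (110, false)),
    (975, .gen 2277 (104, false)),
    (483, .gen 2277 (107, false)),
    (3068, .gen 2277 (110, false)),
    (3623, .gen 374 (110, false)),
    (915, .gen 374 (119, false)),
    (1635, .gen 374 (119, true)),
    (2412, .gen 2233 (119, false)),
    (1545, .gen 2233 (119, true)),
    (897, .gen 406 (104, false)),
    (3589, .gen 406 (107, false)),
    (1594, .gen 406 (110, false)),
    (1151, .gen 697 (104, false)),
    (2254, .gen 697 (107, false)),
    (2162, .gen 697 (110, false)),
    (161, .gen 596 (119, false)),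
    (2449, .gen 596 (119, true)),
    (573, .gen 286 (110, false)),
    (3104, .gen 2104 (110, false)),
    (77, .gen 57 (119, false)),
    (1137, .gen 512 (119, true)),
    (658, .gen 1148 (119, true)),
    (1014, .gen 5 (119, true)),
    (2017, .gen 232 (119, false)),
    (3306, .gen 1980 (119, false)),
    (3294, .gen 3021 (110, false)),
    (2255, .gen 3021 (119, false)),
    (3072, .gen 3021 (119, true)),
    (733, .gen 969 (119, false)),
    (3320, .gen 969 (119, true)),
    (2447, .gen 1398 (110, false)),
    (1805, .gen 2668 (110, false)),
    (2958, .gen 3316 (119, false)),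
    (1421, .gen 3316 (119, true)),
    (1479, .gen 3362 (104, false)),
    (2712, .gen 3362 (107, false)),
    (3037, .gen 3362 (110, false)),
    (3507, .gen 572 (104, false)),
    (2443, .gen 572 (107, false)),
    (2732, .gen 572 (110, false)),
    (525, .gen 669 (119, false)),
    (1818, .gen 2616 (119, true)),
    (175, .gen 2237 (119, true)),
    (1040, .gen 2991 (119, true)),
    (794, .gen 1443 (107, false)),
    (2473, .gen 1443 (110, false)),
    (1557, .gen 1443 (119, false)),
    (3322, .gen 1443 (119, true)),
    (509, .gen 2527 (110, false)),
    (737, .gen 2527 (119, false)),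
    (2302, .gen 2836 (119, false)),
    (404, .gen 1830 (104, false)),
    (1971, .gen 1830 (107, false)),
    (1876, .gen 1959 (104, false)),
    (1129, .gen 1959 (107, false)),
    (3684, .gen 1959 (110, false)),
    (3706, .gen 2049 (110, false)),
    (342, .gen 2049 (119, false)),
    (3742, .gen 2049 (119, true)),
    (2503, .gen 1874 (119, true)),
    (1019, .gen 1105 (119, true)),
    (2730, .gen 3675 (110, false)),
    (1473, .gen 3187 (119, true)),
    (3152, .gen 1447 (119, false)),
    (2312, .gen 2627 (119, false)),
    (1313, .gen 348 (110, false)),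
    (1341, .gen 348 (119, false)),
    (2608, .gen 348 (119, true)),
    (811, .gen 3 (119, false)),
    (1944, .gen 3 (119, true)),
    (3247, .gen 1122 (104, false)),
    (3502, .gen 1122 (107, false)),
    (333, .gen 1122 (110, false)),
    (2682, .gen 629 (104, false)),
    (3333, .gen 629 (107, false)),
    (588, .gen 629 (110, false)),
    (327, .gen 335 (119, false)),
    (868, .gen 335 (119, true)),
    (1581, .gen 624 (110, false)),
    (1519, .gen 2340 (110, false)),
    (10, .gen 84 (119, false)),
    (1255, .gen 779 (119, true)),
    (2703, .gen 1326 (119, true)),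
    (2276, .gen 708 (119, true)),
    (35, .gen 262 (119, false)),
    (2082, .gen 3615 (119, false)),
    (396, .gen 1966 (107, false)),
    (1338, .gen 1966 (110, false)),
    (978, .gen 1966 (119, false)),
    (2002, .gen 1966 (119, true)),
    (3266, .gen 1865 (110, false)),
    (2646, .gen 1865 (119, true)),
    (3720, .gen 3643 (119, false)),
    (755, .gen 3643 (119, true)),
    (2875, .gen 3776 (110, false)),
    (1888, .gen 1434 (104, false)),
    (3057, .gen 2152 (110, false)),
    (2215, .gen 2152 (119, false)),
    (3176, .gen 2152 (119, true)),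
    (3140, .gen 2052 (119, false)),
    (2589, .gen 2052 (119, true)),
    (3277, .gen 1282 (104, false)),
    (2624, .gen 1282 (110, false)),
    (1141, .gen 3710 (104, false)),
    (1283, .gen 489 (107, false)),
    (3360, .gen 489 (110, false)),
    (3354, .gen 489 (119, false)),
    (1933, .gen 489 (119, true)),
    (911, .gen 346 (110, false)),
    (2205, .gen 346 (119, false)),
    (2325, .gen 346 (119, true)),
    (2612, .gen 3295 (119, false)),
    (156, .gen 3295 (119, true)),
    (1114, .gen 2803 (104, false)),
    (3059, .gen 2803 (107, false)),
    (2704, .gen 2803 (110, false)),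
    (3628, .gen 2755 (104, false)),
    (1476, .gen 2755 (107, false)),
    (3591, .gen 2755 (110, false)),
    (3780, .gen 2132 (110, false)),
    (3049, .gen 2132 (119, false)),
    (492, .gen 2132 (119, true)),
    (506, .gen 3541 (119, false)),
    (2072, .gen 3541 (119, true)),
    (2417, .gen 754 (104, false)),
    (1342, .gen 754 (107, false)),
    (2662, .gen 754 (110, false)),
    (682, .gen 3035 (104, false)),
    (2854, .gen 3035 (107, false)),
    (844, .gen 3035 (110, false)),
    (2999, .gen 3441 (119, false)),
    (766, .gen 3441 (119, true)),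
    (3624, .gen 1680 (110, false)),
    (3029, .gen 1235 (110, false)),
    (296, .gen 2159 (119, false)),
    (1461, .gen 490 (119, true)),
    (1219, .gen 2380 (119, true)),
    (2772, .gen 1702 (119, true)),
    (3061, .gen 1139 (119, false)),
    (2514, .gen 2849 (119, false)),
    (1837, .gen 2537 (107, false)),
    (852, .gen 2537 (110, false)),
    (1668, .gen 2537 (119, false)),
    (2269, .gen 2537 (119, true)),
    (1408, .gen 2722 (110, false)),
    (2168, .gen 2722 (119, false)),
    (560, .gen 2722 (119, true)),
    (1247, .gen 1748 (119, false)),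
    (2165, .gen 1748 (119, true)),
    (3519, .gen 3419 (104, false)),
    (1442, .gen 3419 (107, false)),
    (1661, .gen 3419 (110, false)),
    (1663, .gen 1173 (104, false)),
    (3063, .gen 1173 (107, false)),
    (87, .gen 1173 (110, false)),
    (3052, .gen 3008 (110, false)),
    (982, .gen 3008 (119, false)),
    (2905, .gen 3008 (119, true)),
    (2906, .gen 2242 (119, false)),
    (2079, .gen 2242 (119, true)),
    (2689, .gen 3325 (104, false)),
    (3018, .gen 3325 (107, false)),
    (1015, .gen 3325 (110, false)),
    (1979, .gen 3044 (104, false)),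
    (1767, .gen 3044 (107, false)),
    (2122, .gen 3044 (110, false)),
    (2963, .gen 278 (119, false)),
    (213, .gen 278 (119, true)),
    (2111, .gen 3203 (110, false)),
    (718, .gen 3530 (110, false)),
    (1082, .gen 2891 (119, false)),
    (1916, .gen 3239 (119, true)),
    (2922, .gen 1415 (119, true)),
    (3249, .gen 3735 (119, true)),
    (3194, .gen 1738 (119, false)),
    (1087, .gen 484 (119, false)),
    (362, .gen 1658 (107, false)),
    (2814, .gen 1658 (110, false)),
    (3216, .gen 1658 (119, false)),
    (2817, .gen 1658 (119, true)),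
    (2507, .gen 271 (110, false)),
    (942, .gen 271 (119, false)),
    (731, .gen 271 (119, true)),
    (1850, .gen 219 (119, false)),
    (165, .gen 219 (119, true)),
    (2175, .gen 183 (104, false)),
    (25, .gen 183 (107, false)),
    (2001, .gen 183 (110, false)),
    (3231, .gen 1632 (104, false)),
    (3527, .gen 1632 (107, false)),
    (2327, .gen 1632 (110, false)),
    (644, .gen 3557 (110, false)),
    (2697, .gen 3557 (119, false)),
    (3376, .gen 3557 (119, true)),
    (2502, .gen 3221 (119, false)),
    (515, .gen 3221 (119, true)),
    (884, .gen 2041 (104, false)),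
    (1758, .gen 2041 (107, false)),
    (3791, .gen 2041 (110, false)),
    (3251, .gen 2318 (104, false)),
    (1696, .gen 2318 (107, false)),
    (1832, .gen 2318 (110, false)),
    (1288, .gen 1851 (119, false)),
    (3124, .gen 1851 (119, true)),
    (299, .gen 2007 (110, false)),
    (2574, .gen 3401 (110, false)),
    (711, .gen 36 (119, false)),
    (1254, .gen 121 (119, true)),
    (2388, .gen 3660 (119, true)),
    (2688, .gen 619 (119, true)),
    (34, .gen 3233 (119, false)),
    (3567, .gen 1055 (119, false)),
    (2468, .gen 298 (107, false)),
    (2243, .gen 298 (110, false)),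
    (2841, .gen 298 (119, false)),
    (661, .gen 298 (119, true)),
    (1144, .gen 71 (110, false)),
    (3353, .gen 71 (119, false)),
    (2271, .gen 71 (119, true)),
    (3510, .gen 496 (119, false)),
    (2663, .gen 496 (119, true)),
    (1285, .gen 1826 (104, false)),
    (66, .gen 1826 (107, false)),
    (3355, .gen 1826 (110, false)),
    (2344, .gen 2077 (104, false)),
    (1931, .gen 2077 (107, false)),
    (3245, .gen 2077 (110, false)),
    (864, .gen 1391 (110, false)),
    (950, .gen 1391 (119, false)),
    (1384, .gen 1391 (119, true)),
    (618, .gen 2027 (119, false)),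
    (3744, .gen 2027 (119, true)),
    (553, .gen 3581 (104, false)),
    (1877, .gen 3581 (107, false)),
    (802, .gen 3581 (110, false)),
    (388, .gen 2091 (104, false)),
    (3426, .gen 2091 (107, false)),
    (82, .gen 2091 (110, false)),
    (287, .gen 407 (119, false)),
    (1550, .gen 407 (119, true)),
    (1925, .gen 1480 (110, false)),
    (586, .gen 1475 (110, false)),
    (3262, .gen 6 (119, false)),
    (843, .gen 729 (119, true)),
    (1165, .gen 2299 (119, true)),
    (893, .gen 7 (119, true)),
    (1870, .gen 38 (119, false)),
    (1359, .gen 135 (119, false)),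
    (3559, .gen 1063 (107, false)),
    (2155, .gen 1063 (110, false)),
    (3135, .gen 1063 (119, false)),
    (3454, .gen 1063 (119, true)),
    (355, .gen 2013 (110, false)),
    (3573, .gen 2013 (119, false)),
    (173, .gen 2013 (119, true)),
    (24, .gen 28 (119, false)),
    (1025, .gen 28 (119, true)),
    (602, .gen 539 (104, false)),
    (2279, .gen 539 (107, false)),
    (2442, .gen 539 (110, false)),
    (837, .gen 760 (104, false)),
    (1739, .gen 760 (107, false)),
    (1977, .gen 760 (110, false)),
    (1008, .gen 1306 (110, false)),
    (3107, .gen 1306 (119, false)),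
    (2559, .gen 1306 (119, true)),
    (1369, .gen 3014 (119, false)),
    (2899, .gen 3014 (119, true)),
    (3716, .gen 3284 (104, false)),
    (3752, .gen 3284 (107, false)),
    (1978, .gen 3284 (110, false)),
    (1582, .gen 1009 (104, false)),
    (2004, .gen 1009 (107, false)),
    (2643, .gen 1009 (110, false)),
    (2791, .gen 2196 (119, false)),
    (2311, .gen 2196 (119, true)),
    (113, .gen 2909 (110, false)),
    (3324, .gen 2268 (110, false)),
    (1038, .gen 740 (119, false)),
    (1700, .gen 1207 (119, true)),
    (2129, .gen 1506 (119, true)),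
    (2968, .gen 288 (119, true)),
    (204, .gen 2526 (119, false)),
    (1599, .gen 1704 (119, false)),
    (1934, .gen 1556 (107, false)),
    (678, .gen 1556 (110, false)),
    (1847, .gen 1556 (119, false)),
    (1147, .gen 1556 (119, true))]

/-- Visits. -/
def v9_8 : List (ℕ × Src) :=
  [(1774, .gen 3434 (110, false)),
    (3190, .gen 3434 (119, false)),
    (933, .gen 3434 (119, true)),
    (2308, .gen 2687 (119, false)),
    (3552, .gen 2687 (119, true)),
    (2927, .gen 1745 (104, false)),
    (909, .gen 1745 (107, false)),
    (2294, .gen 1745 (110, false)),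
    (1531, .gen 45 (104, false)),
    (1711, .gen 45 (107, false)),
    (564, .gen 45 (110, false)),
    (2218, .gen 3313 (110, false)),
    (1542, .gen 3313 (119, false)),
    (1494, .gen 3313 (119, true)),
    (3168, .gen 1456 (119, false)),
    (3154, .gen 1456 (119, true)),
    (3762, .gen 3226 (104, false)),
    (1295, .gen 3226 (107, false)),
    (778, .gen 3226 (110, false)),
    (3129, .gen 528 (104, false)),
    (1004, .gen 528 (107, false)),
    (1843, .gen 528 (110, false)),
    (967, .gen 1098 (119, false)),
    (11, .gen 1098 (119, true)),
    (3042, .gen 2586 (110, false)),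
    (892, .gen 1677 (110, false)),
    (3252, .gen 3715 (119, false)),
    (2033, .gen 2548 (119, true)),
    (3182, .gen 2415 (119, true)),
    (1913, .gen 3464 (119, true)),
    (1757, .gen 3108 (119, false)),
    (2694, .gen 599 (119, false)),
    (841, .gen 1908 (107, false)),
    (2226, .gen 1908 (110, false)),
    (1231, .gen 1908 (119, false)),
    (549, .gen 1908 (119, true)),
    (2145, .gen 570 (110, false)),
    (2203, .gen 570 (119, false)),
    (2601, .gen 570 (119, true)),
    (2553, .gen 29 (119, false)),
    (3453, .gen 29 (119, true)),
    (2569, .gen 2595 (104, false)),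
    (2781, .gen 2595 (107, false)),
    (1033, .gen 2595 (110, false)),
    (2252, .gen 3286 (104, false)),
    (2532, .gen 3286 (107, false)),
    (2217, .gen 3286 (110, false)),
    (3290, .gen 2119 (110, false)),
    (1811, .gen 2119 (119, false)),
    (1435, .gen 2119 (119, true)),
    (2223, .gen 3350 (119, false)),
    (3713, .gen 3350 (119, true)),
    (2780, .gen 1750 (104, false)),
    (1031, .gen 1750 (107, false)),
    (1484, .gen 1750 (110, false)),
    (2011, .gen 1205 (104, false)),
    (3417, .gen 1205 (107, false)),
    (1041, .gen 1205 (110, false)),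
    (2934, .gen 477 (119, false)),
    (523, .gen 477 (119, true)),
    (2166, .gen 762 (110, false)),
    (481, .gen 1103 (110, false)),
    (3311, .gen 2808 (119, false)),
    (422, .gen 1390 (119, true)),
    (3518, .gen 781 (119, true)),
    (1804, .gen 2744 (119, true)),
    (1117, .gen 1775 (119, false)),
    (2297, .gen 2977 (119, false)),
    (1261, .gen 3467 (107, false)),
    (2382, .gen 3467 (110, false)),
    (3323, .gen 3467 (119, false)),
    (2466, .gen 3467 (119, true)),
    (2341, .gen 3590 (110, false)),
    (1432, .gen 3590 (119, false)),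
    (774, .gen 3590 (119, true)),
    (3166, .gen 3214 (119, false)),
    (242, .gen 3214 (119, true)),
    (1858, .gen 332 (104, false)),
    (3711, .gen 332 (107, false)),
    (2313, .gen 332 (110, false)),
    (569, .gen 836 (104, false)),
    (3228, .gen 836 (107, false)),
    (752, .gen 836 (110, false)),
    (2014, .gen 2805 (110, false)),
    (753, .gen 2805 (119, false)),
    (2602, .gen 2805 (119, true)),
    (1548, .gen 1496 (119, false)),
    (2295, .gen 1496 (119, true)),
    (3077, .gen 1939 (104, false)),
    (1912, .gen 1939 (107, false)),
    (903, .gen 1939 (110, false)),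
    (358, .gen 2446 (104, false)),
    (2278, .gen 2446 (107, false)),
    (2432, .gen 2446 (110, false)),
    (3450, .gen 2727 (119, false)),
    (2649, .gen 2727 (119, true)),
    (1350, .gen 1515 (110, false)),
    (1200, .gen 3668 (110, false)),
    (983, .gen 2058 (119, false)),
    (1726, .gen 782 (119, true)),
    (1323, .gen 846 (119, true)),
    (2067, .gen 2568 (119, true)),
    (1209, .gen 1669 (119, false)),
    (2518, .gen 3457 (119, false)),
    (3496, .gen 1839 (107, false)),
    (3691, .gen 1839 (110, false)),
    (927, .gen 1839 (119, false)),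
    (2332, .gen 1839 (119, true)),
    (2915, .gen 222 (110, false)),
    (1183, .gen 222 (119, false)),
    (53, .gen 222 (119, true)),
    (2820, .gen 293 (119, false)),
    (3040, .gen 293 (119, true)),
    (1197, .gen 2000 (104, false)),
    (3605, .gen 2000 (107, false)),
    (1161, .gen 2000 (110, false)),
    (2736, .gen 3792 (104, false)),
    (1699, .gen 3792 (107, false)),
    (3364, .gen 3792 (110, false)),
    (2453, .gen 3499 (110, false)),
    (2128, .gen 3499 (119, false)),
    (2667, .gen 3499 (119, true)),
    (1771, .gen 2134 (119, false)),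
    (397, .gen 2134 (119, true)),
    (1029, .gen 3261 (104, false)),
    (440, .gen 3261 (107, false)),
    (2361, .gen 3261 (110, false)),
    (3446, .gen 2693 (104, false)),
    (2565, .gen 2693 (107, false)),
    (2389, .gen 2693 (110, false)),
    (2409, .gen 1464 (119, false)),
    (1948, .gen 1464 (119, true)),
    (2673, .gen 3587 (110, false)),
    (83, .gen 12 (110, false)),
    (1583, .gen 1371 (119, false)),
    (870, .gen 2827 (119, true)),
    (2333, .gen 1985 (119, true)),
    (2121, .gen 1192 (119, true)),
    (921, .gen 2163 (119, false)),
    (2339, .gen 976 (119, false)),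
    (1354, .gen 1070 (107, false)),
    (3023, .gen 1070 (110, false)),
    (3097, .gen 1070 (119, false)),
    (1477, .gen 1070 (119, true)),
    (1222, .gen 1772 (110, false)),
    (914, .gen 1772 (119, false)),
    (1455, .gen 1772 (119, true)),
    (2076, .gen 206 (119, false)),
    (1150, .gen 206 (119, true)),
    (1212, .gen 633 (104, false)),
    (3330, .gen 633 (107, false)),
    (1929, .gen 633 (110, false)),
    (185, .gen 3237 (104, false)),
    (51, .gen 3237 (107, false)),
    (2031, .gen 3237 (110, false)),
    (2197, .gen 510 (110, false)),
    (1822, .gen 510 (119, false)),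
    (2660, .gen 510 (119, true)),
    (1145, .gen 3746 (119, false)),
    (1662, .gen 3746 (119, true)),
    (3075, .gen 3667 (104, false)),
    (1158, .gen 3667 (107, false)),
    (2882, .gen 3667 (110, false)),
    (2513, .gen 1182 (104, false)),
    (427, .gen 1182 (107, false)),
    (2221, .gen 1182 (110, false)),
    (2706, .gen 224 (119, false)),
    (2106, .gen 224 (119, true)),
    (3498, .gen 1294 (110, false)),
    (3652, .gen 3466 (110, false)),
    (125, .gen 178 (119, false)),
    (2914, .gen 651 (119, true)),
    (41, .gen 717 (119, true)),
    (1095, .gen 926 (119, true)),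
    (3696, .gen 44 (119, false)),
    (3402, .gen 3644 (119, false)),
    (486, .gen 3090 (107, false)),
    (665, .gen 3090 (110, false)),
    (169, .gen 3090 (119, false)),
    (1286, .gen 3090 (119, true)),
    (329, .gen 664 (110, false)),
    (3197, .gen 664 (119, false)),
    (3561, .gen 664 (119, true)),
    (767, .gen 2578 (119, false)),
    (437, .gen 2578 (119, true)),
    (1501, .gen 3405 (104, false)),
    (3436, .gen 3405 (107, false)),
    (3384, .gen 3405 (110, false)),
    (770, .gen 2356 (104, false)),
    (738, .gen 2356 (107, false)),
    (2282, .gen 2356 (110, false)),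
    (2525, .gen 517 (110, false)),
    (587, .gen 517 (119, false)),
    (1588, .gen 517 (119, true)),
    (1895, .gen 2620 (119, false)),
    (1737, .gen 2620 (119, true)),
    (2322, .gen 2383 (104, false)),
    (2141, .gen 2383 (107, false)),
    (1133, .gen 2383 (110, false)),
    (3651, .gen 343 (104, false)),
    (3475, .gen 343 (107, false)),
    (1984, .gen 343 (110, false)),
    (3521, .gen 622 (119, false)),
    (2625, .gen 622 (119, true)),
    (2716, .gen 2677 (110, false)),
    (3120, .gen 550 (110, false)),
    (186, .gen 438 (119, false)),
    (191, .gen 1932 (119, true)),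
    (3544, .gen 692 (119, true)),
    (2262, .gen 1196 (119, true)),
    (472, .gen 2194 (119, false)),
    (1566, .gen 2530 (119, false)),
    (2869, .gen 3132 (107, false)),
    (2721, .gen 3132 (110, false)),
    (2560, .gen 3132 (119, false)),
    (3683, .gen 3132 (119, true)),
    (2400, .gen 2630 (110, false)),
    (2010, .gen 2630 (119, false)),
    (1250, .gen 2630 (119, true)),
    (105, .gen 3070 (119, false)),
    (719, .gen 3070 (119, true)),
    (3790, .gen 2092 (104, false)),
    (2701, .gen 2092 (107, false)),
    (366, .gen 2092 (110, false)),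
    (3695, .gen 2823 (104, false)),
    (639, .gen 2823 (107, false)),
    (716, .gen 2823 (110, false)),
    (487, .gen 2284 (110, false)),
    (1478, .gen 2284 (119, false)),
    (3761, .gen 2284 (119, true)),
    (3167, .gen 3302 (119, false)),
    (1242, .gen 3302 (119, true)),
    (720, .gen 2238 (104, false)),
    (526, .gen 2238 (107, false)),
    (474, .gen 2238 (110, false)),
    (1813, .gen 249 (104, false)),
    (290, .gen 249 (107, false)),
    (3625, .gen 249 (110, false)),
    (70, .gen 2596 (119, false)),
    (2679, .gen 2596 (119, true)),
    (1558, .gen 1646 (110, false)),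
    (743, .gen 916 (110, false)),
    (2872, .gen 1819 (119, false)),
    (3694, .gen 313 (119, true)),
    (497, .gen 3257 (119, true)),
    (748, .gen 1751 (119, true)),
    (2948, .gen 1163 (119, false)),
    (989, .gen 1385 (119, false)),
    (3536, .gen 1997 (107, false)),
    (2613, .gen 1997 (110, false)),
    (3022, .gen 1997 (119, false)),
    (2195, .gen 1997 (119, true)),
    (2012, .gen 1383 (110, false)),
    (813, .gen 1383 (119, false)),
    (2212, .gen 1383 (119, true)),
    (1942, .gen 1768 (119, false)),
    (728, .gen 1768 (119, true)),
    (559, .gen 1897 (104, false)),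
    (3529, .gen 1897 (107, false)),
    (1869, .gen 1897 (110, false)),
    (2641, .gen 1229 (104, false)),
    (3783, .gen 1229 (107, false)),
    (2342, .gen 1229 (110, false)),
    (2510, .gen 3669 (110, false)),
    (1579, .gen 3669 (119, false)),
    (3503, .gen 3669 (119, true)),
    (21, .gen 2582 (119, false)),
    (634, .gen 2582 (119, true)),
    (3056, .gen 1367 (104, false)),
    (159, .gen 1367 (107, false)),
    (1246, .gen 1367 (110, false)),
    (2293, .gen 1258 (104, false)),
    (351, .gen 1258 (107, false)),
    (3524, .gen 1258 (110, false)),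
    (2399, .gen 2604 (119, false)),
    (1672, .gen 2604 (119, true)),
    (2059, .gen 205 (110, false)),
    (1923, .gen 3065 (110, false)),
    (2769, .gen 632 (119, false)),
    (2038, .gen 1574 (119, true)),
    (210, .gen 2467 (119, true)),
    (2812, .gen 930 (119, true)),
    (3629, .gen 3271 (119, false)),
    (409, .gen 325 (119, false)),
    (3528, .gen 1215 (107, false)),
    (411, .gen 1215 (110, false)),
    (1395, .gen 1215 (119, false)),
    (3235, .gen 1215 (119, true)),
    (2900, .gen 1482 (110, false)),
    (3682, .gen 1482 (119, false)),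
    (306, .gen 1482 (119, true)),
    (949, .gen 2592 (119, false)),
    (3582, .gen 2592 (119, true)),
    (3662, .gen 585 (104, false)),
    (1728, .gen 585 (107, false)),
    (1093, .gen 585 (110, false)),
    (1232, .gen 630 (104, false)),
    (1887, .gen 630 (107, false)),
    (1898, .gen 630 (110, false)),
    (3729, .gen 1909 (110, false))]

/-- Visits. -/
def v9_9 : List (ℕ × Src) :=
  [(1178, .gen 1909 (119, false)),
    (2151, .gen 1909 (119, true)),
    (385, .gen 1844 (119, false)),
    (2855, .gen 1844 (119, true)),
    (3085, .gen 1060 (104, false)),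
    (1917, .gen 1060 (107, false)),
    (2463, .gen 1060 (110, false)),
    (1167, .gen 1633 (104, false)),
    (1587, .gen 1633 (107, false)),
    (3278, .gen 1633 (110, false)),
    (1982, .gen 3036 (119, false)),
    (1472, .gen 3036 (119, true)),
    (253, .gen 2398 (110, false)),
    (3331, .gen 3563 (110, false)),
    (3389, .gen 2289 (119, false)),
    (2890, .gen 1360 (119, true)),
    (1522, .gen 2035 (119, true)),
    (3734, .gen 3337 (119, true)),
    (3207, .gen 1104 (119, false)),
    (1983, .gen 1904 (119, false)),
    (1796, .gen 536 (107, false)),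
    (2528, .gen 536 (110, false)),
    (1277, .gen 536 (119, false)),
    (1834, .gen 536 (119, true)),
    (3270, .gen 2990 (110, false)),
    (43, .gen 2990 (119, false)),
    (3630, .gen 2990 (119, true)),
    (1090, .gen 1325 (119, false)),
    (2835, .gen 1325 (119, true)),
    (2874, .gen 2974 (104, false)),
    (1256, .gen 2974 (107, false)),
    (79, .gen 2974 (110, false)),
    (2126, .gen 1184 (104, false)),
    (3142, .gen 1184 (107, false)),
    (192, .gen 1184 (110, false)),
    (1563, .gen 1216 (110, false)),
    (3195, .gen 1216 (119, false)),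
    (3699, .gen 1216 (119, true)),
    (2930, .gen 3477 (119, false)),
    (350, .gen 3477 (119, true)),
    (769, .gen 162 (104, false)),
    (659, .gen 162 (107, false)),
    (558, .gen 162 (110, false)),
    (237, .gen 1508 (104, false)),
    (93, .gen 1508 (107, false)),
    (2621, .gen 1508 (110, false)),
    (1564, .gen 488 (119, false)),
    (2425, .gen 488 (119, true)),
    (1221, .gen 307 (110, false)),
    (589, .gen 2651 (110, false)),
    (2978, .gen 2787 (119, false)),
    (2941, .gen 295 (119, true)),
    (1794, .gen 2120 (119, true)),
    (2414, .gen 199 (119, true)),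
    (1268, .gen 331 (119, false)),
    (3016, .gen 2439 (119, false)),
    (701, .gen 2160 (107, false)),
    (259, .gen 2160 (110, false)),
    (2945, .gen 2160 (119, false)),
    (3246, .gen 2160 (119, true)),
    (702, .gen 1460 (110, false)),
    (998, .gen 1460 (119, false)),
    (27, .gen 1460 (119, true)),
    (995, .gen 1652 (119, false)),
    (2202, .gen 1652 (119, true)),
    (197, .gen 2265 (104, false)),
    (1988, .gen 2265 (107, false)),
    (1623, .gen 2265 (110, false)),
    (382, .gen 2584 (104, false)),
    (63, .gen 2584 (107, false)),
    (3431, .gen 2584 (110, false)),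
    (3554, .gen 764 (110, false)),
    (1683, .gen 764 (119, false)),
    (1828, .gen 764 (119, true)),
    (431, .gen 3680 (119, false)),
    (1062, .gen 3680 (119, true)),
    (3348, .gen 3089 (104, false)),
    (826, .gen 3089 (107, false)),
    (3705, .gen 3089 (110, false)),
    (2771, .gen 1120 (104, false)),
    (1729, .gen 1120 (107, false)),
    (3183, .gen 1120 (110, false)),
    (2512, .gen 1262 (119, false)),
    (2101, .gen 1262 (119, true)),
    (59, .gen 3181 (110, false)),
    (2726, .gen 94 (110, false)),
    (1289, .gen 1777 (119, false)),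
    (336, .gen 1309 (119, true)),
    (373, .gen 357 (119, true)),
    (3755, .gen 2385 (119, true)),
    (401, .gen 1941 (119, false)),
    (2381, .gen 3109 (119, false)),
    (2185, .gen 3759 (107, false)),
    (801, .gen 3759 (110, false)),
    (1950, .gen 3759 (119, false)),
    (1424, .gen 3759 (119, true)),
    (146, .gen 3425 (110, false)),
    (3189, .gen 3425 (119, false)),
    (861, .gen 3425 (119, true)),
    (15, .gen 1335 (119, false)),
    (1457, .gen 1335 (119, true)),
    (243, .gen 1280 (104, false)),
    (2850, .gen 1280 (107, false)),
    (1600, .gen 1280 (110, false)),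
    (455, .gen 2470 (104, false)),
    (1174, .gen 2470 (107, false)),
    (3365, .gen 2470 (110, false)),
    (876, .gen 972 (110, false)),
    (1608, .gen 972 (119, false)),
    (2964, .gen 972 (119, true)),
    (1735, .gen 3763 (119, false)),
    (1906, .gen 3763 (119, true)),
    (695, .gen 1889 (104, false)),
    (3121, .gen 1889 (107, false)),
    (3300, .gen 1889 (110, false)),
    (3700, .gen 1417 (104, false)),
    (2410, .gen 1417 (107, false)),
    (1770, .gen 1417 (110, false)),
    (2658, .gen 2996 (119, false)),
    (2349, .gen 2996 (119, true)),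
    (289, .gen 548 (110, false)),
    (2144, .gen 3305 (110, false)),
    (2711, .gen 899 (119, false)),
    (1753, .gen 3315 (119, true)),
    (2973, .gen 252 (119, true)),
    (2599, .gen 3764 (119, true)),
    (2879, .gen 141 (119, false)),
    (1853, .gen 2895 (119, false)),
    (2484, .gen 3209 (107, false)),
    (958, .gen 3209 (110, false)),
    (680, .gen 3209 (119, false)),
    (2451, .gen 3209 (119, true)),
    (918, .gen 3028 (110, false)),
    (2387, .gen 3028 (119, false)),
    (684, .gen 3028 (119, true)),
    (90, .gen 971 (119, false)),
    (2054, .gen 971 (119, true)),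
    (1195, .gen 3774 (104, false)),
    (730, .gen 3774 (107, false)),
    (2519, .gen 3774 (110, false)),
    (2543, .gen 2618 (104, false)),
    (538, .gen 2618 (107, false)),
    (2040, .gen 2618 (110, false)),
    (1529, .gen 42 (110, false)),
    (2839, .gen 42 (119, false)),
    (2474, .gen 42 (119, true)),
    (3509, .gen 3146 (119, false)),
    (1831, .gen 3146 (119, true)),
    (2885, .gen 1654 (104, false)),
    (3458, .gen 1654 (107, false)),
    (2838, .gen 1654 (110, false)),
    (1274, .gen 160 (104, false)),
    (1990, .gen 160 (107, false)),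
    (2198, .gen 160 (110, false)),
    (475, .gen 1504 (119, false)),
    (1733, .gen 1504 (119, true)),
    (311, .gen 3126 (110, false)),
    (1203, .gen 1497 (110, false)),
    (1366, .gen 2224 (119, false)),
    (2306, .gen 3006 (119, true)),
    (1855, .gen 1404 (119, true)),
    (1516, .gen 1066 (119, true)),
    (453, .gen 604 (119, false)),
    (2036, .gen 1278 (119, false)),
    (2954, .gen 1573 (107, false)),
    (3712, .gen 1573 (110, false)),
    (671, .gen 1573 (119, false)),
    (2362, .gen 1573 (119, true)),
    (1279, .gen 3626 (110, false)),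
    (2962, .gen 3626 (119, false)),
    (2840, .gen 3626 (119, true)),
    (2461, .gen 1513 (119, false)),
    (1899, .gen 1513 (119, true)),
    (3198, .gen 91 (104, false)),
    (68, .gen 91 (107, false)),
    (1300, .gen 91 (110, false)),
    (2219, .gen 1994 (104, false)),
    (2331, .gen 1994 (107, false)),
    (1731, .gen 1994 (110, false)),
    (3033, .gen 1204 (110, false)),
    (2208, .gen 1204 (119, false)),
    (799, .gen 1204 (119, true)),
    (3424, .gen 2248 (119, false)),
    (2418, .gen 2248 (119, true)),
    (1532, .gen 203 (104, false)),
    (326, .gen 203 (107, false)),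
    (3481, .gen 203 (110, false)),
    (305, .gen 72 (104, false)),
    (552, .gen 72 (107, false)),
    (3723, .gen 72 (110, false)),
    (2426, .gen 2539 (119, false)),
    (3150, .gen 2539 (119, true)),
    (3157, .gen 202 (110, false)),
    (3777, .gen 2896 (110, false)),
    (907, .gen 100 (119, false)),
    (2379, .gen 3283 (119, true)),
    (1028, .gen 1083 (119, true)),
    (3534, .gen 2591 (119, true)),
    (450, .gen 3421 (119, false)),
    (3272, .gen 2766 (119, false)),
    (3505, .gen 3617 (119, false)),
    (218, .gen 3469 (119, true)),
    (391, .gen 1382 (119, false)),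
    (1915, .gen 3495 (119, true)),
    (1426, .gen 244 (119, false)),
    (81, .gen 1625 (119, true)),
    (676, .gen 3081 (119, false)),
    (3404, .gen 338 (119, true)),
    (1630, .gen 3597 (110, false)),
    (126, .gen 3597 (119, false)),
    (714, .gen 3597 (119, true)),
    (1754, .gen 370 (119, false)),
    (2281, .gen 370 (119, true)),
    (2044, .gen 2876 (104, false)),
    (2634, .gen 2876 (107, false)),
    (734, .gen 2876 (110, false)),
    (3577, .gen 1849 (104, false)),
    (1065, .gen 1849 (107, false)),
    (195, .gen 1849 (110, false)),
    (1721, .gen 1734 (119, false)),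
    (176, .gen 1734 (119, true)),
    (1957, .gen 866 (110, false)),
    (3099, .gen 3513 (110, false)),
    (3055, .gen 2955 (119, true)),
    (2287, .gen 3038 (119, false)),
    (3429, .gen 65 (119, false)),
    (1539, .gen 65 (119, true)),
    (139, .gen 441 (110, false)),
    (2893, .gen 3174 (110, false)),
    (3253, .gen 2953 (119, false)),
    (1005, .gen 601 (119, true)),
    (1852, .gen 3672 (119, true)),
    (2830, .gen 2757 (119, true)),
    (425, .gen 2395 (119, false)),
    (1727, .gen 2488 (119, false)),
    (3321, .gen 2193 (119, false)),
    (667, .gen 2193 (119, true)),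
    (2828, .gen 1606 (110, false)),
    (320, .gen 2053 (110, false)),
    (2819, .gen 319 (119, true)),
    (2230, .gen 1607 (119, false)),
    (2581, .gen 2691 (119, true)),
    (3307, .gen 3003 (119, false)),
    (3492, .gen 724 (119, false)),
    (2437, .gen 724 (119, true)),
    (1034, .gen 1220 (110, false)),
    (421, .gen 3151 (110, false)),
    (2285, .gen 3151 (119, false)),
    (3420, .gen 3151 (119, true)),
    (1430, .gen 577 (119, true)),
    (1351, .gen 2354 (110, false)),
    (393, .gen 337 (119, false)),
    (928, .gen 2089 (119, false)),
    (1257, .gen 736 (119, false)),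
    (2114, .gen 164 (104, false)),
    (2533, .gen 164 (107, false)),
    (89, .gen 2022 (119, false)),
    (2789, .gen 2022 (119, true)),
    (1056, .gen 216 (119, false)),
    (3230, .gen 2683 (110, false)),
    (3076, .gen 2683 (119, false)),
    (2538, .gen 2683 (119, true)),
    (2939, .gen 3533 (119, false)),
    (426, .gen 2723 (110, false)),
    (2524, .gen 220 (119, true)),
    (430, .gen 2566 (119, false)),
    (1609, .gen 503 (119, false)),
    (2873, .gen 1703 (104, false)),
    (3717, .gen 1703 (107, false)),
    (1388, .gen 2733 (119, false)),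
    (1077, .gen 2733 (119, true)),
    (268, .gen 2752 (119, false)),
    (3670, .gen 3400 (110, false)),
    (3393, .gen 3400 (119, false)),
    (3693, .gen 3400 (119, true)),
    (1788, .gen 3367 (119, false)),
    (3737, .gen 3367 (119, true)),
    (2603, .gen 919 (104, false)),
    (3265, .gen 919 (107, false)),
    (3060, .gen 919 (110, false)),
    (3115, .gen 2222 (104, false)),
    (3778, .gen 2222 (107, false)),
    (2249, .gen 2222 (110, false)),
    (476, .gen 1946 (119, false)),
    (2042, .gen 1946 (119, true)),
    (2436, .gen 3580 (110, false)),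
    (2536, .gen 3601 (110, false)),
    (3665, .gen 171 (119, true)),
    (1420, .gen 2892 (119, false)),
    (1003, .gen 3482 (119, false)),
    (741, .gen 3482 (119, true)),
    (3690, .gen 2353 (110, false)),
    (1798, .gen 2326 (110, false)),
    (2211, .gen 985 (119, false)),
    (3548, .gen 681 (119, true)),
    (3719, .gen 2975 (119, true)),
    (1797, .gen 3678 (119, true)),
    (2761, .gen 1143 (119, false)),
    (1123, .gen 2572 (119, false)),
    (3398, .gen 1824 (119, false))]

/-- Visits. -/
def v9_10 : List (ℕ × Src) :=
  [(3054, .gen 1324 (119, true)),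
    (3083, .gen 433 (110, false)),
    (938, .gen 1448 (119, false)),
    (2147, .gen 2659 (110, false)),
    (3358, .gen 2659 (119, false)),
    (2920, .gen 2659 (119, true)),
    (1741, .gen 179 (119, false)),
    (2434, .gen 179 (119, true)),
    (706, .gen 2633 (104, false)),
    (2019, .gen 2633 (107, false)),
    (2619, .gen 2633 (110, false)),
    (1533, .gen 1657 (104, false)),
    (710, .gen 1657 (107, false)),
    (280, .gen 1657 (110, false)),
    (3538, .gen 3116 (119, false)),
    (626, .gen 3116 (119, true)),
    (2957, .gen 2376 (110, false)),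
    (3637, .gen 2797 (110, false)),
    (2590, .gen 39 (119, true)),
    (1058, .gen 685 (119, false)),
    (1998, .gen 3285 (119, false)),
    (2452, .gen 3285 (119, true)),
    (1206, .gen 3640 (110, false)),
    (230, .gen 261 (110, false)),
    (2880, .gen 2186 (119, false)),
    (3674, .gen 1149 (119, true)),
    (1142, .gen 2156 (119, true)),
    (1134, .gen 2457 (119, true)),
    (131, .gen 1347 (119, false)),
    (1780, .gen 3472 (119, false)),
    (2085, .gen 2445 (119, false)),
    (1926, .gen 2445 (119, true)),
    (968, .gen 642 (107, false)),
    (2935, .gen 2370 (107, false)),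
    (369, .gen 3312 (119, true)),
    (1266, .gen 3258 (119, false)),
    (2026, .gen 467 (119, false)),
    (3205, .gen 467 (119, true)),
    (3356, .gen 2672 (110, false)),
    (32, .gen 2748 (110, false)),
    (2848, .gen 1873 (119, true)),
    (557, .gen 640 (119, false)),
    (3287, .gen 133 (110, false)),
    (1951, .gen 133 (119, false)),
    (2127, .gen 133 (119, true)),
    (3451, .gen 2290 (119, false)),
    (3269, .gen 2290 (119, true)),
    (1857, .gen 2971 (104, false)),
    (2016, .gen 2971 (107, false)),
    (3718, .gen 2971 (110, false)),
    (434, .gen 2976 (104, false)),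
    (1422, .gen 2976 (107, false)),
    (386, .gen 2976 (110, false)),
    (3137, .gen 1198 (119, false)),
    (1659, .gen 1198 (119, true)),
    (3394, .gen 1893 (110, false)),
    (850, .gen 2758 (110, false)),
    (2951, .gen 1762 (119, true)),
    (463, .gen 1675 (119, false)),
    (3149, .gen 3254 (119, false)),
    (297, .gen 3254 (119, true)),
    (3484, .gen 1541 (110, false)),
    (1598, .gen 1491 (110, false)),
    (2580, .gen 768 (119, false)),
    (2864, .gen 2245 (119, true)),
    (1746, .gen 1736 (119, true)),
    (3522, .gen 2546 (119, true)),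
    (3179, .gen 742 (119, false)),
    (1964, .gen 240 (119, false)),
    (1962, .gen 1725 (119, false)),
    (270, .gen 1725 (119, true)),
    (3275, .gen 3219 (110, false)),
    (2521, .gen 1810 (110, false)),
    (1193, .gen 805 (119, false)),
    (554, .gen 1248 (119, true)),
    (2555, .gen 1048 (119, true)),
    (1088, .gen 1676 (119, false)),
    (3213, .gen 1358 (119, false)),
    (2167, .gen 1358 (119, true)),
    (1483, .gen 1445 (110, false)),
    (1099, .gen 2367 (110, false)),
    (2143, .gen 2692 (119, false)),
    (3677, .gen 3515 (119, true)),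
    (1127, .gen 2932 (119, true)),
    (3130, .gen 3768 (119, false)),
    (3351, .gen 1210 (110, false)),
    (3555, .gen 1210 (119, false)),
    (2386, .gen 1210 (119, true)),
    (925, .gen 1260 (119, false)),
    (777, .gen 1260 (119, true)),
    (1884, .gen 136 (104, false)),
    (3010, .gen 136 (107, false)),
    (2735, .gen 136 (110, false)),
    (1712, .gen 655 (104, false)),
    (2330, .gen 655 (107, false)),
    (1537, .gen 655 (110, false)),
    (2550, .gen 3264 (119, false)),
    (2557, .gen 3264 (119, true)),
    (2788, .gen 1973 (110, false)),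
    (1224, .gen 2090 (110, false)),
    (3382, .gen 264 (119, true)),
    (208, .gen 483 (119, false)),
    (696, .gen 3623 (119, false)),
    (2749, .gen 3623 (119, true)),
    (3347, .gen 915 (110, false)),
    (462, .gen 1635 (110, false)),
    (1705, .gen 897 (119, false)),
    (889, .gen 3589 (119, true)),
    (1827, .gen 1594 (119, true)),
    (1159, .gen 1151 (119, true)),
    (1744, .gen 2254 (119, false)),
    (415, .gen 2162 (119, false)),
    (2610, .gen 3294 (119, false)),
    (2273, .gen 3294 (119, true)),
    (1808, .gen 2255 (110, false)),
    (317, .gen 3072 (110, false)),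
    (3386, .gen 1479 (119, false)),
    (3164, .gen 2712 (119, true)),
    (2164, .gen 3037 (119, true)),
    (2583, .gen 3507 (119, true)),
    (1375, .gen 794 (110, false)),
    (1228, .gen 1557 (107, false)),
    (2343, .gen 3322 (107, false)),
    (1399, .gen 509 (119, true)),
    (1674, .gen 737 (110, false)),
    (825, .gen 1971 (119, true)),
    (1094, .gen 1313 (119, false)),
    (1976, .gen 1313 (119, true)),
    (1690, .gen 1341 (110, false)),
    (2200, .gen 2608 (110, false)),
    (3293, .gen 3502 (119, true)),
    (2778, .gen 3333 (119, false)),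
    (874, .gen 396 (110, false)),
    (1011, .gen 396 (119, false)),
    (1544, .gen 1338 (119, false)),
    (1970, .gen 1338 (119, true)),
    (482, .gen 978 (104, false)),
    (3745, .gen 2002 (110, false)),
    (1269, .gen 1283 (110, false)),
    (1842, .gen 1283 (119, false)),
    (834, .gen 1283 (119, true)),
    (1189, .gen 3360 (119, false)),
    (3771, .gen 3360 (119, true)),
    (380, .gen 3354 (104, false)),
    (2607, .gen 3354 (107, false)),
    (2661, .gen 3354 (110, false)),
    (104, .gen 1933 (104, false)),
    (3005, .gen 1933 (107, false)),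
    (3657, .gen 1933 (110, false)),
    (3540, .gen 911 (119, false)),
    (3649, .gen 911 (119, true)),
    (1418, .gen 2205 (110, false)),
    (1451, .gen 2325 (110, false)),
    (3117, .gen 3059 (119, true)),
    (3170, .gen 1476 (119, false)),
    (3588, .gen 3780 (119, false)),
    (693, .gen 3780 (119, true)),
    (3611, .gen 3049 (110, false)),
    (3730, .gen 492 (110, false)),
    (236, .gen 2417 (119, false)),
    (2598, .gen 1342 (119, true)),
    (3619, .gen 2662 (119, true)),
    (1431, .gen 682 (119, true)),
    (2554, .gen 2854 (119, false)),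
    (1783, .gen 844 (119, false)),
    (1046, .gen 1837 (110, false)),
    (2015, .gen 1837 (119, false)),
    (3139, .gen 1837 (119, true)),
    (3069, .gen 852 (119, false)),
    (3332, .gen 852 (119, true)),
    (2149, .gen 1668 (104, false)),
    (3208, .gen 1668 (107, false)),
    (378, .gen 1668 (110, false)),
    (3379, .gen 2269 (104, false)),
    (3517, .gen 2269 (107, false)),
    (275, .gen 2269 (110, false)),
    (2671, .gen 1408 (119, false)),
    (2843, .gen 1408 (119, true)),
    (2440, .gen 2168 (110, false)),
    (142, .gen 560 (110, false)),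
    (3523, .gen 1442 (119, true)),
    (1820, .gen 3063 (119, false)),
    (1719, .gen 3052 (119, false)),
    (1535, .gen 3052 (119, true)),
    (2189, .gen 982 (110, false)),
    (2563, .gen 2905 (110, false)),
    (3608, .gen 2689 (119, false)),
    (1591, .gen 3018 (119, true)),
    (2889, .gen 1015 (119, true)),
    (3599, .gen 1979 (119, true)),
    (2501, .gen 1767 (119, false)),
    (1812, .gen 2122 (119, false)),
    (1681, .gen 362 (110, false)),
    (1989, .gen 362 (119, false)),
    (3002, .gen 362 (119, true)),
    (2404, .gen 2814 (119, false)),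
    (2227, .gen 2814 (119, true)),
    (3572, .gen 3216 (104, false)),
    (3570, .gen 3216 (107, false)),
    (2261, .gen 3216 (110, false)),
    (2495, .gen 2817 (104, false)),
    (1749, .gen 2817 (107, false)),
    (2593, .gen 2817 (110, false)),
    (2485, .gen 2507 (119, false)),
    (2136, .gen 2507 (119, true)),
    (934, .gen 942 (110, false)),
    (3289, .gen 731 (110, false)),
    (201, .gen 25 (119, true)),
    (1331, .gen 3527 (119, false)),
    (1191, .gen 644 (119, false)),
    (1452, .gen 644 (119, true)),
    (2833, .gen 2697 (110, false)),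
    (1084, .gen 3376 (110, false)),
    (1685, .gen 884 (119, false)),
    (798, .gen 1758 (119, true)),
    (931, .gen 3791 (119, true)),
    (3385, .gen 3251 (119, true)),
    (1963, .gen 1696 (119, false)),
    (674, .gen 1832 (119, false)),
    (2374, .gen 2468 (110, false)),
    (568, .gen 2468 (119, false)),
    (2391, .gen 2468 (119, true)),
    (64, .gen 2243 (119, false)),
    (3206, .gen 2243 (119, true)),
    (652, .gen 2841 (104, false)),
    (1503, .gen 2841 (107, false)),
    (875, .gen 2841 (110, false)),
    (413, .gen 661 (104, false)),
    (200, .gen 661 (107, false)),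
    (1565, .gen 661 (110, false)),
    (1562, .gen 1144 (119, false)),
    (3131, .gen 1144 (119, true)),
    (2482, .gen 3353 (110, false)),
    (3603, .gen 2271 (110, false)),
    (2266, .gen 66 (119, true)),
    (495, .gen 1931 (119, false)),
    (3071, .gen 864 (119, false)),
    (2350, .gen 864 (119, true)),
    (3757, .gen 950 (110, false)),
    (371, .gen 1384 (110, false)),
    (2493, .gen 553 (119, false)),
    (788, .gen 1877 (119, true)),
    (675, .gen 802 (119, true)),
    (1488, .gen 388 (119, true)),
    (932, .gen 3426 (119, false)),
    (2870, .gen 82 (119, false)),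
    (789, .gen 3559 (110, false)),
    (562, .gen 3559 (119, false)),
    (2346, .gen 3559 (119, true)),
    (103, .gen 2155 (119, false)),
    (1789, .gen 2155 (119, true)),
    (2112, .gen 3135 (104, false)),
    (3769, .gen 3135 (107, false)),
    (3119, .gen 3135 (110, false)),
    (2801, .gen 3454 (104, false)),
    (2676, .gen 3454 (107, false)),
    (2982, .gen 3454 (110, false)),
    (1108, .gen 355 (119, false)),
    (3138, .gen 355 (119, true)),
    (507, .gen 3573 (110, false)),
    (830, .gen 173 (110, false)),
    (1002, .gen 2279 (119, true)),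
    (867, .gen 1739 (119, false)),
    (1816, .gen 1008 (119, false)),
    (2247, .gen 1008 (119, true)),
    (3134, .gen 3107 (110, false)),
    (2629, .gen 2559 (110, false)),
    (3309, .gen 3716 (119, false)),
    (725, .gen 3752 (119, true)),
    (2210, .gen 1978 (119, true)),
    (2760, .gen 1582 (119, true)),
    (166, .gen 2004 (119, false)),
    (2983, .gen 2643 (119, false)),
    (977, .gen 1934 (110, false)),
    (694, .gen 1934 (119, false)),
    (1458, .gen 1934 (119, true)),
    (3754, .gen 678 (119, false)),
    (3041, .gen 678 (119, true)),
    (2500, .gen 1847 (104, false)),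
    (1074, .gen 1847 (107, false)),
    (2396, .gen 1847 (110, false)),
    (3091, .gen 1147 (104, false)),
    (713, .gen 1147 (107, false)),
    (424, .gen 1147 (110, false)),
    (2784, .gen 1774 (119, false)),
    (2286, .gen 1774 (119, true)),
    (3592, .gen 3190 (110, false)),
    (2047, .gen 933 (110, false)),
    (3618, .gen 909 (119, true)),
    (527, .gen 1711 (119, false)),
    (2943, .gen 2218 (119, false)),
    (115, .gen 2218 (119, true)),
    (3341, .gen 1542 (110, false)),
    (2003, .gen 1494 (110, false)),
    (1320, .gen 3762 (119, false)),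
    (2825, .gen 1295 (119, true)),
    (3122, .gen 778 (119, true)),
    (449, .gen 3129 (119, true)),
    (1841, .gen 1004 (119, false)),
    (832, .gen 1843 (119, false))]

/-- Visits. -/
def v9_11 : List (ℕ × Src) :=
  [(1838, .gen 841 (110, false)),
    (3308, .gen 841 (119, false)),
    (2669, .gen 841 (119, true)),
    (703, .gen 2226 (119, false)),
    (1667, .gen 2226 (119, true)),
    (1026, .gen 1231 (104, false)),
    (2358, .gen 1231 (107, false)),
    (2201, .gen 1231 (110, false)),
    (2644, .gen 549 (104, false)),
    (3726, .gen 549 (107, false)),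
    (1575, .gen 549 (110, false)),
    (1050, .gen 2145 (119, false)),
    (416, .gen 2145 (119, true)),
    (535, .gen 2203 (110, false)),
    (2938, .gen 2601 (110, false)),
    (294, .gen 2781 (119, true)),
    (228, .gen 2532 (119, false)),
    (1211, .gen 3290 (119, false)),
    (815, .gen 3290 (119, true)),
    (3428, .gen 1811 (110, false)),
    (3547, .gen 1435 (110, false)),
    (1463, .gen 2780 (119, false)),
    (2328, .gen 1031 (119, true)),
    (2096, .gen 1484 (119, true)),
    (3196, .gen 2011 (119, true)),
    (686, .gen 3417 (119, false)),
    (1987, .gen 1041 (119, false)),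
    (2187, .gen 1261 (110, false)),
    (3136, .gen 1261 (119, false)),
    (2699, .gen 1261 (119, true)),
    (1650, .gen 2382 (119, false)),
    (3317, .gen 2382 (119, true)),
    (3191, .gen 3323 (104, false)),
    (1616, .gen 3323 (107, false)),
    (2751, .gen 3323 (110, false)),
    (859, .gen 2466 (104, false)),
    (2754, .gen 2466 (107, false)),
    (2060, .gen 2466 (110, false)),
    (3406, .gen 2341 (119, false)),
    (1328, .gen 2341 (119, true)),
    (3292, .gen 1432 (110, false)),
    (3474, .gen 774 (110, false)),
    (491, .gen 3711 (119, true)),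
    (1615, .gen 3228 (119, false)),
    (3594, .gen 2014 (119, false)),
    (2811, .gen 2014 (119, true)),
    (3512, .gen 753 (110, false)),
    (3511, .gen 2602 (110, false)),
    (1154, .gen 3077 (119, false)),
    (2979, .gen 1912 (119, true)),
    (2767, .gen 903 (119, true)),
    (1492, .gen 358 (119, true)),
    (3242, .gen 2278 (119, false)),
    (898, .gen 2432 (119, false)),
    (1848, .gen 3496 (110, false)),
    (3698, .gen 3496 (119, false)),
    (400, .gen 3496 (119, true)),
    (1471, .gen 3691 (119, false)),
    (1890, .gen 3691 (119, true)),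
    (3656, .gen 927 (104, false)),
    (3363, .gen 927 (107, false)),
    (1111, .gen 927 (110, false)),
    (2235, .gen 2332 (104, false)),
    (2498, .gen 2332 (107, false)),
    (3463, .gen 2332 (110, false)),
    (660, .gen 2915 (119, false)),
    (620, .gen 2915 (119, true)),
    (2422, .gen 1183 (110, false)),
    (2739, .gen 53 (110, false)),
    (563, .gen 3605 (119, true)),
    (1868, .gen 1699 (119, false)),
    (2021, .gen 2453 (119, false)),
    (2105, .gen 2453 (119, true)),
    (2061, .gen 2128 (110, false)),
    (1091, .gen 2667 (110, false)),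
    (1181, .gen 1029 (119, false)),
    (1273, .gen 440 (119, true)),
    (447, .gen 2361 (119, true)),
    (2046, .gen 3446 (119, true)),
    (3642, .gen 2565 (119, false)),
    (541, .gen 2389 (119, false)),
    (2956, .gen 1354 (110, false)),
    (831, .gen 1354 (119, false)),
    (943, .gen 1354 (119, true)),
    (2179, .gen 3023 (119, false)),
    (3370, .gen 3023 (119, true)),
    (2492, .gen 3097 (104, false)),
    (3653, .gen 3097 (107, false)),
    (502, .gen 3097 (110, false)),
    (576, .gen 1477 (104, false)),
    (1179, .gen 1477 (107, false)),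
    (480, .gen 1477 (110, false)),
    (1433, .gen 1222 (119, false)),
    (575, .gen 1222 (119, true)),
    (3508, .gen 914 (110, false)),
    (2094, .gen 1455 (110, false)),
    (3259, .gen 3330 (119, true)),
    (3575, .gen 51 (119, false)),
    (384, .gen 2197 (119, false)),
    (3399, .gen 2197 (119, true)),
    (223, .gen 1822 (110, false)),
    (592, .gen 2660 (110, false)),
    (392, .gen 3075 (119, false)),
    (3681, .gen 1158 (119, true)),
    (2561, .gen 2882 (119, true)),
    (1218, .gen 2513 (119, true)),
    (2810, .gen 427 (119, false)),
    (784, .gen 2221 (119, false)),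
    (2587, .gen 486 (110, false)),
    (727, .gen 486 (119, false)),
    (3032, .gen 486 (119, true)),
    (3250, .gen 665 (119, false)),
    (2406, .gen 665 (119, true)),
    (1340, .gen 169 (104, false)),
    (2556, .gen 169 (107, false)),
    (3494, .gen 169 (110, false)),
    (2450, .gen 1286 (104, false)),
    (869, .gen 1286 (107, false)),
    (1454, .gen 1286 (110, false)),
    (322, .gen 329 (119, false)),
    (3000, .gen 329 (119, true)),
    (1312, .gen 3197 (110, false)),
    (1185, .gen 3561 (110, false)),
    (3542, .gen 3436 (119, true)),
    (316, .gen 738 (119, false)),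
    (2606, .gen 2525 (119, false)),
    (1961, .gen 2525 (119, true)),
    (3357, .gen 587 (110, false)),
    (2917, .gen 1588 (110, false)),
    (555, .gen 2322 (119, false)),
    (2086, .gen 2141 (119, true)),
    (1052, .gen 1133 (119, true)),
    (662, .gen 3651 (119, true)),
    (3004, .gen 3475 (119, false)),
    (2366, .gen 1984 (119, false)),
    (787, .gen 2869 (110, false)),
    (750, .gen 2869 (119, false)),
    (2347, .gen 2869 (119, true)),
    (2093, .gen 2721 (119, false)),
    (2183, .gen 2721 (119, true)),
    (3027, .gen 2560 (104, false)),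
    (1045, .gen 2560 (107, false)),
    (1119, .gen 2560 (110, false)),
    (1239, .gen 3683 (104, false)),
    (2719, .gen 3683 (107, false)),
    (2315, .gen 3683 (110, false)),
    (1059, .gen 2400 (119, false)),
    (435, .gen 2400 (119, true)),
    (1806, .gen 2010 (110, false)),
    (1592, .gen 1250 (110, false)),
    (880, .gen 2701 (119, true)),
    (3479, .gen 639 (119, false)),
    (3086, .gen 487 (119, false)),
    (3298, .gen 487 (119, true)),
    (300, .gen 1478 (110, false)),
    (314, .gen 3761 (110, false)),
    (819, .gen 720 (119, false)),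
    (3163, .gen 526 (119, true)),
    (2750, .gen 474 (119, true)),
    (643, .gen 1813 (119, true)),
    (2364, .gen 290 (119, false)),
    (479, .gen 3625 (119, false)),
    (1481, .gen 3536 (110, false)),
    (532, .gen 3536 (119, false)),
    (47, .gen 3536 (119, true)),
    (3725, .gen 2613 (119, false)),
    (3701, .gen 2613 (119, true)),
    (981, .gen 3022 (104, false)),
    (1854, .gen 3022 (107, false)),
    (2465, .gen 3022 (110, false)),
    (2884, .gen 2195 (104, false)),
    (1053, .gen 2195 (107, false)),
    (1330, .gen 2195 (110, false)),
    (1107, .gen 2012 (119, false)),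
    (2423, .gen 2012 (119, true)),
    (281, .gen 813 (110, false)),
    (2902, .gen 2212 (110, false)),
    (2923, .gen 3529 (119, true)),
    (3504, .gen 3783 (119, false)),
    (2158, .gen 2510 (119, false)),
    (3334, .gen 2510 (119, true)),
    (2190, .gen 1579 (110, false)),
    (2142, .gen 3503 (110, false)),
    (1945, .gen 3056 (119, false)),
    (158, .gen 159 (119, true)),
    (2100, .gen 1246 (119, true)),
    (2427, .gen 2293 (119, true)),
    (2355, .gen 351 (119, false)),
    (363, .gen 3524 (119, false)),
    (984, .gen 3528 (110, false)),
    (458, .gen 3528 (119, false)),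
    (617, .gen 3528 (119, true)),
    (2045, .gen 411 (119, false)),
    (3172, .gen 411 (119, true)),
    (2921, .gen 1395 (104, false)),
    (2103, .gen 1395 (107, false)),
    (2244, .gen 1395 (110, false)),
    (1596, .gen 3235 (104, false)),
    (3595, .gen 3235 (107, false)),
    (542, .gen 3235 (110, false)),
    (2253, .gen 2900 (119, false)),
    (1922, .gen 2900 (119, true)),
    (1016, .gen 3682 (110, false)),
    (2636, .gen 306 (110, false)),
    (1387, .gen 1728 (119, true)),
    (2256, .gen 1887 (119, false)),
    (3296, .gen 3729 (119, false)),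
    (3550, .gen 3729 (119, true)),
    (1416, .gen 1178 (110, false)),
    (2745, .gen 2151 (110, false)),
    (2118, .gen 3085 (119, false)),
    (1316, .gen 1917 (119, true)),
    (759, .gen 2463 (119, true)),
    (1613, .gen 1167 (119, true)),
    (578, .gen 1587 (119, false)),
    (3159, .gen 3278 (119, false)),
    (1547, .gen 1796 (110, false)),
    (565, .gen 1796 (119, false)),
    (580, .gen 1796 (119, true)),
    (1044, .gen 2528 (119, false)),
    (2378, .gen 2528 (119, true)),
    (1722, .gen 1277 (104, false)),
    (1660, .gen 1277 (107, false)),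
    (2124, .gen 1277 (110, false)),
    (1389, .gen 1834 (104, false)),
    (3583, .gen 1834 (107, false)),
    (1348, .gen 1834 (110, false)),
    (1217, .gen 3270 (119, false)),
    (2933, .gen 3270 (119, true)),
    (1131, .gen 43 (110, false)),
    (800, .gen 3630 (110, false)),
    (999, .gen 1256 (119, true)),
    (1901, .gen 3142 (119, false)),
    (913, .gen 1563 (119, false)),
    (2384, .gen 1563 (119, true)),
    (67, .gen 3195 (110, false)),
    (499, .gen 3699 (110, false)),
    (1414, .gen 769 (119, false)),
    (2365, .gen 659 (119, true)),
    (2220, .gen 558 (119, true)),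
    (1100, .gen 237 (119, true)),
    (3671, .gen 93 (119, false)),
    (1128, .gen 2621 (119, false)),
    (3562, .gen 701 (110, false)),
    (2834, .gen 701 (119, false)),
    (107, .gen 701 (119, true)),
    (2469, .gen 259 (119, false)),
    (2600, .gen 259 (119, true)),
    (993, .gen 2945 (104, false)),
    (2455, .gen 2945 (107, false)),
    (3098, .gen 2945 (110, false)),
    (838, .gen 3246 (104, false)),
    (1234, .gen 3246 (107, false)),
    (1679, .gen 3246 (110, false)),
    (2246, .gen 702 (119, false)),
    (150, .gen 702 (119, true)),
    (198, .gen 998 (110, false)),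
    (267, .gen 27 (110, false)),
    (2298, .gen 1988 (119, true)),
    (2520, .gen 63 (119, false)),
    (154, .gen 3554 (119, false)),
    (1759, .gen 3554 (119, true)),
    (1080, .gen 1683 (110, false)),
    (181, .gen 1828 (110, false)),
    (1845, .gen 3348 (119, false)),
    (2006, .gen 826 (119, true)),
    (23, .gen 3705 (119, true)),
    (1526, .gen 2771 (119, true)),
    (2786, .gen 1729 (119, false)),
    (2099, .gen 3183 (119, false)),
    (2531, .gen 2185 (110, false)),
    (3442, .gen 2185 (119, false)),
    (2505, .gen 2185 (119, true)),
    (381, .gen 801 (119, false)),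
    (544, .gen 801 (119, true)),
    (235, .gen 1950 (104, false)),
    (2150, .gen 1950 (107, false)),
    (1381, .gen 1950 (110, false)),
    (1618, .gen 1424 (104, false)),
    (2928, .gen 1424 (107, false)),
    (1527, .gen 1424 (110, false)),
    (1468, .gen 146 (119, false)),
    (543, .gen 146 (119, true)),
    (986, .gen 3189 (110, false)),
    (1152, .gen 861 (110, false)),
    (1800, .gen 2850 (119, true)),
    (1590, .gen 1174 (119, false)),
    (189, .gen 876 (119, false)),
    (3531, .gen 876 (119, true)),
    (123, .gen 1608 (110, false)),
    (429, .gen 2964 (110, false)),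
    (1499, .gen 695 (119, false)),
    (1693, .gen 3121 (119, true)),
    (2844, .gen 3300 (119, true)),
    (3125, .gen 3700 (119, true)),
    (2037, .gen 2410 (119, false)),
    (1938, .gen 1770 (119, false)),
    (1766, .gen 2484 (110, false)),
    (2069, .gen 2484 (119, false)),
    (1953, .gen 2484 (119, true))]

/-- Visits. -/
def v9_12 : List (ℕ × Src) :=
  [(2191, .gen 958 (119, false)),
    (3731, .gen 958 (119, true)),
    (965, .gen 680 (104, false)),
    (2969, .gen 680 (107, false)),
    (2424, .gen 680 (110, false)),
    (3297, .gen 2451 (104, false)),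
    (2481, .gen 2451 (107, false)),
    (151, .gen 2451 (110, false)),
    (60, .gen 918 (119, false)),
    (2911, .gen 918 (119, true)),
    (3215, .gen 2387 (110, false)),
    (1787, .gen 684 (110, false)),
    (1882, .gen 730 (119, true)),
    (2435, .gen 538 (119, false)),
    (1125, .gen 1529 (119, false)),
    (3571, .gen 1529 (119, true)),
    (1682, .gen 2839 (110, false)),
    (2826, .gen 2474 (110, false)),
    (3556, .gen 2885 (119, false)),
    (3782, .gen 3458 (119, true)),
    (182, .gen 2838 (119, true)),
    (2558, .gen 1274 (119, true)),
    (715, .gen 1990 (119, false)),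
    (2713, .gen 2198 (119, false)),
    (3043, .gen 2954 (110, false)),
    (2272, .gen 2954 (119, false)),
    (2228, .gen 2954 (119, true)),
    (1546, .gen 3712 (119, false)),
    (3553, .gen 3712 (119, true)),
    (1444, .gen 671 (104, false)),
    (2994, .gen 671 (107, false)),
    (3369, .gen 671 (110, false)),
    (3721, .gen 2362 (104, false)),
    (2529, .gen 2362 (107, false)),
    (3268, .gen 2362 (110, false)),
    (3288, .gen 1279 (119, false)),
    (2397, .gen 1279 (119, true)),
    (605, .gen 2962 (110, false)),
    (3100, .gen 2840 (110, false)),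
    (1589, .gen 68 (119, true)),
    (2615, .gen 2331 (119, false)),
    (1293, .gen 3033 (119, false)),
    (2585, .gen 3033 (119, true)),
    (2734, .gen 2208 (110, false)),
    (597, .gen 799 (110, false)),
    (546, .gen 1532 (119, false)),
    (2483, .gen 326 (119, true)),
    (3634, .gen 3481 (119, true)),
    (2307, .gen 305 (119, true)),
    (410, .gen 552 (119, false)),
    (3520, .gen 3723 (119, false)),
    (408, .gen 1630 (119, false)),
    (593, .gen 1630 (119, true)),
    (2023, .gen 126 (110, false)),
    (3160, .gen 714 (110, false)),
    (1894, .gen 2634 (119, true)),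
    (116, .gen 1065 (119, false)),
    (2239, .gen 3670 (119, false)),
    (1907, .gen 3670 (119, true)),
    (1467, .gen 3393 (110, false)),
    (1871, .gen 3693 (110, false)),
    (1392, .gen 3265 (119, true)),
    (1089, .gen 3778 (119, false)),
    (3545, .gen 2147 (119, false)),
    (1343, .gen 2147 (119, true)),
    (705, .gen 3358 (110, false)),
    (3256, .gen 2920 (110, false)),
    (3304, .gen 2019 (119, true)),
    (670, .gen 710 (119, false)),
    (902, .gen 3287 (119, false)),
    (446, .gen 3287 (119, true)),
    (1487, .gen 1951 (110, false)),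
    (2020, .gen 2127 (110, false)),
    (2184, .gen 2016 (119, true)),
    (1146, .gen 1422 (119, false)),
    (292, .gen 3351 (119, false)),
    (1710, .gen 3351 (119, true)),
    (2479, .gen 3555 (110, false)),
    (1795, .gen 2386 (110, false)),
    (2799, .gen 3010 (119, true)),
    (2454, .gen 2330 (119, false)),
    (3439, .gen 1269 (119, false)),
    (2154, .gen 1269 (119, true)),
    (845, .gen 1842 (110, false)),
    (3177, .gen 834 (110, false)),
    (2393, .gen 2607 (119, true)),
    (1428, .gen 3005 (119, false)),
    (829, .gen 1046 (119, false)),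
    (193, .gen 1046 (119, true)),
    (2972, .gen 2015 (110, false)),
    (2267, .gen 3139 (110, false)),
    (1903, .gen 3208 (119, true)),
    (2959, .gen 3517 (119, false)),
    (3342, .gen 1681 (119, false)),
    (1644, .gen 1681 (119, true)),
    (2068, .gen 1989 (110, false)),
    (2708, .gen 3002 (110, false)),
    (2763, .gen 3570 (119, true)),
    (387, .gen 1749 (119, false)),
    (2883, .gen 2374 (119, false)),
    (3708, .gen 2374 (119, true)),
    (3373, .gen 568 (110, false)),
    (1135, .gen 2391 (110, false)),
    (1118, .gen 1503 (119, true)),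
    (1245, .gen 200 (119, false)),
    (2806, .gen 789 (119, false)),
    (638, .gen 789 (119, true)),
    (2898, .gen 562 (110, false)),
    (905, .gen 2346 (110, false)),
    (2741, .gen 3769 (119, true)),
    (3585, .gen 2676 (119, false)),
    (3526, .gen 977 (119, false)),
    (500, .gen 977 (119, true)),
    (1030, .gen 694 (110, false)),
    (663, .gen 1458 (110, false)),
    (1333, .gen 1074 (119, true)),
    (1368, .gen 713 (119, false)),
    (637, .gen 1838 (119, false)),
    (3238, .gen 1838 (119, true)),
    (1885, .gen 3308 (110, false)),
    (857, .gen 2669 (110, false)),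
    (1201, .gen 2358 (119, true)),
    (1162, .gen 3726 (119, false)),
    (2698, .gen 2187 (119, false)),
    (3328, .gen 2187 (119, true)),
    (439, .gen 3136 (110, false)),
    (2937, .gen 2699 (110, false)),
    (2499, .gen 1616 (119, true)),
    (3310, .gen 2754 (119, false)),
    (1037, .gen 1848 (119, false)),
    (823, .gen 1848 (119, true)),
    (775, .gen 3698 (110, false)),
    (2431, .gen 400 (110, false)),
    (937, .gen 3363 (119, true)),
    (2740, .gen 2498 (119, false)),
    (1597, .gen 2956 (119, false)),
    (534, .gen 2956 (119, true)),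
    (1307, .gen 831 (110, false)),
    (303, .gen 943 (110, false)),
    (3411, .gen 3653 (119, true)),
    (677, .gen 1179 (119, false)),
    (3692, .gen 2587 (119, false)),
    (3532, .gen 2587 (119, true)),
    (2357, .gen 727 (110, false)),
    (2025, .gen 3032 (110, false)),
    (1437, .gen 2556 (119, true)),
    (2984, .gen 869 (119, false)),
    (2270, .gen 787 (119, false)),
    (1859, .gen 787 (119, true)),
    (1902, .gen 750 (110, false)),
    (3786, .gen 2347 (110, false)),
    (2657, .gen 1045 (119, true)),
    (312, .gen 2719 (119, false)),
    (1308, .gen 1481 (119, false)),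
    (2960, .gen 1481 (119, true)),
    (14, .gen 532 (110, false)),
    (1365, .gen 47 (110, false)),
    (1517, .gen 1854 (119, true)),
    (1275, .gen 1053 (119, false)),
    (3506, .gen 984 (119, false)),
    (494, .gen 984 (119, true)),
    (69, .gen 458 (110, false)),
    (2371, .gen 617 (110, false)),
    (939, .gen 2103 (119, true)),
    (3234, .gen 3595 (119, false)),
    (180, .gen 1547 (119, false)),
    (1233, .gen 1547 (119, true)),
    (2078, .gen 565 (110, false)),
    (3388, .gen 580 (110, false)),
    (891, .gen 1660 (119, true)),
    (152, .gen 3583 (119, false)),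
    (473, .gen 3562 (119, false)),
    (3156, .gen 3562 (119, true)),
    (2926, .gen 2834 (110, false)),
    (78, .gen 107 (110, false)),
    (924, .gen 2455 (119, true)),
    (790, .gen 1234 (119, false)),
    (110, .gen 2531 (119, false)),
    (2654, .gen 2531 (119, true)),
    (2888, .gen 3442 (110, false)),
    (1666, .gen 2505 (110, false)),
    (3361, .gen 2150 (119, true)),
    (1732, .gen 2928 (119, false)),
    (3374, .gen 1766 (119, false)),
    (3767, .gen 1766 (119, true)),
    (3343, .gen 2069 (110, false)),
    (209, .gen 1953 (110, false)),
    (1020, .gen 2969 (119, true)),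
    (1815, .gen 2481 (119, false)),
    (2401, .gen 3043 (119, false)),
    (2517, .gen 3043 (119, true)),
    (3143, .gen 2272 (110, false)),
    (1670, .gen 2228 (110, false)),
    (2940, .gen 2994 (119, true)),
    (128, .gen 2529 (119, false))]

/-- The visits of node 9. -/
def visits9 : List (ℕ × Src) :=
  v9_0 ++ v9_1 ++ v9_2 ++ v9_3 ++ v9_4 ++ v9_5 ++ v9_6 ++ v9_7 ++ v9_8 ++ v9_9 ++ v9_10 ++ v9_11 ++ v9_12


end Cfsg.Agent.J4Bound.Data
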