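import Cfsg.Agent.Lib.J4Pres.Bound.Cover

/-! Data of the double coset enumeration for the presented fourth Janko group (tools/j4/bound/emitb.py). -/

set_option autoImplicit false
set_option maxRecDepth 100000
set_option maxHeartbeats 0

namespace Cfsg.Agent.J4Bound.Data

/-- Visits. -/
def v10_0 : List (ℕ × Src) :=
  [(735, .edge 137 true),
    (119, .edge 144 false),
    (276, .edge 145 false),
    (1965, .edge 145 true),
    (1634, .edge 154 true),
    (1462, .gen 735 (142, false)),
    (1631, .gen 735 (142, true)),
    (1543, .gen 735 (143, false)),
    (211, .gen 735 (143, true)),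
    (310, .gen 119 (142, false)),
    (1188, .gen 119 (143, false)),
    (3222, .gen 119 (143, true)),
    (498, .gen 276 (141, true)),
    (1450, .gen 276 (143, false)),
    (1642, .gen 276 (143, true)),
    (2901, .gen 1965 (143, true)),
    (2856, .gen 1634 (138, false)),
    (1259, .gen 1634 (139, false)),
    (3381, .gen 1634 (141, true)),
    (668, .gen 1634 (142, false)),
    (2912, .gen 1634 (142, true)),
    (2194, .gen 1634 (143, false)),
    (881, .gen 1634 (143, true)),
    (97, .gen 1462 (138, false)),
    (2853, .gen 1462 (142, false)),
    (3771, .gen 1462 (143, false)),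
    (3354, .gen 1462 (143, true)),
    (648, .gen 1631 (138, false)),
    (3062, .gen 1631 (143, false)),
    (887, .gen 1543 (138, false)),
    (1176, .gen 1543 (139, false)),
    (2942, .gen 1543 (140, false)),
    (2231, .gen 1543 (141, false)),
    (2684, .gen 1543 (141, true)),
    (3247, .gen 1543 (142, true)),
    (1695, .gen 211 (138, false)),
    (1622, .gen 211 (139, false)),
    (1524, .gen 211 (140, false)),
    (1935, .gen 211 (141, false)),
    (839, .gen 211 (141, true)),
    (3468, .gen 211 (142, false)),
    (2682, .gen 211 (142, true)),
    (470, .gen 310 (138, false)),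
    (3501, .gen 310 (143, false)),
    (1688, .gen 1188 (138, false)),
    (1656, .gen 1188 (139, false)),
    (1101, .gen 1188 (140, false)),
    (2390, .gen 1188 (141, false)),
    (2522, .gen 1188 (141, true)),
    (2491, .gen 1188 (142, true)),
    (786, .gen 3222 (138, false)),
    (3223, .gen 3222 (139, false)),
    (1376, .gen 3222 (140, false)),
    (3133, .gen 3222 (141, false)),
    (1291, .gen 3222 (141, true)),
    (3409, .gen 3222 (142, false)),
    (3241, .gen 3222 (142, true)),
    (3612, .gen 1450 (138, false)),
    (3486, .gen 1450 (139, false)),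
    (2818, .gen 1450 (140, false)),
    (2066, .gen 1450 (141, false)),
    (3650, .gen 1450 (142, false)),
    (360, .gen 1642 (139, false)),
    (3066, .gen 1642 (141, false)),
    (2824, .gen 2901 (140, false)),
    (2182, .gen 2901 (141, true)),
    (2348, .gen 2856 (139, false)),
    (2056, .gen 2856 (141, true)),
    (1324, .gen 2856 (142, false)),
    (2655, .gen 2856 (142, true)),
    (3572, .gen 2856 (143, false)),
    (763, .gen 2856 (143, true)),
    (856, .gen 1259 (142, false)),
    (1474, .gen 1259 (142, true)),
    (2620, .gen 1259 (143, false)),
    (1932, .gen 1259 (143, true)),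
    (2073, .gen 3381 (142, false)),
    (545, .gen 3381 (142, true)),
    (3443, .gen 3381 (143, false)),
    (2574, .gen 3381 (143, true)),
    (699, .gen 668 (138, false)),
    (700, .gen 668 (142, false)),
    (2080, .gen 668 (143, false)),
    (2915, .gen 668 (143, true)),
    (1035, .gen 2912 (138, false)),
    (2756, .gen 2912 (143, false)),
    (3032, .gen 2194 (138, false)),
    (1196, .gen 2194 (139, false)),
    (2625, .gen 2194 (140, false)),
    (472, .gen 2194 (141, false)),
    (2716, .gen 2194 (141, true)),
    (3492, .gen 2194 (142, false)),
    (2030, .gen 2194 (142, true)),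
    (3398, .gen 2194 (143, false)),
    (808, .gen 881 (138, false)),
    (2545, .gen 881 (139, false)),
    (1400, .gen 881 (140, false)),
    (751, .gen 881 (141, false)),
    (74, .gen 881 (141, true)),
    (1742, .gen 881 (142, false)),
    (2341, .gen 881 (142, true)),
    (2622, .gen 881 (143, true)),
    (1640, .gen 97 (142, true)),
    (145, .gen 2853 (138, false)),
    (2205, .gen 2853 (143, false)),
    (3117, .gen 2853 (143, true)),
    (2849, .gen 3771 (138, false)),
    (3588, .gen 3771 (139, false)),
    (2417, .gen 3771 (140, false)),
    (3360, .gen 3771 (141, false)),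
    (1189, .gen 3771 (141, true)),
    (1219, .gen 3771 (142, false)),
    (2062, .gen 3771 (142, true)),
    (3628, .gen 3354 (138, false)),
    (492, .gen 3354 (139, false)),
    (2661, .gen 3354 (140, false)),
    (1933, .gen 3354 (141, false)),
    (489, .gen 3354 (141, true)),
    (1505, .gen 3354 (142, false)),
    (471, .gen 3354 (142, true)),
    (247, .gen 648 (142, false)),
    (3649, .gen 648 (143, true)),
    (364, .gen 3062 (138, false)),
    (466, .gen 3062 (140, false)),
    (1500, .gen 3062 (141, false)),
    (612, .gen 3062 (141, true)),
    (2796, .gen 3062 (142, true)),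
    (1313, .gen 887 (142, false)),
    (568, .gen 887 (143, false)),
    (2746, .gen 887 (143, true)),
    (2628, .gen 1176 (141, false)),
    (2351, .gen 1176 (141, true)),
    (3502, .gen 1176 (142, false)),
    (2923, .gen 1176 (143, false)),
    (3022, .gen 1176 (143, true)),
    (2664, .gen 2942 (142, true)),
    (1413, .gen 2231 (138, false)),
    (2703, .gen 2231 (142, true)),
    (1326, .gen 2684 (142, true)),
    (629, .gen 3247 (138, false)),
    (1764, .gen 3247 (143, false)),
    (1976, .gen 1695 (142, false)),
    (2300, .gen 1695 (143, false)),
    (3453, .gen 1695 (143, true)),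
    (1355, .gen 1622 (141, false)),
    (3333, .gen 1622 (142, false)),
    (3267, .gen 1622 (143, false)),
    (2423, .gen 1622 (143, true)),
    (2497, .gen 1524 (142, true)),
    (2291, .gen 1935 (142, false)),
    (3615, .gen 1935 (142, true)),
    (646, .gen 839 (142, false)),
    (2082, .gen 839 (142, true)),
    (348, .gen 3468 (142, false)),
    (3701, .gen 3468 (143, false)),
    (2288, .gen 3468 (143, true)),
    (1122, .gen 2682 (138, false)),
    (813, .gen 2682 (143, false)),
    (3602, .gen 3501 (138, false)),
    (2980, .gen 3501 (140, false)),
    (2018, .gen 3501 (141, false)),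
    (2861, .gen 3501 (141, true)),
    (3255, .gen 3501 (142, true)),
    (284, .gen 1688 (142, false)),
    (1981, .gen 1688 (143, false)),
    (3461, .gen 1688 (143, true)),
    (2777, .gen 1656 (141, false)),
    (3407, .gen 1656 (141, true)),
    (2083, .gen 1656 (142, false)),
    (2478, .gen 1656 (143, false)),
    (3604, .gen 1101 (142, true)),
    (1160, .gen 2390 (138, false)),
    (3793, .gen 2390 (142, true)),
    (505, .gen 2522 (142, true)),
    (3533, .gen 2491 (138, false)),
    (3413, .gen 786 (142, false)),
    (3781, .gen 786 (143, false)),
    (1836, .gen 786 (143, true)),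
    (3397, .gen 3223 (141, false)),
    (2321, .gen 3223 (142, false)),
    (2146, .gen 3223 (143, true)),
    (2458, .gen 1376 (142, true)),
    (2717, .gen 3133 (142, false)),
    (1540, .gen 3133 (142, true)),
    (2251, .gen 1291 (142, false)),
    (797, .gen 1291 (142, true)),
    (636, .gen 3409 (142, false)),
    (3230, .gen 3241 (138, false)),
    (1879, .gen 3241 (143, false)),
    (1928, .gen 2348 (142, false)),
    (1824, .gen 2348 (142, true)),
    (1851, .gen 2348 (143, false)),
    (2495, .gen 2348 (143, true)),
    (3054, .gen 2056 (142, false)),
    (2540, .gen 2056 (143, false)),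
    (1984, .gen 2056 (143, true)),
    (1379, .gen 1324 (138, false)),
    (940, .gen 1324 (142, false)),
    (2232, .gen 1324 (143, false)),
    (665, .gen 1324 (143, true)),
    (254, .gen 2655 (138, false)),
    (1920, .gen 2655 (143, false)),
    (1632, .gen 3572 (138, false)),
    (3570, .gen 3572 (139, false)),
    (515, .gen 3572 (140, false)),
    (931, .gen 3572 (141, false)),
    (3791, .gen 3572 (141, true)),
    (956, .gen 3572 (142, false)),
    (3175, .gen 3572 (142, true)),
    (1329, .gen 763 (139, false)),
    (860, .gen 763 (141, false)),
    (1793, .gen 763 (141, true)),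
    (362, .gen 763 (142, false)),
    (3221, .gen 763 (142, true)),
    (1570, .gen 763 (143, true)),
    (1967, .gen 856 (142, false)),
    (1839, .gen 856 (143, false)),
    (3225, .gen 856 (143, true)),
    (4, .gen 1474 (138, false)),
    (134, .gen 1474 (143, false)),
    (2578, .gen 2620 (138, false)),
    (2587, .gen 2620 (139, false)),
    (1861, .gen 2620 (140, false)),
    (1895, .gen 2620 (141, false)),
    (1737, .gen 2620 (141, true)),
    (2187, .gen 2620 (142, true)),
    (727, .gen 1932 (138, false)),
    (438, .gen 1932 (139, false)),
    (3521, .gen 1932 (140, false)),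
    (3120, .gen 1932 (141, false)),
    (191, .gen 1932 (141, true)),
    (1220, .gen 1932 (142, false)),
    (1937, .gen 1932 (142, true)),
    (144, .gen 1932 (143, true)),
    (3094, .gen 2073 (138, false)),
    (315, .gen 2073 (142, false)),
    (3494, .gen 2073 (143, false)),
    (738, .gen 2073 (143, true)),
    (37, .gen 545 (138, false)),
    (299, .gen 545 (143, false)),
    (147, .gen 3443 (140, false)),
    (2098, .gen 3443 (141, true)),
    (1644, .gen 2574 (138, false)),
    (2001, .gen 2574 (139, false)),
    (3401, .gen 2574 (140, false)),
    (1254, .gen 2574 (141, false)),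
    (121, .gen 2574 (141, true)),
    (2327, .gen 2574 (142, false)),
    (1055, .gen 2574 (142, true)),
    (1605, .gen 699 (143, true)),
    (1029, .gen 700 (143, false)),
    (359, .gen 700 (143, true)),
    (3658, .gen 2080 (138, false)),
    (2280, .gen 2080 (139, false)),
    (1602, .gen 2080 (140, false)),
    (2632, .gen 2080 (141, false)),
    (2565, .gen 2080 (142, false)),
    (3463, .gen 2080 (142, true)),
    (816, .gen 2080 (143, false)),
    (2453, .gen 2915 (138, false)),
    (375, .gen 2915 (139, false)),
    (222, .gen 2915 (140, false)),
    (660, .gen 2915 (141, false)),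
    (620, .gen 2915 (141, true)),
    (293, .gen 2915 (142, true)),
    (1454, .gen 1035 (143, false)),
    (664, .gen 1035 (143, true)),
    (1051, .gen 2756 (138, false)),
    (1489, .gen 2756 (140, false)),
    (2441, .gen 2756 (141, false)),
    (188, .gen 2756 (141, true)),
    (3474, .gen 2756 (142, true)),
    (2383, .gen 3032 (139, false)),
    (2025, .gen 3032 (140, false)),
    (486, .gen 3032 (141, false)),
    (2446, .gen 3032 (142, false)),
    (343, .gen 3032 (142, true)),
    (753, .gen 3032 (143, false)),
    (3636, .gen 3032 (143, true)),
    (767, .gen 1196 (140, false)),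
    (2282, .gen 1196 (141, false)),
    (2262, .gen 1196 (141, true)),
    (1124, .gen 1196 (142, false)),
    (403, .gen 1196 (143, false)),
    (1576, .gen 1196 (143, true)),
    (622, .gen 2625 (141, false)),
    (1886, .gen 2625 (142, true)),
    (3124, .gen 2625 (143, false)),
    (2984, .gen 472 (138, false)),
    (2437, .gen 472 (142, false)),
    (3610, .gen 472 (142, true)),
    (3692, .gen 2716 (138, false)),
    (2677, .gen 2716 (140, false)),
    (724, .gen 2716 (142, false)),
    (2913, .gen 2716 (142, true)),
    (2765, .gen 2716 (143, false)),
    (3457, .gen 3492 (142, false)),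
    (3467, .gen 3492 (143, false)),
    (3292, .gen 3492 (143, true)),
    (1536, .gen 2030 (138, false))]

/-- Visits. -/
def v10_1 : List (ℕ × Src) :=
  [(219, .gen 2030 (143, false)),
    (1758, .gen 2030 (143, true)),
    (48, .gen 3398 (142, true)),
    (1133, .gen 3398 (143, false)),
    (1034, .gen 808 (141, false)),
    (908, .gen 808 (142, false)),
    (3395, .gen 808 (143, false)),
    (1875, .gen 808 (143, true)),
    (383, .gen 2545 (141, false)),
    (3703, .gen 2545 (141, true)),
    (1241, .gen 2545 (142, false)),
    (3077, .gen 2545 (143, true)),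
    (896, .gen 1400 (141, false)),
    (3590, .gen 1400 (142, true)),
    (1340, .gen 1400 (143, true)),
    (3405, .gen 751 (142, false)),
    (3406, .gen 751 (142, true)),
    (2007, .gen 751 (143, false)),
    (2318, .gen 751 (143, true)),
    (1227, .gen 74 (138, false)),
    (2356, .gen 74 (142, false)),
    (1328, .gen 74 (142, true)),
    (2041, .gen 74 (143, false)),
    (3015, .gen 74 (143, true)),
    (337, .gen 1742 (142, false)),
    (3660, .gen 1742 (143, false)),
    (1749, .gen 1742 (143, true)),
    (2014, .gen 2341 (138, false)),
    (358, .gen 2341 (143, false)),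
    (372, .gen 2622 (142, false)),
    (947, .gen 1640 (138, false)),
    (1431, .gen 1640 (143, false)),
    (1332, .gen 145 (142, true)),
    (1342, .gen 2205 (138, false)),
    (1418, .gen 2205 (140, false)),
    (2325, .gen 2205 (141, false)),
    (346, .gen 2205 (141, true)),
    (1142, .gen 2205 (142, true)),
    (2598, .gen 3117 (138, false)),
    (3170, .gen 3117 (140, false)),
    (3059, .gen 3117 (141, false)),
    (1451, .gen 3117 (141, true)),
    (2178, .gen 3117 (142, true)),
    (2514, .gen 2849 (141, false)),
    (670, .gen 2849 (142, false)),
    (1339, .gen 2849 (143, false)),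
    (1531, .gen 2849 (143, true)),
    (693, .gen 3588 (141, false)),
    (3780, .gen 3588 (141, true)),
    (3538, .gen 3588 (142, false)),
    (3016, .gen 3588 (143, false)),
    (2023, .gen 3588 (143, true)),
    (236, .gen 2417 (141, false)),
    (1549, .gen 2417 (142, true)),
    (709, .gen 3360 (138, false)),
    (2380, .gen 3360 (142, false)),
    (3647, .gen 3360 (142, true)),
    (682, .gen 1189 (140, false)),
    (1114, .gen 1189 (142, false)),
    (2475, .gen 1189 (142, true)),
    (3358, .gen 1219 (142, false)),
    (2674, .gen 1219 (143, false)),
    (3195, .gen 1219 (143, true)),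
    (280, .gen 2062 (138, false)),
    (2435, .gen 2062 (143, false)),
    (1476, .gen 3628 (139, false)),
    (689, .gen 3628 (140, false)),
    (710, .gen 3628 (142, false)),
    (3581, .gen 3628 (143, false)),
    (2104, .gen 3628 (143, true)),
    (3730, .gen 492 (140, false)),
    (2132, .gen 492 (141, false)),
    (3049, .gen 492 (141, true)),
    (2797, .gen 492 (142, false)),
    (3556, .gen 492 (143, false)),
    (2324, .gen 492 (143, true)),
    (2310, .gen 2661 (142, true)),
    (3657, .gen 1933 (140, false)),
    (1284, .gen 1933 (142, false)),
    (3260, .gen 1933 (142, true)),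
    (2573, .gen 489 (142, false)),
    (2535, .gen 489 (142, true)),
    (3304, .gen 1505 (142, false)),
    (2384, .gen 1505 (143, false)),
    (60, .gen 1505 (143, true)),
    (2457, .gen 471 (138, false)),
    (86, .gen 471 (143, false)),
    (3110, .gen 247 (143, false)),
    (628, .gen 247 (143, true)),
    (911, .gen 3649 (141, false)),
    (3540, .gen 3649 (141, true)),
    (2554, .gen 3649 (142, false)),
    (3632, .gen 3649 (142, true)),
    (1094, .gen 364 (142, false)),
    (1826, .gen 364 (143, false)),
    (2687, .gen 364 (143, true)),
    (3114, .gen 466 (142, true)),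
    (340, .gen 1500 (142, true)),
    (3673, .gen 612 (142, true)),
    (1627, .gen 2796 (138, false)),
    (2427, .gen 2796 (143, false)),
    (335, .gen 1313 (138, false)),
    (3145, .gen 1313 (143, false)),
    (1924, .gen 1313 (143, true)),
    (729, .gen 568 (138, false)),
    (2091, .gen 568 (139, false)),
    (3373, .gen 568 (140, false)),
    (2391, .gen 568 (141, false)),
    (2468, .gen 568 (141, true)),
    (3393, .gen 568 (142, false)),
    (406, .gen 568 (142, true)),
    (3778, .gen 2746 (138, false)),
    (1763, .gen 2746 (139, false)),
    (2800, .gen 2746 (140, false)),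
    (20, .gen 2746 (141, false)),
    (3067, .gen 2746 (141, true)),
    (3042, .gen 2746 (142, false)),
    (1652, .gen 2746 (142, true)),
    (779, .gen 2746 (143, true)),
    (2200, .gen 2628 (142, false)),
    (1140, .gen 2628 (143, false)),
    (1934, .gen 2628 (143, true)),
    (3293, .gen 2351 (142, false)),
    (3238, .gen 2351 (143, false)),
    (1840, .gen 2351 (143, true)),
    (624, .gen 3502 (138, false)),
    (1970, .gen 3502 (143, false)),
    (2405, .gen 3502 (143, true)),
    (158, .gen 2923 (138, false)),
    (210, .gen 2923 (139, false)),
    (3504, .gen 2923 (140, false)),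
    (3529, .gen 2923 (141, false)),
    (2902, .gen 2923 (141, true)),
    (2400, .gen 2923 (142, true)),
    (2641, .gen 3022 (138, false)),
    (3503, .gen 3022 (139, false)),
    (2465, .gen 3022 (140, false)),
    (2195, .gen 3022 (141, false)),
    (1997, .gen 3022 (141, true)),
    (3025, .gen 3022 (142, false)),
    (1959, .gen 3022 (142, true)),
    (1519, .gen 3022 (143, true)),
    (588, .gen 2664 (138, false)),
    (3578, .gen 2664 (143, false)),
    (1074, .gen 2664 (143, true)),
    (1690, .gen 1413 (142, false)),
    (1118, .gen 1413 (143, true)),
    (10, .gen 2703 (138, false)),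
    (1201, .gen 2703 (143, false)),
    (811, .gen 1326 (138, false)),
    (2663, .gen 1326 (143, false)),
    (2294, .gen 1326 (143, true)),
    (1377, .gen 629 (142, false)),
    (772, .gen 629 (142, true)),
    (952, .gen 629 (143, false)),
    (3490, .gen 629 (143, true)),
    (785, .gen 1764 (138, false)),
    (847, .gen 1764 (140, false)),
    (3641, .gen 1764 (141, false)),
    (2407, .gen 1764 (141, true)),
    (3786, .gen 1764 (142, true)),
    (2633, .gen 1976 (143, false)),
    (845, .gen 1976 (143, true)),
    (863, .gen 2300 (138, false)),
    (3648, .gen 2300 (139, false)),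
    (827, .gen 2300 (140, false)),
    (1651, .gen 2300 (141, true)),
    (2223, .gen 2300 (142, false)),
    (637, .gen 2300 (142, true)),
    (1041, .gen 3453 (138, false)),
    (2934, .gen 3453 (139, false)),
    (2808, .gen 3453 (140, false)),
    (29, .gen 3453 (141, false)),
    (2553, .gen 3453 (141, true)),
    (1103, .gen 3453 (142, false)),
    (416, .gen 3453 (142, true)),
    (35, .gen 3453 (143, true)),
    (2778, .gen 1355 (142, false)),
    (2993, .gen 1355 (143, true)),
    (2340, .gen 3333 (138, false)),
    (1528, .gen 3333 (143, false)),
    (978, .gen 3333 (143, true)),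
    (1470, .gen 3267 (138, false)),
    (3200, .gen 3267 (139, false)),
    (3011, .gen 3267 (140, false)),
    (3596, .gen 3267 (141, false)),
    (3525, .gen 3267 (141, true)),
    (2158, .gen 3267 (142, false)),
    (1902, .gen 3267 (142, true)),
    (2142, .gen 2423 (138, false)),
    (256, .gen 2423 (139, false)),
    (3783, .gen 2423 (140, false)),
    (2012, .gen 2423 (141, false)),
    (1107, .gen 2423 (141, true)),
    (1996, .gen 2423 (142, false)),
    (1592, .gen 2423 (142, true)),
    (333, .gen 2497 (138, false)),
    (2595, .gen 2497 (143, false)),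
    (1341, .gen 2291 (142, false)),
    (1804, .gen 2291 (143, false)),
    (3308, .gen 2291 (143, true)),
    (1944, .gen 3615 (138, false)),
    (3719, .gen 3615 (143, false)),
    (2608, .gen 646 (142, false)),
    (2570, .gen 646 (143, false)),
    (893, .gen 646 (143, true)),
    (2276, .gen 2082 (138, false)),
    (3708, .gen 2082 (143, false)),
    (912, .gen 348 (143, false)),
    (2236, .gen 348 (143, true)),
    (325, .gen 3701 (138, false)),
    (3056, .gen 3701 (140, false)),
    (2613, .gen 3701 (141, false)),
    (3725, .gen 3701 (141, true)),
    (1557, .gen 3701 (142, true)),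
    (3478, .gen 2288 (138, false)),
    (2743, .gen 2288 (139, false)),
    (448, .gen 2288 (140, false)),
    (749, .gen 2288 (141, false)),
    (2480, .gen 2288 (141, true)),
    (2355, .gen 2288 (142, false)),
    (787, .gen 2288 (142, true)),
    (1581, .gen 2288 (143, true)),
    (2506, .gen 1122 (142, false)),
    (2376, .gen 1122 (143, false)),
    (3185, .gen 1122 (143, true)),
    (159, .gen 813 (138, false)),
    (281, .gen 813 (140, false)),
    (2212, .gen 813 (141, false)),
    (1383, .gen 813 (141, true)),
    (1806, .gen 813 (142, true)),
    (3180, .gen 3602 (142, false)),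
    (518, .gen 3602 (143, false)),
    (2637, .gen 3602 (143, true)),
    (2043, .gen 2980 (142, true)),
    (3279, .gen 2018 (142, true)),
    (1010, .gen 2861 (142, true)),
    (2939, .gen 3255 (138, false)),
    (2723, .gen 284 (143, false)),
    (3714, .gen 284 (143, true)),
    (1362, .gen 1981 (138, false)),
    (3444, .gen 1981 (139, false)),
    (2652, .gen 1981 (140, false)),
    (85, .gen 1981 (141, true)),
    (3617, .gen 3461 (138, false)),
    (3666, .gen 3461 (140, false)),
    (961, .gen 3461 (141, false)),
    (1302, .gen 3461 (142, true)),
    (2988, .gen 3461 (143, true)),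
    (3371, .gen 2777 (142, false)),
    (461, .gen 2777 (143, false)),
    (3199, .gen 2777 (143, true)),
    (3702, .gen 3407 (142, false)),
    (2903, .gen 3407 (143, false)),
    (910, .gen 3407 (143, true)),
    (349, .gen 2083 (138, false)),
    (1310, .gen 2083 (143, false)),
    (344, .gen 2083 (143, true)),
    (2683, .gen 2478 (139, false)),
    (1490, .gen 2478 (140, false)),
    (2377, .gen 2478 (141, false)),
    (900, .gen 2478 (142, true)),
    (3560, .gen 3604 (138, false)),
    (2929, .gen 3604 (143, false)),
    (3161, .gen 1160 (142, false)),
    (218, .gen 1160 (143, true)),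
    (2538, .gen 3793 (138, false)),
    (1915, .gen 3793 (143, false)),
    (426, .gen 505 (138, false)),
    (1617, .gen 505 (143, false)),
    (272, .gen 505 (143, true)),
    (2981, .gen 3533 (142, false)),
    (1637, .gen 3533 (142, true)),
    (3039, .gen 3533 (143, false)),
    (2524, .gen 3413 (143, false)),
    (2408, .gen 3413 (143, true)),
    (3749, .gen 3781 (138, false)),
    (2117, .gen 3781 (139, false)),
    (649, .gen 3781 (141, true)),
    (1085, .gen 3781 (142, false)),
    (2207, .gen 3781 (142, true)),
    (1382, .gen 1836 (138, false)),
    (1251, .gen 1836 (139, false)),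
    (279, .gen 1836 (140, false)),
    (2, .gen 1836 (141, false)),
    (2070, .gen 1836 (141, true)),
    (454, .gen 1836 (142, false)),
    (2576, .gen 1836 (143, true)),
    (3724, .gen 3397 (142, false)),
    (1718, .gen 3397 (143, true)),
    (1867, .gen 2321 (143, false)),
    (2240, .gen 2321 (143, true)),
    (3584, .gen 2146 (141, false)),
    (220, .gen 2146 (142, false)),
    (1130, .gen 2146 (142, true)),
    (1603, .gen 2717 (142, false)),
    (1673, .gen 2717 (143, false)),
    (3505, .gen 1540 (143, false)),
    (273, .gen 2251 (143, true)),
    (1272, .gen 797 (138, false))]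

/-- Visits. -/
def v10_2 : List (ℕ × Src) :=
  [(3728, .gen 797 (143, false)),
    (1110, .gen 636 (143, false)),
    (1955, .gen 636 (143, true)),
    (1236, .gen 3230 (142, false)),
    (3076, .gen 3230 (143, true)),
    (2487, .gen 1879 (141, false)),
    (1032, .gen 1879 (141, true)),
    (2650, .gen 1879 (142, true)),
    (163, .gen 1928 (142, false)),
    (1864, .gen 1928 (143, true)),
    (1681, .gen 1851 (138, false)),
    (341, .gen 1851 (140, false)),
    (1288, .gen 1851 (141, false)),
    (183, .gen 2495 (138, false)),
    (2502, .gen 2495 (140, false)),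
    (1832, .gen 2495 (141, false)),
    (674, .gen 2495 (141, true)),
    (1791, .gen 2495 (142, false)),
    (2087, .gen 2495 (142, true)),
    (2422, .gen 3054 (143, false)),
    (1568, .gen 2540 (141, true)),
    (437, .gen 1984 (138, false)),
    (2357, .gen 1984 (139, false)),
    (2366, .gen 1984 (141, false)),
    (2450, .gen 1984 (141, true)),
    (2937, .gen 1984 (142, true)),
    (285, .gen 940 (143, true)),
    (452, .gen 2232 (138, false)),
    (1569, .gen 2232 (139, false)),
    (2258, .gen 2232 (140, false)),
    (1969, .gen 2232 (141, false)),
    (3686, .gen 2232 (141, true)),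
    (1501, .gen 2232 (142, false)),
    (1200, .gen 2232 (142, true)),
    (2785, .gen 665 (138, false)),
    (2525, .gen 665 (139, false)),
    (3090, .gen 665 (140, false)),
    (3250, .gen 665 (141, false)),
    (2406, .gen 665 (141, true)),
    (2739, .gen 254 (143, false)),
    (2597, .gen 1920 (141, false)),
    (1022, .gen 1632 (141, false)),
    (731, .gen 1632 (142, false)),
    (587, .gen 1632 (143, false)),
    (1194, .gen 1632 (143, true)),
    (3342, .gen 3570 (140, false)),
    (2708, .gen 3570 (141, false)),
    (2763, .gen 3570 (141, true)),
    (2807, .gen 3570 (142, false)),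
    (3186, .gen 3570 (143, false)),
    (2675, .gen 515 (142, true)),
    (711, .gen 931 (138, false)),
    (2153, .gen 931 (142, true)),
    (1850, .gen 3791 (138, false)),
    (1883, .gen 3175 (138, false)),
    (2568, .gen 3175 (143, true)),
    (3233, .gen 1329 (143, true)),
    (1989, .gen 860 (142, false)),
    (550, .gen 860 (143, true)),
    (3002, .gen 1793 (142, false)),
    (679, .gen 362 (142, false)),
    (439, .gen 362 (143, false)),
    (3446, .gen 1967 (143, true)),
    (1301, .gen 1839 (138, false)),
    (3499, .gen 1839 (139, false)),
    (3691, .gen 1839 (140, false)),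
    (927, .gen 1839 (141, false)),
    (2332, .gen 1839 (141, true)),
    (780, .gen 1839 (142, false)),
    (776, .gen 1839 (142, true)),
    (2653, .gen 3225 (138, false)),
    (1986, .gen 3225 (139, false)),
    (3377, .gen 3225 (140, false)),
    (345, .gen 3225 (141, true)),
    (440, .gen 3225 (142, false)),
    (1111, .gen 3225 (142, true)),
    (1947, .gen 134 (142, true)),
    (1430, .gen 2578 (142, false)),
    (3507, .gen 2578 (143, false)),
    (2130, .gen 2578 (143, true)),
    (3532, .gen 2587 (141, true)),
    (1496, .gen 2587 (142, false)),
    (1261, .gen 1861 (142, true)),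
    (3384, .gen 1895 (138, false)),
    (2698, .gen 1895 (142, true)),
    (3328, .gen 1737 (142, true)),
    (2727, .gen 2187 (138, false)),
    (1939, .gen 727 (142, false)),
    (2822, .gen 727 (143, false)),
    (3483, .gen 727 (143, true)),
    (186, .gen 438 (141, false)),
    (3151, .gen 438 (142, false)),
    (2690, .gen 438 (143, true)),
    (2323, .gen 3521 (142, true)),
    (34, .gen 3521 (143, false)),
    (1714, .gen 3120 (142, true)),
    (1437, .gen 191 (138, false)),
    (3082, .gen 191 (142, false)),
    (3009, .gen 191 (142, true)),
    (846, .gen 1220 (142, false)),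
    (1892, .gen 1937 (138, false)),
    (1696, .gen 1937 (143, false)),
    (964, .gen 1937 (143, true)),
    (3747, .gen 3494 (138, false)),
    (2917, .gen 3494 (139, false)),
    (169, .gen 3494 (140, false)),
    (2322, .gen 3494 (141, false)),
    (555, .gen 3494 (141, true)),
    (3357, .gen 3494 (142, false)),
    (3512, .gen 3494 (142, true)),
    (1588, .gen 738 (138, false)),
    (770, .gen 738 (139, false)),
    (3000, .gen 738 (140, false)),
    (316, .gen 738 (141, false)),
    (1312, .gen 738 (141, true)),
    (1648, .gen 738 (142, false)),
    (2804, .gen 738 (142, true)),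
    (3436, .gen 37 (143, false)),
    (3366, .gen 1644 (142, false)),
    (2798, .gen 1644 (143, false)),
    (1441, .gen 1644 (143, true)),
    (36, .gen 2001 (141, false)),
    (934, .gen 2001 (142, false)),
    (3779, .gen 2001 (143, true)),
    (1349, .gen 3401 (142, true)),
    (2688, .gen 1254 (142, false)),
    (3567, .gen 1254 (142, true)),
    (1052, .gen 1254 (143, true)),
    (619, .gen 121 (142, false)),
    (3231, .gen 121 (142, true)),
    (3289, .gen 2327 (142, false)),
    (2227, .gen 1055 (138, false)),
    (301, .gen 1055 (143, false)),
    (1890, .gen 1029 (140, false)),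
    (1181, .gen 1029 (141, false)),
    (129, .gen 1029 (142, true)),
    (2667, .gen 3658 (142, false)),
    (3197, .gen 3658 (143, false)),
    (2061, .gen 2280 (142, false)),
    (2105, .gen 1602 (142, false)),
    (3423, .gen 1602 (143, false)),
    (662, .gen 1602 (143, true)),
    (3642, .gen 2632 (142, false)),
    (2046, .gen 2632 (142, true)),
    (1286, .gen 2632 (143, false)),
    (3542, .gen 2632 (143, true)),
    (53, .gen 2565 (138, false)),
    (1801, .gen 2565 (142, false)),
    (1555, .gen 2565 (143, false)),
    (3420, .gen 2565 (143, true)),
    (2021, .gen 2453 (141, false)),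
    (3037, .gen 2453 (143, false)),
    (2668, .gen 2453 (143, true)),
    (833, .gen 375 (141, false)),
    (1464, .gen 375 (142, false)),
    (569, .gen 375 (143, false)),
    (1183, .gen 222 (141, false)),
    (172, .gen 222 (142, true)),
    (3605, .gen 660 (140, false)),
    (2820, .gen 660 (142, true)),
    (2292, .gen 660 (143, false)),
    (1091, .gen 620 (138, false)),
    (1699, .gen 620 (140, false)),
    (3040, .gen 620 (142, true)),
    (2134, .gen 293 (138, false)),
    (2354, .gen 293 (143, true)),
    (2515, .gen 1454 (138, false)),
    (3651, .gen 1454 (141, true)),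
    (3511, .gen 1454 (142, true)),
    (517, .gen 664 (138, false)),
    (329, .gen 664 (140, false)),
    (3561, .gen 664 (141, true)),
    (882, .gen 664 (142, false)),
    (712, .gen 664 (142, true)),
    (1515, .gen 1051 (143, false)),
    (2169, .gen 1051 (143, true)),
    (774, .gen 1489 (142, true)),
    (491, .gen 2441 (142, true)),
    (3711, .gen 188 (142, true)),
    (2811, .gen 3474 (138, false)),
    (3136, .gen 2383 (142, true)),
    (2556, .gen 2025 (141, true)),
    (2432, .gen 2025 (142, false)),
    (1132, .gen 486 (142, false)),
    (2447, .gen 486 (143, false)),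
    (2768, .gen 486 (143, true)),
    (2058, .gen 2446 (138, false)),
    (2699, .gen 2446 (142, false)),
    (2466, .gen 753 (139, false)),
    (2602, .gen 753 (141, false)),
    (2805, .gen 753 (141, true)),
    (3323, .gen 753 (142, true)),
    (157, .gen 753 (143, false)),
    (2530, .gen 3636 (140, false)),
    (2992, .gen 3636 (141, true)),
    (3789, .gen 3636 (142, false)),
    (2067, .gen 3636 (143, true)),
    (577, .gen 767 (142, false)),
    (2851, .gen 767 (143, false)),
    (2135, .gen 767 (143, true)),
    (175, .gen 2282 (143, false)),
    (556, .gen 2282 (143, true)),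
    (3473, .gen 2262 (142, false)),
    (2029, .gen 2262 (143, true)),
    (1317, .gen 1124 (138, false)),
    (3489, .gen 1124 (143, false)),
    (885, .gen 1124 (143, true)),
    (1523, .gen 403 (139, false)),
    (3574, .gen 403 (140, false)),
    (1112, .gen 403 (141, false)),
    (884, .gen 403 (142, false)),
    (1084, .gen 403 (142, true)),
    (2814, .gen 1576 (138, false)),
    (2507, .gen 1576 (139, false)),
    (814, .gen 1576 (140, false)),
    (2865, .gen 1576 (141, false)),
    (3103, .gen 1576 (141, true)),
    (960, .gen 622 (142, true)),
    (645, .gen 1886 (138, false)),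
    (421, .gen 1886 (143, true)),
    (165, .gen 3124 (142, false)),
    (869, .gen 2984 (141, true)),
    (2767, .gen 2984 (142, false)),
    (2979, .gen 2984 (143, true)),
    (2518, .gen 2437 (142, false)),
    (1209, .gen 2437 (143, false)),
    (3387, .gen 2437 (143, true)),
    (2647, .gen 3610 (138, false)),
    (937, .gen 3610 (143, false)),
    (1548, .gen 3692 (142, false)),
    (3544, .gen 3692 (143, false)),
    (393, .gen 3692 (143, true)),
    (2989, .gen 724 (143, false)),
    (2275, .gen 724 (143, true)),
    (2985, .gen 2913 (138, false)),
    (1805, .gen 2913 (143, false)),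
    (138, .gen 2913 (143, true)),
    (3228, .gen 2765 (142, true)),
    (3317, .gen 3457 (138, false)),
    (1040, .gen 3457 (143, false)),
    (621, .gen 3457 (143, true)),
    (2382, .gen 3467 (140, false)),
    (3594, .gen 3292 (138, false)),
    (1432, .gen 3292 (140, false)),
    (1615, .gen 3292 (141, true)),
    (242, .gen 1536 (142, true)),
    (942, .gen 1758 (138, false)),
    (1191, .gen 1758 (140, false)),
    (798, .gen 1758 (141, true)),
    (1000, .gen 1758 (142, true)),
    (3668, .gen 1034 (143, true)),
    (1985, .gen 908 (143, false)),
    (2498, .gen 908 (143, true)),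
    (3106, .gen 3395 (138, false)),
    (2192, .gen 3395 (139, false)),
    (376, .gen 3395 (141, true)),
    (2459, .gen 3395 (142, false)),
    (338, .gen 3395 (142, true)),
    (2886, .gen 1875 (138, false)),
    (583, .gen 1875 (139, false)),
    (2345, .gen 1875 (140, false)),
    (1626, .gen 1875 (141, false)),
    (3092, .gen 1875 (141, true)),
    (2944, .gen 1875 (142, false)),
    (2751, .gen 1875 (143, true)),
    (1782, .gen 383 (142, false)),
    (245, .gen 383 (143, false)),
    (3738, .gen 3703 (142, false)),
    (898, .gen 3703 (143, true)),
    (2712, .gen 1241 (143, false)),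
    (3320, .gen 1241 (143, true)),
    (1912, .gen 3077 (139, false)),
    (1154, .gen 3077 (141, false)),
    (2278, .gen 3077 (142, false)),
    (3475, .gen 3077 (142, true)),
    (2754, .gen 1340 (142, true)),
    (2121, .gen 3405 (143, false)),
    (1911, .gen 2007 (142, true)),
    (1858, .gen 1227 (142, false)),
    (1346, .gen 1227 (143, false)),
    (1351, .gen 2356 (142, false)),
    (2295, .gen 1328 (143, false)),
    (2131, .gen 2041 (142, true)),
    (423, .gen 337 (138, false)),
    (291, .gen 337 (143, false)),
    (2273, .gen 337 (143, true)),
    (2404, .gen 3660 (138, false)),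
    (2175, .gen 3660 (141, false)),
    (2388, .gen 3660 (141, true)),
    (387, .gen 1749 (141, false)),
    (2068, .gen 1749 (141, true)),
    (567, .gen 1749 (142, false)),
    (2177, .gen 1749 (143, true)),
    (2609, .gen 2014 (143, true)),
    (1650, .gen 358 (140, false)),
    (2060, .gen 358 (141, false)),
    (1492, .gen 358 (141, true)),
    (2141, .gen 358 (142, true)),
    (1691, .gen 947 (142, false)),
    (2725, .gen 947 (143, true))]

/-- Visits. -/
def v10_3 : List (ℕ × Src) :=
  [(2140, .gen 1431 (142, true)),
    (39, .gen 1342 (142, false)),
    (950, .gen 1342 (143, false)),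
    (3601, .gen 1342 (143, true)),
    (1780, .gen 1418 (142, true)),
    (2854, .gen 2325 (138, false)),
    (2156, .gen 2325 (142, true)),
    (706, .gen 346 (142, true)),
    (2575, .gen 1142 (138, false)),
    (1630, .gen 1142 (143, false)),
    (2590, .gen 2598 (142, false)),
    (2931, .gen 2598 (143, false)),
    (760, .gen 2598 (143, true)),
    (3472, .gen 3170 (142, true)),
    (1138, .gen 3059 (142, true)),
    (3476, .gen 1451 (142, true)),
    (3456, .gen 2178 (138, false)),
    (2191, .gen 2178 (143, false)),
    (705, .gen 2514 (142, false)),
    (2816, .gen 2514 (143, false)),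
    (590, .gen 2514 (143, true)),
    (3301, .gen 670 (138, false)),
    (2186, .gen 670 (143, false)),
    (2154, .gen 670 (143, true)),
    (388, .gen 1339 (138, false)),
    (2271, .gen 1339 (139, false)),
    (2299, .gen 1339 (140, false)),
    (1823, .gen 1339 (141, false)),
    (2206, .gen 1339 (141, true)),
    (678, .gen 1339 (142, false)),
    (993, .gen 1339 (142, true)),
    (2411, .gen 1339 (143, false)),
    (1847, .gen 1531 (138, false)),
    (1711, .gen 1531 (139, false)),
    (1803, .gen 1531 (140, false)),
    (599, .gen 1531 (141, false)),
    (2694, .gen 1531 (141, true)),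
    (3113, .gen 1531 (142, false)),
    (2277, .gen 1531 (142, true)),
    (379, .gen 1531 (143, true)),
    (626, .gen 693 (142, false)),
    (1038, .gen 693 (143, false)),
    (1816, .gen 693 (143, true)),
    (3116, .gen 3780 (142, false)),
    (697, .gen 3780 (143, false)),
    (843, .gen 3780 (143, true)),
    (1206, .gen 3538 (138, false)),
    (1514, .gen 3538 (143, false)),
    (3643, .gen 3538 (143, true)),
    (1100, .gen 3016 (138, false)),
    (1901, .gen 3016 (139, false)),
    (1794, .gen 3016 (140, false)),
    (2126, .gen 3016 (141, false)),
    (2439, .gen 3016 (141, true)),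
    (2729, .gen 3016 (142, false)),
    (3579, .gen 3016 (142, true)),
    (2123, .gen 2023 (138, false)),
    (2488, .gen 2023 (139, false)),
    (126, .gen 2023 (140, false)),
    (1065, .gen 2023 (141, false)),
    (116, .gen 2023 (141, true)),
    (2036, .gen 2023 (142, false)),
    (3530, .gen 2023 (142, true)),
    (2452, .gen 2023 (143, true)),
    (842, .gen 236 (142, true)),
    (1657, .gen 1549 (138, false)),
    (417, .gen 1549 (143, false)),
    (2222, .gen 1549 (143, true)),
    (3568, .gen 709 (141, true)),
    (3545, .gen 709 (142, false)),
    (1359, .gen 709 (143, true)),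
    (2920, .gen 2380 (142, false)),
    (2927, .gen 2380 (143, false)),
    (1788, .gen 2380 (143, true)),
    (179, .gen 3647 (138, false)),
    (3246, .gen 3647 (143, false)),
    (2659, .gen 1114 (142, false)),
    (2469, .gen 1114 (143, false)),
    (2870, .gen 1114 (143, true)),
    (2619, .gen 2475 (138, false)),
    (2008, .gen 2475 (143, false)),
    (2129, .gen 2475 (143, true)),
    (3048, .gen 3358 (138, false)),
    (3720, .gen 3358 (143, false)),
    (1544, .gen 3358 (143, true)),
    (2063, .gen 2674 (138, false)),
    (2775, .gen 2674 (140, false)),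
    (1373, .gen 2674 (141, false)),
    (2638, .gen 2674 (141, true)),
    (1336, .gen 2674 (142, true)),
    (1256, .gen 3195 (138, false)),
    (1834, .gen 3195 (139, false)),
    (67, .gen 3195 (140, false)),
    (3699, .gen 3195 (141, false)),
    (1216, .gen 3195 (141, true)),
    (3571, .gen 3195 (142, false)),
    (1591, .gen 3195 (142, true)),
    (2718, .gen 3195 (143, true)),
    (1134, .gen 280 (141, false)),
    (3624, .gen 280 (142, false)),
    (432, .gen 280 (142, true)),
    (3345, .gen 280 (143, false)),
    (3058, .gen 280 (143, true)),
    (715, .gen 2435 (138, false)),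
    (1882, .gen 2435 (140, false)),
    (3215, .gen 2435 (141, false)),
    (538, .gen 2435 (141, true)),
    (3149, .gen 2435 (142, true)),
    (1533, .gen 1476 (142, true)),
    (1343, .gen 689 (142, false)),
    (684, .gen 689 (143, false)),
    (212, .gen 689 (143, true)),
    (708, .gen 710 (143, false)),
    (1645, .gen 710 (143, true)),
    (7, .gen 3581 (138, false)),
    (802, .gen 3581 (140, false)),
    (1647, .gen 3581 (141, true)),
    (3555, .gen 3581 (142, false)),
    (2283, .gen 3581 (142, true)),
    (2330, .gen 2104 (138, false)),
    (2832, .gen 2104 (139, false)),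
    (3104, .gen 2104 (140, false)),
    (2611, .gen 2104 (141, false)),
    (286, .gen 2104 (141, true)),
    (1765, .gen 2104 (142, false)),
    (527, .gen 2104 (142, true)),
    (1299, .gen 2104 (143, true)),
    (3637, .gen 3730 (142, false)),
    (1480, .gen 3730 (143, false)),
    (2520, .gen 3730 (143, true)),
    (3432, .gen 2132 (142, false)),
    (1420, .gen 2132 (143, false)),
    (2003, .gen 2132 (143, true)),
    (3611, .gen 3049 (140, false)),
    (2559, .gen 3049 (143, false)),
    (229, .gen 3049 (143, true)),
    (1347, .gen 2797 (138, false)),
    (3277, .gen 2797 (143, false)),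
    (3280, .gen 2797 (143, true)),
    (1855, .gen 3556 (138, false)),
    (3782, .gen 3556 (139, false)),
    (2558, .gen 3556 (140, false)),
    (2424, .gen 3556 (141, false)),
    (2885, .gen 3556 (141, true)),
    (1044, .gen 3556 (142, false)),
    (1596, .gen 3556 (142, true)),
    (1348, .gen 2324 (138, false)),
    (1217, .gen 2324 (139, false)),
    (2874, .gen 2324 (140, false)),
    (2204, .gen 2324 (141, false)),
    (40, .gen 2324 (141, true)),
    (1049, .gen 2324 (142, false)),
    (1334, .gen 2324 (142, true)),
    (3674, .gen 2324 (143, true)),
    (1741, .gen 2310 (138, false)),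
    (161, .gen 2310 (143, false)),
    (2250, .gen 3657 (142, true)),
    (2019, .gen 1284 (142, false)),
    (2017, .gen 1284 (143, false)),
    (1845, .gen 1284 (143, true)),
    (3585, .gen 3260 (143, false)),
    (3256, .gen 2573 (142, false)),
    (2346, .gen 2573 (143, false)),
    (3346, .gen 2573 (143, true)),
    (1180, .gen 2535 (138, false)),
    (1621, .gen 2535 (143, false)),
    (2002, .gen 3304 (143, false)),
    (865, .gen 3304 (143, true)),
    (800, .gen 2384 (138, false)),
    (93, .gen 2384 (140, false)),
    (1563, .gen 2384 (141, false)),
    (913, .gen 2384 (141, true)),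
    (982, .gen 2384 (142, true)),
    (1682, .gen 60 (138, false)),
    (888, .gen 60 (139, false)),
    (730, .gen 60 (140, false)),
    (2911, .gen 60 (141, false)),
    (918, .gen 60 (141, true)),
    (3204, .gen 60 (142, false)),
    (1491, .gen 60 (142, true)),
    (3372, .gen 60 (143, true)),
    (3061, .gen 2457 (142, false)),
    (691, .gen 2457 (142, true)),
    (820, .gen 86 (138, false)),
    (3020, .gen 86 (140, false)),
    (3281, .gen 86 (141, false)),
    (2635, .gen 86 (141, true)),
    (1232, .gen 86 (142, true)),
    (321, .gen 3110 (138, false)),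
    (3497, .gen 3110 (139, false)),
    (1449, .gen 3110 (140, false)),
    (2544, .gen 3110 (141, false)),
    (246, .gen 3110 (141, true)),
    (1530, .gen 3110 (142, false)),
    (2170, .gen 3110 (142, true)),
    (1407, .gen 628 (138, false)),
    (2504, .gen 628 (140, false)),
    (2337, .gen 628 (141, false)),
    (595, .gen 628 (141, true)),
    (1776, .gen 628 (142, true)),
    (974, .gen 911 (142, true)),
    (3753, .gen 3540 (142, true)),
    (1058, .gen 2554 (142, false)),
    (3160, .gen 2554 (143, false)),
    (2451, .gen 2554 (143, true)),
    (3188, .gen 3632 (138, false)),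
    (3740, .gen 3632 (143, false)),
    (445, .gen 1094 (143, false)),
    (308, .gen 1094 (143, true)),
    (413, .gen 1826 (138, false)),
    (1475, .gen 1826 (139, false)),
    (3355, .gen 1826 (140, false)),
    (2077, .gen 1826 (141, false)),
    (1643, .gen 1826 (141, true)),
    (2500, .gen 1826 (142, false)),
    (259, .gen 1826 (142, true)),
    (1456, .gen 2687 (138, false)),
    (1098, .gen 2687 (139, false)),
    (2360, .gen 2687 (140, false)),
    (2308, .gen 2687 (141, false)),
    (3552, .gen 2687 (141, true)),
    (773, .gen 2687 (142, false)),
    (955, .gen 2687 (142, true)),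
    (868, .gen 2687 (143, true)),
    (3, .gen 3114 (138, false)),
    (564, .gen 3114 (143, false)),
    (713, .gen 340 (143, false)),
    (84, .gen 3673 (138, false)),
    (2433, .gen 3673 (143, false)),
    (2209, .gen 1627 (142, false)),
    (2434, .gen 1627 (143, true)),
    (409, .gen 2427 (138, false)),
    (1945, .gen 2427 (140, false)),
    (2293, .gen 2427 (141, false)),
    (1330, .gen 2427 (141, true)),
    (2302, .gen 2427 (142, true)),
    (327, .gen 335 (141, false)),
    (3739, .gen 335 (142, true)),
    (1856, .gen 3145 (139, false)),
    (2472, .gen 3145 (140, false)),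
    (361, .gen 3145 (141, false)),
    (3201, .gen 3145 (141, true)),
    (844, .gen 3145 (142, false)),
    (19, .gen 3145 (142, true)),
    (2460, .gen 3145 (143, false)),
    (2448, .gen 1924 (138, false)),
    (1402, .gen 1924 (139, false)),
    (3295, .gen 1924 (140, false)),
    (2803, .gen 1924 (141, false)),
    (2755, .gen 1924 (141, true)),
    (261, .gen 1924 (142, false)),
    (104, .gen 1924 (142, true)),
    (6, .gen 729 (139, false)),
    (287, .gen 729 (140, false)),
    (586, .gen 729 (141, false)),
    (1828, .gen 729 (142, false)),
    (977, .gen 729 (142, true)),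
    (367, .gen 729 (143, false)),
    (1995, .gen 729 (143, true)),
    (82, .gen 2091 (140, false)),
    (2386, .gen 2091 (142, false)),
    (2634, .gen 2091 (143, true)),
    (200, .gen 3373 (141, false)),
    (1245, .gen 3373 (141, true)),
    (1467, .gen 3373 (142, false)),
    (1594, .gen 3373 (142, true)),
    (2217, .gen 3373 (143, false)),
    (1838, .gen 3373 (143, true)),
    (38, .gen 2391 (138, false)),
    (1135, .gen 2391 (140, false)),
    (3693, .gen 2391 (142, false)),
    (1187, .gen 2468 (138, false)),
    (2374, .gen 2468 (140, false)),
    (3400, .gen 2468 (142, false)),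
    (3078, .gen 2468 (142, true)),
    (2686, .gen 2468 (143, false)),
    (3526, .gen 2468 (143, true)),
    (521, .gen 3393 (138, false)),
    (3667, .gen 3393 (142, false)),
    (3639, .gen 3393 (143, false)),
    (1395, .gen 3393 (143, true)),
    (5, .gen 406 (138, false)),
    (3028, .gen 406 (143, false)),
    (3115, .gen 3778 (139, false)),
    (1907, .gen 3778 (140, false)),
    (1089, .gen 3778 (141, false)),
    (2492, .gen 3778 (142, false)),
    (778, .gen 3778 (143, false)),
    (2513, .gen 3778 (143, true)),
    (2998, .gen 1763 (140, false)),
    (456, .gen 1763 (141, false)),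
    (1829, .gen 1763 (141, true)),
    (1262, .gen 1763 (142, false)),
    (1766, .gen 1763 (143, false)),
    (1922, .gen 1763 (143, true)),
    (1781, .gen 2800 (141, false)),
    (2586, .gen 2800 (142, false)),
    (3766, .gen 2800 (142, true)),
    (1684, .gen 2800 (143, false)),
    (1368, .gen 2800 (143, true))]

/-- Visits. -/
def v10_4 : List (ℕ × Src) :=
  [(3108, .gen 20 (142, false)),
    (995, .gen 20 (142, true)),
    (1033, .gen 20 (143, false)),
    (857, .gen 20 (143, true)),
    (3265, .gen 3067 (138, false)),
    (1757, .gen 3067 (142, false)),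
    (2202, .gen 3067 (142, true)),
    (2557, .gen 3042 (142, false)),
    (3235, .gen 3042 (143, false)),
    (90, .gen 3042 (143, true)),
    (3680, .gen 1652 (138, false)),
    (1438, .gen 1652 (143, false)),
    (3172, .gen 1652 (143, true)),
    (1255, .gen 779 (141, true)),
    (352, .gen 779 (142, true)),
    (1702, .gen 2200 (143, false)),
    (690, .gen 1140 (139, false)),
    (353, .gen 1140 (141, true)),
    (892, .gen 1140 (142, false)),
    (1623, .gen 1140 (142, true)),
    (3169, .gen 1934 (138, false)),
    (2176, .gen 1934 (139, false)),
    (694, .gen 1934 (141, false)),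
    (1458, .gen 1934 (141, true)),
    (914, .gen 1934 (142, true)),
    (481, .gen 3238 (138, false)),
    (3726, .gen 3238 (140, false)),
    (61, .gen 3238 (142, true)),
    (537, .gen 1840 (139, false)),
    (1321, .gen 1840 (141, true)),
    (2096, .gen 1840 (142, false)),
    (1162, .gen 1840 (142, true)),
    (2088, .gen 624 (142, true)),
    (1001, .gen 1970 (138, false)),
    (2624, .gen 1970 (139, false)),
    (1338, .gen 1970 (141, false)),
    (745, .gen 1970 (142, false)),
    (1344, .gen 1970 (142, true)),
    (1495, .gen 2405 (138, false)),
    (1171, .gen 2405 (141, true)),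
    (2215, .gen 2405 (142, true)),
    (1447, .gen 158 (142, false)),
    (769, .gen 158 (143, false)),
    (1663, .gen 158 (143, true)),
    (2467, .gen 210 (141, false)),
    (559, .gen 210 (141, true)),
    (2419, .gen 210 (142, false)),
    (2213, .gen 210 (143, false)),
    (2809, .gen 210 (143, true)),
    (2630, .gen 3504 (142, true)),
    (1579, .gen 3529 (138, false)),
    (1059, .gen 3529 (142, true)),
    (1333, .gen 3529 (143, true)),
    (3334, .gen 2902 (138, false)),
    (435, .gen 2902 (142, true)),
    (1745, .gen 2902 (143, true)),
    (487, .gen 2400 (138, false)),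
    (3485, .gen 2400 (143, false)),
    (683, .gen 2400 (143, true)),
    (1069, .gen 2641 (142, false)),
    (2510, .gen 2641 (143, false)),
    (794, .gen 2641 (143, true)),
    (3669, .gen 3503 (141, false)),
    (3675, .gen 3503 (142, false)),
    (2486, .gen 3503 (143, false)),
    (1611, .gen 3503 (143, true)),
    (3684, .gen 2465 (142, true)),
    (3510, .gen 2465 (143, false)),
    (1913, .gen 2465 (143, true)),
    (1267, .gen 2195 (142, false)),
    (3784, .gen 2195 (142, true)),
    (1263, .gen 2195 (143, true)),
    (1429, .gen 1997 (138, false)),
    (3576, .gen 1997 (142, false)),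
    (1830, .gen 1997 (142, true)),
    (3318, .gen 1997 (143, false)),
    (500, .gen 1997 (143, true)),
    (474, .gen 3025 (142, false)),
    (3158, .gen 3025 (143, false)),
    (581, .gen 3025 (143, true)),
    (2312, .gen 1959 (138, false)),
    (3171, .gen 1959 (143, false)),
    (1866, .gen 1959 (143, true)),
    (1175, .gen 1519 (142, true)),
    (108, .gen 588 (142, false)),
    (874, .gen 588 (143, true)),
    (3431, .gen 3578 (142, true)),
    (262, .gen 3578 (143, false)),
    (663, .gen 1074 (141, false)),
    (575, .gen 1074 (142, true)),
    (675, .gen 1118 (139, false)),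
    (1503, .gen 1118 (141, false)),
    (1392, .gen 1118 (142, false)),
    (415, .gen 1118 (142, true)),
    (1954, .gen 10 (142, false)),
    (2161, .gen 10 (143, true)),
    (422, .gen 1201 (138, false)),
    (2358, .gen 1201 (141, false)),
    (2241, .gen 1201 (142, true)),
    (613, .gen 811 (142, false)),
    (1225, .gen 811 (143, false)),
    (3607, .gen 811 (143, true)),
    (496, .gen 2663 (141, false)),
    (3098, .gen 2663 (142, true)),
    (3168, .gen 2294 (138, false)),
    (3715, .gen 2294 (141, false)),
    (3252, .gen 2294 (141, true)),
    (658, .gen 2294 (142, true)),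
    (2032, .gen 1377 (138, false)),
    (3676, .gen 1377 (142, false)),
    (266, .gen 1377 (143, false)),
    (207, .gen 1377 (143, true)),
    (1926, .gen 952 (138, false)),
    (2263, .gen 952 (139, false)),
    (3329, .gen 952 (140, false)),
    (1305, .gen 952 (141, false)),
    (2413, .gen 952 (141, true)),
    (2064, .gen 952 (142, false)),
    (849, .gen 952 (142, true)),
    (642, .gen 3490 (138, false)),
    (3258, .gen 3490 (139, false)),
    (3229, .gen 3490 (140, false)),
    (1425, .gen 3490 (141, false)),
    (1577, .gen 3490 (141, true)),
    (840, .gen 3490 (142, false)),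
    (1773, .gen 3490 (143, true)),
    (249, .gen 785 (142, false)),
    (2107, .gen 785 (143, false)),
    (1083, .gen 785 (143, true)),
    (2347, .gen 847 (142, true)),
    (2657, .gen 3641 (142, true)),
    (3262, .gen 3641 (143, false)),
    (1439, .gen 2407 (138, false)),
    (1045, .gen 2407 (142, true)),
    (2669, .gen 2407 (143, false)),
    (2679, .gen 3786 (138, false)),
    (443, .gen 3786 (143, false)),
    (2429, .gen 3786 (143, true)),
    (117, .gen 2633 (142, true)),
    (2999, .gen 845 (138, false)),
    (1842, .gen 845 (140, false)),
    (3005, .gen 845 (141, false)),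
    (1428, .gen 845 (141, true)),
    (1235, .gen 845 (142, true)),
    (656, .gen 863 (139, false)),
    (1484, .gen 863 (142, false)),
    (1885, .gen 863 (142, true)),
    (3464, .gen 863 (143, true)),
    (3713, .gen 3648 (142, false)),
    (2644, .gen 827 (142, false)),
    (1319, .gen 1651 (140, false)),
    (3350, .gen 1651 (142, false)),
    (2572, .gen 1651 (143, true)),
    (3655, .gen 2223 (142, false)),
    (989, .gen 2223 (143, false)),
    (3086, .gen 2223 (143, true)),
    (2166, .gen 637 (138, false)),
    (1205, .gen 1041 (140, false)),
    (1987, .gen 1041 (141, false)),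
    (1747, .gen 1041 (142, false)),
    (508, .gen 1041 (143, true)),
    (1390, .gen 2934 (140, false)),
    (523, .gen 2934 (141, false)),
    (477, .gen 2934 (141, true)),
    (3765, .gen 2934 (142, false)),
    (3516, .gen 2934 (143, false)),
    (979, .gen 2934 (143, true)),
    (3311, .gen 2808 (141, false)),
    (2532, .gen 2808 (142, true)),
    (2975, .gen 2808 (143, true)),
    (1641, .gen 29 (140, false)),
    (1878, .gen 29 (142, false)),
    (2145, .gen 29 (142, true)),
    (1030, .gen 29 (143, true)),
    (2744, .gen 2553 (140, false)),
    (762, .gen 2553 (142, false)),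
    (1050, .gen 2553 (142, true)),
    (2949, .gen 1103 (142, false)),
    (3298, .gen 1103 (143, false)),
    (1509, .gen 1103 (143, true)),
    (3547, .gen 416 (138, false)),
    (3761, .gen 416 (143, true)),
    (3460, .gen 35 (142, true)),
    (3750, .gen 2778 (143, false)),
    (354, .gen 2993 (141, false)),
    (688, .gen 2993 (141, true)),
    (618, .gen 2993 (142, false)),
    (1597, .gen 2993 (142, true)),
    (2702, .gen 2340 (142, true)),
    (1282, .gen 1528 (138, false)),
    (3380, .gen 1528 (139, false)),
    (2646, .gen 1528 (141, false)),
    (1865, .gen 1528 (141, true)),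
    (3543, .gen 1528 (142, false)),
    (3173, .gen 1528 (142, true)),
    (1888, .gen 978 (138, false)),
    (3176, .gen 978 (139, false)),
    (1011, .gen 978 (140, false)),
    (1966, .gen 978 (141, true)),
    (1891, .gen 978 (142, false)),
    (1708, .gen 978 (142, true)),
    (2238, .gen 1470 (142, false)),
    (3224, .gen 1470 (143, false)),
    (3344, .gen 1470 (143, true)),
    (2709, .gen 3200 (141, false)),
    (2847, .gen 3200 (141, true)),
    (3625, .gen 3200 (142, false)),
    (2174, .gen 3200 (143, false)),
    (757, .gen 3200 (143, true)),
    (750, .gen 3011 (142, true)),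
    (95, .gen 3596 (138, false)),
    (2719, .gen 3596 (142, true)),
    (312, .gen 3525 (142, true)),
    (3742, .gen 2158 (142, false)),
    (1287, .gen 2158 (143, true)),
    (70, .gen 1902 (138, false)),
    (1785, .gen 1902 (143, false)),
    (2730, .gen 2142 (142, false)),
    (819, .gen 2142 (143, true)),
    (3600, .gen 256 (141, false)),
    (283, .gen 256 (141, true)),
    (3257, .gen 256 (142, false)),
    (980, .gen 256 (143, false)),
    (2402, .gen 256 (143, true)),
    (1250, .gen 3783 (142, true)),
    (2883, .gen 3783 (143, false)),
    (880, .gen 2012 (142, true)),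
    (1123, .gen 2012 (143, false)),
    (2190, .gen 1107 (138, false)),
    (1612, .gen 1107 (142, false)),
    (2701, .gen 1107 (142, true)),
    (3286, .gen 1107 (143, false)),
    (1385, .gen 1996 (142, false)),
    (1863, .gen 1996 (143, true)),
    (650, .gen 1592 (143, false)),
    (2858, .gen 1592 (143, true)),
    (2319, .gen 333 (142, false)),
    (2753, .gen 333 (143, true)),
    (2203, .gen 2595 (142, true)),
    (3177, .gen 1341 (143, false)),
    (1117, .gen 1804 (139, false)),
    (294, .gen 1804 (142, true)),
    (841, .gen 3308 (141, true)),
    (225, .gen 3308 (142, true)),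
    (551, .gen 1944 (142, false)),
    (1755, .gen 3719 (138, false)),
    (2603, .gen 3719 (141, true)),
    (677, .gen 3719 (142, true)),
    (1223, .gen 2608 (143, false)),
    (963, .gen 2570 (138, false)),
    (3500, .gen 2570 (141, false)),
    (943, .gen 2570 (142, true)),
    (1870, .gen 893 (139, false)),
    (3245, .gen 893 (141, true)),
    (3091, .gen 893 (142, false)),
    (1679, .gen 893 (142, true)),
    (2862, .gen 2276 (142, false)),
    (2159, .gen 2276 (143, true)),
    (1545, .gen 3708 (142, true)),
    (1860, .gen 912 (138, false)),
    (2430, .gen 912 (140, false)),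
    (1298, .gen 912 (141, false)),
    (482, .gen 912 (142, true)),
    (2793, .gen 2236 (138, false)),
    (3776, .gen 2236 (141, false)),
    (1434, .gen 2236 (141, true)),
    (2095, .gen 2236 (142, true)),
    (43, .gen 325 (143, false)),
    (434, .gen 325 (143, true)),
    (1473, .gen 3056 (142, true)),
    (3322, .gen 2613 (142, true)),
    (1443, .gen 3725 (142, true)),
    (1876, .gen 1557 (138, false)),
    (3493, .gen 1557 (143, false)),
    (2821, .gen 3478 (142, false)),
    (716, .gen 3478 (143, true)),
    (3302, .gen 2743 (142, false)),
    (894, .gen 2743 (143, true)),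
    (2869, .gen 448 (142, true)),
    (2270, .gen 749 (142, true)),
    (351, .gen 2480 (142, false)),
    (1859, .gen 2480 (142, true)),
    (1019, .gen 2355 (142, false)),
    (1265, .gen 2355 (143, true)),
    (2596, .gen 787 (138, false)),
    (101, .gen 787 (143, false)),
    (503, .gen 2506 (143, false)),
    (994, .gen 2506 (143, true)),
    (1149, .gen 2376 (138, false)),
    (2957, .gen 2376 (140, false)),
    (231, .gen 3185 (140, false)),
    (2490, .gen 3185 (141, false)),
    (3162, .gen 3185 (141, true)),
    (3541, .gen 3185 (142, false)),
    (3152, .gen 159 (142, false)),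
    (1277, .gen 159 (143, false)),
    (520, .gen 159 (143, true)),
    (2010, .gen 281 (142, true)),
    (639, .gen 2212 (142, true)),
    (3479, .gen 1383 (142, true))]

/-- Visits. -/
def v10_5 : List (ℕ × Src) :=
  [(3685, .gen 1806 (143, false)),
    (1943, .gen 3180 (143, true)),
    (3469, .gen 518 (138, false)),
    (1406, .gen 518 (140, false)),
    (954, .gen 518 (142, true)),
    (2075, .gen 2637 (138, false)),
    (1653, .gen 2637 (140, false)),
    (334, .gen 2637 (141, false)),
    (1081, .gen 3279 (143, false)),
    (3112, .gen 2939 (142, false)),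
    (1378, .gen 2723 (142, false)),
    (2714, .gen 3714 (138, false)),
    (2859, .gen 3714 (140, false)),
    (3760, .gen 3714 (141, false)),
    (2523, .gen 3714 (142, true)),
    (594, .gen 1362 (139, false)),
    (1356, .gen 1362 (142, false)),
    (1230, .gen 1362 (142, true)),
    (2471, .gen 1362 (143, false)),
    (1166, .gen 3444 (140, false)),
    (2946, .gen 2652 (143, true)),
    (2614, .gen 85 (140, false)),
    (904, .gen 3666 (143, false)),
    (812, .gen 961 (142, true)),
    (2715, .gen 961 (143, false)),
    (1427, .gen 961 (143, true)),
    (1740, .gen 3371 (143, false)),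
    (2919, .gen 2903 (138, false)),
    (1386, .gen 2903 (142, true)),
    (391, .gen 910 (142, false)),
    (1713, .gen 349 (142, true)),
    (1023, .gen 1310 (139, false)),
    (109, .gen 1310 (142, false)),
    (3455, .gen 2683 (142, false)),
    (1297, .gen 3560 (142, false)),
    (389, .gen 2538 (142, false)),
    (771, .gen 1915 (138, false)),
    (3495, .gen 1915 (141, false)),
    (149, .gen 1915 (142, true)),
    (3422, .gen 426 (142, false)),
    (3772, .gen 2981 (142, false)),
    (2229, .gen 2981 (143, false)),
    (3299, .gen 2408 (141, false)),
    (2115, .gen 3749 (142, false)),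
    (3210, .gen 2117 (142, false)),
    (2260, .gen 649 (142, false)),
    (1096, .gen 2207 (138, false)),
    (1170, .gen 1382 (142, false)),
    (631, .gen 1382 (143, true)),
    (8, .gen 1251 (141, true)),
    (1394, .gen 1867 (141, false)),
    (1337, .gen 220 (142, false)),
    (1290, .gen 3076 (142, false)),
    (2857, .gen 1864 (138, false)),
    (883, .gen 1864 (141, false)),
    (190, .gen 1864 (141, true)),
    (1350, .gen 1864 (142, true)),
    (3362, .gen 1681 (143, false)),
    (669, .gen 1681 (143, true)),
    (1930, .gen 183 (143, false)),
    (3792, .gen 183 (143, true)),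
    (428, .gen 2502 (142, true)),
    (2995, .gen 674 (142, true)),
    (3349, .gen 2087 (138, false)),
    (976, .gen 2422 (139, false)),
    (1868, .gen 2422 (141, true)),
    (1161, .gen 2422 (142, true)),
    (1586, .gen 437 (143, false)),
    (903, .gen 2357 (142, false)),
    (3557, .gen 2357 (143, true)),
    (2499, .gen 2366 (142, true)),
    (1616, .gen 2450 (142, true)),
    (2649, .gen 2937 (138, false)),
    (817, .gen 2937 (143, false)),
    (1186, .gen 285 (138, false)),
    (809, .gen 285 (140, false)),
    (1252, .gen 285 (141, false)),
    (836, .gen 452 (142, false)),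
    (3514, .gen 1569 (141, false)),
    (2904, .gen 1569 (141, true)),
    (2313, .gen 1569 (142, false)),
    (563, .gen 2258 (143, true)),
    (1726, .gen 1969 (142, true)),
    (692, .gen 3686 (142, false)),
    (782, .gen 3686 (142, true)),
    (1185, .gen 3686 (143, false)),
    (3212, .gen 1501 (142, false)),
    (2428, .gen 1501 (143, true)),
    (2255, .gen 2785 (143, false)),
    (2606, .gen 2525 (141, false)),
    (1961, .gen 2525 (141, true)),
    (3363, .gen 2525 (143, false)),
    (3364, .gen 2739 (142, true)),
    (271, .gen 1022 (142, false)),
    (2309, .gen 1022 (143, false)),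
    (957, .gen 1022 (143, true)),
    (2693, .gen 731 (143, false)),
    (1024, .gen 731 (143, true)),
    (2779, .gen 2708 (143, false)),
    (215, .gen 2708 (143, true)),
    (400, .gen 2763 (143, false)),
    (1802, .gen 2763 (143, true)),
    (1585, .gen 2807 (138, false)),
    (1665, .gen 2807 (143, false)),
    (398, .gen 2807 (143, true)),
    (96, .gen 3186 (139, false)),
    (1999, .gen 3186 (141, false)),
    (1900, .gen 3186 (141, true)),
    (1669, .gen 3186 (142, false)),
    (127, .gen 2675 (138, false)),
    (1331, .gen 711 (142, false)),
    (2086, .gen 711 (143, true)),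
    (1273, .gen 2153 (143, false)),
    (2485, .gen 1850 (142, false)),
    (1323, .gen 1850 (143, false)),
    (2817, .gen 1883 (142, false)),
    (1452, .gen 1883 (142, true)),
    (3242, .gen 1883 (143, true)),
    (3166, .gen 2568 (140, false)),
    (752, .gen 2568 (141, false)),
    (2918, .gen 2568 (142, true)),
    (2339, .gen 1989 (143, false)),
    (1037, .gen 1989 (143, true)),
    (3564, .gen 550 (142, true)),
    (1566, .gen 3002 (143, true)),
    (56, .gen 679 (138, false)),
    (2737, .gen 679 (143, false)),
    (317, .gen 679 (143, true)),
    (3450, .gen 439 (138, false)),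
    (3310, .gen 439 (141, true)),
    (1678, .gen 3446 (138, false)),
    (1471, .gen 3446 (140, false)),
    (2551, .gen 3446 (142, true)),
    (2579, .gen 1301 (142, false)),
    (2616, .gen 1301 (143, false)),
    (3549, .gen 1301 (143, true)),
    (2128, .gen 3499 (141, false)),
    (365, .gen 3499 (142, false)),
    (2736, .gen 927 (138, false)),
    (322, .gen 927 (143, false)),
    (1197, .gen 2332 (138, false)),
    (1486, .gen 2332 (142, true)),
    (1372, .gen 776 (138, false)),
    (3788, .gen 776 (143, false)),
    (402, .gen 440 (142, false)),
    (2443, .gen 3507 (139, false)),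
    (2610, .gen 3507 (140, false)),
    (2583, .gen 3507 (141, true)),
    (1479, .gen 2130 (138, false)),
    (1398, .gen 2130 (139, false)),
    (1401, .gen 2130 (141, false)),
    (1572, .gen 2130 (142, true)),
    (823, .gen 3532 (143, false)),
    (1226, .gen 3532 (143, true)),
    (3214, .gen 1496 (138, false)),
    (3787, .gen 1496 (143, false)),
    (1393, .gen 1496 (143, true)),
    (2947, .gen 1261 (138, false)),
    (2139, .gen 1261 (143, false)),
    (996, .gen 1261 (143, true)),
    (3021, .gen 3384 (143, true)),
    (1914, .gen 3328 (143, true)),
    (859, .gen 2727 (143, false)),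
    (2363, .gen 2822 (139, false)),
    (12, .gen 3483 (142, false)),
    (2285, .gen 186 (142, false)),
    (2237, .gen 3151 (143, true)),
    (936, .gen 2690 (141, true)),
    (3251, .gen 2690 (142, false)),
    (2833, .gen 2690 (142, true)),
    (2164, .gen 1714 (143, false)),
    (2333, .gen 1437 (143, false)),
    (3698, .gen 1437 (143, true)),
    (2305, .gen 846 (143, false)),
    (1686, .gen 846 (143, true)),
    (1963, .gen 1696 (141, false)),
    (1571, .gen 1696 (142, true)),
    (1169, .gen 3747 (142, false)),
    (332, .gen 3747 (143, false)),
    (3004, .gen 555 (142, false)),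
    (3496, .gen 3357 (143, true)),
    (1629, .gen 3366 (143, false)),
    (1583, .gen 3366 (143, true)),
    (3352, .gen 2798 (138, false)),
    (1948, .gen 1441 (142, false)),
    (3527, .gen 36 (142, false)),
    (1808, .gen 36 (143, true)),
    (3314, .gen 934 (143, true)),
    (540, .gen 3779 (142, false)),
    (201, .gen 2688 (142, false)),
    (3385, .gen 3567 (138, false)),
    (25, .gen 619 (142, false)),
    (1818, .gen 619 (143, true)),
    (3216, .gen 3231 (138, false)),
    (1421, .gen 3231 (143, false)),
    (58, .gen 3289 (143, false)),
    (3127, .gen 2227 (142, false)),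
    (447, .gen 2227 (143, true)),
    (3034, .gen 301 (141, true)),
    (1881, .gen 129 (138, false)),
    (1779, .gen 2061 (143, false)),
    (3316, .gen 2061 (143, true)),
    (1057, .gen 3642 (143, false)),
    (3386, .gen 1801 (143, false)),
    (733, .gen 3037 (138, false)),
    (1371, .gen 3037 (143, false)),
    (2738, .gen 2668 (142, true)),
    (2409, .gen 833 (142, false)),
    (983, .gen 833 (143, false)),
    (1848, .gen 1464 (138, false)),
    (1992, .gen 1464 (143, false)),
    (2924, .gen 1464 (143, true)),
    (2000, .gen 1183 (142, true)),
    (3079, .gen 172 (138, false)),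
    (1192, .gen 3605 (142, true)),
    (2361, .gen 2820 (138, false)),
    (525, .gen 1091 (143, false)),
    (2605, .gen 1091 (143, true)),
    (2389, .gen 3040 (138, false)),
    (1771, .gen 2134 (141, false)),
    (397, .gen 2134 (141, true)),
    (625, .gen 2134 (142, false)),
    (1177, .gen 2134 (142, true)),
    (2827, .gen 2134 (143, false)),
    (3191, .gen 882 (143, true)),
    (572, .gen 2556 (143, false)),
    (969, .gen 2556 (143, true)),
    (390, .gen 2432 (143, true)),
    (2958, .gen 2447 (138, false)),
    (2009, .gen 2768 (139, false)),
    (635, .gen 2768 (141, false)),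
    (2024, .gen 2530 (143, false)),
    (1502, .gen 175 (141, true)),
    (1817, .gen 175 (142, false)),
    (2181, .gen 2029 (140, false)),
    (791, .gen 885 (138, false)),
    (420, .gen 885 (139, false)),
    (2261, .gen 1523 (142, false)),
    (3376, .gen 3574 (142, true)),
    (1685, .gen 1112 (142, false)),
    (250, .gen 884 (142, false)),
    (99, .gen 884 (143, true)),
    (2136, .gen 1084 (138, false)),
    (644, .gen 2814 (139, false)),
    (1658, .gen 2814 (140, false)),
    (2199, .gen 2814 (142, false)),
    (2593, .gen 2814 (143, true)),
    (368, .gen 2507 (143, true)),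
    (2991, .gen 814 (143, false)),
    (2740, .gen 2865 (143, false)),
    (990, .gen 960 (143, false)),
    (870, .gen 937 (138, false)),
    (2431, .gen 937 (141, true)),
    (1064, .gen 937 (142, true)),
    (2048, .gen 2989 (138, false)),
    (3687, .gen 2989 (140, false)),
    (3404, .gen 2989 (141, false)),
    (3679, .gen 2275 (142, true)),
    (3164, .gen 1040 (138, false)),
    (541, .gen 942 (143, false)),
    (793, .gen 942 (143, true)),
    (3396, .gen 1191 (142, true)),
    (214, .gen 798 (142, true)),
    (1409, .gen 1000 (138, false)),
    (3081, .gen 1000 (143, false)),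
    (2673, .gen 1985 (142, false)),
    (2235, .gen 2498 (139, false)),
    (775, .gen 2498 (141, true)),
    (3414, .gen 2498 (142, false)),
    (1730, .gen 2498 (142, true)),
    (676, .gen 376 (142, false)),
    (3030, .gen 338 (138, false)),
    (114, .gen 2886 (143, true)),
    (657, .gen 583 (141, true)),
    (2697, .gen 1782 (143, false)),
    (2732, .gen 2712 (141, false)),
    (921, .gen 2121 (139, false)),
    (1956, .gen 1346 (139, false)),
    (3294, .gen 2273 (141, false)),
    (3261, .gen 2404 (143, true)),
    (3656, .gen 2609 (142, false)),
    (3621, .gen 2725 (138, false)),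
    (1136, .gen 2725 (139, false)),
    (1327, .gen 2725 (140, false)),
    (1507, .gen 2725 (141, false)),
    (2860, .gen 2725 (141, true)),
    (2370, .gen 2725 (142, true)),
    (2365, .gen 2140 (143, false)),
    (3640, .gen 39 (138, false)),
    (2509, .gen 39 (143, true)),
    (66, .gen 950 (138, false)),
    (661, .gen 950 (139, false)),
    (3757, .gen 950 (140, false)),
    (1384, .gen 950 (141, false)),
    (1391, .gen 950 (141, true)),
    (2353, .gen 950 (142, false)),
    (136, .gen 950 (142, true)),
    (1143, .gen 3601 (138, false)),
    (3663, .gen 3601 (139, false)),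
    (2536, .gen 3601 (140, false))]

/-- Visits. -/
def v10_6 : List (ℕ × Src) :=
  [(3465, .gen 3601 (141, false)),
    (3580, .gen 3601 (141, true)),
    (3434, .gen 3601 (142, false)),
    (382, .gen 3601 (142, true)),
    (230, .gen 3601 (143, true)),
    (476, .gen 1780 (143, false)),
    (2218, .gen 1780 (143, true)),
    (685, .gen 2854 (142, false)),
    (788, .gen 2854 (143, true)),
    (166, .gen 2156 (143, false)),
    (1550, .gen 706 (143, false)),
    (2246, .gen 706 (143, true)),
    (3619, .gen 2575 (142, false)),
    (2456, .gen 1630 (138, false)),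
    (3597, .gen 1630 (140, false)),
    (408, .gen 1630 (141, false)),
    (593, .gen 1630 (141, true)),
    (2963, .gen 1630 (142, true)),
    (282, .gen 2931 (138, false)),
    (1862, .gen 2931 (139, false)),
    (3633, .gen 2931 (140, false)),
    (356, .gen 2931 (141, true)),
    (3284, .gen 2931 (142, false)),
    (562, .gen 2931 (142, true)),
    (2112, .gen 760 (138, false)),
    (2909, .gen 760 (139, false)),
    (1977, .gen 760 (140, false)),
    (923, .gen 760 (141, false)),
    (539, .gen 760 (141, true)),
    (3138, .gen 760 (142, false)),
    (2268, .gen 760 (142, true)),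
    (1998, .gen 760 (143, true)),
    (24, .gen 3472 (143, false)),
    (1827, .gen 1138 (143, false)),
    (2350, .gen 3476 (143, false)),
    (380, .gen 3456 (142, false)),
    (131, .gen 3456 (142, true)),
    (3598, .gen 3456 (143, false)),
    (1092, .gen 3456 (143, true)),
    (1404, .gen 2191 (138, false)),
    (1274, .gen 2191 (140, false)),
    (3731, .gen 2191 (141, false)),
    (958, .gen 2191 (141, true)),
    (2921, .gen 2191 (142, true)),
    (3088, .gen 705 (143, true)),
    (2464, .gen 2816 (138, false)),
    (1807, .gen 2816 (139, false)),
    (2028, .gen 2816 (140, false)),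
    (255, .gen 2816 (141, true)),
    (3135, .gen 2816 (142, false)),
    (3107, .gen 2816 (142, true)),
    (3716, .gen 590 (138, false)),
    (3573, .gen 590 (139, false)),
    (1704, .gen 590 (140, false)),
    (2648, .gen 590 (141, false)),
    (1561, .gen 590 (141, true)),
    (2311, .gen 590 (142, false)),
    (173, .gen 590 (142, true)),
    (2880, .gen 2186 (141, false)),
    (3029, .gen 2154 (138, false)),
    (506, .gen 2154 (139, false)),
    (1269, .gen 2154 (141, false)),
    (3439, .gen 2154 (141, true)),
    (2564, .gen 2154 (142, false)),
    (3441, .gen 2154 (142, true)),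
    (3426, .gen 388 (139, false)),
    (64, .gen 388 (140, false)),
    (1565, .gen 388 (141, false)),
    (1488, .gen 388 (141, true)),
    (3589, .gen 388 (142, false)),
    (3678, .gen 388 (142, true)),
    (553, .gen 388 (143, false)),
    (3264, .gen 388 (143, true)),
    (3603, .gen 2271 (140, false)),
    (71, .gen 2271 (141, false)),
    (3353, .gen 2271 (141, true)),
    (2455, .gen 2271 (142, false)),
    (2881, .gen 2271 (143, false)),
    (2996, .gen 2271 (143, true)),
    (1285, .gen 2299 (141, false)),
    (1165, .gen 2299 (141, true)),
    (1556, .gen 2299 (142, false)),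
    (1062, .gen 2299 (142, true)),
    (702, .gen 2299 (143, false)),
    (135, .gen 1823 (140, false)),
    (3754, .gen 1823 (142, false)),
    (23, .gen 1823 (142, true)),
    (714, .gen 1823 (143, false)),
    (298, .gen 2206 (138, false)),
    (944, .gen 2206 (140, false)),
    (3041, .gen 2206 (142, false)),
    (3705, .gen 2206 (142, true)),
    (2442, .gen 2206 (143, false)),
    (2629, .gen 2206 (143, true)),
    (966, .gen 678 (138, false)),
    (2076, .gen 678 (142, false)),
    (3712, .gen 678 (143, false)),
    (467, .gen 678 (143, true)),
    (2584, .gen 993 (138, false)),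
    (2349, .gen 993 (143, false)),
    (1618, .gen 993 (143, true)),
    (2147, .gen 2411 (142, true)),
    (2211, .gen 2411 (143, false)),
    (1494, .gen 1847 (139, false)),
    (2396, .gen 1847 (140, false)),
    (1147, .gen 1847 (141, false)),
    (2031, .gen 1847 (142, false)),
    (1968, .gen 1847 (143, false)),
    (717, .gen 1847 (143, true)),
    (2286, .gen 1711 (140, false)),
    (3592, .gen 1711 (141, true)),
    (3121, .gen 1711 (143, false)),
    (3001, .gen 1711 (143, true)),
    (2792, .gen 1803 (141, false)),
    (1281, .gen 1803 (142, false)),
    (3068, .gen 1803 (142, true)),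
    (28, .gen 1803 (143, false)),
    (3134, .gen 1803 (143, true)),
    (1, .gen 599 (140, false)),
    (2296, .gen 599 (142, false)),
    (0, .gen 599 (142, true)),
    (267, .gen 599 (143, false)),
    (1884, .gen 599 (143, true)),
    (449, .gen 2694 (138, false)),
    (3182, .gen 2694 (140, false)),
    (1512, .gen 2694 (142, false)),
    (2249, .gen 3113 (138, false)),
    (1460, .gen 3113 (142, false)),
    (2026, .gen 3113 (143, false)),
    (106, .gen 3113 (143, true)),
    (3369, .gen 2277 (143, false)),
    (3356, .gen 2277 (143, true)),
    (2314, .gen 379 (141, true)),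
    (2210, .gen 1038 (138, false)),
    (1700, .gen 1038 (139, false)),
    (2968, .gen 1038 (140, false)),
    (740, .gen 1038 (141, true)),
    (1002, .gen 1038 (142, false)),
    (204, .gen 1038 (142, true)),
    (507, .gen 1816 (138, false)),
    (1789, .gen 1816 (139, false)),
    (3752, .gen 1816 (140, false)),
    (2247, .gen 1816 (141, false)),
    (1008, .gen 1816 (141, true)),
    (2987, .gen 1816 (142, false)),
    (187, .gen 1816 (142, true)),
    (3285, .gen 3116 (138, false)),
    (57, .gen 697 (138, false)),
    (2162, .gen 697 (140, false)),
    (1182, .gen 697 (142, true)),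
    (1683, .gen 843 (142, false)),
    (3591, .gen 1206 (142, true)),
    (1724, .gen 1514 (140, false)),
    (2612, .gen 1514 (143, false)),
    (2052, .gen 3643 (138, false)),
    (2541, .gen 3643 (139, false)),
    (755, .gen 3643 (141, true)),
    (2373, .gen 3643 (142, true)),
    (3671, .gen 1100 (139, false)),
    (1414, .gen 1100 (140, false)),
    (237, .gen 1100 (141, false)),
    (1979, .gen 1100 (142, false)),
    (151, .gen 1100 (142, true)),
    (1971, .gen 1100 (143, true)),
    (999, .gen 1901 (140, false)),
    (1131, .gen 1901 (141, false)),
    (3142, .gen 1901 (141, true)),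
    (2113, .gen 1901 (142, false)),
    (3445, .gen 1901 (143, false)),
    (1872, .gen 1901 (143, true)),
    (2120, .gen 1794 (141, false)),
    (3537, .gen 1794 (142, true)),
    (3646, .gen 2126 (142, false)),
    (2871, .gen 2126 (142, true)),
    (919, .gen 2126 (143, true)),
    (2378, .gen 2439 (138, false)),
    (1318, .gen 2439 (140, false)),
    (1707, .gen 2439 (142, false)),
    (761, .gen 2439 (142, true)),
    (1599, .gen 2439 (143, true)),
    (1482, .gen 2729 (142, false)),
    (1578, .gen 2729 (143, false)),
    (1559, .gen 2729 (143, true)),
    (2016, .gen 3579 (138, false)),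
    (3609, .gen 3579 (143, false)),
    (2301, .gen 3579 (143, true)),
    (3155, .gen 2123 (139, false)),
    (1655, .gen 2123 (140, false)),
    (3427, .gen 2123 (141, false)),
    (2253, .gen 2123 (142, false)),
    (1852, .gen 2123 (143, false)),
    (444, .gen 2123 (143, true)),
    (1156, .gen 2488 (140, false)),
    (1727, .gen 2488 (141, false)),
    (3577, .gen 2488 (141, true)),
    (3419, .gen 2488 (142, false)),
    (2623, .gen 2488 (143, false)),
    (1411, .gen 2488 (143, true)),
    (718, .gen 126 (142, true)),
    (1238, .gen 126 (143, true)),
    (2543, .gen 1065 (142, false)),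
    (3073, .gen 1065 (142, true)),
    (3340, .gen 116 (138, false)),
    (1894, .gen 116 (140, false)),
    (1278, .gen 116 (142, false)),
    (3203, .gen 116 (142, true)),
    (854, .gen 116 (143, false)),
    (1797, .gen 116 (143, true)),
    (3269, .gen 2036 (142, false)),
    (871, .gen 2036 (143, false)),
    (3430, .gen 2036 (143, true)),
    (3517, .gen 3530 (138, false)),
    (221, .gen 3530 (143, false)),
    (3083, .gen 3530 (143, true)),
    (2588, .gen 2452 (142, false)),
    (296, .gen 2452 (142, true)),
    (112, .gen 842 (143, false)),
    (1680, .gen 1657 (142, false)),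
    (2842, .gen 417 (142, true)),
    (3111, .gen 2222 (141, false)),
    (2660, .gen 2222 (142, true)),
    (2806, .gen 3568 (143, true)),
    (495, .gen 1359 (139, false)),
    (2344, .gen 1359 (141, false)),
    (424, .gen 1359 (142, false)),
    (838, .gen 1359 (142, true)),
    (2393, .gen 2920 (143, false)),
    (909, .gen 2927 (139, false)),
    (2415, .gen 2927 (141, true)),
    (3047, .gen 2927 (142, false)),
    (77, .gen 2927 (142, true)),
    (2338, .gen 1788 (138, false)),
    (741, .gen 1788 (139, false)),
    (3737, .gen 1788 (141, false)),
    (3367, .gen 1788 (141, true)),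
    (384, .gen 1788 (142, true)),
    (2631, .gen 179 (143, true)),
    (197, .gen 3246 (138, false)),
    (2160, .gen 3246 (141, false)),
    (2945, .gen 3246 (141, true)),
    (3402, .gen 3246 (142, true)),
    (357, .gen 2469 (138, false)),
    (1759, .gen 2469 (139, false)),
    (2771, .gen 2469 (140, false)),
    (2600, .gen 2469 (141, false)),
    (1067, .gen 2469 (142, true)),
    (2799, .gen 2870 (142, false)),
    (3736, .gen 2619 (143, false)),
    (2316, .gen 2619 (143, true)),
    (1687, .gen 2008 (138, false)),
    (234, .gen 2008 (141, false)),
    (3309, .gen 2129 (138, false)),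
    (1506, .gen 2129 (141, false)),
    (602, .gen 2129 (141, true)),
    (867, .gen 2129 (142, true)),
    (2607, .gen 3048 (142, true)),
    (855, .gen 3720 (142, true)),
    (3211, .gen 1544 (138, false)),
    (1141, .gen 1544 (140, false)),
    (2891, .gen 2063 (142, false)),
    (3627, .gen 2063 (143, false)),
    (2079, .gen 2063 (143, true)),
    (328, .gen 2775 (142, true)),
    (18, .gen 1373 (140, false)),
    (1521, .gen 1373 (142, true)),
    (2044, .gen 2638 (138, false)),
    (3722, .gen 2638 (142, true)),
    (3665, .gen 2638 (143, true)),
    (1215, .gen 1336 (138, false)),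
    (872, .gen 1336 (143, false)),
    (1253, .gen 1336 (143, true)),
    (2528, .gen 1256 (143, false)),
    (1949, .gen 1256 (143, true)),
    (536, .gen 1834 (141, false)),
    (3608, .gen 1834 (142, false)),
    (3303, .gen 1834 (143, false)),
    (851, .gen 1834 (143, true)),
    (1990, .gen 67 (142, false)),
    (2501, .gen 67 (142, true)),
    (3071, .gen 67 (143, false)),
    (2042, .gen 67 (143, true)),
    (499, .gen 3699 (140, false)),
    (1529, .gen 3699 (142, false)),
    (3018, .gen 3699 (142, true)),
    (2990, .gen 1216 (138, false)),
    (1125, .gen 1216 (142, false)),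
    (2563, .gen 1216 (142, true)),
    (1025, .gen 1216 (143, false)),
    (725, .gen 1216 (143, true)),
    (1787, .gen 3571 (138, false)),
    (2103, .gen 3571 (142, false)),
    (2776, .gen 3571 (143, false)),
    (130, .gen 3571 (143, true)),
    (3523, .gen 1591 (138, false)),
    (1720, .gen 1591 (143, false)),
    (1567, .gen 1591 (143, true)),
    (834, .gen 2718 (142, true)),
    (1139, .gen 1134 (142, false)),
    (2789, .gen 3624 (143, false)),
    (1079, .gen 3624 (143, true))]

/-- Visits. -/
def v10_7 : List (ℕ × Src) :=
  [(968, .gen 3345 (138, false)),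
    (3727, .gen 3345 (139, false)),
    (2133, .gen 3345 (141, false)),
    (3546, .gen 3345 (142, false)),
    (2051, .gen 3345 (142, true)),
    (2445, .gen 3058 (139, false)),
    (2867, .gen 3058 (141, true)),
    (566, .gen 3058 (142, false)),
    (494, .gen 715 (142, false)),
    (1666, .gen 715 (143, false)),
    (516, .gen 715 (143, true)),
    (2245, .gen 1882 (142, true)),
    (2387, .gen 3215 (140, false)),
    (297, .gen 3215 (142, true)),
    (932, .gen 3215 (143, false)),
    (2474, .gen 538 (138, false)),
    (3254, .gen 538 (142, true)),
    (3394, .gen 3149 (138, false)),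
    (3410, .gen 3149 (143, false)),
    (2438, .gen 3149 (143, true)),
    (27, .gen 1533 (143, false)),
    (3266, .gen 1343 (143, true)),
    (2645, .gen 684 (139, false)),
    (3672, .gen 684 (142, false)),
    (3179, .gen 684 (142, true)),
    (1833, .gen 212 (141, false)),
    (3630, .gen 212 (142, false)),
    (3662, .gen 212 (142, true)),
    (469, .gen 708 (142, false)),
    (1843, .gen 7 (142, false)),
    (1526, .gen 7 (142, true)),
    (652, .gen 802 (141, false)),
    (2479, .gen 802 (142, false)),
    (1306, .gen 802 (143, true)),
    (2027, .gen 1647 (140, false)),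
    (1210, .gen 1647 (142, false)),
    (2436, .gen 1647 (143, false)),
    (3313, .gen 1647 (143, true)),
    (512, .gen 3555 (138, false)),
    (831, .gen 3555 (142, false)),
    (1105, .gen 3555 (143, false)),
    (2216, .gen 2283 (138, false)),
    (1712, .gen 2330 (139, false)),
    (1710, .gen 2330 (140, false)),
    (2454, .gen 2330 (141, false)),
    (1179, .gen 2330 (142, false)),
    (154, .gen 2330 (143, false)),
    (1158, .gen 2330 (143, true)),
    (485, .gen 2832 (140, false)),
    (2394, .gen 2832 (143, false)),
    (1137, .gen 3104 (141, false)),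
    (3618, .gen 3104 (142, true)),
    (1946, .gen 3104 (143, false)),
    (1004, .gen 3104 (143, true)),
    (596, .gen 2611 (140, false)),
    (3276, .gen 2611 (142, false)),
    (288, .gen 2611 (143, false)),
    (2004, .gen 2611 (143, true)),
    (3010, .gen 286 (138, false)),
    (573, .gen 286 (140, false)),
    (1155, .gen 286 (142, false)),
    (532, .gen 1765 (143, true)),
    (1841, .gen 527 (138, false)),
    (3694, .gen 527 (143, true)),
    (156, .gen 3637 (143, true)),
    (1925, .gen 1480 (140, false)),
    (2786, .gen 2520 (138, false)),
    (2381, .gen 2520 (139, false)),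
    (2298, .gen 2520 (140, false)),
    (198, .gen 2520 (141, false)),
    (63, .gen 2520 (141, true)),
    (414, .gen 2520 (142, false)),
    (1168, .gen 2520 (142, true)),
    (3128, .gen 3432 (143, false)),
    (2761, .gen 1420 (138, false)),
    (2892, .gen 1420 (141, true)),
    (2825, .gen 2003 (141, false)),
    (1295, .gen 2003 (141, true)),
    (1562, .gen 2003 (142, false)),
    (1294, .gen 2003 (142, true)),
    (2412, .gen 3611 (143, true)),
    (1739, .gen 2559 (138, false)),
    (988, .gen 2559 (142, true)),
    (1243, .gen 229 (139, false)),
    (2983, .gen 229 (142, false)),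
    (2741, .gen 229 (142, true)),
    (2772, .gen 1347 (142, true)),
    (396, .gen 3277 (141, false)),
    (3751, .gen 3277 (142, false)),
    (2724, .gen 3277 (142, true)),
    (309, .gen 3280 (138, false)),
    (739, .gen 3280 (140, false)),
    (1195, .gen 1855 (141, true)),
    (768, .gen 1855 (142, false)),
    (3074, .gen 1855 (143, false)),
    (3721, .gen 1855 (143, true)),
    (3458, .gen 3782 (141, false)),
    (2826, .gen 3782 (141, true)),
    (3595, .gen 3782 (142, false)),
    (3024, .gen 3782 (143, false)),
    (1625, .gen 3782 (143, true)),
    (385, .gen 2558 (142, true)),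
    (1498, .gen 2424 (138, false)),
    (680, .gen 2424 (140, false)),
    (3278, .gen 2424 (142, true)),
    (2084, .gen 2885 (138, false)),
    (3159, .gen 2885 (142, true)),
    (2269, .gen 1044 (142, false)),
    (810, .gen 1044 (143, true)),
    (585, .gen 1596 (138, false)),
    (3291, .gen 1596 (143, false)),
    (3635, .gen 1596 (143, true)),
    (3599, .gen 1348 (142, false)),
    (653, .gen 1348 (143, true)),
    (2933, .gen 1217 (141, false)),
    (3270, .gen 1217 (141, true)),
    (1036, .gen 1217 (142, false)),
    (1448, .gen 1217 (143, false)),
    (1835, .gen 1217 (143, true)),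
    (2747, .gen 2874 (142, true)),
    (519, .gen 2874 (143, false)),
    (1534, .gen 2204 (140, false)),
    (2742, .gen 2204 (142, true)),
    (2124, .gen 40 (138, false)),
    (948, .gen 40 (142, false)),
    (3697, .gen 40 (142, true)),
    (2449, .gen 40 (143, false)),
    (1887, .gen 1049 (142, false)),
    (2108, .gen 1049 (143, true)),
    (2184, .gen 1334 (138, false)),
    (1809, .gen 1334 (143, false)),
    (244, .gen 1334 (143, true)),
    (1461, .gen 1741 (142, false)),
    (933, .gen 161 (142, true)),
    (3744, .gen 2250 (143, false)),
    (1014, .gen 2017 (139, false)),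
    (232, .gen 2017 (141, true)),
    (217, .gen 2017 (142, false)),
    (2784, .gen 2017 (142, true)),
    (373, .gen 1845 (138, false)),
    (2006, .gen 1845 (139, false)),
    (3348, .gen 1845 (141, true)),
    (2952, .gen 1845 (142, true)),
    (2898, .gen 3585 (141, false)),
    (2676, .gen 3585 (141, true)),
    (2685, .gen 3585 (142, true)),
    (2526, .gen 2346 (138, false)),
    (905, .gen 2346 (140, false)),
    (3559, .gen 2346 (141, false)),
    (2097, .gen 2346 (142, true)),
    (2642, .gen 3346 (139, false)),
    (75, .gen 3346 (141, true)),
    (2760, .gen 3346 (142, false)),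
    (3220, .gen 1621 (142, true)),
    (3745, .gen 2002 (140, false)),
    (3336, .gen 865 (138, false)),
    (50, .gen 865 (141, true)),
    (3140, .gen 865 (142, true)),
    (3437, .gen 800 (142, false)),
    (2315, .gen 800 (143, true)),
    (2189, .gen 93 (142, true)),
    (2905, .gen 1563 (142, true)),
    (115, .gen 1563 (143, true)),
    (659, .gen 913 (140, false)),
    (3008, .gen 913 (142, true)),
    (1988, .gen 913 (143, true)),
    (1442, .gen 982 (138, false)),
    (938, .gen 982 (143, false)),
    (2839, .gen 1682 (140, false)),
    (984, .gen 1682 (142, false)),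
    (877, .gen 1682 (143, false)),
    (1790, .gen 1682 (143, true)),
    (3236, .gen 888 (141, false)),
    (2971, .gen 888 (142, false)),
    (2137, .gen 888 (143, false)),
    (1397, .gen 888 (143, true)),
    (1598, .gen 730 (142, true)),
    (654, .gen 2911 (142, false)),
    (744, .gen 2911 (142, true)),
    (2071, .gen 2911 (143, true)),
    (1541, .gen 918 (142, true)),
    (1542, .gen 918 (143, true)),
    (2165, .gen 3204 (142, false)),
    (433, .gen 3204 (143, false)),
    (1042, .gen 3204 (143, true)),
    (1675, .gen 1491 (138, false)),
    (155, .gen 1491 (143, false)),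
    (1352, .gen 3061 (143, false)),
    (928, .gen 3061 (143, true)),
    (1082, .gen 820 (142, false)),
    (1015, .gen 820 (143, true)),
    (260, .gen 3020 (142, true)),
    (1904, .gen 3281 (142, true)),
    (1983, .gen 2635 (142, true)),
    (2936, .gen 1232 (143, false)),
    (80, .gen 321 (142, false)),
    (3095, .gen 321 (143, false)),
    (2707, .gen 321 (143, true)),
    (88, .gen 3497 (141, false)),
    (623, .gen 3497 (143, false)),
    (2879, .gen 3497 (143, true)),
    (3565, .gen 1449 (142, true)),
    (3053, .gen 2544 (138, false)),
    (561, .gen 2544 (142, false)),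
    (1735, .gen 1530 (143, false)),
    (3084, .gen 1530 (143, true)),
    (3305, .gen 2170 (143, false)),
    (2512, .gen 1407 (143, true)),
    (1769, .gen 2504 (142, true)),
    (2831, .gen 1776 (138, false)),
    (1417, .gen 1776 (143, false)),
    (3341, .gen 974 (143, false)),
    (3096, .gen 3753 (143, false)),
    (2875, .gen 1058 (143, false)),
    (3194, .gen 3160 (142, true)),
    (3209, .gen 2451 (141, false)),
    (806, .gen 2451 (142, true)),
    (2662, .gen 3188 (142, false)),
    (901, .gen 3740 (142, true)),
    (3165, .gen 445 (138, false)),
    (1991, .gen 445 (139, false)),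
    (3118, .gen 445 (141, false)),
    (582, .gen 445 (142, false)),
    (1021, .gen 445 (142, true)),
    (2863, .gen 445 (143, false)),
    (574, .gen 308 (138, false)),
    (2352, .gen 308 (140, false)),
    (1697, .gen 308 (141, true)),
    (73, .gen 308 (142, true)),
    (3554, .gen 1475 (142, false)),
    (3154, .gen 3355 (142, false)),
    (3122, .gen 2077 (142, false)),
    (45, .gen 2500 (138, false)),
    (3638, .gen 2500 (142, false)),
    (2256, .gen 2500 (143, false)),
    (2020, .gen 2500 (143, true)),
    (1554, .gen 259 (138, false)),
    (3644, .gen 1456 (142, false)),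
    (1929, .gen 1456 (143, true)),
    (967, .gen 1098 (141, false)),
    (11, .gen 1098 (141, true)),
    (1973, .gen 1098 (142, false)),
    (2618, .gen 1098 (143, false)),
    (1980, .gen 2360 (142, true)),
    (2894, .gen 2308 (142, false)),
    (3449, .gen 2308 (142, true)),
    (1007, .gen 3552 (142, false)),
    (3403, .gen 3552 (142, true)),
    (59, .gen 773 (142, false)),
    (209, .gen 773 (143, true)),
    (897, .gen 955 (138, false)),
    (3287, .gen 955 (143, true)),
    (1792, .gen 3 (142, false)),
    (2055, .gen 3 (143, true)),
    (2617, .gen 564 (142, true)),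
    (1677, .gen 713 (138, false)),
    (3259, .gen 713 (142, true)),
    (673, .gen 84 (142, false)),
    (746, .gen 2209 (143, false)),
    (1880, .gen 2209 (143, true)),
    (490, .gen 2434 (142, false)),
    (853, .gen 409 (142, false)),
    (1960, .gen 409 (143, true)),
    (3187, .gen 1945 (142, true)),
    (2473, .gen 2293 (142, true)),
    (2836, .gen 1330 (142, true)),
    (2627, .gen 2302 (138, false)),
    (1426, .gen 2302 (143, false)),
    (3035, .gen 2472 (142, false)),
    (1783, .gen 361 (142, false)),
    (945, .gen 844 (143, false)),
    (2533, .gen 844 (143, true)),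
    (1283, .gen 2448 (139, false)),
    (754, .gen 2448 (141, false)),
    (2022, .gen 2448 (143, false)),
    (1153, .gen 2448 (143, true)),
    (1202, .gen 1402 (143, true)),
    (2704, .gen 2803 (140, false)),
    (511, .gen 104 (143, false)),
    (2089, .gen 104 (143, true)),
    (407, .gen 287 (141, true)),
    (181, .gen 287 (142, false)),
    (764, .gen 586 (142, false)),
    (3508, .gen 1828 (142, false)),
    (3652, .gen 1828 (143, false)),
    (3190, .gen 1828 (143, true)),
    (2233, .gen 367 (143, false)),
    (2155, .gen 1995 (138, false)),
    (355, .gen 1995 (139, false)),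
    (783, .gen 1995 (142, false)),
    (1795, .gen 82 (142, false)),
    (547, .gen 82 (143, false)),
    (3626, .gen 2386 (143, true)),
    (1738, .gen 2634 (142, true)),
    (2882, .gen 1467 (142, false)),
    (1240, .gen 1467 (143, false)),
    (1116, .gen 1467 (143, true)),
    (789, .gen 1594 (143, true)),
    (1775, .gen 2217 (142, false)),
    (2938, .gen 2217 (142, true))]

/-- Visits. -/
def v10_8 : List (ℕ × Src) :=
  [(2125, .gen 1838 (142, true)),
    (1871, .gen 1135 (142, false)),
    (1837, .gen 3693 (143, true)),
    (3670, .gen 2374 (142, false)),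
    (627, .gen 3400 (142, false)),
    (1148, .gen 3400 (143, false)),
    (2239, .gen 2686 (138, false)),
    (1821, .gen 2686 (139, false)),
    (2033, .gen 2686 (142, false)),
    (1777, .gen 2686 (142, true)),
    (51, .gen 3526 (142, true)),
    (926, .gen 3667 (138, false)),
    (1271, .gen 3667 (143, false)),
    (240, .gen 3639 (138, false)),
    (3013, .gen 3639 (139, false)),
    (1580, .gen 3639 (140, false)),
    (2303, .gen 3639 (141, false)),
    (3704, .gen 3639 (141, true)),
    (1522, .gen 3639 (142, false)),
    (2151, .gen 1395 (139, false)),
    (2244, .gen 1395 (140, false)),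
    (2198, .gen 1395 (142, false)),
    (1812, .gen 1395 (142, true)),
    (3237, .gen 1395 (143, true)),
    (150, .gen 5 (142, true)),
    (571, .gen 5 (143, false)),
    (1358, .gen 5 (143, true)),
    (42, .gen 3028 (138, false)),
    (3484, .gen 3028 (142, true)),
    (3653, .gen 3115 (142, true)),
    (1662, .gen 1907 (142, false)),
    (2224, .gen 1907 (143, false)),
    (3184, .gen 1907 (143, true)),
    (2561, .gen 1089 (142, false)),
    (331, .gen 1089 (143, false)),
    (2546, .gen 1089 (143, true)),
    (681, .gen 2492 (143, true)),
    (3226, .gen 778 (140, false)),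
    (3178, .gen 778 (142, false)),
    (427, .gen 2513 (139, false)),
    (2179, .gen 2513 (140, false)),
    (480, .gen 2513 (141, false)),
    (1218, .gen 2513 (141, true)),
    (1151, .gen 2513 (142, false)),
    (206, .gen 2513 (143, true)),
    (3064, .gen 2998 (142, false)),
    (2548, .gen 2998 (143, false)),
    (374, .gen 2998 (143, true)),
    (1661, .gen 456 (143, false)),
    (850, .gen 456 (143, true)),
    (2101, .gen 1829 (142, false)),
    (1276, .gen 1829 (143, false)),
    (807, .gen 1829 (143, true)),
    (3562, .gen 1262 (138, false)),
    (1952, .gen 1262 (143, false)),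
    (2144, .gen 1262 (143, true)),
    (1504, .gen 1766 (138, false)),
    (3146, .gen 1766 (139, false)),
    (2484, .gen 1766 (140, false)),
    (3374, .gen 1766 (141, false)),
    (3767, .gen 1766 (141, true)),
    (3296, .gen 1766 (142, false)),
    (1660, .gen 1766 (142, true)),
    (2745, .gen 1922 (138, false)),
    (2900, .gen 1922 (141, false)),
    (2265, .gen 1781 (142, true)),
    (483, .gen 2586 (142, false)),
    (1423, .gen 2586 (143, false)),
    (1048, .gen 2586 (143, true)),
    (1070, .gen 3766 (143, false)),
    (2385, .gen 1684 (142, true)),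
    (832, .gen 1368 (139, false)),
    (3330, .gen 1368 (142, true)),
    (2970, .gen 995 (143, false)),
    (535, .gen 1033 (142, true)),
    (576, .gen 3265 (142, false)),
    (3075, .gen 3265 (143, false)),
    (2897, .gen 3265 (143, true)),
    (2550, .gen 1757 (142, false)),
    (1046, .gen 1757 (143, false)),
    (2941, .gen 1757 (143, true)),
    (3183, .gen 2202 (138, false)),
    (2782, .gen 2202 (143, false)),
    (462, .gen 2557 (138, false)),
    (1753, .gen 2557 (143, false)),
    (235, .gen 2557 (143, true)),
    (1178, .gen 3235 (139, false)),
    (542, .gen 3235 (140, false)),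
    (2713, .gen 3235 (142, false)),
    (3379, .gen 3235 (142, true)),
    (2838, .gen 90 (138, false)),
    (1733, .gen 90 (139, false)),
    (1066, .gen 90 (140, false)),
    (2054, .gen 90 (141, false)),
    (971, .gen 90 (141, true)),
    (1005, .gen 90 (142, true)),
    (1744, .gen 90 (143, true)),
    (431, .gen 3680 (141, false)),
    (1370, .gen 3680 (143, false)),
    (3428, .gen 3680 (143, true)),
    (1964, .gen 1438 (138, false)),
    (2640, .gen 1438 (141, true)),
    (3085, .gen 3172 (140, false)),
    (411, .gen 3172 (141, false)),
    (2045, .gen 3172 (141, true)),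
    (3325, .gen 3172 (142, true)),
    (2726, .gen 690 (142, false)),
    (1387, .gen 690 (143, false)),
    (446, .gen 690 (143, true)),
    (1289, .gen 353 (142, true)),
    (3382, .gen 892 (142, false)),
    (1551, .gen 1623 (143, false)),
    (2788, .gen 3169 (142, false)),
    (78, .gen 3169 (143, true)),
    (528, .gen 2176 (141, true)),
    (2148, .gen 2176 (142, false)),
    (1815, .gen 2176 (143, false)),
    (306, .gen 2176 (143, true)),
    (1455, .gen 694 (142, true)),
    (1772, .gen 1458 (142, true)),
    (2259, .gen 914 (143, false)),
    (2977, .gen 481 (142, false)),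
    (17, .gen 481 (143, false)),
    (2932, .gen 481 (143, true)),
    (1694, .gen 3726 (142, true)),
    (1649, .gen 61 (138, false)),
    (2372, .gen 61 (143, false)),
    (497, .gen 61 (143, true)),
    (1026, .gen 1321 (142, false)),
    (615, .gen 2096 (142, false)),
    (399, .gen 2096 (143, true)),
    (1672, .gen 1001 (143, false)),
    (363, .gen 1001 (143, true)),
    (3057, .gen 2624 (141, true)),
    (2835, .gen 2624 (143, false)),
    (1405, .gen 2624 (143, true)),
    (3392, .gen 1338 (142, true)),
    (1499, .gen 745 (143, false)),
    (2392, .gen 745 (143, true)),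
    (1497, .gen 1344 (143, false)),
    (460, .gen 1344 (143, true)),
    (565, .gen 1495 (143, false)),
    (475, .gen 1495 (143, true)),
    (2152, .gen 1171 (142, true)),
    (1538, .gen 1171 (143, true)),
    (381, .gen 2215 (143, false)),
    (304, .gen 2215 (143, true)),
    (737, .gen 1447 (138, false)),
    (2326, .gen 1447 (143, true)),
    (852, .gen 769 (142, false)),
    (1668, .gen 1663 (138, false)),
    (3063, .gen 1663 (139, false)),
    (2547, .gen 1663 (140, false)),
    (484, .gen 1663 (141, false)),
    (1087, .gen 1663 (141, true)),
    (1487, .gen 1663 (142, false)),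
    (3253, .gen 1663 (142, true)),
    (1375, .gen 1663 (143, true)),
    (227, .gen 2467 (142, false)),
    (1857, .gen 2467 (143, false)),
    (641, .gen 559 (142, false)),
    (2721, .gen 2419 (138, false)),
    (2228, .gen 2419 (143, false)),
    (2053, .gen 2419 (143, true)),
    (258, .gen 2213 (138, false)),
    (3390, .gen 2809 (141, true)),
    (1813, .gen 2809 (143, true)),
    (2284, .gen 2630 (138, false)),
    (3435, .gen 2630 (143, false)),
    (929, .gen 1579 (142, false)),
    (300, .gen 1059 (138, false)),
    (1433, .gen 1333 (142, true)),
    (2049, .gen 3334 (142, false)),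
    (3519, .gen 3334 (143, false)),
    (314, .gen 435 (138, false)),
    (1415, .gen 435 (143, true)),
    (3306, .gen 1745 (142, true)),
    (2074, .gen 487 (142, false)),
    (1674, .gen 487 (142, true)),
    (2138, .gen 487 (143, false)),
    (2516, .gen 487 (143, true)),
    (2950, .gen 3485 (138, false)),
    (3631, .gen 3485 (141, false)),
    (825, .gen 3485 (143, false)),
    (1975, .gen 1069 (143, false)),
    (342, .gen 2510 (142, false)),
    (2368, .gen 794 (139, false)),
    (2527, .gen 794 (141, false)),
    (1478, .gen 794 (142, false)),
    (14, .gen 794 (142, true)),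
    (3683, .gen 794 (143, true)),
    (2508, .gen 3669 (142, false)),
    (1228, .gen 3675 (138, false)),
    (3553, .gen 3675 (143, false)),
    (640, .gen 3675 (143, true)),
    (732, .gen 2486 (138, false)),
    (2503, .gen 3684 (138, false)),
    (2343, .gen 3684 (143, false)),
    (2477, .gen 1913 (142, true)),
    (3027, .gen 1267 (142, false)),
    (3070, .gen 1267 (143, false)),
    (1750, .gen 1263 (142, false)),
    (2750, .gen 3576 (142, false)),
    (2585, .gen 3576 (143, false)),
    (1896, .gen 3576 (143, true)),
    (2910, .gen 1830 (138, false)),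
    (3755, .gen 3318 (142, true)),
    (3575, .gen 500 (142, true)),
    (105, .gen 474 (138, false)),
    (1693, .gen 474 (143, false)),
    (3147, .gen 474 (143, true)),
    (920, .gen 3158 (138, false)),
    (167, .gen 3158 (140, false)),
    (726, .gen 3158 (141, false)),
    (1314, .gen 581 (141, false)),
    (168, .gen 581 (141, true)),
    (2188, .gen 581 (142, false)),
    (1819, .gen 581 (143, true)),
    (1246, .gen 2312 (142, false)),
    (2093, .gen 2312 (142, true)),
    (1145, .gen 2312 (143, false)),
    (3132, .gen 3171 (143, false)),
    (873, .gen 108 (143, false)),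
    (1613, .gen 3431 (143, false)),
    (1222, .gen 663 (142, true)),
    (592, .gen 575 (138, false)),
    (1366, .gen 575 (143, false)),
    (784, .gen 1392 (142, false)),
    (177, .gen 1954 (143, true)),
    (2085, .gen 2161 (138, false)),
    (3491, .gen 2161 (139, false)),
    (1440, .gen 2161 (140, false)),
    (2297, .gen 422 (142, false)),
    (1607, .gen 422 (143, false)),
    (1899, .gen 422 (143, true)),
    (614, .gen 2358 (142, true)),
    (765, .gen 2241 (138, false)),
    (3163, .gen 2241 (143, false)),
    (122, .gen 613 (143, false)),
    (3312, .gen 1225 (139, false)),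
    (1102, .gen 1225 (142, false)),
    (369, .gen 1225 (142, true)),
    (2304, .gen 3607 (141, false)),
    (2710, .gen 3098 (138, false)),
    (162, .gen 3168 (143, false)),
    (3735, .gen 3168 (143, true)),
    (3438, .gen 3252 (142, true)),
    (1705, .gen 658 (138, false)),
    (1097, .gen 266 (138, false)),
    (3462, .gen 266 (139, false)),
    (436, .gen 266 (140, false)),
    (616, .gen 266 (141, false)),
    (1157, .gen 266 (141, true)),
    (2566, .gen 266 (142, false)),
    (2700, .gen 266 (142, true)),
    (1357, .gen 207 (138, false)),
    (1799, .gen 207 (139, false)),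
    (501, .gen 207 (140, false)),
    (30, .gen 207 (141, false)),
    (132, .gen 207 (141, true)),
    (3418, .gen 207 (142, false)),
    (2167, .gen 207 (142, true)),
    (2841, .gen 2263 (143, true)),
    (1553, .gen 3329 (142, true)),
    (3206, .gen 2064 (143, false)),
    (208, .gen 2064 (143, true)),
    (655, .gen 849 (143, false)),
    (2266, .gen 849 (143, true)),
    (3131, .gen 642 (143, false)),
    (94, .gen 642 (143, true)),
    (1266, .gen 3258 (141, false)),
    (1786, .gen 1425 (142, false)),
    (148, .gen 840 (143, false)),
    (233, .gen 840 (143, true)),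
    (2489, .gen 249 (143, false)),
    (2877, .gen 249 (143, true)),
    (3327, .gen 2107 (138, false)),
    (1121, .gen 2107 (139, false)),
    (1510, .gen 2107 (140, false)),
    (3593, .gen 2107 (141, false)),
    (3606, .gen 2107 (141, true)),
    (1573, .gen 2107 (142, false)),
    (1889, .gen 2107 (142, true)),
    (1546, .gen 1083 (138, false)),
    (3100, .gen 1083 (139, false)),
    (946, .gen 1083 (140, false)),
    (3198, .gen 1083 (141, false)),
    (1028, .gen 1083 (141, true)),
    (2840, .gen 1083 (142, false)),
    (455, .gen 1083 (142, true)),
    (748, .gen 1083 (143, true)),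
    (1163, .gen 2347 (138, false)),
    (2878, .gen 2347 (143, false)),
    (326, .gen 2657 (143, false)),
    (3167, .gen 1439 (142, false)),
    (2766, .gen 1439 (143, false)),
    (2208, .gen 1439 (143, true)),
    (1646, .gen 1045 (138, false)),
    (2925, .gen 2669 (142, true)),
    (3271, .gen 2679 (142, false))]

/-- Visits. -/
def v10_9 : List (ℕ × Src) :=
  [(719, .gen 2679 (142, true)),
    (3466, .gen 2679 (143, true)),
    (917, .gen 443 (141, false)),
    (1751, .gen 443 (143, false)),
    (2774, .gen 2429 (141, true)),
    (766, .gen 2999 (141, false)),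
    (1560, .gen 2999 (143, true)),
    (666, .gen 3005 (143, true)),
    (522, .gen 1235 (143, false)),
    (598, .gen 1235 (143, true)),
    (2336, .gen 1484 (142, false)),
    (3586, .gen 1484 (143, false)),
    (570, .gen 1484 (143, true)),
    (2591, .gen 3713 (143, false)),
    (2272, .gen 3713 (143, true)),
    (1927, .gen 2644 (143, false)),
    (1164, .gen 2644 (143, true)),
    (1078, .gen 1319 (142, false)),
    (2781, .gen 3350 (143, false)),
    (303, .gen 2572 (142, true)),
    (1208, .gen 3655 (138, false)),
    (2961, .gen 3655 (143, false)),
    (3534, .gen 3655 (143, true)),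
    (643, .gen 989 (138, false)),
    (3695, .gen 989 (141, false)),
    (2183, .gen 3086 (139, false)),
    (526, .gen 3086 (140, false)),
    (3785, .gen 3086 (142, false)),
    (1129, .gen 3086 (142, true)),
    (1353, .gen 3086 (143, true)),
    (781, .gen 2166 (142, false)),
    (2692, .gen 2166 (143, false)),
    (269, .gen 2166 (143, true)),
    (3263, .gen 1205 (143, false)),
    (2193, .gen 1987 (143, false)),
    (1610, .gen 1987 (143, true)),
    (2201, .gen 1747 (143, true)),
    (1466, .gen 508 (140, false)),
    (263, .gen 508 (143, true)),
    (2252, .gen 1390 (142, false)),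
    (2226, .gen 1390 (143, true)),
    (3043, .gen 523 (143, true)),
    (3412, .gen 477 (143, false)),
    (1520, .gen 477 (143, true)),
    (3339, .gen 3765 (143, false)),
    (1770, .gen 3765 (143, true)),
    (2852, .gen 3516 (138, false)),
    (1072, .gen 3516 (139, false)),
    (2562, .gen 3516 (140, false)),
    (987, .gen 3516 (141, false)),
    (3773, .gen 3516 (141, true)),
    (2560, .gen 3516 (142, false)),
    (2884, .gen 3516 (142, true)),
    (720, .gen 979 (138, false)),
    (1667, .gen 979 (143, true)),
    (228, .gen 3311 (142, true)),
    (1435, .gen 2532 (138, false)),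
    (1307, .gen 2975 (142, true)),
    (992, .gen 1878 (142, false)),
    (3290, .gen 2145 (138, false)),
    (2157, .gen 2145 (143, false)),
    (2094, .gen 1030 (142, true)),
    (3105, .gen 762 (142, false)),
    (3143, .gen 762 (143, false)),
    (319, .gen 762 (143, true)),
    (2828, .gen 1050 (143, false)),
    (2780, .gen 2949 (138, false)),
    (13, .gen 2949 (143, false)),
    (141, .gen 2949 (143, true)),
    (290, .gen 3298 (140, false)),
    (2369, .gen 3298 (142, false)),
    (3307, .gen 1509 (138, false)),
    (2214, .gen 1509 (141, false)),
    (2696, .gen 1509 (141, true)),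
    (3709, .gen 1509 (142, true)),
    (3196, .gen 1509 (143, true)),
    (2328, .gen 3547 (141, false)),
    (1031, .gen 3547 (141, true)),
    (3243, .gen 3547 (142, false)),
    (672, .gen 3547 (143, false)),
    (49, .gen 3750 (138, false)),
    (2444, .gen 3750 (142, true)),
    (534, .gen 354 (142, true)),
    (2956, .gen 688 (142, true)),
    (292, .gen 618 (142, false)),
    (3498, .gen 1597 (138, false)),
    (3682, .gen 1597 (143, false)),
    (3710, .gen 1282 (141, false)),
    (2691, .gen 1282 (143, true)),
    (2421, .gen 3380 (141, true)),
    (891, .gen 3380 (143, false)),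
    (453, .gen 3380 (143, true)),
    (2589, .gen 2646 (138, false)),
    (1233, .gen 3543 (143, true)),
    (2395, .gen 3173 (143, false)),
    (3509, .gen 3173 (143, true)),
    (1322, .gen 1888 (140, false)),
    (2414, .gen 1888 (143, false)),
    (601, .gen 1888 (143, true)),
    (2974, .gen 3176 (143, true)),
    (1012, .gen 1011 (142, true)),
    (1468, .gen 1891 (143, true)),
    (821, .gen 1708 (143, false)),
    (1593, .gen 3224 (140, false)),
    (3202, .gen 3224 (141, false)),
    (3268, .gen 3344 (138, false)),
    (3288, .gen 3344 (139, false)),
    (3480, .gen 3344 (141, true)),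
    (1279, .gen 3344 (142, false)),
    (1723, .gen 3344 (142, true)),
    (2823, .gen 3344 (143, true)),
    (479, .gen 2709 (142, false)),
    (3272, .gen 2709 (143, false)),
    (552, .gen 2709 (143, true)),
    (1239, .gen 2847 (142, false)),
    (2962, .gen 3625 (143, false)),
    (3531, .gen 3625 (143, true)),
    (1006, .gen 2174 (141, false)),
    (2110, .gen 2174 (141, true)),
    (2034, .gen 757 (143, true)),
    (313, .gen 750 (138, false)),
    (1204, .gen 750 (143, true)),
    (1242, .gen 95 (142, false)),
    (600, .gen 95 (143, true)),
    (916, .gen 2719 (138, false)),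
    (2948, .gen 312 (138, false)),
    (878, .gen 3742 (143, false)),
    (2759, .gen 3742 (143, true)),
    (2059, .gen 70 (142, false)),
    (3613, .gen 70 (143, false)),
    (2367, .gen 70 (143, true)),
    (2706, .gen 2730 (143, false)),
    (1119, .gen 819 (141, false)),
    (3790, .gen 3600 (142, false)),
    (1736, .gen 3600 (143, false)),
    (2461, .gen 3257 (143, false)),
    (2401, .gen 3257 (143, true)),
    (3383, .gen 980 (138, false)),
    (3733, .gen 980 (139, false)),
    (2420, .gen 980 (141, true)),
    (804, .gen 980 (142, true)),
    (3411, .gen 1123 (142, true)),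
    (3052, .gen 1612 (143, false)),
    (2601, .gen 3286 (142, true)),
    (2230, .gen 1385 (143, false)),
    (907, .gen 1385 (143, true)),
    (822, .gen 1863 (142, true)),
    (1399, .gen 650 (143, false)),
    (970, .gen 2319 (143, false)),
    (2364, .gen 2203 (143, false)),
    (3518, .gen 1117 (142, false)),
    (2542, .gen 841 (142, true)),
    (2873, .gen 551 (143, true)),
    (3477, .gen 1755 (143, false)),
    (1748, .gen 1755 (143, true)),
    (3696, .gen 677 (138, false)),
    (1951, .gen 677 (143, false)),
    (3181, .gen 963 (142, false)),
    (418, .gen 963 (143, false)),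
    (1249, .gen 963 (143, true)),
    (1354, .gen 3500 (142, true)),
    (44, .gen 943 (138, false)),
    (3343, .gen 943 (143, false)),
    (1080, .gen 1870 (142, false)),
    (41, .gen 3091 (142, false)),
    (1953, .gen 3091 (143, true)),
    (1590, .gen 482 (143, false)),
    (2829, .gen 2793 (143, false)),
    (861, .gen 2793 (143, true)),
    (160, .gen 2095 (143, false)),
    (1422, .gen 434 (139, false)),
    (3794, .gen 434 (140, false)),
    (2440, .gen 434 (142, false)),
    (2552, .gen 1473 (138, false)),
    (54, .gen 1473 (143, false)),
    (404, .gen 3322 (138, false)),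
    (174, .gen 1443 (138, false)),
    (981, .gen 1876 (142, false)),
    (1743, .gen 1876 (143, false)),
    (2764, .gen 1876 (143, true)),
    (758, .gen 3493 (138, false)),
    (1822, .gen 2821 (143, false)),
    (1558, .gen 716 (139, false)),
    (743, .gen 716 (142, false)),
    (728, .gen 716 (142, true)),
    (366, .gen 716 (143, true)),
    (2813, .gen 3302 (143, false)),
    (1589, .gen 3302 (143, true)),
    (184, .gen 894 (139, false)),
    (1459, .gen 894 (141, false)),
    (959, .gen 2869 (138, false)),
    (2483, .gen 2270 (143, false)),
    (3706, .gen 351 (142, false)),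
    (1919, .gen 351 (143, false)),
    (1853, .gen 1019 (143, false)),
    (671, .gen 1019 (143, true)),
    (3629, .gen 2596 (142, false)),
    (323, .gen 101 (138, false)),
    (3087, .gen 503 (138, false)),
    (2733, .gen 503 (139, false)),
    (2476, .gen 503 (140, false)),
    (1609, .gen 503 (141, false)),
    (2317, .gen 503 (141, true)),
    (906, .gen 503 (142, false)),
    (3775, .gen 503 (142, true)),
    (608, .gen 994 (140, false)),
    (194, .gen 994 (141, false)),
    (52, .gen 994 (141, true)),
    (3335, .gen 994 (142, true)),
    (2072, .gen 3162 (142, false)),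
    (111, .gen 3541 (143, true)),
    (3213, .gen 3152 (143, false)),
    (430, .gen 3152 (143, true)),
    (2689, .gen 1277 (142, false)),
    (1408, .gen 520 (139, false)),
    (3558, .gen 520 (141, true)),
    (133, .gen 520 (142, false)),
    (195, .gen 520 (142, true)),
    (818, .gen 639 (143, false)),
    (238, .gen 2946 (142, true)),
    (3072, .gen 3362 (139, false)),
    (3587, .gen 3792 (139, false)),
    (83, .gen 976 (142, false)),
    (3758, .gen 2693 (142, false)),
    (347, .gen 1024 (141, false)),
    (2594, .gen 2779 (142, true)),
    (2163, .gen 400 (138, false)),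
    (33, .gen 400 (142, true)),
    (579, .gen 2485 (143, false)),
    (2173, .gen 2817 (142, false)),
    (2102, .gen 2579 (143, true)),
    (26, .gen 3787 (142, true)),
    (1270, .gen 12 (143, true)),
    (2172, .gen 3251 (142, false)),
    (941, .gen 3527 (143, false)),
    (879, .gen 1848 (142, true)),
    (1918, .gen 99 (141, true)),
    (2090, .gen 3621 (143, true)),
    (2658, .gen 1136 (143, false)),
    (2844, .gen 1136 (143, true)),
    (2234, .gen 2370 (143, false)),
    (1535, .gen 2365 (142, true)),
    (1635, .gen 661 (142, false)),
    (935, .gen 661 (143, true)),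
    (3690, .gen 3757 (142, false)),
    (2735, .gen 3757 (142, true)),
    (1931, .gen 1384 (138, false)),
    (371, .gen 1384 (140, false)),
    (864, .gen 1391 (140, false)),
    (1604, .gen 1391 (142, true)),
    (171, .gen 2353 (138, false)),
    (3097, .gen 2353 (142, false)),
    (2057, .gen 2353 (143, false)),
    (605, .gen 2353 (143, true)),
    (975, .gen 136 (138, false)),
    (1906, .gen 136 (143, false)),
    (962, .gen 3663 (141, true)),
    (1532, .gen 3663 (143, true)),
    (1774, .gen 2536 (142, false)),
    (3109, .gen 3465 (142, true)),
    (837, .gen 3465 (143, false)),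
    (2331, .gen 3434 (143, false)),
    (972, .gen 3434 (143, true)),
    (533, .gen 382 (143, false)),
    (2943, .gen 2218 (141, false)),
    (2106, .gen 2218 (142, true)),
    (2493, .gen 788 (139, false)),
    (1877, .gen 788 (141, false)),
    (3548, .gen 788 (142, false)),
    (1159, .gen 788 (142, true)),
    (1525, .gen 166 (142, true)),
    (1115, .gen 2246 (142, true)),
    (3535, .gen 2456 (143, false)),
    (3239, .gen 3597 (142, true)),
    (213, .gen 408 (142, true)),
    (1664, .gen 593 (138, false)),
    (278, .gen 593 (142, true)),
    (638, .gen 593 (143, false)),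
    (2972, .gen 2963 (138, false)),
    (895, .gen 2963 (143, true)),
    (1582, .gen 282 (142, false)),
    (998, .gen 282 (143, true)),
    (1009, .gen 1862 (142, false)),
    (31, .gen 3633 (141, false)),
    (1978, .gen 3633 (142, false)),
    (3732, .gen 356 (142, false)),
    (2511, .gen 3284 (142, false)),
    (3332, .gen 3284 (143, false)),
    (630, .gen 3284 (143, true)),
    (1207, .gen 562 (138, false)),
    (3769, .gen 2112 (139, false)),
    (2899, .gen 2112 (140, false)),
    (1199, .gen 2112 (142, false)),
    (1063, .gen 2112 (143, false)),
    (2257, .gen 2112 (143, true)),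
    (113, .gen 2909 (140, false)),
    (3055, .gen 2909 (143, false)),
    (3506, .gen 2909 (143, true)),
    (3324, .gen 1977 (142, true)),
    (3060, .gen 1977 (143, true))]

/-- Visits. -/
def v10_10 : List (ℕ × Src) :=
  [(2801, .gen 539 (138, false)),
    (1108, .gen 539 (142, false)),
    (1410, .gen 3138 (143, false)),
    (734, .gen 3138 (143, true)),
    (3389, .gen 2268 (143, true)),
    (2791, .gen 24 (142, true)),
    (777, .gen 2350 (142, true)),
    (464, .gen 380 (143, false)),
    (2580, .gen 1404 (142, false)),
    (3365, .gen 1404 (143, false)),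
    (2248, .gen 1404 (143, true)),
    (2855, .gen 1274 (142, true)),
    (759, .gen 3731 (142, true)),
    (2463, .gen 958 (142, true)),
    (3454, .gen 1807 (142, false)),
    (3119, .gen 2028 (142, false)),
    (1692, .gen 3135 (142, false)),
    (2371, .gen 3135 (143, false)),
    (142, .gen 3135 (143, true)),
    (2279, .gen 3107 (138, false)),
    (3433, .gen 3716 (142, false)),
    (2171, .gen 3716 (143, true)),
    (2013, .gen 3573 (141, true)),
    (830, .gen 1704 (142, true)),
    (2196, .gen 2648 (142, false)),
    (176, .gen 2311 (143, true)),
    (1075, .gen 3029 (143, false)),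
    (504, .gen 506 (143, false)),
    (2243, .gen 64 (141, true)),
    (696, .gen 64 (142, false)),
    (647, .gen 1565 (143, false)),
    (889, .gen 1488 (142, false)),
    (875, .gen 553 (141, true)),
    (2254, .gen 553 (142, false)),
    (985, .gen 553 (142, true)),
    (3089, .gen 553 (143, false)),
    (3623, .gen 3264 (138, false)),
    (1224, .gen 3264 (143, true)),
    (473, .gen 3603 (142, false)),
    (1144, .gen 3603 (143, false)),
    (336, .gen 3603 (143, true)),
    (3417, .gen 71 (143, true)),
    (2482, .gen 3353 (140, false)),
    (924, .gen 3353 (142, false)),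
    (3282, .gen 2881 (141, false)),
    (2928, .gen 2881 (142, false)),
    (2531, .gen 2996 (138, false)),
    (1335, .gen 2996 (139, false)),
    (15, .gen 2996 (142, false)),
    (610, .gen 2996 (142, true)),
    (268, .gen 1556 (143, false)),
    (1061, .gen 1556 (143, true)),
    (3129, .gen 135 (142, false)),
    (2099, .gen 135 (142, true)),
    (1150, .gen 3754 (142, false)),
    (1916, .gen 714 (142, true)),
    (3762, .gen 944 (142, false)),
    (2966, .gen 3705 (143, false)),
    (1369, .gen 2442 (138, false)),
    (98, .gen 2629 (142, true)),
    (3033, .gen 3712 (139, false)),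
    (1304, .gen 3712 (142, false)),
    (2695, .gen 467 (138, false)),
    (2908, .gen 467 (139, false)),
    (3205, .gen 467 (141, true)),
    (3700, .gen 467 (142, false)),
    (1444, .gen 467 (142, true)),
    (1636, .gen 2584 (143, false)),
    (1364, .gen 2584 (143, true)),
    (2896, .gen 2349 (142, true)),
    (1280, .gen 1618 (138, false)),
    (1938, .gen 1618 (141, true)),
    (890, .gen 1618 (142, true)),
    (2810, .gen 2211 (142, true)),
    (1320, .gen 2396 (141, true)),
    (252, .gen 2396 (143, false)),
    (1095, .gen 1147 (142, false)),
    (632, .gen 1147 (143, false)),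
    (3482, .gen 1968 (140, false)),
    (1212, .gen 717 (141, false)),
    (3192, .gen 2286 (143, false)),
    (3144, .gen 3592 (143, false)),
    (1363, .gen 3592 (143, true)),
    (3189, .gen 3121 (138, false)),
    (695, .gen 3121 (139, false)),
    (189, .gen 3121 (140, false)),
    (429, .gen 3121 (141, false)),
    (1403, .gen 3121 (142, true)),
    (2914, .gen 3121 (143, false)),
    (607, .gen 3001 (138, false)),
    (1469, .gen 3001 (139, false)),
    (2815, .gen 3001 (141, false)),
    (597, .gen 3001 (142, false)),
    (2888, .gen 3001 (142, true)),
    (2639, .gen 1281 (143, false)),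
    (1584, .gen 1281 (143, true)),
    (3014, .gen 28 (138, false)),
    (2982, .gen 3134 (139, false)),
    (412, .gen 3134 (142, true)),
    (3408, .gen 1 (142, true)),
    (1483, .gen 0 (143, false)),
    (2274, .gen 267 (142, true)),
    (1874, .gen 1512 (143, false)),
    (2812, .gen 1512 (143, true)),
    (2720, .gen 2026 (138, false)),
    (3448, .gen 2026 (139, false)),
    (1873, .gen 2026 (140, false)),
    (1527, .gen 2026 (142, false)),
    (3634, .gen 2026 (142, true)),
    (3759, .gen 106 (138, false)),
    (3425, .gen 106 (139, false)),
    (3019, .gen 106 (141, false)),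
    (546, .gen 3369 (141, true)),
    (1237, .gen 3369 (142, true)),
    (1047, .gen 3356 (138, false)),
    (2672, .gen 3356 (140, false)),
    (557, .gen 3356 (141, true)),
    (3551, .gen 3356 (142, true)),
    (3234, .gen 2210 (143, true)),
    (617, .gen 1700 (143, false)),
    (2843, .gen 1700 (143, true)),
    (2289, .gen 1002 (143, true)),
    (2830, .gen 204 (143, false)),
    (103, .gen 1789 (141, true)),
    (3359, .gen 1789 (142, false)),
    (3007, .gen 1789 (143, false)),
    (69, .gen 1789 (143, true)),
    (451, .gen 1008 (142, true)),
    (2537, .gen 187 (143, false)),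
    (1388, .gen 57 (143, false)),
    (2334, .gen 57 (143, true)),
    (2221, .gen 2162 (142, true)),
    (178, .gen 1182 (138, false)),
    (930, .gen 1182 (143, false)),
    (3031, .gen 1683 (143, false)),
    (182, .gen 2052 (143, true)),
    (1767, .gen 3671 (142, true)),
    (3069, .gen 1414 (142, false)),
    (275, .gen 237 (142, false)),
    (509, .gen 237 (143, true)),
    (1380, .gen 1979 (138, false)),
    (1844, .gen 1979 (142, false)),
    (3536, .gen 1971 (142, true)),
    (1893, .gen 2113 (143, false)),
    (2220, .gen 2113 (143, true)),
    (902, .gen 3537 (138, false)),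
    (1909, .gen 3646 (143, false)),
    (2015, .gen 1482 (143, false)),
    (1564, .gen 1482 (143, true)),
    (1416, .gen 1559 (143, true)),
    (1203, .gen 2016 (142, false)),
    (2887, .gen 2016 (143, false)),
    (2790, .gen 2016 (143, true)),
    (1784, .gen 3609 (142, true)),
    (3050, .gen 3155 (142, true)),
    (1728, .gen 1655 (142, false)),
    (1587, .gen 3427 (143, true)),
    (87, .gen 1852 (142, false)),
    (2111, .gen 1852 (143, false)),
    (707, .gen 444 (138, false)),
    (2242, .gen 444 (140, false)),
    (3044, .gen 444 (141, true)),
    (558, .gen 444 (142, true)),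
    (3550, .gen 444 (143, true)),
    (1316, .gen 1156 (143, true)),
    (1173, .gen 1727 (142, false)),
    (2122, .gen 1727 (143, false)),
    (2035, .gen 1727 (143, true)),
    (193, .gen 718 (138, false)),
    (2149, .gen 718 (143, false)),
    (2290, .gen 2543 (142, false)),
    (3614, .gen 2543 (143, false)),
    (3451, .gen 1278 (142, false)),
    (1600, .gen 1278 (143, true)),
    (3208, .gen 3203 (138, false)),
    (3681, .gen 1797 (142, true)),
    (792, .gen 3269 (138, false)),
    (951, .gen 871 (138, false)),
    (92, .gen 871 (139, false)),
    (3471, .gen 871 (141, false)),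
    (2375, .gen 3430 (143, true)),
    (2959, .gen 3517 (141, false)),
    (2078, .gen 3517 (142, false)),
    (633, .gen 3517 (143, false)),
    (3729, .gen 221 (143, false)),
    (32, .gen 2842 (143, false)),
    (510, .gen 3111 (142, true)),
    (243, .gen 2660 (143, false)),
    (3153, .gen 2806 (142, true)),
    (1234, .gen 495 (142, false)),
    (125, .gen 424 (142, false)),
    (2047, .gen 909 (141, false)),
    (1465, .gen 909 (143, false)),
    (68, .gen 909 (143, true)),
    (2895, .gen 77 (143, false)),
    (1003, .gen 741 (141, true)),
    (3370, .gen 741 (142, false)),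
    (123, .gen 741 (143, false)),
    (241, .gen 741 (143, true)),
    (3399, .gen 3737 (142, true)),
    (2197, .gen 3367 (142, true)),
    (305, .gen 384 (143, false)),
    (185, .gen 2160 (142, true)),
    (2960, .gen 3402 (143, true)),
    (405, .gen 357 (143, false)),
    (1595, .gen 357 (143, true)),
    (1729, .gen 1759 (140, false)),
    (1517, .gen 1067 (143, false)),
    (2935, .gen 3736 (139, false)),
    (2762, .gen 3736 (142, false)),
    (2643, .gen 1687 (142, false)),
    (2955, .gen 867 (143, false)),
    (2534, .gen 855 (143, false)),
    (205, .gen 855 (143, true)),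
    (1367, .gen 3211 (143, false)),
    (3003, .gen 3211 (143, true)),
    (1247, .gen 3627 (142, false)),
    (829, .gen 2079 (139, false)),
    (2906, .gen 2079 (141, true)),
    (2462, .gen 2079 (142, true)),
    (1167, .gen 1521 (138, false)),
    (3297, .gen 1215 (142, false)),
    (1027, .gen 1215 (143, false)),
    (76, .gen 1215 (143, true)),
    (1244, .gen 872 (140, false)),
    (2168, .gen 1949 (139, false)),
    (2876, .gen 1949 (142, true)),
    (378, .gen 536 (142, false)),
    (2922, .gen 3608 (138, false)),
    (1093, .gen 3608 (143, true)),
    (2185, .gen 1990 (143, false)),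
    (1825, .gen 1990 (143, true)),
    (1820, .gen 2501 (138, false)),
    (925, .gen 3071 (142, true)),
    (1798, .gen 2042 (138, false)),
    (1719, .gen 499 (142, true)),
    (2496, .gen 1529 (143, false)),
    (939, .gen 1125 (142, false)),
    (2539, .gen 1125 (143, false)),
    (1936, .gen 725 (142, true)),
    (2864, .gen 1787 (142, true)),
    (2398, .gen 2103 (138, false)),
    (3099, .gen 2103 (143, false)),
    (3528, .gen 2103 (143, true)),
    (170, .gen 2776 (138, false)),
    (118, .gen 2776 (140, false)),
    (81, .gen 2776 (141, false)),
    (3331, .gen 130 (143, true)),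
    (3429, .gen 3523 (142, false)),
    (1746, .gen 3523 (142, true)),
    (2705, .gen 1720 (143, false)),
    (1638, .gen 2789 (138, false)),
    (1257, .gen 2789 (139, false)),
    (216, .gen 2789 (140, false)),
    (89, .gen 2789 (141, true)),
    (736, .gen 2789 (142, false)),
    (698, .gen 2789 (142, true)),
    (46, .gen 1079 (138, false)),
    (1511, .gen 1079 (139, false)),
    (3045, .gen 1079 (140, false)),
    (3232, .gen 1079 (141, false)),
    (3470, .gen 1079 (142, false)),
    (1701, .gen 968 (143, false)),
    (3440, .gen 3546 (143, false)),
    (2626, .gen 566 (143, false)),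
    (3219, .gen 494 (143, false)),
    (3645, .gen 494 (143, true)),
    (3300, .gen 1666 (139, false)),
    (2505, .gen 1666 (140, false)),
    (3361, .gen 1666 (141, false)),
    (2150, .gen 1666 (141, true)),
    (1958, .gen 1666 (142, true)),
    (2907, .gen 516 (138, false)),
    (442, .gen 516 (140, false)),
    (922, .gen 516 (141, false)),
    (3452, .gen 516 (141, true)),
    (2954, .gen 516 (142, false)),
    (3207, .gen 516 (143, true)),
    (3659, .gen 2245 (143, false)),
    (742, .gen 2387 (142, true)),
    (3421, .gen 297 (143, false)),
    (458, .gen 2474 (142, false)),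
    (3777, .gen 2474 (143, true)),
    (1198, .gen 3254 (138, false)),
    (463, .gen 3394 (141, true)),
    (2787, .gen 3394 (142, false)),
    (3563, .gen 3394 (142, true)),
    (251, .gen 3410 (141, false)),
    (253, .gen 3410 (143, false)),
    (2039, .gen 2438 (141, true)),
    (3522, .gen 2645 (142, false)),
    (3249, .gen 3672 (142, false)),
    (2997, .gen 2479 (143, true)),
    (1073, .gen 1306 (142, true)),
    (3351, .gen 2027 (142, false)),
    (651, .gen 831 (138, false)),
    (1303, .gen 2216 (143, false)),
    (2264, .gen 2216 (143, true)),
    (1365, .gen 1710 (143, false)),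
    (1921, .gen 2454 (143, true))]

/-- Visits. -/
def v10_11 : List (ℕ × Src) :=
  [(826, .gen 154 (140, false)),
    (224, .gen 1158 (143, true)),
    (1639, .gen 2394 (139, false)),
    (1768, .gen 2394 (140, false)),
    (1897, .gen 2394 (141, false)),
    (1229, .gen 2394 (141, true)),
    (2872, .gen 2394 (142, false)),
    (2604, .gen 2394 (142, true)),
    (1574, .gen 532 (138, false)),
    (1258, .gen 532 (139, false)),
    (47, .gen 532 (141, false)),
    (392, .gen 2761 (142, false)),
    (991, .gen 1295 (142, true)),
    (701, .gen 1562 (142, false)),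
    (289, .gen 1562 (143, false)),
    (1043, .gen 1739 (143, false)),
    (2986, .gen 1739 (143, true)),
    (370, .gen 988 (143, false)),
    (2868, .gen 2983 (142, false)),
    (634, .gen 2724 (143, false)),
    (2038, .gen 309 (143, false)),
    (3718, .gen 1195 (142, false)),
    (1104, .gen 1195 (143, true)),
    (1715, .gen 768 (138, false)),
    (2773, .gen 3074 (138, false)),
    (2470, .gen 3074 (141, true)),
    (1513, .gen 3074 (142, false)),
    (91, .gen 3721 (138, false)),
    (2529, .gen 3721 (139, false)),
    (3424, .gen 3721 (140, false)),
    (3723, .gen 3721 (141, false)),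
    (3520, .gen 3721 (141, true)),
    (667, .gen 3721 (142, true)),
    (3051, .gen 3721 (143, true)),
    (795, .gen 3458 (143, false)),
    (560, .gen 3595 (143, false)),
    (1957, .gen 3595 (143, true)),
    (1446, .gen 3024 (139, false)),
    (1624, .gen 3024 (141, false)),
    (330, .gen 3024 (141, true)),
    (1018, .gen 3024 (142, true)),
    (530, .gen 1625 (138, false)),
    (3036, .gen 1625 (143, true)),
    (226, .gen 1498 (142, false)),
    (899, .gen 1498 (143, true)),
    (1633, .gen 680 (142, true)),
    (3582, .gen 3278 (138, false)),
    (3459, .gen 2084 (143, true)),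
    (3734, .gen 3159 (138, false)),
    (3481, .gen 3159 (143, true)),
    (1898, .gen 2269 (143, false)),
    (1436, .gen 2269 (143, true)),
    (1068, .gen 585 (142, false)),
    (3319, .gen 585 (143, false)),
    (1810, .gen 585 (143, true)),
    (3141, .gen 3291 (141, false)),
    (3770, .gen 3291 (143, false)),
    (609, .gen 653 (141, true)),
    (2116, .gen 2933 (142, false)),
    (2951, .gen 1036 (143, true)),
    (1146, .gen 2747 (138, false)),
    (1120, .gen 519 (142, true)),
    (1016, .gen 948 (142, false)),
    (2651, .gen 1887 (143, false)),
    (3006, .gen 2184 (142, false)),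
    (1481, .gen 2784 (143, false)),
    (1071, .gen 3348 (142, true)),
    (973, .gen 2898 (142, true)),
    (22, .gen 2526 (143, false)),
    (2335, .gen 2526 (143, true)),
    (239, .gen 905 (142, true)),
    (265, .gen 3559 (142, true)),
    (866, .gen 2097 (143, false)),
    (3038, .gen 2760 (143, true)),
    (548, .gen 3220 (143, true)),
    (1424, .gen 3336 (143, true)),
    (2671, .gen 2189 (138, false)),
    (2722, .gen 3008 (138, false)),
    (1539, .gen 1442 (142, false)),
    (3488, .gen 1442 (143, false)),
    (270, .gen 1442 (143, true)),
    (386, .gen 877 (142, false)),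
    (124, .gen 1790 (139, false)),
    (1552, .gen 1790 (141, false)),
    (2425, .gen 1790 (142, true)),
    (1360, .gen 1790 (143, true)),
    (2976, .gen 3236 (142, false)),
    (2965, .gen 3236 (143, true)),
    (62, .gen 1397 (139, false)),
    (1659, .gen 1598 (138, false)),
    (3487, .gen 1598 (143, false)),
    (3157, .gen 744 (143, false)),
    (1762, .gen 1541 (138, false)),
    (3774, .gen 2165 (143, false)),
    (2889, .gen 1042 (143, true)),
    (2978, .gen 1675 (142, false)),
    (1396, .gen 1352 (138, false)),
    (2567, .gen 1352 (140, false)),
    (2109, .gen 1352 (141, true)),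
    (1761, .gen 1352 (142, false)),
    (1962, .gen 1352 (142, true)),
    (459, .gen 928 (138, false)),
    (3338, .gen 928 (139, false)),
    (1056, .gen 928 (140, false)),
    (377, .gen 928 (141, false)),
    (2571, .gen 928 (142, false)),
    (2666, .gen 928 (142, true)),
    (2320, .gen 1082 (143, false)),
    (2267, .gen 1015 (139, false)),
    (350, .gen 1015 (142, true)),
    (828, .gen 80 (138, false)),
    (1039, .gen 3095 (138, false)),
    (858, .gen 3095 (139, false)),
    (953, .gen 3095 (141, true)),
    (703, .gen 3095 (142, false)),
    (1211, .gen 3095 (142, true)),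
    (1575, .gen 2707 (138, false)),
    (2569, .gen 2707 (140, false)),
    (756, .gen 623 (139, false)),
    (2654, .gen 623 (142, false)),
    (410, .gen 623 (142, true)),
    (1732, .gen 2879 (138, false)),
    (2599, .gen 2879 (139, false)),
    (2379, .gen 2879 (142, true)),
    (815, .gen 3565 (143, true)),
    (1811, .gen 561 (143, true)),
    (3763, .gen 1735 (141, true)),
    (1756, .gen 1735 (142, true)),
    (2783, .gen 3084 (141, true)),
    (3442, .gen 3084 (142, false)),
    (799, .gen 3084 (142, true)),
    (3150, .gen 3305 (142, true)),
    (2926, .gen 2512 (138, false)),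
    (1309, .gen 2512 (140, false)),
    (401, .gen 1769 (143, false)),
    (1060, .gen 3209 (142, true)),
    (1703, .gen 73 (143, false)),
    (2748, .gen 3554 (143, true)),
    (1412, .gen 3154 (143, true)),
    (502, .gen 3638 (138, false)),
    (876, .gen 3638 (143, false)),
    (578, .gen 2256 (138, false)),
    (2127, .gen 2020 (140, false)),
    (2306, .gen 2020 (142, false)),
    (1760, .gen 1554 (143, false)),
    (3012, .gen 1554 (143, true)),
    (1493, .gen 11 (143, false)),
    (965, .gen 2618 (138, false)),
    (3126, .gen 2618 (139, false)),
    (2040, .gen 2618 (140, false)),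
    (441, .gen 2618 (142, true)),
    (1941, .gen 2894 (142, false)),
    (1264, .gen 3449 (143, false)),
    (2621, .gen 1007 (143, true)),
    (1020, .gen 209 (141, false)),
    (2969, .gen 209 (141, true)),
    (1796, .gen 209 (142, true)),
    (307, .gen 1677 (143, false)),
    (2118, .gen 3259 (143, false)),
    (1671, .gen 746 (138, false)),
    (1620, .gen 746 (140, false)),
    (302, .gen 746 (141, false)),
    (120, .gen 746 (141, true)),
    (1445, .gen 746 (142, true)),
    (2329, .gen 1880 (140, false)),
    (493, .gen 1880 (141, false)),
    (2681, .gen 1880 (142, true)),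
    (1614, .gen 853 (143, false)),
    (591, .gen 853 (143, true)),
    (16, .gen 3187 (138, false)),
    (2100, .gen 2627 (142, false)),
    (529, .gen 945 (138, false)),
    (3274, .gen 945 (139, false)),
    (1717, .gen 945 (140, false)),
    (2916, .gen 945 (142, false)),
    (1993, .gen 2533 (138, false)),
    (2114, .gen 2533 (139, false)),
    (164, .gen 2533 (142, false)),
    (324, .gen 2533 (142, true)),
    (3378, .gen 2022 (140, false)),
    (2678, .gen 1153 (141, false)),
    (1017, .gen 1153 (142, false)),
    (102, .gen 1153 (142, true)),
    (1086, .gen 1202 (139, false)),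
    (3102, .gen 1202 (141, false)),
    (1106, .gen 1202 (141, true)),
    (723, .gen 1202 (142, false)),
    (1706, .gen 1202 (142, true)),
    (1752, .gen 511 (141, true)),
    (554, .gen 511 (142, true)),
    (2770, .gen 2089 (138, false)),
    (394, .gen 2089 (140, false)),
    (2845, .gen 2089 (142, true)),
    (747, .gen 764 (143, false)),
    (2752, .gen 764 (143, true)),
    (3746, .gen 2233 (142, true)),
    (1676, .gen 2155 (143, true)),
    (3275, .gen 783 (143, false)),
    (419, .gen 783 (143, true)),
    (1315, .gen 1795 (143, false)),
    (2577, .gen 1795 (143, true)),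
    (1126, .gen 3626 (139, false)),
    (146, .gen 3626 (142, false)),
    (3139, .gen 1738 (138, false)),
    (1099, .gen 2882 (143, false)),
    (1689, .gen 1240 (141, true)),
    (3743, .gen 1240 (142, false)),
    (2670, .gen 1116 (138, false)),
    (1725, .gen 1116 (139, false)),
    (1619, .gen 1116 (140, false)),
    (3101, .gen 1116 (141, false)),
    (3622, .gen 1116 (141, true)),
    (584, .gen 1116 (142, false)),
    (2005, .gen 789 (142, true)),
    (1814, .gen 2938 (143, false)),
    (3569, .gen 2938 (143, true)),
    (1213, .gen 2125 (138, false)),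
    (606, .gen 1871 (143, true)),
    (3388, .gen 1837 (142, false)),
    (1709, .gen 3670 (143, false)),
    (318, .gen 3670 (143, true)),
    (1076, .gen 627 (138, false)),
    (295, .gen 2239 (143, true)),
    (264, .gen 2033 (142, false)),
    (805, .gen 2033 (143, false)),
    (1113, .gen 926 (143, true)),
    (801, .gen 1271 (138, false)),
    (2081, .gen 1271 (141, false)),
    (986, .gen 1271 (142, true)),
    (3620, .gen 2303 (143, false)),
    (2930, .gen 3704 (143, false)),
    (1389, .gen 2198 (142, false)),
    (3524, .gen 2198 (143, false)),
    (3326, .gen 571 (138, false)),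
    (3240, .gen 571 (141, false)),
    (1601, .gen 571 (142, false)),
    (514, .gen 1358 (138, false)),
    (524, .gen 1358 (142, true)),
    (3283, .gen 42 (143, false)),
    (3137, .gen 3484 (138, false)),
    (2519, .gen 2224 (141, true)),
    (580, .gen 331 (138, false)),
    (199, .gen 331 (139, false)),
    (1268, .gen 331 (141, false)),
    (1221, .gen 331 (141, true)),
    (274, .gen 331 (142, true)),
    (1374, .gen 3226 (143, false)),
    (997, .gen 3226 (143, true)),
    (3023, .gen 3178 (138, false)),
    (223, .gen 427 (141, true)),
    (1477, .gen 480 (140, false)),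
    (1537, .gen 480 (142, false)),
    (915, .gen 374 (141, false)),
    (1485, .gen 850 (139, false)),
    (2758, .gen 850 (140, false)),
    (2866, .gen 850 (142, false)),
    (3156, .gen 850 (143, true)),
    (1361, .gen 807 (142, false)),
    (790, .gen 807 (143, true)),
    (3315, .gen 2144 (141, true)),
    (2711, .gen 2144 (142, false)),
    (3391, .gen 1504 (140, false)),
    (1453, .gen 1504 (143, false)),
    (1800, .gen 1504 (143, true)),
    (2656, .gen 3146 (140, false)),
    (1831, .gen 3146 (141, true)),
    (1722, .gen 3146 (142, false)),
    (2069, .gen 2484 (141, false)),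
    (1917, .gen 2484 (142, false)),
    (180, .gen 2484 (142, true)),
    (311, .gen 3374 (138, false)),
    (2481, .gen 3767 (140, false)),
    (1903, .gen 2745 (142, false)),
    (796, .gen 2900 (143, false)),
    (2555, .gen 1048 (141, true)),
    (862, .gen 832 (143, false)),
    (1716, .gen 3330 (143, false)),
    (478, .gen 535 (143, false)),
    (1260, .gen 2897 (138, false)),
    (3347, .gen 2550 (138, false)),
    (589, .gen 2941 (141, true)),
    (3080, .gen 2941 (142, true)),
    (2749, .gen 2941 (143, true)),
    (488, .gen 2782 (140, false)),
    (339, .gen 2782 (142, true)),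
    (450, .gen 1753 (142, true)),
    (1508, .gen 542 (143, true)),
    (1516, .gen 2713 (138, false)),
    (1654, .gen 2838 (140, false)),
    (1923, .gen 2838 (143, true)),
    (604, .gen 1733 (140, false)),
    (425, .gen 1066 (142, true)),
    (2893, .gen 971 (142, true)),
    (848, .gen 971 (143, false)),
    (686, .gen 3428 (141, true)),
    (2636, .gen 1387 (141, true)),
    (3174, .gen 1551 (142, true)),
    (107, .gen 78 (140, false)),
    (1128, .gen 528 (143, true)),
    (2225, .gen 17 (141, false))]

/-- Visits. -/
def v10_12 : List (ℕ × Src) :=
  [(3748, .gen 17 (142, false)),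
    (2967, .gen 2932 (138, false)),
    (3768, .gen 2932 (139, false)),
    (3244, .gen 2932 (140, false)),
    (1127, .gen 2932 (141, true)),
    (1908, .gen 2932 (143, true)),
    (137, .gen 1694 (138, false)),
    (531, .gen 2372 (140, false)),
    (3447, .gen 2372 (141, false)),
    (1231, .gen 2372 (143, false)),
    (143, .gen 1026 (143, true)),
    (248, .gen 615 (138, false)),
    (2581, .gen 399 (138, false)),
    (2582, .gen 399 (142, true)),
    (1942, .gen 1672 (139, false)),
    (2399, .gen 1672 (141, true)),
    (1275, .gen 363 (139, false)),
    (3375, .gen 3057 (143, false)),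
    (1325, .gen 2835 (141, false)),
    (1090, .gen 2835 (141, true)),
    (65, .gen 1405 (140, false)),
    (2973, .gen 1499 (138, false)),
    (3125, .gen 1499 (140, false)),
    (1381, .gen 1499 (141, false)),
    (2819, .gen 2392 (138, false)),
    (3664, .gen 2392 (140, false)),
    (2802, .gen 2392 (141, false)),
    (3148, .gen 2392 (141, true)),
    (1754, .gen 460 (138, false)),
    (1778, .gen 460 (141, false)),
    (2846, .gen 460 (141, true)),
    (2953, .gen 475 (142, false)),
    (544, .gen 381 (141, false)),
    (704, .gen 304 (140, false)),
    (721, .gen 304 (141, true)),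
    (3741, .gen 852 (143, false)),
    (1088, .gen 852 (143, true)),
    (1419, .gen 3063 (143, true)),
    (1518, .gen 3253 (143, false)),
    (203, .gen 2228 (139, false)),
    (1670, .gen 2228 (140, false)),
    (3368, .gen 2053 (138, false)),
    (320, .gen 2053 (140, false)),
    (1606, .gen 2053 (141, true)),
    (128, .gen 2284 (143, true)),
    (1849, .gen 3435 (142, true)),
    (465, .gen 314 (142, false)),
    (3661, .gen 314 (143, false)),
    (1292, .gen 2074 (143, false)),
    (803, .gen 2138 (138, false)),
    (1172, .gen 2138 (141, false)),
    (2549, .gen 2138 (142, true)),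
    (1053, .gen 2527 (142, true)),
    (3756, .gen 1478 (142, false)),
    (3217, .gen 2508 (143, false)),
    (1293, .gen 3553 (139, false)),
    (1308, .gen 3553 (143, false)),
    (1608, .gen 2503 (143, true)),
    (2517, .gen 1750 (143, false)),
    (457, .gen 2750 (143, false)),
    (3193, .gen 2750 (143, true)),
    (3026, .gen 2585 (142, true)),
    (2092, .gen 1896 (143, true)),
    (2037, .gen 1693 (140, false)),
    (2769, .gen 1693 (143, false)),
    (1698, .gen 726 (143, false)),
    (3539, .gen 592 (143, false)),
    (3515, .gen 592 (143, true)),
    (277, .gen 177 (138, false)),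
    (1311, .gen 177 (139, false)),
    (196, .gen 177 (141, false)),
    (3273, .gen 177 (141, true)),
    (3717, .gen 177 (142, false)),
    (3218, .gen 177 (142, true)),
    (2426, .gen 1899 (139, false)),
    (100, .gen 1899 (140, false)),
    (1463, .gen 765 (142, true)),
    (2180, .gen 122 (139, false)),
    (687, .gen 122 (141, false)),
    (722, .gen 122 (141, true)),
    (3677, .gen 122 (142, true)),
    (3416, .gen 3438 (143, false)),
    (2050, .gen 3462 (142, false)),
    (1731, .gen 3462 (143, false)),
    (611, .gen 436 (143, false)),
    (2794, .gen 2566 (142, false)),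
    (2065, .gen 1357 (142, false)),
    (1214, .gen 1799 (141, true)),
    (2848, .gen 3418 (143, true)),
    (3616, .gen 2167 (138, false)),
    (2615, .gen 2167 (143, false)),
    (2834, .gen 3131 (142, false)),
    (2795, .gen 148 (139, false)),
    (3130, .gen 148 (142, true)),
    (3093, .gen 233 (140, false)),
    (1869, .gen 2489 (143, false)),
    (513, .gen 2877 (140, false)),
    (3227, .gen 2877 (142, false)),
    (140, .gen 3327 (139, false)),
    (2734, .gen 3327 (142, true)),
    (2219, .gen 1510 (143, false)),
    (2362, .gen 3606 (142, false)),
    (2680, .gen 1573 (142, false)),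
    (3764, .gen 1889 (138, false)),
    (3248, .gen 1546 (143, true)),
    (1174, .gen 3100 (142, false)),
    (543, .gen 2840 (142, false)),
    (1950, .gen 455 (138, false)),
    (2307, .gen 1163 (143, true)),
    (2342, .gen 3271 (142, false)),
    (1296, .gen 3271 (143, true)),
    (886, .gen 1560 (141, false)),
    (2403, .gen 522 (142, true)),
    (395, .gen 598 (141, true)),
    (2119, .gen 570 (138, false)),
    (72, .gen 2272 (139, false)),
    (2837, .gen 1927 (142, false)),
    (9, .gen 303 (143, false)),
    (2011, .gen 1208 (142, true)),
    (1994, .gen 526 (143, true)),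
    (1854, .gen 3785 (142, false)),
    (549, .gen 1353 (142, true)),
    (2143, .gen 2692 (141, false)),
    (3321, .gen 2193 (141, false)),
    (2940, .gen 1466 (143, true)),
    (1910, .gen 3339 (143, false)),
    (1457, .gen 1770 (138, false)),
    (21, .gen 2562 (142, true)),
    (1628, .gen 1307 (143, false)),
    (1345, .gen 2780 (142, true)),
    (1974, .gen 13 (143, false)),
    (192, .gen 3307 (143, true)),
    (3583, .gen 3709 (143, true)),
    (2410, .gen 292 (143, true)),
    (152, .gen 891 (140, false)),
    (2757, .gen 453 (142, false)),
    (1547, .gen 1233 (141, false)),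
    (3513, .gen 2395 (138, false)),
    (139, .gen 2395 (141, true)),
    (1734, .gen 2414 (142, false)),
    (79, .gen 2974 (140, false)),
    (1184, .gen 2974 (141, false)),
    (2850, .gen 1468 (140, false)),
    (2281, .gen 821 (138, false)),
    (1846, .gen 821 (140, false)),
    (3123, .gen 821 (141, true)),
    (2397, .gen 3288 (141, false)),
    (1972, .gen 1723 (143, false)),
    (1152, .gen 3531 (138, false)),
    (2665, .gen 916 (143, true)),
    (1077, .gen 2948 (143, true)),
    (2418, .gen 878 (142, true)),
    (3688, .gen 3613 (141, false)),
    (2994, .gen 2401 (140, false)),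
    (1300, .gen 907 (141, false)),
    (1190, .gen 418 (141, true)),
    (153, .gen 418 (142, true)),
    (2494, .gen 1249 (140, false)),
    (3017, .gen 404 (143, true)),
    (257, .gen 2764 (138, false)),
    (2416, .gen 758 (143, false)),
    (202, .gen 758 (143, true)),
    (3065, .gen 743 (142, false)),
    (3707, .gen 2476 (142, true)),
    (468, .gen 111 (138, false)),
    (110, .gen 935 (142, false)),
    (3046, .gen 1906 (142, true)),
    (603, .gen 1532 (142, false)),
    (2964, .gen 972 (141, true)),
    (3337, .gen 1525 (143, false)),
    (2731, .gen 638 (142, true)),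
    (55, .gen 1978 (143, true)),
    (824, .gen 630 (142, true)),
    (2287, .gen 3055 (140, false)),
    (2890, .gen 3055 (142, false)),
    (2592, .gen 1410 (140, false)),
    (949, .gen 2791 (143, false)),
    (1905, .gen 464 (142, false)),
    (1472, .gen 2371 (138, false)),
    (2359, .gen 2279 (143, false)),
    (1013, .gen 2279 (143, true)),
    (1248, .gen 2013 (143, false)),
    (1721, .gen 176 (141, true)),
    (3415, .gen 504 (142, true)),
    (1054, .gen 1636 (140, false)),
    (1940, .gen 607 (141, false)),
    (3689, .gen 2815 (140, false)),
    (1982, .gen 2888 (143, true)),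
    (2521, .gen 3014 (143, true)),
    (2728, .gen 2334 (139, false)),
    (1109, .gen 3451 (143, false)),
    (3654, .gen 1600 (143, true)),
    (835, .gen 829 (143, true)),
    (1193, .gen 2462 (143, false)),
    (3566, .gen 939 (143, false))]

/-- The visits of node 10. -/
def visits10 : List (ℕ × Src) :=
  v10_0 ++ v10_1 ++ v10_2 ++ v10_3 ++ v10_4 ++ v10_5 ++ v10_6 ++ v10_7 ++ v10_8 ++ v10_9 ++ v10_10 ++ v10_11 ++ v10_12

/-- Visits. -/
def v11_0 : List (ℕ × Src) :=
  [(168, .edge 146 true),
    (119, .edge 151 false),
    (3381, .edge 152 false),
    (2348, .edge 154 false),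
    (58, .edge 155 false),
    (26, .edge 155 true),
    (238, .edge 156 false),
    (1110, .edge 157 false),
    (109, .edge 157 true),
    (498, .edge 158 false),
    (310, .edge 159 false),
    (470, .edge 159 true),
    (3687, .edge 199 false),
    (847, .edge 273 false),
    (758, .edge 435 true),
    (182, .edge 1490 true),
    (1965, .edge 1873 false),
    (1785, .gen 168 (150, false)),
    (581, .gen 168 (153, false)),
    (2429, .gen 168 (153, true)),
    (961, .gen 168 (244, false)),
    (50, .gen 168 (244, true)),
    (3620, .gen 168 (245, false)),
    (1303, .gen 168 (245, true)),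
    (2117, .gen 119 (245, false)),
    (2471, .gen 119 (245, true)),
    (2856, .gen 3381 (148, false)),
    (1634, .gen 3381 (148, true)),
    (334, .gen 3381 (244, false)),
    (3366, .gen 3381 (245, false)),
    (403, .gen 3381 (245, true)),
    (1259, .gen 2348 (147, false)),
    (1642, .gen 2348 (244, false)),
    (996, .gen 2348 (244, true)),
    (1393, .gen 2348 (245, false)),
    (163, .gen 2348 (245, true)),
    (99, .gen 58 (148, false)),
    (3106, .gen 58 (153, true)),
    (791, .gen 58 (244, false)),
    (2229, .gen 58 (244, true)),
    (421, .gen 58 (245, false)),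
    (3186, .gen 58 (245, true)),
    (1918, .gen 26 (148, true)),
    (2275, .gen 26 (153, false)),
    (1351, .gen 26 (245, false)),
    (3151, .gen 26 (245, true)),
    (631, .gen 238 (148, false)),
    (3749, .gen 238 (153, true)),
    (138, .gen 238 (244, false)),
    (3413, .gen 238 (245, false)),
    (2478, .gen 238 (245, true)),
    (344, .gen 1110 (244, false)),
    (276, .gen 1110 (244, true)),
    (1302, .gen 1110 (245, false)),
    (1653, .gen 1110 (245, true)),
    (2637, .gen 109 (245, false)),
    (2075, .gen 109 (245, true)),
    (2818, .gen 498 (245, false)),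
    (3650, .gen 498 (245, true)),
    (1955, .gen 310 (153, false)),
    (1394, .gen 310 (153, true)),
    (3210, .gen 310 (245, false)),
    (1382, .gen 310 (245, true)),
    (1310, .gen 470 (153, false)),
    (2240, .gen 470 (153, true)),
    (1836, .gen 470 (245, false)),
    (279, .gen 470 (245, true)),
    (3081, .gen 3687 (147, false)),
    (2989, .gen 3687 (148, false)),
    (2048, .gen 3687 (149, false)),
    (2732, .gen 3687 (153, false)),
    (1479, .gen 3687 (153, true)),
    (531, .gen 847 (147, false)),
    (3003, .gen 847 (148, false)),
    (465, .gen 847 (148, true)),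
    (785, .gen 847 (149, false)),
    (1764, .gen 847 (150, false)),
    (90, .gen 847 (153, false)),
    (958, .gen 847 (153, true)),
    (908, .gen 847 (244, false)),
    (231, .gen 847 (244, true)),
    (3332, .gen 847 (245, false)),
    (3715, .gen 847 (245, true)),
    (938, .gen 758 (148, false)),
    (3609, .gen 758 (149, false)),
    (3291, .gen 758 (150, false)),
    (130, .gen 758 (153, false)),
    (2438, .gen 758 (153, true)),
    (1818, .gen 758 (244, false)),
    (874, .gen 758 (244, true)),
    (3622, .gen 758 (245, false)),
    (2837, .gen 758 (245, true)),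
    (715, .gen 182 (147, false)),
    (680, .gen 182 (148, false)),
    (1274, .gen 182 (148, true)),
    (1516, .gen 182 (149, false)),
    (2713, .gen 182 (150, false)),
    (2743, .gen 182 (153, false)),
    (3571, .gen 182 (153, true)),
    (1772, .gen 182 (244, false)),
    (123, .gen 182 (244, true)),
    (3580, .gen 182 (245, false)),
    (3424, .gen 182 (245, true)),
    (2774, .gen 1785 (153, false)),
    (1314, .gen 1785 (153, true)),
    (904, .gen 1785 (244, false)),
    (1298, .gen 1785 (244, true)),
    (1109, .gen 1785 (245, false)),
    (1361, .gen 1785 (245, true)),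
    (735, .gen 581 (153, false)),
    (2614, .gen 581 (244, false)),
    (1720, .gen 581 (244, true)),
    (3096, .gen 581 (245, false)),
    (75, .gen 581 (245, true)),
    (8, .gen 2429 (244, false)),
    (3751, .gen 2429 (244, true)),
    (1862, .gen 2429 (245, false)),
    (31, .gen 2429 (245, true)),
    (1362, .gen 961 (148, false)),
    (518, .gen 961 (148, true)),
    (2652, .gen 961 (153, false)),
    (2715, .gen 961 (153, true)),
    (3180, .gen 961 (245, false)),
    (3223, .gen 961 (245, true)),
    (1171, .gen 50 (147, false)),
    (1860, .gen 50 (148, false)),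
    (1708, .gen 50 (148, true)),
    (2753, .gen 50 (150, false)),
    (3390, .gen 50 (153, false)),
    (3220, .gen 50 (245, false)),
    (3526, .gen 50 (245, true)),
    (318, .gen 3620 (147, false)),
    (1353, .gen 3620 (153, false)),
    (2925, .gen 3620 (153, true)),
    (3760, .gen 3620 (244, false)),
    (2218, .gen 3620 (244, true)),
    (3415, .gen 1303 (147, false)),
    (1649, .gen 1303 (153, false)),
    (3586, .gen 1303 (153, true)),
    (1603, .gen 1303 (244, false)),
    (1841, .gen 1303 (244, true)),
    (1386, .gen 2117 (153, false)),
    (3612, .gen 2117 (244, false)),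
    (1170, .gen 2471 (153, false)),
    (2056, .gen 2856 (148, false)),
    (649, .gen 2856 (244, false)),
    (2594, .gen 2856 (244, true)),
    (3574, .gen 2856 (245, false)),
    (127, .gen 2856 (245, true)),
    (2675, .gen 1634 (245, false)),
    (567, .gen 1634 (245, true)),
    (812, .gen 334 (147, false)),
    (1356, .gen 334 (148, false)),
    (3199, .gen 334 (148, true)),
    (1230, .gen 334 (153, true)),
    (3772, .gen 334 (245, false)),
    (3455, .gen 334 (245, true)),
    (33, .gen 3366 (153, false)),
    (2524, .gen 3366 (244, false)),
    (1051, .gen 3366 (244, true)),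
    (2102, .gen 403 (153, false)),
    (1986, .gen 403 (153, true)),
    (3371, .gen 403 (244, false)),
    (2030, .gen 403 (244, true)),
    (360, .gen 1259 (244, false)),
    (3549, .gen 1259 (244, true)),
    (1967, .gen 1259 (245, false)),
    (2192, .gen 1259 (245, true)),
    (2901, .gen 1642 (148, false)),
    (3066, .gen 1642 (148, true)),
    (2824, .gen 1642 (245, false)),
    (3486, .gen 1642 (245, true)),
    (1572, .gen 996 (147, false)),
    (2738, .gen 996 (148, false)),
    (2768, .gen 996 (148, true)),
    (1779, .gen 996 (153, false)),
    (957, .gen 996 (245, false)),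
    (2305, .gen 996 (245, true)),
    (368, .gen 1393 (153, false)),
    (2066, .gen 163 (244, false)),
    (376, .gen 99 (153, false)),
    (315, .gen 99 (244, false)),
    (1081, .gen 99 (244, true)),
    (3789, .gen 99 (245, false)),
    (3212, .gen 99 (245, true)),
    (3395, .gen 3106 (147, false)),
    (48, .gen 3106 (244, false)),
    (272, .gen 3106 (244, true)),
    (1886, .gen 3106 (245, false)),
    (1714, .gen 3106 (245, true)),
    (398, .gen 791 (147, false)),
    (621, .gen 791 (148, false)),
    (215, .gen 791 (148, true)),
    (1817, .gen 791 (149, false)),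
    (990, .gen 791 (153, false)),
    (2605, .gen 791 (153, true)),
    (2173, .gen 791 (245, false)),
    (149, .gen 2229 (148, true)),
    (910, .gen 2229 (153, false)),
    (3039, .gen 2229 (245, false)),
    (2321, .gen 2229 (245, true)),
    (645, .gen 421 (147, false)),
    (1629, .gen 421 (244, false)),
    (3602, .gen 421 (244, true)),
    (2765, .gen 3186 (153, false)),
    (1648, .gen 3186 (153, true)),
    (3175, .gen 3186 (244, false)),
    (3076, .gen 3186 (244, true)),
    (3034, .gen 1918 (245, false)),
    (2354, .gen 1918 (245, true)),
    (885, .gen 2275 (244, false)),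
    (3564, .gen 2275 (245, false)),
    (2804, .gen 2275 (245, true)),
    (2258, .gen 1351 (153, false)),
    (3658, .gen 1351 (244, false)),
    (1032, .gen 1351 (244, true)),
    (1536, .gen 3151 (147, false)),
    (1227, .gen 3151 (153, false)),
    (2232, .gen 3151 (153, true)),
    (2717, .gen 3151 (244, true)),
    (1490, .gen 631 (245, false)),
    (3584, .gen 631 (245, true)),
    (3781, .gen 3749 (147, false)),
    (3604, .gen 3749 (245, false)),
    (1540, .gen 3749 (245, true)),
    (420, .gen 138 (147, false)),
    (291, .gen 138 (148, false)),
    (556, .gen 138 (148, true)),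
    (2009, .gen 138 (153, true)),
    (2169, .gen 138 (245, false)),
    (3560, .gen 3413 (147, false)),
    (3299, .gen 3413 (153, false)),
    (1793, .gen 3413 (244, true)),
    (1656, .gen 2478 (153, true)),
    (2609, .gen 2478 (244, true)),
    (1450, .gen 276 (245, true)),
    (1023, .gen 1955 (153, false)),
    (3444, .gen 1955 (245, false)),
    (3617, .gen 1955 (245, true)),
    (1867, .gen 1394 (244, false)),
    (3728, .gen 1394 (245, false)),
    (1166, .gen 1394 (245, true)),
    (1427, .gen 3210 (147, false)),
    (2903, .gen 1382 (147, false)),
    (3461, .gen 1310 (245, false)),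
    (594, .gen 1310 (245, true)),
    (1617, .gen 2240 (245, false)),
    (3666, .gen 2240 (245, true)),
    (2919, .gen 1836 (147, false)),
    (454, .gen 279 (147, false)),
    (2886, .gen 3081 (148, false)),
    (1875, .gen 3081 (149, false)),
    (572, .gen 3081 (153, false)),
    (3072, .gen 3081 (153, true)),
    (856, .gen 3081 (245, false)),
    (1474, .gen 3081 (245, true)),
    (2944, .gen 2989 (149, false)),
    (1421, .gen 2989 (153, false)),
    (2273, .gen 2989 (153, true)),
    (669, .gen 2048 (153, false)),
    (3489, .gen 2048 (153, true)),
    (1502, .gen 2048 (244, false)),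
    (2443, .gen 2048 (244, true)),
    (1824, .gen 2732 (153, false)),
    (2345, .gen 2732 (244, false)),
    (1570, .gen 1479 (244, false)),
    (317, .gen 1479 (245, false)),
    (95, .gen 531 (148, false)),
    (2372, .gen 531 (150, false)),
    (60, .gen 531 (153, false)),
    (3556, .gen 531 (153, true)),
    (134, .gen 531 (244, false)),
    (1058, .gen 531 (244, true)),
    (3041, .gen 531 (245, false)),
    (3519, .gen 531 (245, true)),
    (2480, .gen 3003 (148, false)),
    (2369, .gen 3003 (150, false)),
    (2839, .gen 3003 (153, false)),
    (2036, .gen 3003 (153, true)),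
    (3590, .gen 3003 (244, false)),
    (2397, .gen 3003 (244, true)),
    (3552, .gen 3003 (245, false)),
    (2149, .gen 3003 (245, true)),
    (2696, .gen 465 (149, false)),
    (1072, .gen 465 (150, false)),
    (2838, .gen 465 (153, false)),
    (3391, .gen 465 (153, true)),
    (664, .gen 465 (244, false)),
    (289, .gen 465 (244, true)),
    (2792, .gen 465 (245, false)),
    (2689, .gen 465 (245, true)),
    (3200, .gen 785 (150, false)),
    (1654, .gen 785 (153, false)),
    (877, .gen 785 (153, true)),
    (1742, .gen 785 (244, false)),
    (100, .gen 785 (244, true)),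
    (2165, .gen 785 (245, false)),
    (3762, .gen 785 (245, true)),
    (3774, .gen 1764 (153, false)),
    (1020, .gen 1764 (153, true))]

/-- Visits. -/
def v11_1 : List (ℕ × Src) :=
  [(2785, .gen 1764 (244, false)),
    (361, .gen 1764 (244, true)),
    (1, .gen 1764 (245, false)),
    (2122, .gen 1764 (245, true)),
    (3215, .gen 90 (147, false)),
    (3236, .gen 90 (148, false)),
    (1066, .gen 90 (150, false)),
    (364, .gen 90 (153, false)),
    (1496, .gen 90 (244, false)),
    (3020, .gen 90 (244, true)),
    (2933, .gen 90 (245, false)),
    (1311, .gen 90 (245, true)),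
    (1766, .gen 958 (147, false)),
    (3509, .gen 958 (148, true)),
    (3209, .gen 958 (150, false)),
    (2915, .gen 958 (244, false)),
    (3730, .gen 958 (244, true)),
    (580, .gen 958 (245, false)),
    (177, .gen 958 (245, true)),
    (2947, .gen 908 (147, false)),
    (2568, .gen 908 (148, false)),
    (332, .gen 908 (148, true)),
    (2382, .gen 908 (149, false)),
    (1241, .gen 908 (150, false)),
    (2357, .gen 908 (153, false)),
    (1161, .gen 908 (153, true)),
    (3467, .gen 908 (245, false)),
    (1329, .gen 908 (245, true)),
    (3432, .gen 231 (147, false)),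
    (2411, .gen 231 (148, false)),
    (471, .gen 231 (148, true)),
    (3753, .gen 231 (149, false)),
    (3185, .gen 231 (150, false)),
    (2721, .gen 231 (153, false)),
    (3421, .gen 231 (153, true)),
    (1741, .gen 231 (245, false)),
    (2320, .gen 231 (245, true)),
    (2267, .gen 3332 (147, false)),
    (1949, .gen 3332 (149, false)),
    (1874, .gen 3332 (153, false)),
    (3615, .gen 3332 (153, true)),
    (2121, .gen 3332 (244, false)),
    (2072, .gen 3332 (244, true)),
    (933, .gen 3715 (147, false)),
    (1843, .gen 3715 (149, false)),
    (198, .gen 3715 (153, false)),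
    (3705, .gen 3715 (153, true)),
    (393, .gen 3715 (244, false)),
    (1368, .gen 3715 (244, true)),
    (2950, .gen 938 (149, false)),
    (3485, .gen 938 (150, false)),
    (1863, .gen 938 (153, false)),
    (980, .gen 938 (153, true)),
    (1401, .gen 938 (244, false)),
    (396, .gen 938 (244, true)),
    (2050, .gen 938 (245, false)),
    (805, .gen 938 (245, true)),
    (3493, .gen 3609 (150, false)),
    (1265, .gen 3609 (153, false)),
    (2486, .gen 3609 (153, true)),
    (525, .gen 3609 (244, false)),
    (755, .gen 3609 (244, true)),
    (3741, .gen 3609 (245, false)),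
    (2692, .gen 3609 (245, true)),
    (2039, .gen 3291 (153, false)),
    (732, .gen 3291 (153, true)),
    (175, .gen 3291 (244, false)),
    (1966, .gen 3291 (244, true)),
    (457, .gen 3291 (245, false)),
    (1636, .gen 3291 (245, true)),
    (3303, .gen 130 (148, false)),
    (1631, .gen 130 (153, false)),
    (3294, .gen 130 (244, false)),
    (3171, .gen 130 (244, true)),
    (3744, .gen 130 (245, false)),
    (1565, .gen 130 (245, true)),
    (2420, .gen 2438 (148, true)),
    (3094, .gen 2438 (244, false)),
    (2589, .gen 2438 (244, true)),
    (2391, .gen 2438 (245, false)),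
    (200, .gen 2438 (245, true)),
    (733, .gen 1818 (148, false)),
    (2447, .gen 1818 (148, true)),
    (3386, .gen 1818 (149, false)),
    (2610, .gen 1818 (153, false)),
    (3092, .gen 1818 (153, true)),
    (3002, .gen 1818 (245, false)),
    (2565, .gen 1818 (245, true)),
    (1338, .gen 874 (147, false)),
    (3140, .gen 874 (148, false)),
    (2624, .gen 874 (148, true)),
    (3543, .gen 874 (149, false)),
    (258, .gen 874 (153, false)),
    (2095, .gen 874 (153, true)),
    (638, .gen 874 (245, false)),
    (3726, .gen 874 (245, true)),
    (2521, .gen 3622 (147, false)),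
    (3566, .gen 3622 (149, false)),
    (3370, .gen 3622 (153, false)),
    (1662, .gen 3622 (153, true)),
    (1452, .gen 3622 (244, false)),
    (2346, .gen 3622 (244, true)),
    (3335, .gen 2837 (147, false)),
    (478, .gen 2837 (149, false)),
    (592, .gen 2837 (153, false)),
    (3075, .gen 2837 (153, true)),
    (3547, .gen 2837 (244, true)),
    (2069, .gen 715 (148, false)),
    (2969, .gen 715 (148, true)),
    (1882, .gen 715 (149, false)),
    (3782, .gen 715 (150, false)),
    (2581, .gen 715 (153, false)),
    (2826, .gen 715 (153, true)),
    (1187, .gen 715 (244, false)),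
    (3300, .gen 715 (244, true)),
    (3269, .gen 715 (245, false)),
    (3014, .gen 715 (245, true)),
    (2656, .gen 680 (148, false)),
    (1498, .gen 680 (149, false)),
    (2424, .gen 680 (150, false)),
    (151, .gen 680 (153, false)),
    (3263, .gen 680 (153, true)),
    (20, .gen 680 (244, false)),
    (3088, .gen 680 (244, true)),
    (3721, .gen 680 (245, false)),
    (1140, .gen 680 (245, true)),
    (1404, .gen 1274 (149, false)),
    (2191, .gen 1274 (150, false)),
    (209, .gen 1274 (153, false)),
    (2407, .gen 1274 (153, true)),
    (0, .gen 1274 (244, false)),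
    (1440, .gen 1274 (244, true)),
    (3712, .gen 1274 (245, false)),
    (2436, .gen 1274 (245, true)),
    (1366, .gen 1516 (150, false)),
    (2288, .gen 1516 (153, false)),
    (684, .gen 1516 (153, true)),
    (991, .gen 1516 (244, false)),
    (236, .gen 1516 (244, true)),
    (3400, .gen 1516 (245, false)),
    (3272, .gen 1516 (245, true)),
    (3576, .gen 2713 (153, false)),
    (965, .gen 2713 (153, true)),
    (944, .gen 2713 (244, false)),
    (3121, .gen 2713 (244, true)),
    (2307, .gen 2713 (245, false)),
    (2074, .gen 2743 (147, false)),
    (2562, .gen 2743 (148, false)),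
    (3478, .gen 2743 (150, false)),
    (1543, .gen 2743 (153, false)),
    (3367, .gen 2743 (244, false)),
    (2035, .gen 2743 (244, true)),
    (2841, .gen 2743 (245, false)),
    (1796, .gen 2743 (245, true)),
    (2198, .gen 3571 (147, false)),
    (2481, .gen 3571 (148, true)),
    (1990, .gen 3571 (150, false)),
    (2013, .gen 3571 (244, false)),
    (3659, .gen 3571 (244, true)),
    (736, .gen 3571 (245, false)),
    (2528, .gen 3571 (245, true)),
    (1076, .gen 1772 (147, false)),
    (651, .gen 1772 (148, false)),
    (1294, .gen 1772 (148, true)),
    (2197, .gen 1772 (149, false)),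
    (1222, .gen 1772 (150, false)),
    (2882, .gen 1772 (153, false)),
    (1264, .gen 1772 (153, true)),
    (2161, .gen 1772 (245, false)),
    (1903, .gen 1772 (245, true)),
    (1735, .gen 123 (147, false)),
    (3361, .gen 123 (148, false)),
    (2531, .gen 123 (148, true)),
    (2850, .gen 123 (149, false)),
    (1608, .gen 123 (150, false)),
    (1997, .gen 123 (153, false)),
    (3049, .gen 123 (153, true)),
    (3281, .gen 123 (245, false)),
    (3355, .gen 123 (245, true)),
    (2216, .gen 3580 (147, false)),
    (1003, .gen 3580 (149, false)),
    (3311, .gen 3580 (153, false)),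
    (2454, .gen 3580 (153, true)),
    (1919, .gen 3580 (244, true)),
    (2734, .gen 3424 (147, false)),
    (91, .gen 3424 (149, false)),
    (280, .gen 3424 (153, false)),
    (2093, .gen 3424 (153, true)),
    (1691, .gen 2774 (153, false)),
    (85, .gen 2774 (244, false)),
    (62, .gen 2774 (244, true)),
    (2008, .gen 2774 (245, false)),
    (1687, .gen 2774 (245, true)),
    (2, .gen 1314 (244, false)),
    (1344, .gen 1314 (244, true)),
    (1807, .gen 1314 (245, false)),
    (367, .gen 1314 (245, true)),
    (1406, .gen 904 (148, false)),
    (2929, .gen 904 (148, true)),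
    (3469, .gen 904 (153, false)),
    (1096, .gen 904 (153, true)),
    (1740, .gen 904 (245, false)),
    (1879, .gen 904 (245, true)),
    (1891, .gen 1298 (148, false)),
    (1012, .gen 1298 (148, true)),
    (3410, .gen 1298 (153, false)),
    (694, .gen 1298 (245, false)),
    (2099, .gen 1298 (245, true)),
    (1716, .gen 1109 (147, false)),
    (3161, .gen 1109 (244, false)),
    (2469, .gen 1109 (244, true)),
    (2790, .gen 1361 (147, false)),
    (1694, .gen 1361 (153, false)),
    (1747, .gen 1361 (153, true)),
    (2408, .gen 1361 (244, false)),
    (2945, .gen 1361 (244, true)),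
    (2946, .gen 735 (244, false)),
    (810, .gen 735 (244, true)),
    (1718, .gen 2614 (148, true)),
    (2115, .gen 2614 (153, true)),
    (284, .gen 2614 (245, false)),
    (1337, .gen 2614 (245, true)),
    (530, .gen 1720 (147, false)),
    (1018, .gen 1720 (148, false)),
    (3635, .gen 1720 (148, true)),
    (650, .gen 1720 (150, false)),
    (1724, .gen 1720 (153, false)),
    (3445, .gen 1720 (153, true)),
    (2687, .gen 1720 (245, false)),
    (3252, .gen 1720 (245, true)),
    (3462, .gen 3096 (153, false)),
    (591, .gen 3096 (153, true)),
    (2538, .gen 3096 (244, false)),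
    (1652, .gen 3096 (244, true)),
    (3273, .gen 75 (153, false)),
    (1927, .gen 75 (153, true)),
    (3714, .gen 75 (244, false)),
    (2298, .gen 75 (244, true)),
    (1251, .gen 8 (148, true)),
    (1713, .gen 8 (245, false)),
    (3409, .gen 8 (245, true)),
    (2724, .gen 3751 (147, false)),
    (2430, .gen 3751 (148, false)),
    (745, .gen 3751 (150, false)),
    (1765, .gen 3751 (245, false)),
    (3618, .gen 3751 (245, true)),
    (616, .gen 1862 (153, false)),
    (994, .gen 1862 (153, true)),
    (2522, .gen 1862 (244, false)),
    (854, .gen 1862 (244, true)),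
    (1520, .gen 31 (153, false)),
    (608, .gen 31 (153, true)),
    (2018, .gen 31 (244, false)),
    (1289, .gen 31 (244, true)),
    (461, .gen 1362 (148, false)),
    (170, .gen 1362 (244, true)),
    (786, .gen 1362 (245, false)),
    (2377, .gen 1362 (245, true)),
    (1673, .gen 518 (153, false)),
    (3505, .gen 518 (153, true)),
    (1835, .gen 518 (244, true)),
    (2083, .gen 518 (245, true)),
    (218, .gen 2652 (148, false)),
    (1981, .gen 2652 (150, false)),
    (1514, .gen 2652 (244, false)),
    (309, .gen 2652 (244, true)),
    (3112, .gen 2652 (245, false)),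
    (2487, .gen 2652 (245, true)),
    (2070, .gen 2715 (150, false)),
    (739, .gen 2715 (244, true)),
    (2458, .gen 2715 (245, false)),
    (3279, .gen 2715 (245, true)),
    (2683, .gen 3180 (147, false)),
    (349, .gen 3180 (149, false)),
    (3702, .gen 3180 (153, true)),
    (2825, .gen 3180 (244, false)),
    (3645, .gen 3180 (244, true)),
    (2981, .gen 3223 (147, false)),
    (3222, .gen 3223 (149, false)),
    (2146, .gen 3223 (153, true)),
    (3680, .gen 3223 (244, false)),
    (2065, .gen 3223 (244, true)),
    (81, .gen 1171 (153, false)),
    (872, .gen 1171 (244, false)),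
    (3098, .gen 1171 (245, false)),
    (3313, .gen 1171 (245, true)),
    (251, .gen 1860 (153, true)),
    (1397, .gen 1860 (244, false)),
    (1074, .gen 1860 (245, false)),
    (1611, .gen 1708 (244, false)),
    (1426, .gen 2753 (153, false)),
    (1244, .gen 2753 (244, false)),
    (273, .gen 2753 (244, true)),
    (2771, .gen 2753 (245, true)),
    (1625, .gen 3390 (148, false)),
    (1866, .gen 3390 (244, false)),
    (3495, .gen 3390 (244, true)),
    (2834, .gen 3390 (245, false)),
    (764, .gen 3390 (245, true)),
    (2251, .gen 3220 (244, true))]

/-- Visits. -/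
def v11_2 : List (ℕ × Src) :=
  [(2396, .gen 3526 (147, false)),
    (2586, .gen 3526 (149, false)),
    (473, .gen 3526 (153, false)),
    (2777, .gen 3526 (244, true)),
    (426, .gen 318 (244, false)),
    (832, .gen 318 (244, true)),
    (3407, .gen 1353 (244, false)),
    (98, .gen 1353 (245, false)),
    (505, .gen 2925 (244, false)),
    (2512, .gen 2925 (244, true)),
    (239, .gen 2925 (245, false)),
    (3336, .gen 2925 (245, true)),
    (3133, .gen 3760 (147, false)),
    (389, .gen 3760 (149, false)),
    (2939, .gen 3760 (153, false)),
    (1456, .gen 2218 (147, false)),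
    (1030, .gen 2218 (148, false)),
    (3434, .gen 2218 (149, false)),
    (2006, .gen 2218 (153, true)),
    (61, .gen 3415 (153, false)),
    (137, .gen 3415 (153, true)),
    (2861, .gen 3415 (244, false)),
    (2176, .gen 3415 (244, true)),
    (3397, .gen 1649 (244, false)),
    (2710, .gen 1649 (244, true)),
    (1495, .gen 1649 (245, false)),
    (3359, .gen 1649 (245, true)),
    (865, .gen 3586 (245, false)),
    (2097, .gen 3586 (245, true)),
    (2723, .gen 1603 (147, false)),
    (1637, .gen 1603 (148, false)),
    (2576, .gen 1603 (148, true)),
    (3724, .gen 1603 (153, true)),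
    (3122, .gen 1841 (147, false)),
    (2786, .gen 1841 (153, true)),
    (23, .gen 1841 (245, true)),
    (1883, .gen 2056 (245, false)),
    (3533, .gen 649 (245, false)),
    (2491, .gen 649 (245, true)),
    (635, .gen 2594 (147, false)),
    (2737, .gen 2594 (148, false)),
    (1489, .gen 2594 (245, false)),
    (3758, .gen 3574 (153, false)),
    (2080, .gen 127 (153, false)),
    (1730, .gen 127 (153, true)),
    (1943, .gen 127 (244, false)),
    (1602, .gen 2675 (153, false)),
    (1291, .gen 2675 (244, false)),
    (2390, .gen 567 (244, false)),
    (954, .gen 812 (148, true)),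
    (2980, .gen 812 (245, false)),
    (1236, .gen 1356 (245, false)),
    (2650, .gen 3199 (245, true)),
    (3422, .gen 1230 (245, true)),
    (3501, .gen 3772 (147, false)),
    (3015, .gen 3772 (244, true)),
    (2756, .gen 3455 (244, false)),
    (1801, .gen 3455 (244, true)),
    (1010, .gen 33 (244, false)),
    (2135, .gen 33 (244, true)),
    (1920, .gen 33 (245, false)),
    (883, .gen 1051 (147, false)),
    (3514, .gen 1051 (148, false)),
    (3492, .gen 1051 (150, false)),
    (2182, .gen 1967 (244, false)),
    (2924, .gen 2192 (153, false)),
    (940, .gen 315 (148, false)),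
    (700, .gen 315 (148, true)),
    (1881, .gen 315 (245, false)),
    (129, .gen 315 (245, true)),
    (1378, .gen 1081 (245, false)),
    (3127, .gen 3789 (244, false)),
    (250, .gen 3212 (244, false)),
    (1486, .gen 48 (245, false)),
    (1160, .gen 272 (245, false)),
    (956, .gen 1714 (244, false)),
    (1571, .gen 215 (245, true)),
    (3703, .gen 2173 (244, true)),
    (3423, .gen 3039 (244, false)),
    (3414, .gen 1629 (245, false)),
    (452, .gen 2765 (147, false)),
    (74, .gen 2765 (150, false)),
    (2363, .gen 1536 (244, false)),
    (1928, .gen 2886 (245, true)),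
    (3320, .gen 1875 (153, false)),
    (1665, .gen 1875 (153, true)),
    (2130, .gen 1875 (244, false)),
    (2622, .gen 1875 (245, false)),
    (372, .gen 1875 (245, true)),
    (2668, .gen 2944 (153, false)),
    (4, .gen 669 (153, false)),
    (1805, .gen 2443 (149, false)),
    (1267, .gen 95 (150, false)),
    (1682, .gen 95 (153, false)),
    (2306, .gen 95 (153, true)),
    (3779, .gen 95 (244, false)),
    (252, .gen 95 (244, true)),
    (3558, .gen 95 (245, false)),
    (2500, .gen 95 (245, true)),
    (2387, .gen 2372 (153, false)),
    (2484, .gen 2372 (153, true)),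
    (2727, .gen 2372 (244, false)),
    (3116, .gen 2372 (244, true)),
    (1173, .gen 2372 (245, false)),
    (2519, .gen 60 (147, false)),
    (1504, .gen 60 (148, false)),
    (730, .gen 60 (150, false)),
    (1176, .gen 60 (153, false)),
    (2014, .gen 60 (244, false)),
    (1036, .gen 60 (244, true)),
    (255, .gen 60 (245, false)),
    (1348, .gen 60 (245, true)),
    (1815, .gen 3556 (147, false)),
    (3297, .gen 3556 (148, true)),
    (2558, .gen 3556 (150, false)),
    (222, .gen 3556 (244, false)),
    (3674, .gen 3556 (244, true)),
    (1157, .gen 3556 (245, false)),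
    (3583, .gen 3556 (245, true)),
    (1555, .gen 134 (147, false)),
    (3436, .gen 134 (148, false)),
    (3197, .gen 134 (148, true)),
    (2587, .gen 134 (149, false)),
    (622, .gen 134 (150, false)),
    (2751, .gen 134 (153, false)),
    (2736, .gen 134 (153, true)),
    (1169, .gen 134 (245, false)),
    (2575, .gen 1058 (147, false)),
    (379, .gen 1058 (148, false)),
    (3048, .gen 1058 (148, true)),
    (2590, .gen 1058 (150, false)),
    (3132, .gen 1058 (153, false)),
    (1698, .gen 1058 (153, true)),
    (1466, .gen 1058 (245, false)),
    (3013, .gen 1058 (245, true)),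
    (663, .gen 3041 (147, false)),
    (373, .gen 3041 (153, false)),
    (1526, .gen 3041 (153, true)),
    (347, .gen 3041 (244, false)),
    (1701, .gen 3041 (244, true)),
    (3530, .gen 3519 (147, false)),
    (275, .gen 3519 (149, false)),
    (2527, .gen 3519 (153, false)),
    (1944, .gen 3519 (153, true)),
    (201, .gen 3519 (244, false)),
    (597, .gen 3519 (244, true)),
    (3596, .gen 2480 (150, false)),
    (1476, .gen 2480 (244, true)),
    (2079, .gen 2480 (245, false)),
    (2927, .gen 2480 (245, true)),
    (1125, .gen 2369 (153, false)),
    (329, .gen 2369 (244, false)),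
    (3100, .gen 2369 (244, true)),
    (2269, .gen 2369 (245, false)),
    (599, .gen 2369 (245, true)),
    (3062, .gen 2839 (153, false)),
    (1806, .gen 2839 (244, true)),
    (2816, .gen 2839 (245, false)),
    (192, .gen 2839 (245, true)),
    (1855, .gen 2036 (150, false)),
    (271, .gen 2036 (244, false)),
    (799, .gen 2036 (244, true)),
    (2225, .gen 2036 (245, false)),
    (3142, .gen 2036 (245, true)),
    (782, .gen 3590 (148, false)),
    (1515, .gen 3590 (148, true)),
    (2341, .gen 3590 (150, false)),
    (1133, .gen 3590 (153, false)),
    (3231, .gen 3590 (153, true)),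
    (2131, .gen 3590 (245, false)),
    (1985, .gen 3590 (245, true)),
    (1731, .gen 2397 (147, false)),
    (3777, .gen 2397 (148, false)),
    (2331, .gen 2397 (150, false)),
    (902, .gen 2397 (153, false)),
    (2600, .gen 2397 (245, false)),
    (2417, .gen 2397 (245, true)),
    (2047, .gen 3552 (147, false)),
    (528, .gen 3552 (149, false)),
    (1988, .gen 3552 (153, false)),
    (1080, .gen 3552 (153, true)),
    (1569, .gen 3552 (244, false)),
    (977, .gen 3552 (244, true)),
    (2905, .gen 2149 (147, false)),
    (87, .gen 2149 (149, false)),
    (629, .gen 2149 (153, false)),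
    (1228, .gen 2149 (153, true)),
    (1492, .gen 2149 (244, false)),
    (2399, .gen 2149 (244, true)),
    (987, .gen 2696 (150, false)),
    (156, .gen 2696 (244, true)),
    (3154, .gen 2696 (245, false)),
    (2891, .gen 2696 (245, true)),
    (3315, .gen 1072 (244, true)),
    (3044, .gen 1072 (245, false)),
    (564, .gen 1072 (245, true)),
    (2231, .gen 2838 (153, false)),
    (2187, .gen 2838 (244, false)),
    (2467, .gen 2838 (244, true)),
    (2626, .gen 2838 (245, false)),
    (499, .gen 2838 (245, true)),
    (341, .gen 3391 (244, false)),
    (2150, .gen 3391 (244, true)),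
    (2642, .gen 3391 (245, false)),
    (1722, .gen 3391 (245, true)),
    (1932, .gen 664 (148, false)),
    (2677, .gen 664 (148, true)),
    (2525, .gen 664 (149, false)),
    (903, .gen 664 (153, false)),
    (619, .gen 664 (153, true)),
    (577, .gen 664 (245, false)),
    (3357, .gen 664 (245, true)),
    (2081, .gen 289 (147, false)),
    (1800, .gen 289 (148, false)),
    (146, .gen 289 (148, true)),
    (548, .gen 289 (150, false)),
    (1894, .gen 289 (153, false)),
    (1235, .gen 289 (153, true)),
    (2567, .gen 289 (245, false)),
    (3504, .gen 289 (245, true)),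
    (892, .gen 2792 (147, false)),
    (1147, .gen 2792 (149, false)),
    (701, .gen 2792 (153, false)),
    (1262, .gen 2792 (153, true)),
    (2172, .gen 2792 (244, false)),
    (1364, .gen 2792 (244, true)),
    (3139, .gen 2689 (147, false)),
    (484, .gen 2689 (149, false)),
    (1876, .gen 2689 (153, false)),
    (2340, .gen 2689 (153, true)),
    (870, .gen 2689 (244, false)),
    (844, .gen 2689 (244, true)),
    (453, .gen 3200 (153, true)),
    (3214, .gen 3200 (244, false)),
    (1994, .gen 3200 (244, true)),
    (3458, .gen 1654 (147, false)),
    (466, .gen 1654 (153, false)),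
    (665, .gen 1654 (244, false)),
    (2641, .gen 1654 (244, true)),
    (1233, .gen 1654 (245, false)),
    (266, .gen 1654 (245, true)),
    (2507, .gen 877 (244, false)),
    (3700, .gen 877 (244, true)),
    (3630, .gen 877 (245, false)),
    (906, .gen 877 (245, true)),
    (770, .gen 1742 (148, false)),
    (2992, .gen 1742 (148, true)),
    (2620, .gen 1742 (149, false)),
    (2578, .gen 1742 (150, false)),
    (3512, .gen 1742 (153, false)),
    (2001, .gen 1742 (153, true)),
    (882, .gen 1742 (245, true)),
    (2840, .gen 100 (147, false)),
    (3344, .gen 100 (148, false)),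
    (3723, .gen 100 (149, false)),
    (1899, .gen 100 (150, false)),
    (2016, .gen 100 (153, false)),
    (339, .gen 100 (245, false)),
    (1745, .gen 100 (245, true)),
    (142, .gen 2165 (147, false)),
    (1519, .gen 2165 (153, false)),
    (3675, .gen 2165 (153, true)),
    (2086, .gen 2165 (244, false)),
    (1198, .gen 2165 (244, true)),
    (1458, .gen 3762 (147, false)),
    (1554, .gen 3762 (153, false)),
    (3562, .gen 3762 (153, true)),
    (2798, .gen 3762 (244, false)),
    (953, .gen 3762 (244, true)),
    (2319, .gen 3774 (153, false)),
    (1132, .gen 3774 (244, false)),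
    (2951, .gen 3774 (244, true)),
    (1814, .gen 3774 (245, false)),
    (800, .gen 3774 (245, true)),
    (293, .gen 1020 (244, false)),
    (1142, .gen 1020 (244, true)),
    (547, .gen 1020 (245, false)),
    (2787, .gen 1020 (245, true)),
    (3384, .gen 2785 (148, false)),
    (767, .gen 2785 (148, true)),
    (3090, .gen 2785 (149, false)),
    (1616, .gen 2785 (153, false)),
    (2673, .gen 2785 (153, true)),
    (3387, .gen 2785 (245, false)),
    (3605, .gen 2785 (245, true)),
    (2475, .gen 361 (148, false)),
    (2310, .gen 361 (148, true)),
    (787, .gen 361 (153, false)),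
    (3150, .gen 361 (153, true)),
    (796, .gen 361 (245, false)),
    (2633, .gen 361 (245, true)),
    (3108, .gen 1 (147, false)),
    (2087, .gen 1 (244, false)),
    (511, .gen 1 (244, true)),
    (1535, .gen 2122 (147, false)),
    (2608, .gen 2122 (153, false)),
    (2836, .gen 2122 (153, true)),
    (2984, .gen 2122 (244, false)),
    (2010, .gen 2122 (244, true)),
    (613, .gen 3215 (153, false))]

/-- Visits. -/
def v11_3 : List (ℕ × Src) :=
  [(1861, .gen 3215 (244, false)),
    (1721, .gen 3215 (244, true)),
    (3633, .gen 3215 (245, false)),
    (2621, .gen 3215 (245, true)),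
    (2863, .gen 3236 (153, true)),
    (1576, .gen 3236 (244, false)),
    (1381, .gen 3236 (244, true)),
    (277, .gen 3236 (245, false)),
    (331, .gen 3236 (245, true)),
    (2291, .gen 1066 (153, false)),
    (1373, .gen 1066 (244, true)),
    (1097, .gen 1066 (245, false)),
    (589, .gen 1066 (245, true)),
    (3739, .gen 364 (148, false)),
    (362, .gen 364 (244, false)),
    (54, .gen 364 (244, true)),
    (2843, .gen 364 (245, false)),
    (1650, .gen 1496 (148, true)),
    (3251, .gen 1496 (153, true)),
    (2851, .gen 1496 (245, false)),
    (1957, .gen 3020 (147, false)),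
    (3375, .gen 3020 (148, false)),
    (820, .gen 3020 (149, false)),
    (86, .gen 3020 (150, false)),
    (972, .gen 3020 (153, false)),
    (1383, .gen 3020 (153, true)),
    (3182, .gen 3020 (245, true)),
    (3699, .gen 2933 (149, false)),
    (1510, .gen 2933 (153, false)),
    (308, .gen 2933 (153, true)),
    (3292, .gen 2933 (244, false)),
    (1335, .gen 2933 (244, true)),
    (52, .gen 1311 (153, false)),
    (2904, .gen 1311 (244, false)),
    (2579, .gen 1766 (244, false)),
    (3035, .gen 1766 (244, true)),
    (282, .gen 1766 (245, false)),
    (2874, .gen 1766 (245, true)),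
    (1751, .gen 3509 (244, true)),
    (3388, .gen 3509 (245, true)),
    (375, .gen 3209 (244, false)),
    (693, .gen 3209 (244, true)),
    (436, .gen 3209 (245, false)),
    (93, .gen 3209 (245, true)),
    (2409, .gen 2915 (148, true)),
    (3499, .gen 2915 (149, false)),
    (3698, .gen 2915 (245, false)),
    (2280, .gen 2915 (245, true)),
    (834, .gen 3730 (148, false)),
    (2154, .gen 3730 (148, true)),
    (492, .gen 3730 (150, false)),
    (1478, .gen 3730 (245, false)),
    (2033, .gen 3730 (245, true)),
    (769, .gen 580 (147, false)),
    (2425, .gen 580 (149, false)),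
    (1507, .gen 580 (153, false)),
    (1403, .gen 580 (153, true)),
    (3791, .gen 580 (244, false)),
    (2582, .gen 580 (244, true)),
    (2071, .gen 177 (153, true)),
    (2441, .gen 177 (244, false)),
    (3655, .gen 177 (244, true)),
    (3711, .gen 2947 (148, false)),
    (1432, .gen 2947 (148, true)),
    (3494, .gen 2947 (153, false)),
    (1192, .gen 2947 (153, true)),
    (2822, .gen 2947 (245, false)),
    (1323, .gen 2568 (148, false)),
    (3166, .gen 2568 (150, false)),
    (3425, .gen 2568 (244, false)),
    (1184, .gen 2568 (244, true)),
    (763, .gen 2568 (245, false)),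
    (1939, .gen 2568 (245, true)),
    (1548, .gen 332 (149, false)),
    (2313, .gen 332 (150, false)),
    (2339, .gen 332 (153, false)),
    (1052, .gen 332 (153, true)),
    (2896, .gen 332 (244, false)),
    (3662, .gen 332 (244, true)),
    (2235, .gen 2382 (153, true)),
    (2701, .gen 2382 (244, false)),
    (2556, .gen 1241 (153, false)),
    (2422, .gen 1241 (153, true)),
    (2325, .gen 1241 (244, false)),
    (3396, .gen 1241 (245, false)),
    (859, .gen 1241 (245, true)),
    (3250, .gen 2357 (147, false)),
    (727, .gen 2357 (150, false)),
    (3763, .gen 2357 (244, false)),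
    (442, .gen 2357 (244, true)),
    (660, .gen 1161 (147, false)),
    (2000, .gen 1161 (150, false)),
    (1768, .gen 1161 (244, false)),
    (1425, .gen 1161 (244, true)),
    (1605, .gen 1161 (245, false)),
    (157, .gen 1161 (245, true)),
    (1261, .gen 3467 (147, false)),
    (2716, .gen 3467 (153, false)),
    (440, .gen 3467 (153, true)),
    (1574, .gen 3467 (244, false)),
    (2199, .gen 1329 (147, false)),
    (1791, .gen 1329 (153, false)),
    (2428, .gen 1329 (153, true)),
    (3348, .gen 1329 (244, false)),
    (3153, .gen 1329 (244, true)),
    (3285, .gen 3432 (149, false)),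
    (2657, .gen 3432 (153, false)),
    (1209, .gen 3432 (244, true)),
    (2241, .gen 3432 (245, false)),
    (124, .gen 3432 (245, true)),
    (2619, .gen 2411 (149, false)),
    (3167, .gen 2411 (153, true)),
    (1898, .gen 2411 (244, false)),
    (3521, .gen 2411 (244, true)),
    (1493, .gen 2411 (245, false)),
    (1780, .gen 2411 (245, true)),
    (526, .gen 471 (153, true)),
    (2324, .gen 471 (244, false)),
    (1350, .gen 471 (244, true)),
    (2457, .gen 471 (245, true)),
    (1138, .gen 3753 (150, false)),
    (853, .gen 3753 (153, false)),
    (1670, .gen 3753 (153, true)),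
    (1464, .gen 3753 (244, true)),
    (1706, .gen 3753 (245, true)),
    (819, .gen 3185 (153, false)),
    (2552, .gen 3185 (244, false)),
    (2518, .gen 3185 (244, true)),
    (474, .gen 2721 (148, false)),
    (2151, .gen 2721 (244, false)),
    (2068, .gen 2721 (244, true)),
    (78, .gen 2721 (245, true)),
    (3050, .gen 3421 (244, false)),
    (705, .gen 1741 (147, false)),
    (1136, .gen 1741 (244, false)),
    (2141, .gen 1741 (244, true)),
    (1374, .gen 2320 (147, false)),
    (248, .gen 2320 (153, false)),
    (102, .gen 2320 (153, true)),
    (229, .gen 2320 (244, false)),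
    (2437, .gen 2320 (244, true)),
    (1738, .gen 2267 (149, false)),
    (2730, .gen 2267 (153, false)),
    (2664, .gen 2267 (153, true)),
    (2333, .gen 2267 (244, false)),
    (2854, .gen 2267 (244, true)),
    (500, .gen 2267 (245, true)),
    (3784, .gen 1949 (153, false)),
    (84, .gen 1949 (153, true)),
    (1331, .gen 1949 (244, false)),
    (381, .gen 1949 (244, true)),
    (424, .gen 1949 (245, false)),
    (3706, .gen 1874 (147, false)),
    (1473, .gen 1874 (148, false)),
    (2368, .gen 1874 (150, false)),
    (1566, .gen 1874 (244, false)),
    (3649, .gen 1874 (244, true)),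
    (2171, .gen 1874 (245, false)),
    (2935, .gen 1874 (245, true)),
    (868, .gen 3615 (147, false)),
    (3673, .gen 3615 (150, false)),
    (931, .gen 3615 (244, false)),
    (601, .gen 3615 (244, true)),
    (3144, .gen 3615 (245, false)),
    (3491, .gen 3615 (245, true)),
    (563, .gen 2121 (147, false)),
    (833, .gen 2121 (148, false)),
    (447, .gen 2121 (149, false)),
    (1583, .gen 2121 (150, false)),
    (2404, .gen 2121 (153, false)),
    (3405, .gen 2121 (153, true)),
    (2807, .gen 2121 (245, false)),
    (3657, .gen 2072 (148, false)),
    (2755, .gen 2072 (149, false)),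
    (380, .gen 2072 (150, false)),
    (2769, .gen 2072 (153, false)),
    (1693, .gen 2072 (153, true)),
    (115, .gen 933 (149, false)),
    (1623, .gen 933 (153, false)),
    (838, .gen 933 (153, true)),
    (188, .gen 933 (244, false)),
    (1556, .gen 933 (244, true)),
    (826, .gen 1843 (153, false)),
    (2385, .gen 1843 (153, true)),
    (1034, .gen 1843 (244, false)),
    (2584, .gen 1843 (244, true)),
    (995, .gen 198 (147, false)),
    (336, .gen 198 (148, false)),
    (998, .gen 198 (150, false)),
    (1004, .gen 198 (153, false)),
    (147, .gen 198 (244, false)),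
    (1043, .gen 198 (244, true)),
    (3368, .gen 198 (245, false)),
    (3595, .gen 198 (245, true)),
    (154, .gen 3705 (147, false)),
    (259, .gen 3705 (148, true)),
    (3089, .gen 3705 (150, false)),
    (1930, .gen 3705 (244, false)),
    (1651, .gen 3705 (244, true)),
    (2504, .gen 3705 (245, false)),
    (542, .gen 3705 (245, true)),
    (3788, .gen 393 (147, false)),
    (423, .gen 393 (148, false)),
    (1057, .gen 393 (148, true)),
    (3420, .gen 393 (150, false)),
    (3082, .gen 393 (153, false)),
    (2285, .gen 393 (153, true)),
    (3542, .gen 393 (245, false)),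
    (1320, .gen 1368 (147, false)),
    (1542, .gen 1368 (148, false)),
    (1295, .gen 1368 (148, true)),
    (1333, .gen 1368 (150, false)),
    (2943, .gen 1368 (153, false)),
    (2101, .gen 1368 (153, true)),
    (1139, .gen 1368 (245, false)),
    (2948, .gen 1368 (245, true)),
    (3733, .gen 2950 (150, false)),
    (3430, .gen 2950 (153, false)),
    (2137, .gen 2950 (153, true)),
    (2779, .gen 2950 (244, false)),
    (1434, .gen 2950 (244, true)),
    (3227, .gen 2950 (245, false)),
    (3743, .gen 2950 (245, true)),
    (2024, .gen 3485 (244, false)),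
    (1054, .gen 3485 (245, false)),
    (1760, .gen 3485 (245, true)),
    (1462, .gen 1863 (153, false)),
    (1809, .gen 1863 (244, true)),
    (3708, .gen 1863 (245, false)),
    (371, .gen 1863 (245, true)),
    (816, .gen 980 (244, false)),
    (3710, .gen 980 (244, true)),
    (2091, .gen 980 (245, false)),
    (652, .gen 980 (245, true)),
    (2991, .gen 1401 (148, false)),
    (1398, .gen 1401 (148, true)),
    (1808, .gen 1401 (153, false)),
    (390, .gen 1401 (153, true)),
    (2667, .gen 1401 (245, false)),
    (1749, .gen 1401 (245, true)),
    (1282, .gen 396 (148, false)),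
    (2215, .gen 396 (148, true)),
    (2541, .gen 396 (149, false)),
    (3685, .gen 396 (153, false)),
    (1001, .gen 396 (153, true)),
    (1435, .gen 396 (245, false)),
    (2629, .gen 396 (245, true)),
    (3616, .gen 2050 (147, false)),
    (1172, .gen 2050 (149, false)),
    (3399, .gen 2050 (153, false)),
    (534, .gen 2050 (153, true)),
    (823, .gen 2050 (244, false)),
    (815, .gen 2050 (244, true)),
    (1810, .gen 805 (147, false)),
    (2359, .gen 805 (149, false)),
    (480, .gen 805 (153, false)),
    (427, .gen 805 (153, true)),
    (2676, .gen 805 (244, true)),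
    (3631, .gen 3493 (153, false)),
    (1448, .gen 3493 (153, true)),
    (1040, .gen 3493 (244, false)),
    (2646, .gen 3493 (244, true)),
    (3383, .gen 1265 (148, false)),
    (648, .gen 1265 (153, false)),
    (3316, .gen 1265 (244, false)),
    (1006, .gen 1265 (244, true)),
    (1621, .gen 1265 (245, false)),
    (3245, .gen 1265 (245, true)),
    (3141, .gen 2486 (148, true)),
    (657, .gen 2486 (244, false)),
    (2271, .gen 2486 (245, false)),
    (1931, .gen 2486 (245, true)),
    (2309, .gen 525 (148, false)),
    (2616, .gen 525 (148, true)),
    (3164, .gen 525 (149, false)),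
    (3362, .gen 525 (153, false)),
    (1379, .gen 525 (153, true)),
    (836, .gen 525 (245, false)),
    (438, .gen 525 (245, true)),
    (2055, .gen 755 (150, false)),
    (2936, .gen 755 (153, false)),
    (777, .gen 755 (245, false)),
    (2249, .gen 755 (245, true)),
    (997, .gen 3741 (147, false)),
    (3466, .gen 3741 (153, false)),
    (1455, .gen 3741 (153, true)),
    (437, .gen 3741 (244, false)),
    (2222, .gen 3741 (244, true)),
    (2367, .gen 2692 (147, false)),
    (178, .gen 2692 (153, false)),
    (3652, .gen 2692 (153, true)),
    (1858, .gen 2692 (244, false)),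
    (2603, .gen 2692 (244, true)),
    (1332, .gen 2039 (153, false)),
    (3021, .gen 2039 (244, false)),
    (155, .gen 2039 (244, true)),
    (3206, .gen 2039 (245, false)),
    (82, .gen 2039 (245, true)),
    (37, .gen 732 (244, false)),
    (3176, .gen 732 (244, true))]

/-- Visits. -/
def v11_4 : List (ℕ × Src) :=
  [(1384, .gen 732 (245, false)),
    (3426, .gen 732 (245, true)),
    (2583, .gen 175 (149, false)),
    (2255, .gen 175 (153, false)),
    (583, .gen 175 (153, true)),
    (400, .gen 175 (245, false)),
    (1696, .gen 175 (245, true)),
    (855, .gen 1966 (149, false)),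
    (3471, .gen 1966 (153, false)),
    (2373, .gen 1966 (153, true)),
    (2669, .gen 1966 (245, false)),
    (905, .gen 1966 (245, true)),
    (1601, .gen 457 (147, false)),
    (2105, .gen 457 (244, false)),
    (3238, .gen 457 (244, true)),
    (270, .gen 1636 (147, false)),
    (303, .gen 1636 (153, false)),
    (2492, .gen 1636 (153, true)),
    (2004, .gen 1636 (244, true)),
    (947, .gen 3303 (153, true)),
    (144, .gen 3303 (244, false)),
    (482, .gen 3303 (244, true)),
    (661, .gen 3303 (245, false)),
    (553, .gen 3303 (245, true)),
    (3398, .gen 1631 (244, false)),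
    (917, .gen 1631 (244, true)),
    (2516, .gen 1631 (245, false)),
    (3037, .gen 3294 (148, false)),
    (2958, .gen 3294 (148, true)),
    (1992, .gen 3294 (153, true)),
    (12, .gen 3294 (245, false)),
    (3527, .gen 3294 (245, true)),
    (1624, .gen 3171 (147, false)),
    (3024, .gen 3171 (148, false)),
    (1446, .gen 3171 (148, true)),
    (1872, .gen 3171 (149, false)),
    (2875, .gen 3171 (153, false)),
    (1578, .gen 3171 (153, true)),
    (2746, .gen 3171 (245, false)),
    (353, .gen 3171 (245, true)),
    (2077, .gen 3744 (149, false)),
    (2733, .gen 3744 (153, false)),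
    (2916, .gen 3744 (153, true)),
    (1632, .gen 3744 (244, false)),
    (955, .gen 3744 (244, true)),
    (1285, .gen 1565 (149, false)),
    (3045, .gen 1565 (153, false)),
    (1357, .gen 1565 (153, true)),
    (3364, .gen 1565 (244, false)),
    (1224, .gen 1565 (244, true)),
    (2350, .gen 2420 (245, false)),
    (1135, .gen 2420 (245, true)),
    (699, .gen 3094 (148, false)),
    (2073, .gen 3094 (149, false)),
    (3103, .gen 3094 (245, false)),
    (2327, .gen 3094 (245, true)),
    (3745, .gen 2589 (148, false)),
    (3277, .gen 2589 (148, true)),
    (2477, .gen 2589 (245, false)),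
    (3192, .gen 2589 (245, true)),
    (1550, .gen 2391 (149, false)),
    (1079, .gen 2391 (153, false)),
    (1880, .gen 2391 (153, true)),
    (620, .gen 2391 (244, false)),
    (3318, .gen 2391 (244, true)),
    (586, .gen 200 (149, false)),
    (807, .gen 200 (153, false)),
    (2329, .gen 200 (153, true)),
    (1699, .gen 200 (244, false)),
    (57, .gen 200 (244, true)),
    (1956, .gen 733 (153, false)),
    (951, .gen 733 (244, true)),
    (1084, .gen 733 (245, true)),
    (2712, .gen 2447 (149, false)),
    (1626, .gen 2447 (153, false)),
    (1686, .gen 2447 (153, true)),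
    (851, .gen 2447 (244, true)),
    (2708, .gen 2447 (245, true)),
    (2459, .gen 3386 (153, true)),
    (731, .gen 3386 (245, false)),
    (2163, .gen 3386 (245, true)),
    (3507, .gen 2610 (150, false)),
    (3776, .gen 2610 (244, false)),
    (2152, .gen 2610 (244, true)),
    (2406, .gen 2610 (245, false)),
    (2432, .gen 2610 (245, true)),
    (3030, .gen 3092 (147, false)),
    (1346, .gen 3092 (148, true)),
    (2174, .gen 3092 (244, false)),
    (1011, .gen 3092 (244, true)),
    (2602, .gen 3092 (245, false)),
    (2278, .gen 3092 (245, true)),
    (884, .gen 3002 (147, false)),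
    (3124, .gen 3002 (149, false)),
    (2295, .gen 3002 (153, true)),
    (1190, .gen 3002 (244, true)),
    (2693, .gen 2565 (147, false)),
    (2739, .gen 2565 (149, false)),
    (2917, .gen 2565 (153, false)),
    (3077, .gen 2565 (153, true)),
    (3173, .gen 1338 (149, false)),
    (822, .gen 1338 (153, false)),
    (3380, .gen 1338 (153, true)),
    (2247, .gen 1338 (245, false)),
    (3417, .gen 1338 (245, true)),
    (92, .gen 3140 (153, true)),
    (1528, .gen 2624 (149, false)),
    (1287, .gen 2624 (153, true)),
    (2213, .gen 3543 (153, false)),
    (3138, .gen 3543 (245, false)),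
    (2532, .gen 3543 (245, true)),
    (804, .gen 258 (148, false)),
    (2858, .gen 258 (244, false)),
    (3787, .gen 258 (244, true)),
    (2749, .gen 258 (245, false)),
    (1795, .gen 258 (245, true)),
    (894, .gen 2095 (244, false)),
    (2237, .gen 2095 (244, true)),
    (2570, .gen 2095 (245, false)),
    (897, .gen 2095 (245, true)),
    (2982, .gen 638 (147, false)),
    (2268, .gen 638 (149, false)),
    (3737, .gen 638 (153, false)),
    (549, .gen 3726 (147, false)),
    (481, .gen 3726 (149, false)),
    (985, .gen 3726 (153, true)),
    (268, .gen 3726 (244, false)),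
    (1091, .gen 3726 (244, true)),
    (1628, .gen 2521 (149, false)),
    (1179, .gen 2521 (153, false)),
    (2221, .gen 2521 (153, true)),
    (2593, .gen 2521 (244, false)),
    (2148, .gen 3566 (153, false)),
    (3237, .gen 3566 (153, true)),
    (242, .gen 3566 (244, false)),
    (697, .gen 3566 (244, true)),
    (165, .gen 3370 (244, false)),
    (3601, .gen 3370 (244, true)),
    (1888, .gen 3370 (245, true)),
    (3040, .gen 1662 (244, false)),
    (2090, .gen 1662 (244, true)),
    (2421, .gen 1662 (245, true)),
    (1832, .gen 1452 (147, false)),
    (3328, .gen 1452 (153, false)),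
    (1961, .gen 1452 (153, true)),
    (3716, .gen 2346 (147, false)),
    (2311, .gen 2346 (149, false)),
    (1907, .gen 2346 (153, false)),
    (1710, .gen 2346 (153, true)),
    (2167, .gen 3335 (149, false)),
    (1182, .gen 3335 (153, false)),
    (1477, .gen 3335 (153, true)),
    (2332, .gen 3335 (244, false)),
    (1205, .gen 3335 (244, true)),
    (51, .gen 478 (153, false)),
    (3644, .gen 478 (153, true)),
    (1501, .gen 478 (244, false)),
    (943, .gen 592 (148, false)),
    (2660, .gen 592 (150, false)),
    (1676, .gen 592 (153, false)),
    (1197, .gen 592 (244, false)),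
    (3068, .gen 592 (244, true)),
    (2574, .gen 3075 (244, false)),
    (2892, .gen 3075 (244, true)),
    (2236, .gen 3075 (245, false)),
    (3713, .gen 3547 (147, false)),
    (2572, .gen 3547 (153, false)),
    (2254, .gen 3547 (153, true)),
    (42, .gen 2069 (148, false)),
    (475, .gen 2069 (149, false)),
    (3343, .gen 2069 (150, false)),
    (2451, .gen 2069 (153, false)),
    (3267, .gen 2069 (153, true)),
    (962, .gen 2069 (244, false)),
    (3229, .gen 2069 (244, true)),
    (3732, .gen 2069 (245, false)),
    (1857, .gen 2069 (245, true)),
    (311, .gen 2969 (149, false)),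
    (3374, .gen 2969 (150, false)),
    (1953, .gen 2969 (153, false)),
    (3516, .gen 2969 (153, true)),
    (672, .gen 2969 (244, false)),
    (1327, .gen 2969 (244, true)),
    (3119, .gen 2969 (245, false)),
    (768, .gen 2969 (245, true)),
    (2435, .gen 1882 (150, false)),
    (1509, .gen 1882 (153, false)),
    (538, .gen 1882 (153, true)),
    (71, .gen 1882 (244, false)),
    (1283, .gen 1882 (244, true)),
    (3639, .gen 1882 (245, false)),
    (1506, .gen 1882 (245, true)),
    (2534, .gen 3782 (153, false)),
    (160, .gen 3782 (153, true)),
    (206, .gen 3782 (244, false)),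
    (1618, .gen 3782 (244, true)),
    (103, .gen 3782 (245, false)),
    (240, .gen 3782 (245, true)),
    (2709, .gen 2581 (147, false)),
    (749, .gen 2581 (148, false)),
    (3307, .gen 2581 (150, false)),
    (2942, .gen 2581 (153, false)),
    (3670, .gen 2581 (244, false)),
    (1131, .gen 2581 (244, true)),
    (2392, .gen 2581 (245, false)),
    (2789, .gen 2581 (245, true)),
    (1831, .gen 2826 (147, false)),
    (3767, .gen 2826 (148, true)),
    (2474, .gen 2826 (150, false)),
    (355, .gen 2826 (244, false)),
    (3606, .gen 2826 (244, true)),
    (1414, .gen 2826 (245, false)),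
    (3338, .gen 2826 (245, true)),
    (2206, .gen 1187 (147, false)),
    (66, .gen 1187 (148, false)),
    (3353, .gen 1187 (148, true)),
    (2374, .gen 1187 (149, false)),
    (407, .gen 1187 (150, false)),
    (875, .gen 1187 (153, false)),
    (606, .gen 1187 (153, true)),
    (2142, .gen 1187 (245, false)),
    (2023, .gen 1187 (245, true)),
    (189, .gen 3300 (147, false)),
    (3125, .gen 3300 (148, false)),
    (801, .gen 3300 (148, true)),
    (3764, .gen 3300 (149, false)),
    (1889, .gen 3300 (150, false)),
    (2613, .gen 3300 (153, false)),
    (104, .gen 3300 (153, true)),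
    (2476, .gen 3300 (245, false)),
    (3056, .gen 3300 (245, true)),
    (2020, .gen 3269 (147, false)),
    (1715, .gen 3269 (149, false)),
    (2452, .gen 3269 (153, false)),
    (3302, .gen 3269 (153, true)),
    (1773, .gen 3269 (244, false)),
    (514, .gen 3269 (244, true)),
    (1008, .gen 3014 (147, false)),
    (923, .gen 3014 (149, false)),
    (2166, .gen 3014 (153, false)),
    (3589, .gen 3014 (153, true)),
    (1660, .gen 3014 (244, false)),
    (551, .gen 3014 (244, true)),
    (971, .gen 2656 (149, false)),
    (3146, .gen 2656 (150, false)),
    (1573, .gen 2656 (244, true)),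
    (1781, .gen 2656 (245, false)),
    (2543, .gen 1498 (150, false)),
    (1195, .gen 1498 (153, false)),
    (3785, .gen 1498 (153, true)),
    (2611, .gen 1498 (244, false)),
    (1121, .gen 1498 (244, true)),
    (1028, .gen 1498 (245, false)),
    (2353, .gen 1498 (245, true)),
    (3731, .gen 2424 (153, false)),
    (3408, .gen 2424 (244, false)),
    (3128, .gen 2424 (244, true)),
    (171, .gen 2424 (245, false)),
    (546, .gen 2424 (245, true)),
    (646, .gen 151 (153, false)),
    (3529, .gen 151 (244, true)),
    (2828, .gen 151 (245, false)),
    (1503, .gen 151 (245, true)),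
    (2214, .gen 3263 (150, false)),
    (120, .gen 3263 (244, false)),
    (3441, .gen 3263 (244, true)),
    (659, .gen 3263 (245, false)),
    (1684, .gen 20 (150, false)),
    (1594, .gen 20 (153, false)),
    (2252, .gen 20 (153, true)),
    (595, .gen 3088 (147, false)),
    (321, .gen 3088 (148, false)),
    (849, .gen 3088 (148, true)),
    (566, .gen 3088 (149, false)),
    (3607, .gen 3088 (150, false)),
    (536, .gen 3088 (153, false)),
    (1593, .gen 3088 (153, true)),
    (77, .gen 3088 (245, false)),
    (3137, .gen 3088 (245, true)),
    (2208, .gen 3721 (147, false)),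
    (1300, .gen 3721 (149, false)),
    (2434, .gen 3721 (153, false)),
    (2270, .gen 3721 (153, true)),
    (274, .gen 3721 (244, false)),
    (476, .gen 3721 (244, true)),
    (1115, .gen 1140 (147, false)),
    (1392, .gen 1140 (149, false)),
    (915, .gen 1140 (153, false)),
    (2934, .gen 1140 (153, true)),
    (2413, .gen 1140 (244, false)),
    (2959, .gen 1140 (244, true)),
    (2645, .gen 1404 (150, false)),
    (604, .gen 1404 (153, false)),
    (2847, .gen 1404 (153, true)),
    (1829, .gen 1404 (244, false)),
    (1873, .gen 1404 (244, true)),
    (2461, .gen 1404 (245, false)),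
    (3345, .gen 2191 (244, true)),
    (3481, .gen 2191 (245, true)),
    (1695, .gen 209 (153, false))]

/-- Visits. -/
def v11_5 : List (ℕ × Src) :=
  [(3746, .gen 209 (244, false)),
    (3257, .gen 209 (244, true)),
    (164, .gen 209 (245, true)),
    (1164, .gen 2407 (244, false)),
    (2718, .gen 2407 (244, true)),
    (1453, .gen 2407 (245, false)),
    (522, .gen 2407 (245, true)),
    (975, .gen 0 (148, false)),
    (3403, .gen 0 (148, true)),
    (2233, .gen 0 (149, false)),
    (1467, .gen 0 (153, false)),
    (1033, .gen 0 (153, true)),
    (2747, .gen 0 (245, false)),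
    (3497, .gen 0 (245, true)),
    (3736, .gen 1440 (147, false)),
    (2445, .gen 1440 (148, false)),
    (369, .gen 1440 (148, true)),
    (2085, .gen 1440 (149, false)),
    (3729, .gen 1440 (153, false)),
    (607, .gen 1440 (153, true)),
    (1719, .gen 1440 (245, true)),
    (3043, .gen 3712 (147, false)),
    (1126, .gen 3712 (149, false)),
    (2364, .gen 3712 (153, false)),
    (974, .gen 3712 (153, true)),
    (1359, .gen 3712 (244, true)),
    (1007, .gen 2436 (147, false)),
    (681, .gen 2436 (149, false)),
    (29, .gen 2436 (153, false)),
    (1604, .gen 2436 (153, true)),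
    (3525, .gen 1366 (153, false)),
    (2040, .gen 1366 (153, true)),
    (496, .gen 1366 (244, false)),
    (3360, .gen 1366 (244, true)),
    (3447, .gen 2288 (147, false)),
    (2852, .gen 2288 (148, false)),
    (448, .gen 2288 (150, false)),
    (3468, .gen 2288 (153, false)),
    (1260, .gen 2288 (244, false)),
    (1016, .gen 2288 (244, true)),
    (1643, .gen 2288 (245, false)),
    (1256, .gen 2288 (245, true)),
    (2224, .gen 684 (147, false)),
    (1203, .gen 684 (148, true)),
    (1787, .gen 684 (150, false)),
    (2145, .gen 684 (244, false)),
    (642, .gen 684 (244, true)),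
    (3232, .gen 684 (245, false)),
    (79, .gen 684 (245, true)),
    (1071, .gen 991 (147, false)),
    (3330, .gen 991 (148, false)),
    (914, .gen 991 (148, true)),
    (2956, .gen 991 (149, false)),
    (224, .gen 991 (150, false)),
    (502, .gen 991 (153, false)),
    (3515, .gen 991 (153, true)),
    (3637, .gen 991 (245, false)),
    (1589, .gen 991 (245, true)),
    (1428, .gen 236 (147, false)),
    (754, .gen 236 (148, false)),
    (2514, .gen 236 (149, false)),
    (1431, .gen 236 (150, false)),
    (1852, .gen 236 (153, false)),
    (2503, .gen 236 (245, false)),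
    (3500, .gen 236 (245, true)),
    (3111, .gen 3400 (147, false)),
    (485, .gen 3400 (153, false)),
    (1885, .gen 3400 (153, true)),
    (1360, .gen 3400 (244, false)),
    (2379, .gen 3272 (147, false)),
    (748, .gen 3272 (153, false)),
    (3145, .gen 3272 (153, true)),
    (2473, .gen 3272 (244, false)),
    (2403, .gen 3272 (244, true)),
    (2702, .gen 3576 (153, false)),
    (199, .gen 3576 (244, true)),
    (891, .gen 3576 (245, false)),
    (64, .gen 3576 (245, true)),
    (2802, .gen 965 (244, true)),
    (3593, .gen 965 (245, false)),
    (568, .gen 965 (245, true)),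
    (3510, .gen 944 (148, true)),
    (298, .gen 944 (149, false)),
    (394, .gen 944 (153, true)),
    (1846, .gen 944 (245, false)),
    (1732, .gen 3121 (148, false)),
    (2185, .gen 3121 (148, true)),
    (986, .gen 3121 (149, false)),
    (3536, .gen 3121 (153, false)),
    (3611, .gen 3121 (153, true)),
    (7, .gen 3121 (245, false)),
    (3155, .gen 3121 (245, true)),
    (2940, .gen 2307 (147, false)),
    (374, .gen 2074 (244, false)),
    (253, .gen 2074 (244, true)),
    (623, .gen 2074 (245, false)),
    (377, .gen 2074 (245, true)),
    (1377, .gen 2562 (153, true)),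
    (747, .gen 2562 (244, false)),
    (2062, .gen 2562 (244, true)),
    (1547, .gen 2562 (245, false)),
    (675, .gen 2562 (245, true)),
    (612, .gen 3478 (153, false)),
    (1232, .gen 3478 (244, true)),
    (3195, .gen 3478 (245, false)),
    (1647, .gen 3478 (245, true)),
    (3748, .gen 1543 (244, false)),
    (126, .gen 1543 (244, true)),
    (562, .gen 1543 (245, false)),
    (2975, .gen 3367 (148, false)),
    (2993, .gen 3367 (148, true)),
    (264, .gen 3367 (153, false)),
    (2011, .gen 3367 (153, true)),
    (818, .gen 3367 (245, false)),
    (1792, .gen 3367 (245, true)),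
    (1982, .gen 2035 (147, false)),
    (3734, .gen 2035 (148, false)),
    (2592, .gen 2035 (148, true)),
    (1167, .gen 2035 (149, false)),
    (1521, .gen 2035 (150, false)),
    (2631, .gen 2035 (153, false)),
    (328, .gen 2035 (153, true)),
    (3354, .gen 2035 (245, false)),
    (637, .gen 2035 (245, true)),
    (519, .gen 2841 (149, false)),
    (3717, .gen 2841 (153, false)),
    (1165, .gen 2841 (153, true)),
    (445, .gen 2841 (244, false)),
    (3632, .gen 2841 (244, true)),
    (488, .gen 1796 (149, false)),
    (2078, .gen 1796 (153, false)),
    (2893, .gen 1796 (244, false)),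
    (3102, .gen 1796 (244, true)),
    (783, .gen 2198 (244, false)),
    (2720, .gen 2198 (244, true)),
    (3321, .gen 2198 (245, false)),
    (864, .gen 2198 (245, true)),
    (1869, .gen 2481 (244, true)),
    (558, .gen 2481 (245, false)),
    (1995, .gen 1990 (244, false)),
    (3452, .gen 1990 (244, true)),
    (2930, .gen 1990 (245, false)),
    (1423, .gen 1990 (245, true)),
    (1207, .gen 2013 (148, false)),
    (2909, .gen 2013 (148, true)),
    (450, .gen 2013 (245, false)),
    (1047, .gen 3659 (147, false)),
    (3026, .gen 3659 (148, false)),
    (2813, .gen 3659 (148, true)),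
    (1465, .gen 3659 (149, false)),
    (1940, .gen 3659 (150, false)),
    (1457, .gen 3659 (245, false)),
    (1231, .gen 3659 (245, true)),
    (598, .gen 736 (149, false)),
    (843, .gen 736 (153, false)),
    (2873, .gen 736 (153, true)),
    (1983, .gen 736 (244, false)),
    (907, .gen 736 (244, true)),
    (1534, .gen 2528 (149, false)),
    (237, .gen 2528 (153, false)),
    (2044, .gen 2528 (244, false)),
    (1638, .gen 2528 (244, true)),
    (185, .gen 1076 (148, false)),
    (2952, .gen 1076 (148, true)),
    (223, .gen 1076 (153, false)),
    (1276, .gen 1076 (153, true)),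
    (128, .gen 1076 (244, false)),
    (1094, .gen 1076 (245, false)),
    (411, .gen 1076 (245, true)),
    (3575, .gen 651 (148, false)),
    (1307, .gen 651 (149, false)),
    (2706, .gen 651 (150, false)),
    (55, .gen 651 (153, false)),
    (3023, .gen 651 (153, true)),
    (1266, .gen 651 (244, false)),
    (3394, .gen 651 (244, true)),
    (1991, .gen 651 (245, true)),
    (1597, .gen 1294 (149, false)),
    (3498, .gen 1294 (150, false)),
    (324, .gen 1294 (153, false)),
    (677, .gen 1294 (153, true)),
    (2638, .gen 1294 (244, true)),
    (510, .gen 2197 (150, false)),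
    (926, .gen 2197 (153, false)),
    (1248, .gen 2197 (153, true)),
    (281, .gen 2197 (244, false)),
    (2671, .gen 2197 (245, true)),
    (576, .gen 1222 (153, false)),
    (2986, .gen 1222 (153, true)),
    (2189, .gen 1222 (245, false)),
    (384, .gen 2882 (147, false)),
    (1218, .gen 2882 (148, false)),
    (3667, .gen 2882 (150, false)),
    (2831, .gen 2882 (244, false)),
    (1783, .gen 2882 (244, true)),
    (487, .gen 2882 (245, false)),
    (2314, .gen 2882 (245, true)),
    (3488, .gen 1264 (147, false)),
    (862, .gen 1264 (148, true)),
    (2845, .gen 1264 (150, false)),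
    (3614, .gen 1264 (244, false)),
    (3305, .gen 1264 (244, true)),
    (3472, .gen 1264 (245, false)),
    (3647, .gen 1264 (245, true)),
    (3118, .gen 2161 (147, false)),
    (3312, .gen 2161 (149, false)),
    (578, .gen 2161 (153, false)),
    (2965, .gen 2161 (153, true)),
    (1014, .gen 2161 (244, true)),
    (3599, .gen 1903 (147, false)),
    (3194, .gen 1903 (149, false)),
    (2015, .gen 1903 (153, false)),
    (1280, .gen 1735 (149, false)),
    (1275, .gen 1735 (153, false)),
    (3588, .gen 1735 (153, true)),
    (3379, .gen 1735 (244, false)),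
    (125, .gen 1735 (244, true)),
    (2317, .gen 1735 (245, false)),
    (981, .gen 1735 (245, true)),
    (2879, .gen 3361 (149, false)),
    (1367, .gen 3361 (153, true)),
    (2617, .gen 3361 (244, true)),
    (1826, .gen 3361 (245, false)),
    (3339, .gen 2531 (149, false)),
    (2190, .gen 2531 (153, true)),
    (1468, .gen 2850 (150, false)),
    (283, .gen 2850 (153, false)),
    (3540, .gen 2850 (153, true)),
    (3025, .gen 2850 (244, false)),
    (2670, .gen 2850 (244, true)),
    (2953, .gen 2850 (245, false)),
    (2243, .gen 2850 (245, true)),
    (2427, .gen 1608 (153, false)),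
    (3259, .gen 1608 (244, true)),
    (2884, .gen 1997 (148, false)),
    (3160, .gen 1997 (244, false)),
    (1971, .gen 1997 (245, false)),
    (2297, .gen 1997 (245, true)),
    (2423, .gen 3049 (244, false)),
    (3052, .gen 3049 (245, false)),
    (1117, .gen 3049 (245, true)),
    (176, .gen 3281 (147, false)),
    (490, .gen 3281 (153, false)),
    (1906, .gen 3281 (153, true)),
    (1562, .gen 3355 (147, false)),
    (413, .gen 3355 (149, false)),
    (1113, .gen 3355 (153, false)),
    (1391, .gen 3355 (153, true)),
    (570, .gen 2216 (153, false)),
    (3351, .gen 2216 (153, true)),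
    (3759, .gen 2216 (244, false)),
    (824, .gen 2216 (244, true)),
    (446, .gen 2216 (245, true)),
    (1987, .gen 1003 (153, false)),
    (1137, .gen 1003 (153, true)),
    (685, .gen 1003 (244, false)),
    (2878, .gen 1003 (245, false)),
    (228, .gen 3311 (147, false)),
    (3105, .gen 3311 (148, false)),
    (1804, .gen 3311 (150, false)),
    (3053, .gen 3311 (244, false)),
    (1748, .gen 3311 (244, true)),
    (544, .gen 3311 (245, true)),
    (1705, .gen 2454 (147, false)),
    (2799, .gen 2454 (150, false)),
    (40, .gen 2454 (244, false)),
    (2508, .gen 2454 (244, true)),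
    (69, .gen 2454 (245, false)),
    (2505, .gen 2454 (245, true)),
    (3051, .gen 1919 (147, false)),
    (133, .gen 1919 (149, false)),
    (761, .gen 1919 (150, false)),
    (2248, .gen 1919 (153, false)),
    (2957, .gen 1919 (153, true)),
    (68, .gen 2734 (149, false)),
    (2920, .gen 2734 (153, false)),
    (2560, .gen 2734 (153, true)),
    (1707, .gen 2734 (244, false)),
    (1763, .gen 2734 (244, true)),
    (166, .gen 2734 (245, false)),
    (1549, .gen 91 (153, false)),
    (1069, .gen 91 (153, true)),
    (3283, .gen 91 (244, false)),
    (406, .gen 91 (244, true)),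
    (1089, .gen 91 (245, true)),
    (1343, .gen 280 (147, false)),
    (2178, .gen 280 (148, false)),
    (1657, .gen 280 (150, false)),
    (742, .gen 280 (153, false)),
    (3735, .gen 280 (244, false)),
    (3696, .gen 280 (244, true)),
    (2140, .gen 280 (245, false)),
    (2264, .gen 280 (245, true)),
    (1902, .gen 2093 (147, false)),
    (479, .gen 2093 (148, true)),
    (1813, .gen 2093 (150, false)),
    (327, .gen 2093 (244, false)),
    (1193, .gen 2093 (244, true)),
    (671, .gen 2093 (245, false)),
    (2260, .gen 1691 (244, false))]

/-- Visits. -/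
def v11_6 : List (ℕ × Src) :=
  [(1376, .gen 85 (245, false)),
    (683, .gen 62 (148, false)),
    (3181, .gen 62 (245, true)),
    (2859, .gen 2008 (244, false)),
    (967, .gen 2008 (244, true)),
    (1272, .gen 1687 (244, false)),
    (1803, .gen 1687 (244, true)),
    (3241, .gen 2 (245, true)),
    (912, .gen 1344 (148, false)),
    (1460, .gen 1807 (244, true)),
    (771, .gen 2929 (153, false)),
    (900, .gen 2929 (245, true)),
    (2523, .gen 3469 (245, true)),
    (2405, .gen 1096 (244, true)),
    (1688, .gen 1096 (245, false)),
    (1188, .gen 1740 (147, false)),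
    (3470, .gen 1740 (244, true)),
    (2043, .gen 1879 (147, false)),
    (636, .gen 1879 (149, false)),
    (571, .gen 1879 (244, true)),
    (2809, .gen 1891 (153, true)),
    (118, .gen 3410 (244, false)),
    (3129, .gen 3410 (245, true)),
    (2988, .gen 3161 (149, false)),
    (2926, .gen 2469 (147, false)),
    (3392, .gen 1694 (245, false)),
    (2731, .gen 1694 (245, true)),
    (3280, .gen 1747 (245, false)),
    (988, .gen 1747 (245, true)),
    (2455, .gen 2945 (147, false)),
    (1847, .gen 2945 (153, true)),
    (2207, .gen 2946 (148, true)),
    (1101, .gen 2946 (245, false)),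
    (1297, .gen 2946 (245, true)),
    (3754, .gen 810 (245, false)),
    (391, .gen 1718 (153, false)),
    (1085, .gen 2115 (150, false)),
    (3793, .gen 2115 (245, true)),
    (220, .gen 284 (147, false)),
    (3042, .gen 284 (244, false)),
    (1774, .gen 1337 (244, false)),
    (3243, .gen 1337 (244, true)),
    (1042, .gen 530 (244, false)),
    (2520, .gen 530 (245, false)),
    (702, .gen 530 (245, true)),
    (1913, .gen 1018 (245, false)),
    (2360, .gen 3635 (245, true)),
    (2108, .gen 650 (244, false)),
    (1531, .gen 650 (245, false)),
    (2415, .gen 650 (245, true)),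
    (357, .gen 1724 (245, true)),
    (1309, .gen 3445 (245, true)),
    (3755, .gen 2687 (153, true)),
    (527, .gen 3252 (147, false)),
    (419, .gen 3462 (245, false)),
    (529, .gen 591 (245, false)),
    (797, .gen 2538 (149, false)),
    (3230, .gen 2538 (153, false)),
    (3766, .gen 1652 (150, false)),
    (382, .gen 1652 (153, true)),
    (1290, .gen 3273 (244, false)),
    (2776, .gen 3273 (245, false)),
    (945, .gen 3273 (245, true)),
    (59, .gen 2298 (148, true)),
    (1915, .gen 1251 (153, true)),
    (1130, .gen 1251 (245, true)),
    (3255, .gen 3409 (153, false)),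
    (1321, .gen 3409 (244, true)),
    (895, .gen 2724 (244, false)),
    (2548, .gen 2724 (245, true)),
    (2623, .gen 745 (244, false)),
    (1717, .gen 616 (245, false)),
    (2714, .gen 994 (244, false)),
    (3554, .gen 994 (244, true)),
    (1752, .gen 994 (245, false)),
    (244, .gen 608 (245, false)),
    (1075, .gen 608 (245, true)),
    (3326, .gen 786 (244, true)),
    (858, .gen 3112 (244, true)),
    (1199, .gen 739 (245, true)),
    (3440, .gen 2458 (244, true)),
    (3648, .gen 349 (244, true)),
    (2433, .gen 3645 (153, true)),
    (2764, .gen 2981 (244, true)),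
    (3433, .gen 3222 (244, true)),
    (656, .gen 2146 (244, true)),
    (2681, .gen 2065 (147, false)),
    (3688, .gen 2065 (148, false)),
    (2853, .gen 251 (244, false)),
    (2728, .gen 764 (244, false)),
    (257, .gen 98 (153, false)),
    (455, .gen 1267 (244, true)),
    (839, .gen 1682 (153, false)),
    (356, .gen 1682 (245, true)),
    (1851, .gen 2306 (244, false)),
    (1508, .gen 2306 (245, false)),
    (234, .gen 2306 (245, true)),
    (569, .gen 3779 (148, false)),
    (3660, .gen 3779 (153, true)),
    (780, .gen 3779 (245, true)),
    (2658, .gen 252 (147, false)),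
    (2599, .gen 252 (148, false)),
    (3019, .gen 252 (150, false)),
    (116, .gen 252 (153, false)),
    (1114, .gen 252 (153, true)),
    (2773, .gen 252 (245, false)),
    (827, .gen 252 (245, true)),
    (718, .gen 3558 (147, false)),
    (825, .gen 3558 (153, false)),
    (3333, .gen 3558 (153, true)),
    (3567, .gen 3558 (244, false)),
    (2585, .gen 3558 (244, true)),
    (1494, .gen 2500 (147, false)),
    (431, .gen 2500 (153, false)),
    (2246, .gen 2500 (153, true)),
    (1317, .gen 2500 (244, false)),
    (2694, .gen 2500 (244, true)),
    (2506, .gen 2387 (153, false)),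
    (2805, .gen 2387 (244, false)),
    (866, .gen 2387 (244, true)),
    (2378, .gen 2387 (245, false)),
    (3346, .gen 2387 (245, true)),
    (172, .gen 2484 (244, false)),
    (1243, .gen 2484 (245, true)),
    (3406, .gen 2727 (148, true)),
    (3651, .gen 2727 (153, false)),
    (1372, .gen 2727 (245, true)),
    (1856, .gen 3116 (148, false)),
    (3372, .gen 3116 (148, true)),
    (19, .gen 3116 (149, false)),
    (2869, .gen 3116 (153, false)),
    (2766, .gen 3116 (153, true)),
    (3579, .gen 3116 (245, false)),
    (1975, .gen 3116 (245, true)),
    (3063, .gen 1173 (147, false)),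
    (2767, .gen 1173 (244, false)),
    (469, .gen 2519 (153, false)),
    (517, .gen 2519 (244, false)),
    (143, .gen 2519 (245, true)),
    (3676, .gen 1504 (153, true)),
    (1022, .gen 1504 (244, false)),
    (2888, .gen 1504 (244, true)),
    (1834, .gen 1504 (245, false)),
    (2931, .gen 1504 (245, true)),
    (1413, .gen 730 (153, false)),
    (2303, .gen 730 (244, true)),
    (350, .gen 730 (245, false)),
    (2464, .gen 730 (245, true)),
    (3460, .gen 1176 (148, false)),
    (644, .gen 1176 (244, false)),
    (1964, .gen 1176 (244, true)),
    (11, .gen 1176 (245, false)),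
    (439, .gen 2014 (148, false)),
    (2698, .gen 2014 (148, true)),
    (1196, .gen 2014 (153, false)),
    (2261, .gen 2014 (153, true)),
    (964, .gen 2014 (245, false)),
    (2134, .gen 2014 (245, true)),
    (463, .gen 1036 (147, false)),
    (1552, .gen 1036 (148, false)),
    (2496, .gen 1036 (148, true)),
    (1438, .gen 1036 (150, false)),
    (3553, .gen 1036 (153, false)),
    (2419, .gen 1036 (153, true)),
    (1412, .gen 1036 (245, false)),
    (1746, .gen 1036 (245, true)),
    (2028, .gen 255 (153, false)),
    (3610, .gen 255 (244, false)),
    (1396, .gen 255 (244, true)),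
    (246, .gen 1348 (153, false)),
    (2107, .gen 1348 (153, true)),
    (1191, .gen 1348 (244, false)),
    (643, .gen 1348 (244, true)),
    (1318, .gen 1815 (245, false)),
    (366, .gen 3297 (244, true)),
    (2384, .gen 3297 (245, false)),
    (194, .gen 3297 (245, true)),
    (1301, .gen 2558 (244, false)),
    (196, .gen 2558 (245, true)),
    (2827, .gen 222 (148, false)),
    (3587, .gen 222 (148, true)),
    (2453, .gen 222 (149, false)),
    (879, .gen 222 (245, false)),
    (3545, .gen 3674 (148, false)),
    (131, .gen 3674 (150, false)),
    (263, .gen 3674 (245, false)),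
    (2864, .gen 3674 (245, true)),
    (17, .gen 1157 (147, false)),
    (1568, .gen 1157 (244, false)),
    (1039, .gen 1157 (244, true)),
    (2352, .gen 3583 (153, false)),
    (3148, .gen 3583 (153, true)),
    (2041, .gen 3583 (244, false)),
    (312, .gen 3583 (244, true)),
    (2545, .gen 1555 (245, true)),
    (472, .gen 3436 (148, false)),
    (322, .gen 3436 (150, false)),
    (3563, .gen 3436 (244, true)),
    (3473, .gen 3436 (245, true)),
    (2606, .gen 3197 (149, false)),
    (1312, .gen 3197 (150, false)),
    (3242, .gen 3197 (153, true)),
    (2711, .gen 3197 (244, false)),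
    (1900, .gen 3197 (245, true)),
    (486, .gen 2587 (150, false)),
    (1111, .gen 2587 (153, true)),
    (301, .gen 2587 (245, false)),
    (358, .gen 622 (153, false)),
    (3591, .gen 622 (244, false)),
    (1430, .gen 622 (245, true)),
    (898, .gen 2751 (148, false)),
    (3323, .gen 2751 (150, false)),
    (2228, .gen 2751 (244, false)),
    (756, .gen 2751 (244, true)),
    (793, .gen 2751 (245, false)),
    (983, .gen 2751 (245, true)),
    (959, .gen 2736 (244, false)),
    (2304, .gen 2736 (244, true)),
    (428, .gen 2736 (245, false)),
    (491, .gen 2736 (245, true)),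
    (2913, .gen 1169 (147, false)),
    (1999, .gen 1169 (153, true)),
    (3198, .gen 2575 (153, true)),
    (3544, .gen 2575 (244, true)),
    (584, .gen 2575 (245, true)),
    (2238, .gen 379 (153, true)),
    (3747, .gen 379 (244, true)),
    (2742, .gen 379 (245, false)),
    (615, .gen 379 (245, true)),
    (300, .gen 3048 (153, true)),
    (1922, .gen 3048 (244, false)),
    (846, .gen 3048 (244, true)),
    (508, .gen 3048 (245, true)),
    (191, .gen 2590 (244, true)),
    (2542, .gen 2590 (245, true)),
    (1239, .gen 3132 (148, false)),
    (3570, .gen 3132 (244, true)),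
    (1759, .gen 3132 (245, false)),
    (3535, .gen 3132 (245, true)),
    (417, .gen 1698 (245, false)),
    (2846, .gen 1698 (245, true)),
    (614, .gen 1466 (147, false)),
    (225, .gen 1466 (149, false)),
    (1485, .gen 3013 (147, false)),
    (1951, .gen 3013 (149, false)),
    (105, .gen 3013 (153, false)),
    (320, .gen 3013 (244, false)),
    (1850, .gen 3013 (244, true)),
    (3064, .gen 663 (153, false)),
    (2160, .gen 663 (153, true)),
    (1586, .gen 663 (244, false)),
    (1319, .gen 663 (244, true)),
    (193, .gen 663 (245, true)),
    (401, .gen 373 (147, false)),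
    (2265, .gen 373 (148, false)),
    (2381, .gen 373 (150, false)),
    (2918, .gen 373 (244, false)),
    (1934, .gen 373 (244, true)),
    (630, .gen 373 (245, false)),
    (561, .gen 373 (245, true)),
    (924, .gen 1526 (147, false)),
    (1845, .gen 1526 (150, false)),
    (27, .gen 1526 (244, true)),
    (3235, .gen 1526 (245, false)),
    (840, .gen 1526 (245, true)),
    (2653, .gen 347 (147, false)),
    (345, .gen 347 (148, false)),
    (114, .gen 347 (149, false)),
    (817, .gen 347 (153, false)),
    (1840, .gen 1701 (147, false)),
    (1263, .gen 1701 (148, false)),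
    (1910, .gen 1701 (149, false)),
    (1974, .gen 1701 (153, false)),
    (3274, .gen 1701 (153, true)),
    (1557, .gen 3530 (153, false)),
    (588, .gen 3530 (153, true)),
    (34, .gen 3530 (244, false)),
    (72, .gen 3530 (244, true)),
    (1711, .gen 3530 (245, false)),
    (45, .gen 275 (245, true)),
    (2049, .gen 2527 (148, false)),
    (509, .gen 2527 (150, false)),
    (1767, .gen 2527 (153, false)),
    (186, .gen 2527 (244, false)),
    (2416, .gen 2527 (245, false)),
    (3613, .gen 2527 (245, true)),
    (2200, .gen 1944 (147, false)),
    (3247, .gen 1944 (148, true)),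
    (2740, .gen 1944 (244, false)),
    (3725, .gen 1944 (244, true)),
    (2867, .gen 1944 (245, false)),
    (2489, .gen 1944 (245, true)),
    (2688, .gen 201 (147, false)),
    (1288, .gen 201 (148, false)),
    (299, .gen 201 (148, true)),
    (1963, .gen 201 (149, false)),
    (1037, .gen 201 (153, false)),
    (1782, .gen 201 (153, true)),
    (2262, .gen 201 (245, false)),
    (2418, .gen 597 (147, false))]

/-- Visits. -/
def v11_7 : List (ℕ × Src) :=
  [(2517, .gen 597 (148, true)),
    (1505, .gen 597 (245, false)),
    (3109, .gen 597 (245, true)),
    (766, .gen 1476 (148, false)),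
    (2510, .gen 1476 (153, false)),
    (2563, .gen 2079 (147, false)),
    (1437, .gen 2079 (244, false)),
    (205, .gen 2079 (244, true)),
    (1677, .gen 2927 (147, false)),
    (2059, .gen 1125 (244, true)),
    (2835, .gen 1125 (245, false)),
    (2987, .gen 1125 (245, true)),
    (25, .gen 329 (153, true)),
    (552, .gen 3100 (149, false)),
    (3718, .gen 3100 (153, false)),
    (1933, .gen 3100 (245, false)),
    (1679, .gen 3100 (245, true)),
    (3517, .gen 2269 (147, false)),
    (921, .gen 2269 (244, false)),
    (1409, .gen 599 (244, false)),
    (153, .gen 599 (244, true)),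
    (3694, .gen 1806 (148, false)),
    (2596, .gen 1806 (148, true)),
    (1451, .gen 1806 (245, true)),
    (1112, .gen 2816 (244, false)),
    (666, .gen 192 (153, true)),
    (814, .gen 1855 (244, false)),
    (2651, .gen 1855 (245, false)),
    (121, .gen 271 (148, false)),
    (2007, .gen 271 (148, true)),
    (1444, .gen 799 (147, false)),
    (2529, .gen 799 (148, false)),
    (2202, .gen 799 (245, false)),
    (2159, .gen 799 (245, true)),
    (600, .gen 3142 (153, false)),
    (1615, .gen 782 (148, false)),
    (3450, .gen 782 (150, false)),
    (1678, .gen 782 (245, false)),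
    (711, .gen 1515 (153, false)),
    (2439, .gen 1515 (244, true)),
    (2450, .gen 2341 (153, false)),
    (662, .gen 1133 (148, false)),
    (2383, .gen 1133 (150, false)),
    (3358, .gen 1133 (244, false)),
    (970, .gen 1133 (244, true)),
    (1252, .gen 1133 (245, false)),
    (2865, .gen 3231 (150, false)),
    (3770, .gen 3231 (244, false)),
    (2234, .gen 3231 (244, true)),
    (2985, .gen 3231 (245, false)),
    (2046, .gen 3231 (245, true)),
    (1523, .gen 2131 (147, false)),
    (1585, .gen 2131 (149, false)),
    (2153, .gen 2131 (153, true)),
    (3446, .gen 1985 (149, false)),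
    (3557, .gen 1985 (153, true)),
    (80, .gen 1985 (244, true)),
    (3451, .gen 1731 (153, false)),
    (966, .gen 1731 (245, true)),
    (3771, .gen 3777 (245, false)),
    (993, .gen 3777 (245, true)),
    (3183, .gen 2331 (245, true)),
    (3254, .gen 902 (148, false)),
    (3363, .gen 902 (244, true)),
    (1213, .gen 902 (245, false)),
    (3276, .gen 2600 (149, false)),
    (1062, .gen 2600 (153, true)),
    (2597, .gen 2600 (244, true)),
    (2849, .gen 2417 (149, false)),
    (110, .gen 2417 (153, false)),
    (2051, .gen 2417 (244, false)),
    (449, .gen 2047 (244, true)),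
    (2177, .gen 528 (244, false)),
    (1777, .gen 528 (244, true)),
    (3443, .gen 1988 (244, false)),
    (617, .gen 1988 (245, false)),
    (1683, .gen 1080 (150, false)),
    (402, .gen 1080 (244, false)),
    (306, .gen 1080 (245, false)),
    (751, .gen 1569 (147, false)),
    (1864, .gen 1569 (149, false)),
    (2857, .gen 1569 (150, false)),
    (1947, .gen 1569 (153, false)),
    (678, .gen 977 (147, false)),
    (3341, .gen 977 (148, false)),
    (3169, .gen 977 (149, false)),
    (778, .gen 977 (153, false)),
    (1941, .gen 977 (153, true)),
    (555, .gen 2905 (244, false)),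
    (256, .gen 2905 (244, true)),
    (713, .gen 2905 (245, false)),
    (3004, .gen 87 (244, false)),
    (18, .gen 87 (244, true)),
    (3642, .gen 629 (244, false)),
    (3086, .gen 629 (244, true)),
    (2370, .gen 629 (245, false)),
    (1315, .gen 629 (245, true)),
    (3147, .gen 1228 (245, false)),
    (3539, .gen 1228 (245, true)),
    (2499, .gen 1492 (147, false)),
    (1154, .gen 1492 (150, false)),
    (2021, .gen 1492 (153, true)),
    (2012, .gen 2399 (148, false)),
    (2923, .gen 2399 (148, true)),
    (532, .gen 2399 (149, false)),
    (2456, .gen 2399 (153, true)),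
    (1590, .gen 2399 (245, false)),
    (111, .gen 2399 (245, true)),
    (3669, .gen 156 (153, false)),
    (197, .gen 156 (245, false)),
    (2003, .gen 3154 (147, false)),
    (1220, .gen 3154 (244, false)),
    (560, .gen 2891 (147, false)),
    (2830, .gen 3315 (153, false)),
    (3029, .gen 3315 (153, true)),
    (886, .gen 3315 (245, true)),
    (1059, .gen 3044 (244, true)),
    (2286, .gen 564 (147, false)),
    (1848, .gen 2231 (244, false)),
    (2293, .gen 2231 (244, true)),
    (3594, .gen 2187 (148, true)),
    (2361, .gen 2187 (153, true)),
    (776, .gen 2187 (245, false)),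
    (2814, .gen 2187 (245, true)),
    (2812, .gen 2467 (148, false)),
    (1612, .gen 2467 (150, false)),
    (3340, .gen 2467 (153, true)),
    (2647, .gen 2626 (244, false)),
    (3282, .gen 499 (153, false)),
    (1407, .gen 499 (153, true)),
    (3597, .gen 499 (244, true)),
    (942, .gen 341 (148, true)),
    (1681, .gen 341 (149, false)),
    (941, .gen 341 (245, false)),
    (1950, .gen 2150 (147, false)),
    (2037, .gen 2150 (148, false)),
    (1017, .gen 2150 (245, false)),
    (190, .gen 2642 (244, false)),
    (1027, .gen 2642 (244, true)),
    (2762, .gen 1722 (153, true)),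
    (927, .gen 1722 (244, false)),
    (370, .gen 1722 (244, true)),
    (316, .gen 1932 (148, false)),
    (3582, .gen 1932 (244, true)),
    (587, .gen 1932 (245, false)),
    (3692, .gen 2677 (149, false)),
    (2388, .gen 2677 (153, false)),
    (3310, .gen 2677 (153, true)),
    (1124, .gen 2677 (245, true)),
    (667, .gen 619 (244, true)),
    (1726, .gen 619 (245, true)),
    (96, .gen 577 (147, false)),
    (1895, .gen 3357 (147, false)),
    (139, .gen 1800 (153, true)),
    (3722, .gen 146 (244, false)),
    (1352, .gen 146 (245, true)),
    (1560, .gen 548 (245, true)),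
    (3429, .gen 1894 (148, false)),
    (267, .gen 1894 (245, false)),
    (1905, .gen 2567 (147, false)),
    (647, .gen 2567 (153, false)),
    (2109, .gen 2567 (153, true)),
    (158, .gen 3504 (149, false)),
    (2955, .gen 3504 (153, false)),
    (848, .gen 892 (244, true)),
    (213, .gen 892 (245, true)),
    (2551, .gen 1147 (244, false)),
    (2125, .gen 1147 (244, true)),
    (724, .gen 701 (244, false)),
    (1472, .gen 701 (245, false)),
    (1729, .gen 1262 (244, true)),
    (3550, .gen 1262 (245, false)),
    (2829, .gen 1262 (245, true)),
    (860, .gen 2172 (147, false)),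
    (2098, .gen 2172 (148, false)),
    (1000, .gen 2172 (149, false)),
    (2970, .gen 1364 (148, false)),
    (2336, .gen 1364 (153, true)),
    (262, .gen 3139 (153, true)),
    (1868, .gen 3139 (244, false)),
    (1976, .gen 484 (153, true)),
    (1926, .gen 1876 (245, false)),
    (973, .gen 1876 (245, true)),
    (32, .gen 2340 (245, false)),
    (2257, .gen 2340 (245, true)),
    (3246, .gen 844 (245, true)),
    (219, .gen 453 (244, false)),
    (579, .gen 3214 (245, false)),
    (2971, .gen 1994 (153, false)),
    (2308, .gen 1994 (245, false)),
    (3080, .gen 1994 (245, true)),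
    (3496, .gen 466 (244, false)),
    (2128, .gen 665 (245, false)),
    (3686, .gen 665 (245, true)),
    (2394, .gen 2641 (148, true)),
    (2465, .gen 2641 (149, false)),
    (3022, .gen 2641 (245, false)),
    (1024, .gen 266 (244, false)),
    (2726, .gen 266 (244, true)),
    (3442, .gen 3700 (147, false)),
    (2844, .gen 3700 (148, false)),
    (628, .gen 3630 (153, true)),
    (2632, .gen 906 (244, false)),
    (3568, .gen 770 (244, false)),
    (1186, .gen 770 (245, false)),
    (692, .gen 2992 (150, false)),
    (1887, .gen 2992 (244, true)),
    (2495, .gen 2620 (153, true)),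
    (1989, .gen 2620 (245, false)),
    (1912, .gen 2578 (153, false)),
    (934, .gen 2578 (153, true)),
    (383, .gen 2578 (245, false)),
    (753, .gen 3512 (150, false)),
    (3005, .gen 3512 (244, false)),
    (3546, .gen 3512 (244, true)),
    (1658, .gen 3512 (245, false)),
    (2485, .gen 2001 (147, false)),
    (183, .gen 2001 (150, false)),
    (2907, .gen 2001 (244, true)),
    (881, .gen 882 (147, false)),
    (285, .gen 882 (149, false)),
    (2665, .gen 882 (244, true)),
    (2546, .gen 2840 (153, false)),
    (2362, .gen 3344 (149, false)),
    (744, .gen 3344 (153, true)),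
    (3331, .gen 3344 (244, false)),
    (2294, .gen 3344 (245, false)),
    (3537, .gen 3723 (153, false)),
    (3672, .gen 3723 (245, false)),
    (1487, .gen 1899 (153, false)),
    (3179, .gen 2016 (148, false)),
    (775, .gen 2016 (244, true)),
    (3253, .gen 339 (149, false)),
    (909, .gen 1745 (147, false)),
    (3168, .gen 1745 (149, false)),
    (181, .gen 1745 (153, false)),
    (2763, .gen 1519 (244, false)),
    (1960, .gen 1519 (244, true)),
    (265, .gen 1519 (245, false)),
    (890, .gen 1519 (245, true)),
    (1061, .gen 3675 (245, false)),
    (3448, .gen 3675 (245, true)),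
    (2366, .gen 2086 (147, false)),
    (2697, .gen 2086 (153, true)),
    (989, .gen 1198 (153, true)),
    (790, .gen 1458 (153, true)),
    (537, .gen 1458 (244, true)),
    (1155, .gen 1554 (150, false)),
    (2289, .gen 1554 (245, true)),
    (2636, .gen 3562 (245, true)),
    (1177, .gen 2798 (148, false)),
    (2181, .gen 2798 (148, true)),
    (1270, .gen 2798 (153, false)),
    (1226, .gen 2798 (153, true)),
    (863, .gen 953 (148, false)),
    (2300, .gen 953 (148, true)),
    (245, .gen 1814 (244, false)),
    (3079, .gen 293 (149, false)),
    (1400, .gen 3090 (245, false)),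
    (541, .gen 1616 (245, true)),
    (2540, .gen 3387 (147, false)),
    (2061, .gen 3605 (149, false)),
    (952, .gen 3605 (244, true)),
    (1098, .gen 787 (245, false)),
    (1120, .gen 3150 (245, false)),
    (1249, .gen 796 (147, false)),
    (2019, .gen 2633 (147, false)),
    (22, .gen 3108 (244, true)),
    (2092, .gen 1535 (244, true)),
    (1756, .gen 2608 (245, false)),
    (1692, .gen 2608 (245, true)),
    (2133, .gen 2836 (245, false)),
    (441, .gen 613 (244, true)),
    (169, .gen 1861 (148, true)),
    (1758, .gen 1861 (153, true)),
    (809, .gen 1861 (245, false)),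
    (876, .gen 1721 (153, false)),
    (214, .gen 3633 (244, false)),
    (3226, .gen 3633 (244, true)),
    (2783, .gen 2621 (153, false)),
    (3261, .gen 2621 (244, false)),
    (1839, .gen 2863 (244, false)),
    (14, .gen 2863 (244, true)),
    (1938, .gen 1381 (148, false)),
    (654, .gen 2291 (244, true)),
    (2029, .gen 1097 (244, false)),
    (574, .gen 589 (153, false)),
    (1607, .gen 589 (153, true)),
    (2979, .gen 2843 (244, false)),
    (516, .gen 1650 (244, true)),
    (2855, .gen 3251 (244, true)),
    (1436, .gen 3375 (149, false)),
    (1921, .gen 3375 (244, false)),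
    (3464, .gen 86 (245, false)),
    (2680, .gen 972 (244, false)),
    (723, .gen 972 (245, true)),
    (1757, .gen 3182 (147, false)),
    (3327, .gen 3699 (153, false)),
    (3074, .gen 1335 (150, false)),
    (1064, .gen 52 (244, false))]

/-- Visits. -/
def v11_8 : List (ℕ × Src) :=
  [(2784, .gen 52 (244, true)),
    (1183, .gen 2579 (148, true)),
    (497, .gen 1751 (148, false)),
    (3216, .gen 3388 (244, false)),
    (2100, .gen 3388 (244, true)),
    (2820, .gen 375 (148, true)),
    (712, .gen 375 (245, false)),
    (3221, .gen 375 (245, true)),
    (3177, .gen 693 (148, false)),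
    (1802, .gen 436 (244, false)),
    (798, .gen 2409 (153, true)),
    (1092, .gen 2409 (244, true)),
    (1630, .gen 3698 (244, false)),
    (3085, .gen 3698 (244, true)),
    (3225, .gen 2280 (149, false)),
    (3727, .gen 834 (244, false)),
    (3592, .gen 492 (245, false)),
    (937, .gen 1478 (244, true)),
    (3190, .gen 2033 (153, false)),
    (107, .gen 2033 (153, true)),
    (3342, .gen 769 (244, false)),
    (3172, .gen 1507 (245, true)),
    (3385, .gen 3791 (148, false)),
    (365, .gen 3791 (245, false)),
    (3709, .gen 2582 (150, false)),
    (1234, .gen 2071 (244, true)),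
    (2323, .gen 2441 (153, true)),
    (835, .gen 3655 (153, false)),
    (765, .gen 3655 (153, true)),
    (674, .gen 1192 (245, true)),
    (3352, .gen 2822 (147, false)),
    (2511, .gen 763 (244, true)),
    (1181, .gen 1548 (153, false)),
    (828, .gen 1548 (244, true)),
    (2502, .gen 2339 (153, false)),
    (2259, .gen 1052 (244, false)),
    (1771, .gen 2235 (150, false)),
    (1911, .gen 2235 (245, false)),
    (3691, .gen 859 (153, false)),
    (3258, .gen 859 (244, true)),
    (1685, .gen 3250 (153, false)),
    (1304, .gen 442 (147, false)),
    (2794, .gen 442 (245, true)),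
    (3329, .gen 1425 (147, false)),
    (3775, .gen 1425 (245, true)),
    (187, .gen 2199 (244, true)),
    (9, .gen 1791 (244, false)),
    (412, .gen 3153 (147, false)),
    (451, .gen 3153 (148, false)),
    (1936, .gen 3153 (148, true)),
    (3248, .gen 3153 (153, false)),
    (2685, .gen 3153 (153, true)),
    (2921, .gen 2657 (244, false)),
    (1532, .gen 124 (153, false)),
    (1828, .gen 3167 (245, false)),
    (640, .gen 1898 (153, true)),
    (808, .gen 1493 (244, true)),
    (3268, .gen 1780 (153, true)),
    (2053, .gen 2324 (153, true)),
    (56, .gen 1350 (245, false)),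
    (1225, .gen 853 (244, false)),
    (2745, .gen 819 (244, false)),
    (3156, .gen 819 (245, false)),
    (2371, .gen 2151 (148, true)),
    (1969, .gen 2437 (147, false)),
    (2292, .gen 2437 (153, false)),
    (1892, .gen 2437 (153, true)),
    (1254, .gen 1738 (244, false)),
    (2334, .gen 2730 (245, true)),
    (3707, .gen 2664 (245, true)),
    (1914, .gen 2333 (245, true)),
    (1273, .gen 84 (244, false)),
    (2729, .gen 381 (153, false)),
    (1073, .gen 1473 (245, true)),
    (1525, .gen 2368 (245, true)),
    (2355, .gen 3649 (153, false)),
    (387, .gen 868 (244, false)),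
    (3577, .gen 868 (244, true)),
    (2868, .gen 868 (245, true)),
    (3193, .gen 3673 (245, true)),
    (63, .gen 601 (245, false)),
    (2005, .gen 3144 (153, false)),
    (625, .gen 3144 (244, false)),
    (1308, .gen 447 (244, false)),
    (2995, .gen 447 (245, false)),
    (936, .gen 1583 (245, true)),
    (363, .gen 2404 (244, false)),
    (3278, .gen 2404 (244, true)),
    (1937, .gen 2404 (245, false)),
    (1904, .gen 3405 (244, true)),
    (3349, .gen 2807 (147, false)),
    (2690, .gen 2807 (149, false)),
    (359, .gen 2807 (153, false)),
    (3431, .gen 2755 (245, false)),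
    (3136, .gen 1693 (244, true)),
    (3091, .gen 1556 (148, false)),
    (896, .gen 1034 (149, false)),
    (494, .gen 336 (245, false)),
    (150, .gen 1004 (244, true)),
    (468, .gen 1043 (153, false)),
    (2966, .gen 1043 (153, true)),
    (1633, .gen 259 (245, false)),
    (3095, .gen 1651 (148, true)),
    (969, .gen 3733 (244, false)),
    (97, .gen 3430 (153, false)),
    (221, .gen 3430 (244, true)),
    (3131, .gen 3430 (245, false)),
    (1823, .gen 2137 (245, false)),
    (1035, .gen 2779 (153, true)),
    (1194, .gen 2779 (245, false)),
    (726, .gen 1434 (153, false)),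
    (1545, .gen 1434 (245, false)),
    (1099, .gen 3227 (147, false)),
    (2515, .gen 3227 (244, false)),
    (2666, .gen 3743 (147, false)),
    (44, .gen 3743 (153, false)),
    (2031, .gen 3743 (153, true)),
    (2058, .gen 3743 (244, false)),
    (3376, .gen 2024 (245, false)),
    (2498, .gen 2024 (245, true)),
    (1644, .gen 1054 (244, false)),
    (2559, .gen 1054 (244, true)),
    (857, .gen 1760 (244, true)),
    (323, .gen 1462 (244, true)),
    (1459, .gen 1809 (153, true)),
    (1475, .gen 3708 (149, false)),
    (430, .gen 3708 (153, true)),
    (3483, .gen 3708 (244, false)),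
    (2277, .gen 3708 (244, true)),
    (611, .gen 371 (153, false)),
    (459, .gen 371 (153, true)),
    (1055, .gen 371 (244, false)),
    (3104, .gen 371 (244, true)),
    (254, .gen 816 (148, false)),
    (976, .gen 816 (245, true)),
    (414, .gen 3710 (245, false)),
    (1821, .gen 3710 (245, true)),
    (2663, .gen 2091 (149, false)),
    (1609, .gen 2091 (153, false)),
    (504, .gen 2091 (153, true)),
    (2042, .gen 2091 (244, true)),
    (1106, .gen 652 (153, true)),
    (3233, .gen 652 (244, false)),
    (3438, .gen 652 (244, true)),
    (330, .gen 2991 (244, true)),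
    (2431, .gen 2991 (245, true)),
    (2164, .gen 1398 (153, true)),
    (2402, .gen 1398 (244, true)),
    (3720, .gen 1808 (244, false)),
    (3057, .gen 1808 (244, true)),
    (1737, .gen 1808 (245, false)),
    (2060, .gen 1808 (245, true)),
    (1253, .gen 390 (244, false)),
    (1141, .gen 390 (244, true)),
    (2699, .gen 390 (245, false)),
    (2754, .gen 390 (245, true)),
    (3656, .gen 2667 (147, false)),
    (3317, .gen 2667 (153, true)),
    (2817, .gen 1749 (147, false)),
    (2025, .gen 1749 (153, false)),
    (3191, .gen 1749 (153, true)),
    (2301, .gen 2541 (153, false)),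
    (1103, .gen 2541 (245, false)),
    (3324, .gen 2541 (245, true)),
    (1567, .gen 3685 (244, false)),
    (338, .gen 3685 (244, true)),
    (462, .gen 3685 (245, true)),
    (1411, .gen 1001 (244, false)),
    (2139, .gen 1001 (244, true)),
    (1884, .gen 1001 (245, true)),
    (1026, .gen 1435 (147, false)),
    (416, .gen 1435 (149, false)),
    (354, .gen 1435 (153, false)),
    (2899, .gen 2629 (147, false)),
    (1739, .gen 2629 (149, false)),
    (3768, .gen 3616 (149, false)),
    (2389, .gen 3616 (244, false)),
    (3738, .gen 1172 (244, false)),
    (655, .gen 1172 (244, true)),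
    (1441, .gen 3399 (244, false)),
    (3211, .gen 3399 (245, true)),
    (2104, .gen 534 (244, true)),
    (1322, .gen 534 (245, true)),
    (3463, .gen 823 (147, false)),
    (2811, .gen 823 (153, false)),
    (3532, .gen 823 (153, true)),
    (1041, .gen 815 (147, false)),
    (2601, .gen 815 (149, false)),
    (741, .gen 815 (153, false)),
    (76, .gen 1810 (149, false)),
    (2318, .gen 1810 (244, false)),
    (1789, .gen 1810 (244, true)),
    (1212, .gen 2359 (153, false)),
    (2094, .gen 2359 (153, true)),
    (36, .gen 480 (244, false)),
    (1980, .gen 480 (244, true)),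
    (3643, .gen 427 (245, false)),
    (3454, .gen 2676 (147, false)),
    (2330, .gen 2676 (153, true)),
    (247, .gen 3631 (153, false)),
    (184, .gen 3631 (244, true)),
    (135, .gen 3631 (245, true)),
    (38, .gen 1448 (245, true)),
    (3636, .gen 1040 (245, false)),
    (443, .gen 2646 (153, false)),
    (1537, .gen 2646 (245, true)),
    (1640, .gen 3383 (153, true)),
    (6, .gen 3383 (245, true)),
    (3679, .gen 648 (244, false)),
    (2655, .gen 3316 (153, true)),
    (2446, .gen 3316 (245, false)),
    (1340, .gen 3316 (245, true)),
    (101, .gen 1006 (150, false)),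
    (590, .gen 1006 (245, false)),
    (602, .gen 1006 (245, true)),
    (1257, .gen 1621 (153, false)),
    (2877, .gen 1621 (153, true)),
    (722, .gen 3245 (153, false)),
    (1240, .gen 3245 (153, true)),
    (2808, .gen 3245 (244, true)),
    (3603, .gen 3141 (245, true)),
    (3404, .gen 657 (149, false)),
    (302, .gen 2271 (153, false)),
    (928, .gen 2271 (153, true)),
    (2949, .gen 2271 (244, true)),
    (513, .gen 1931 (153, false)),
    (1056, .gen 1931 (153, true)),
    (2938, .gen 1931 (244, true)),
    (2110, .gen 2309 (244, true)),
    (3457, .gen 2309 (245, true)),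
    (920, .gen 2616 (244, true)),
    (752, .gen 2616 (245, true)),
    (668, .gen 3164 (153, true)),
    (2466, .gen 3164 (245, false)),
    (2322, .gen 3164 (245, true)),
    (1970, .gen 3362 (244, false)),
    (1948, .gen 3362 (245, false)),
    (3266, .gen 1379 (244, true)),
    (1349, .gen 1379 (245, false)),
    (2175, .gen 1379 (245, true)),
    (3228, .gen 836 (147, false)),
    (2571, .gen 836 (244, true)),
    (3561, .gen 438 (147, false)),
    (1984, .gen 438 (149, false)),
    (2188, .gen 2055 (153, false)),
    (2162, .gen 2055 (245, true)),
    (1559, .gen 2936 (148, false)),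
    (3083, .gen 2936 (244, false)),
    (1324, .gen 2936 (244, true)),
    (3418, .gen 777 (244, false)),
    (1281, .gen 2249 (149, false)),
    (2780, .gen 2249 (153, false)),
    (46, .gen 2249 (244, false)),
    (2282, .gen 2249 (244, true)),
    (3474, .gen 997 (244, false)),
    (1871, .gen 997 (244, true)),
    (3453, .gen 3466 (244, true)),
    (760, .gen 1455 (244, true)),
    (2052, .gen 1455 (245, true)),
    (1185, .gen 437 (147, false)),
    (2530, .gen 437 (148, false)),
    (343, .gen 437 (149, false)),
    (3778, .gen 2222 (147, false)),
    (3113, .gen 2222 (149, false)),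
    (575, .gen 2367 (153, false)),
    (2106, .gen 2367 (153, true)),
    (550, .gen 2367 (244, false)),
    (1067, .gen 178 (148, false)),
    (1150, .gen 178 (150, false)),
    (869, .gen 178 (244, false)),
    (830, .gen 178 (244, true)),
    (2217, .gen 3652 (244, true)),
    (3668, .gen 1858 (147, false)),
    (2326, .gen 2603 (147, false)),
    (3054, .gen 1332 (244, false)),
    (3401, .gen 3021 (245, false)),
    (232, .gen 155 (245, true)),
    (3792, .gen 3206 (244, false)),
    (1168, .gen 3206 (244, true)),
    (2536, .gen 82 (244, true)),
    (545, .gen 37 (149, false)),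
    (2002, .gen 3176 (148, false)),
    (2136, .gen 1384 (244, false)),
    (2449, .gen 1384 (244, true)),
    (963, .gen 3426 (244, true)),
    (53, .gen 2583 (245, false)),
    (1454, .gen 2255 (245, true)),
    (1544, .gen 583 (244, true)),
    (3032, .gen 583 (245, false)),
    (1029, .gen 400 (147, false)),
    (3289, .gen 1696 (149, false)),
    (2937, .gen 1696 (153, false)),
    (871, .gen 3471 (244, false)),
    (523, .gen 2669 (149, false)),
    (2526, .gen 905 (149, false)),
    (1575, .gen 3238 (147, false)),
    (83, .gen 2492 (244, false)),
    (483, .gen 2492 (244, true)),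
    (1009, .gen 2004 (147, false)),
    (1143, .gen 2004 (153, true))]

/-- Visits. -/
def v11_9 : List (ℕ × Src) :=
  [(757, .gen 947 (244, true)),
    (773, .gen 482 (245, false)),
    (2557, .gen 661 (244, true)),
    (2912, .gen 3398 (148, false)),
    (1890, .gen 3398 (245, false)),
    (1667, .gen 917 (245, false)),
    (3314, .gen 2958 (153, false)),
    (676, .gen 1992 (148, true)),
    (774, .gen 1992 (245, false)),
    (1865, .gen 3024 (244, false)),
    (2800, .gen 1446 (245, true)),
    (173, .gen 2875 (245, false)),
    (3286, .gen 1578 (245, false)),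
    (2569, .gen 1578 (245, true)),
    (207, .gen 2077 (153, false)),
    (2022, .gen 2077 (153, true)),
    (515, .gen 1632 (149, false)),
    (2649, .gen 1632 (153, false)),
    (3000, .gen 1632 (153, true)),
    (501, .gen 1285 (153, true)),
    (2112, .gen 3045 (244, true)),
    (740, .gen 1224 (153, true)),
    (456, .gen 2350 (244, true)),
    (3572, .gen 2327 (149, false)),
    (1200, .gen 2327 (153, false)),
    (2707, .gen 2477 (153, true)),
    (1704, .gen 3192 (153, true)),
    (1371, .gen 3192 (244, true)),
    (397, .gen 1880 (244, false)),
    (167, .gen 1880 (245, true)),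
    (2356, .gen 620 (153, false)),
    (3693, .gen 3318 (149, false)),
    (1238, .gen 3318 (153, true)),
    (3378, .gen 586 (153, false)),
    (1363, .gen 586 (153, true)),
    (1784, .gen 951 (149, false)),
    (3475, .gen 1084 (153, true)),
    (1286, .gen 1686 (245, false)),
    (2227, .gen 2708 (147, false)),
    (1669, .gen 2459 (245, true)),
    (3120, .gen 2163 (153, true)),
    (2793, .gen 3507 (244, true)),
    (1025, .gen 2406 (244, false)),
    (978, .gen 3030 (244, true)),
    (1588, .gen 3030 (245, false)),
    (3511, .gen 1346 (245, true)),
    (1328, .gen 2602 (149, false)),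
    (738, .gen 2739 (153, false)),
    (1775, .gen 3173 (245, true)),
    (1798, .gen 822 (245, true)),
    (2643, .gen 2247 (147, false)),
    (1635, .gen 92 (245, false)),
    (1977, .gen 3138 (147, false)),
    (2386, .gen 804 (245, false)),
    (2194, .gen 3787 (245, true)),
    (2977, .gen 3644 (244, true)),
    (918, .gen 42 (149, false)),
    (1529, .gen 42 (150, false)),
    (2705, .gen 42 (245, false)),
    (3135, .gen 42 (245, true)),
    (3006, .gen 475 (150, false)),
    (888, .gen 475 (153, false)),
    (3449, .gen 475 (244, false)),
    (1561, .gen 475 (245, false)),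
    (3487, .gen 475 (245, true)),
    (2885, .gen 3343 (153, false)),
    (3264, .gen 3343 (244, false)),
    (2976, .gen 3343 (245, false)),
    (1582, .gen 3343 (245, true)),
    (1622, .gen 2451 (153, false)),
    (1237, .gen 2451 (245, true)),
    (3011, .gen 3267 (150, false)),
    (524, .gen 3267 (244, false)),
    (89, .gen 3267 (245, false)),
    (3664, .gen 3267 (245, true)),
    (2296, .gen 962 (150, false)),
    (3347, .gen 962 (153, false)),
    (781, .gen 962 (153, true)),
    (1598, .gen 962 (245, false)),
    (3165, .gen 3229 (148, false)),
    (1776, .gen 3229 (148, true)),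
    (3490, .gen 3229 (150, false)),
    (1909, .gen 3229 (153, false)),
    (1469, .gen 3229 (153, true)),
    (333, .gen 3229 (245, false)),
    (2700, .gen 3229 (245, true)),
    (1306, .gen 3732 (147, false)),
    (28, .gen 3732 (149, false)),
    (1390, .gen 3732 (153, false)),
    (1712, .gen 3732 (153, true)),
    (2463, .gen 3732 (244, false)),
    (108, .gen 3732 (244, true)),
    (1491, .gen 1857 (147, false)),
    (2640, .gen 1857 (149, false)),
    (1119, .gen 1857 (153, false)),
    (2186, .gen 1857 (153, true)),
    (3334, .gen 1857 (244, false)),
    (3134, .gen 1857 (244, true)),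
    (3126, .gen 311 (150, false)),
    (1733, .gen 311 (153, false)),
    (3756, .gen 311 (153, true)),
    (3465, .gen 311 (244, false)),
    (319, .gen 311 (244, true)),
    (2968, .gen 311 (245, false)),
    (1580, .gen 311 (245, true)),
    (2544, .gen 3374 (244, true)),
    (653, .gen 3374 (245, false)),
    (2983, .gen 3374 (245, true)),
    (2628, .gen 1953 (153, false)),
    (3695, .gen 1953 (244, true)),
    (1689, .gen 1953 (245, false)),
    (1389, .gen 1953 (245, true)),
    (30, .gen 3516 (244, false)),
    (2250, .gen 3516 (244, true)),
    (388, .gen 3516 (245, false)),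
    (67, .gen 3516 (245, true)),
    (512, .gen 672 (148, false)),
    (286, .gen 672 (148, true)),
    (3623, .gen 672 (149, false)),
    (3060, .gen 672 (153, false)),
    (2744, .gen 672 (153, true)),
    (3625, .gen 672 (245, true)),
    (1697, .gen 1327 (147, false)),
    (49, .gen 1327 (148, false)),
    (73, .gen 1327 (148, true)),
    (3621, .gen 1327 (149, false)),
    (2725, .gen 1327 (150, false)),
    (721, .gen 1327 (153, true)),
    (290, .gen 1327 (245, false)),
    (3559, .gen 1327 (245, true)),
    (2806, .gen 3119 (147, false)),
    (837, .gen 3119 (149, false)),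
    (1005, .gen 3119 (244, false)),
    (634, .gen 3119 (244, true)),
    (2127, .gen 768 (147, false)),
    (792, .gen 768 (149, false)),
    (230, .gen 768 (153, false)),
    (3163, .gen 768 (153, true)),
    (1341, .gen 768 (244, false)),
    (3218, .gen 768 (244, true)),
    (3773, .gen 2435 (153, false)),
    (2054, .gen 2435 (153, true)),
    (3178, .gen 2435 (244, false)),
    (2393, .gen 2435 (244, true)),
    (3641, .gen 1509 (147, false)),
    (1439, .gen 1509 (148, false)),
    (399, .gen 1509 (150, false)),
    (887, .gen 1509 (153, false)),
    (2126, .gen 1509 (244, true)),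
    (1993, .gen 1509 (245, true)),
    (2618, .gen 538 (147, false)),
    (1497, .gen 538 (148, true)),
    (2911, .gen 538 (150, false)),
    (1153, .gen 538 (245, true)),
    (729, .gen 71 (148, false)),
    (1480, .gen 71 (148, true)),
    (1144, .gen 71 (150, false)),
    (802, .gen 71 (153, false)),
    (3087, .gen 71 (153, true)),
    (3084, .gen 71 (245, true)),
    (489, .gen 1283 (147, false)),
    (1342, .gen 1283 (148, false)),
    (1269, .gen 1283 (150, false)),
    (1727, .gen 1283 (153, false)),
    (422, .gen 1283 (245, false)),
    (829, .gen 1283 (245, true)),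
    (850, .gen 3639 (147, false)),
    (1646, .gen 3639 (153, false)),
    (3260, .gen 3639 (153, true)),
    (1842, .gen 3639 (244, false)),
    (2791, .gen 1506 (147, false)),
    (3290, .gen 1506 (153, true)),
    (2604, .gen 1506 (244, false)),
    (2994, .gen 1506 (244, true)),
    (1175, .gen 2534 (153, false)),
    (2089, .gen 2534 (245, false)),
    (3459, .gen 160 (244, true)),
    (2883, .gen 160 (245, false)),
    (3224, .gen 160 (245, true)),
    (717, .gen 206 (148, false)),
    (3638, .gen 206 (148, true)),
    (627, .gen 206 (149, false)),
    (1158, .gen 206 (153, false)),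
    (2335, .gen 206 (153, true)),
    (385, .gen 206 (245, false)),
    (335, .gen 206 (245, true)),
    (1499, .gen 1618 (148, false)),
    (1600, .gen 1618 (149, false)),
    (1481, .gen 1618 (153, false)),
    (506, .gen 1618 (153, true)),
    (2195, .gen 1618 (245, false)),
    (3093, .gen 1618 (245, true)),
    (2898, .gen 103 (147, false)),
    (2719, .gen 103 (244, true)),
    (297, .gen 240 (147, false)),
    (750, .gen 240 (153, false)),
    (710, .gen 240 (153, true)),
    (2315, .gen 240 (244, false)),
    (2460, .gen 2709 (153, false)),
    (3078, .gen 2709 (244, false)),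
    (2870, .gen 2709 (245, false)),
    (913, .gen 2709 (245, true)),
    (673, .gen 749 (153, true)),
    (405, .gen 749 (244, false)),
    (117, .gen 749 (244, true)),
    (216, .gen 749 (245, false)),
    (2881, .gen 749 (245, true)),
    (1935, .gen 3307 (153, false)),
    (2533, .gen 3307 (245, false)),
    (1958, .gen 3307 (245, true)),
    (2639, .gen 2942 (244, false)),
    (408, .gen 2942 (244, true)),
    (3690, .gen 3670 (148, false)),
    (5, .gen 3670 (153, false)),
    (2201, .gen 3670 (153, true)),
    (1090, .gen 1131 (147, false)),
    (2941, .gen 1131 (148, false)),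
    (43, .gen 1131 (150, false)),
    (2509, .gen 1131 (153, false)),
    (2990, .gen 1131 (153, true)),
    (893, .gen 1131 (245, false)),
    (2230, .gen 2392 (149, false)),
    (1044, .gen 2392 (153, true)),
    (559, .gen 2392 (244, false)),
    (1761, .gen 2789 (149, false)),
    (1870, .gen 2789 (153, false)),
    (3217, .gen 2789 (153, true)),
    (2890, .gen 2789 (244, false)),
    (2144, .gen 2789 (244, true)),
    (2196, .gen 1831 (244, false)),
    (704, .gen 1831 (244, true)),
    (932, .gen 1831 (245, false)),
    (1606, .gen 1831 (245, true)),
    (930, .gen 3767 (244, true)),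
    (1100, .gen 3767 (245, true)),
    (2648, .gen 2474 (244, false)),
    (1896, .gen 2474 (244, true)),
    (2114, .gen 2474 (245, false)),
    (162, .gen 2474 (245, true)),
    (113, .gen 355 (148, false)),
    (2088, .gen 355 (245, false)),
    (2962, .gen 355 (245, true)),
    (1292, .gen 3606 (147, false)),
    (2819, .gen 3606 (148, false)),
    (2193, .gen 3606 (148, true)),
    (140, .gen 3606 (150, false)),
    (152, .gen 1414 (147, false)),
    (3016, .gen 1414 (149, false)),
    (565, .gen 1414 (153, false)),
    (3627, .gen 1414 (244, false)),
    (2887, .gen 1414 (244, true)),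
    (464, .gen 3338 (149, false)),
    (1703, .gen 3338 (153, true)),
    (1522, .gen 3338 (244, false)),
    (243, .gen 3338 (244, true)),
    (3373, .gen 2206 (153, false)),
    (212, .gen 2206 (245, true)),
    (3757, .gen 66 (149, false)),
    (2027, .gen 66 (153, true)),
    (1786, .gen 66 (244, false)),
    (3038, .gen 66 (244, true)),
    (2960, .gen 66 (245, true)),
    (3071, .gen 3353 (149, false)),
    (2482, .gen 3353 (150, false)),
    (2064, .gen 3353 (244, false)),
    (3704, .gen 3353 (244, true)),
    (3503, .gen 3353 (245, true)),
    (2468, .gen 2374 (150, false)),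
    (2344, .gen 2374 (153, false)),
    (2678, .gen 2374 (153, true)),
    (3271, .gen 2374 (245, false)),
    (1734, .gen 2374 (245, true)),
    (65, .gen 407 (245, false)),
    (47, .gen 407 (245, true)),
    (2337, .gen 875 (244, false)),
    (3476, .gen 875 (244, true)),
    (1325, .gen 606 (244, false)),
    (1513, .gen 606 (244, true)),
    (3783, .gen 2142 (149, false)),
    (346, .gen 2142 (153, false)),
    (1666, .gen 2142 (153, true)),
    (3107, .gen 2142 (244, false)),
    (3204, .gen 2142 (244, true)),
    (1754, .gen 2023 (147, false)),
    (1655, .gen 2023 (149, false)),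
    (1122, .gen 2023 (244, false)),
    (3017, .gen 2023 (244, true)),
    (3189, .gen 189 (149, false)),
    (1517, .gen 189 (153, false)),
    (2662, .gen 189 (153, true)),
    (982, .gen 189 (244, false)),
    (1778, .gen 189 (245, false)),
    (2973, .gen 3125 (149, false)),
    (21, .gen 3125 (153, true)),
    (2375, .gen 3125 (244, false)),
    (161, .gen 3125 (244, true)),
    (3701, .gen 3125 (245, false)),
    (493, .gen 3125 (245, true)),
    (106, .gen 801 (149, false)),
    (159, .gen 801 (153, true))]

/-- Visits. -/
def v11_10 : List (ℕ × Src) :=
  [(1049, .gen 801 (244, false)),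
    (2998, .gen 801 (244, true)),
    (503, .gen 801 (245, true)),
    (15, .gen 3764 (150, false)),
    (1429, .gen 3764 (153, false)),
    (2704, .gen 3764 (153, true)),
    (2795, .gen 3764 (245, false)),
    (632, .gen 3764 (245, true)),
    (1945, .gen 1889 (153, false)),
    (2906, .gen 1889 (244, false)),
    (1258, .gen 1889 (245, false)),
    (1246, .gen 2613 (148, false)),
    (2184, .gen 2613 (244, false)),
    (2358, .gen 2613 (244, true)),
    (3152, .gen 2613 (245, true)),
    (979, .gen 104 (244, false)),
    (2788, .gen 104 (244, true)),
    (3678, .gen 104 (245, false)),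
    (2312, .gen 104 (245, true)),
    (2566, .gen 2476 (147, false)),
    (2462, .gen 2476 (244, false)),
    (1242, .gen 2476 (244, true)),
    (325, .gen 3056 (149, false)),
    (429, .gen 3056 (153, false)),
    (2999, .gen 3056 (153, true)),
    (1077, .gen 3056 (244, false)),
    (1613, .gen 3056 (244, true)),
    (706, .gen 2020 (153, false)),
    (2750, .gen 2020 (153, true)),
    (811, .gen 2020 (244, false)),
    (1972, .gen 2020 (244, true)),
    (2797, .gen 1715 (153, false)),
    (2034, .gen 1715 (153, true)),
    (1278, .gen 1715 (244, false)),
    (1354, .gen 1715 (244, true)),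
    (112, .gen 1715 (245, false)),
    (3256, .gen 2452 (148, false)),
    (1347, .gen 2452 (150, false)),
    (916, .gen 2452 (244, false)),
    (521, .gen 2452 (244, true)),
    (2483, .gen 2452 (245, true)),
    (2821, .gen 3302 (150, false)),
    (226, .gen 3302 (244, false)),
    (2644, .gen 3302 (244, true)),
    (3634, .gen 3302 (245, true)),
    (1954, .gen 1773 (149, false)),
    (2157, .gen 514 (148, false)),
    (269, .gen 514 (150, false)),
    (1917, .gen 1008 (244, false)),
    (326, .gen 1008 (245, false)),
    (2113, .gen 923 (245, true)),
    (3765, .gen 2166 (147, false)),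
    (294, .gen 2166 (148, false)),
    (762, .gen 2166 (150, false)),
    (1833, .gen 2166 (244, false)),
    (1134, .gen 2166 (244, true)),
    (3628, .gen 2166 (245, false)),
    (2045, .gen 2166 (245, true)),
    (1210, .gen 3589 (148, true)),
    (696, .gen 3589 (150, false)),
    (2219, .gen 3589 (244, true)),
    (2410, .gen 3589 (245, false)),
    (458, .gen 3589 (245, true)),
    (1277, .gen 1660 (147, false)),
    (3671, .gen 1660 (148, false)),
    (1216, .gen 1660 (148, true)),
    (1221, .gen 1660 (149, false)),
    (180, .gen 1660 (150, false)),
    (3382, .gen 1660 (245, false)),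
    (352, .gen 551 (149, false)),
    (1551, .gen 971 (150, false)),
    (2591, .gen 971 (245, true)),
    (203, .gen 3146 (245, false)),
    (2954, .gen 1573 (147, false)),
    (3047, .gen 1781 (147, false)),
    (1046, .gen 1781 (244, true)),
    (2084, .gen 2543 (153, false)),
    (2894, .gen 2543 (244, false)),
    (2684, .gen 1195 (153, false)),
    (3646, .gen 1195 (244, true)),
    (2691, .gen 3785 (150, false)),
    (1268, .gen 3785 (245, false)),
    (1973, .gen 2611 (148, true)),
    (596, .gen 2611 (150, false)),
    (1152, .gen 2611 (245, false)),
    (1482, .gen 2611 (245, true)),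
    (1563, .gen 1121 (153, false)),
    (3115, .gen 2353 (147, false)),
    (2328, .gen 2353 (153, false)),
    (2017, .gen 2353 (153, true)),
    (626, .gen 2353 (244, false)),
    (1558, .gen 3731 (244, true)),
    (1148, .gen 3408 (148, false)),
    (3265, .gen 3408 (153, false)),
    (535, .gen 3408 (153, true)),
    (1893, .gen 3408 (245, true)),
    (1553, .gen 3128 (148, true)),
    (2444, .gen 3128 (149, false)),
    (821, .gen 171 (244, true)),
    (3018, .gen 546 (244, false)),
    (2124, .gen 646 (244, true)),
    (1897, .gen 3529 (147, false)),
    (3629, .gen 3529 (148, false)),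
    (1639, .gen 3529 (148, true)),
    (1107, .gen 3529 (150, false)),
    (1082, .gen 3529 (245, true)),
    (2897, .gen 2828 (244, true)),
    (1925, .gen 1503 (149, false)),
    (1998, .gen 1503 (244, true)),
    (1358, .gen 2214 (244, false)),
    (3061, .gen 2214 (244, true)),
    (687, .gen 120 (148, false)),
    (746, .gen 120 (148, true)),
    (1539, .gen 120 (245, false)),
    (2674, .gen 120 (245, true)),
    (709, .gen 3441 (147, false)),
    (1418, .gen 3441 (148, false)),
    (1402, .gen 3441 (150, false)),
    (3428, .gen 3441 (245, false)),
    (3523, .gen 3441 (245, true)),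
    (1159, .gen 1594 (148, false)),
    (1271, .gen 1594 (244, false)),
    (3157, .gen 1594 (244, true)),
    (3624, .gen 1594 (245, false)),
    (2672, .gen 1594 (245, true)),
    (1641, .gen 2252 (148, true)),
    (3055, .gen 2252 (244, false)),
    (670, .gen 2252 (244, true)),
    (1770, .gen 2252 (245, false)),
    (2057, .gen 2252 (245, true)),
    (2537, .gen 595 (244, false)),
    (3786, .gen 595 (245, false)),
    (1816, .gen 595 (245, true)),
    (1449, .gen 321 (149, false)),
    (1762, .gen 321 (244, false)),
    (2860, .gen 849 (149, false)),
    (582, .gen 566 (150, false)),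
    (2204, .gen 566 (153, false)),
    (1952, .gen 566 (153, true)),
    (1151, .gen 566 (245, false)),
    (1334, .gen 3607 (245, false)),
    (3794, .gen 536 (244, false)),
    (2770, .gen 536 (244, true)),
    (435, .gen 1593 (244, false)),
    (788, .gen 1593 (245, false)),
    (208, .gen 77 (147, false)),
    (415, .gen 77 (149, false)),
    (919, .gen 77 (153, false)),
    (2203, .gen 77 (153, true)),
    (1837, .gen 77 (244, true)),
    (2116, .gen 3137 (147, false)),
    (1541, .gen 3137 (149, false)),
    (432, .gen 3137 (153, false)),
    (3288, .gen 2208 (149, false)),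
    (1790, .gen 2208 (244, false)),
    (1174, .gen 1300 (244, false)),
    (2412, .gen 1300 (244, true)),
    (1247, .gen 2434 (244, false)),
    (2535, .gen 2434 (245, true)),
    (1045, .gen 2270 (150, false)),
    (1326, .gen 2270 (244, false)),
    (1299, .gen 2270 (245, true)),
    (1664, .gen 274 (147, false)),
    (1849, .gen 274 (149, false)),
    (1527, .gen 274 (153, false)),
    (2772, .gen 274 (153, true)),
    (1797, .gen 1115 (149, false)),
    (1422, .gen 1115 (245, false)),
    (2550, .gen 1392 (153, false)),
    (3308, .gen 1392 (153, true)),
    (3187, .gen 1392 (244, true)),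
    (3365, .gen 915 (244, true)),
    (2758, .gen 2934 (244, false)),
    (1189, .gen 2934 (244, true)),
    (3295, .gen 2934 (245, false)),
    (806, .gen 2934 (245, true)),
    (968, .gen 2413 (149, false)),
    (759, .gen 2413 (153, false)),
    (3046, .gen 2413 (153, true)),
    (3608, .gen 2959 (147, false)),
    (1916, .gen 2959 (149, false)),
    (929, .gen 2959 (153, true)),
    (3356, .gen 2645 (244, true)),
    (1524, .gen 604 (153, false)),
    (901, .gen 604 (244, true)),
    (2974, .gen 604 (245, false)),
    (3202, .gen 2847 (245, false)),
    (2274, .gen 1829 (148, false)),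
    (3663, .gen 1829 (148, true)),
    (688, .gen 1829 (149, false)),
    (2479, .gen 1829 (153, false)),
    (288, .gen 1829 (153, true)),
    (3684, .gen 1829 (245, false)),
    (1219, .gen 1829 (245, true)),
    (2815, .gen 1873 (147, false)),
    (2026, .gen 1873 (150, false)),
    (3170, .gen 1873 (245, true)),
    (605, .gen 2461 (147, false)),
    (2426, .gen 2461 (244, false)),
    (1021, .gen 3345 (149, false)),
    (1844, .gen 3345 (153, false)),
    (2908, .gen 3345 (153, true)),
    (1293, .gen 3481 (147, false)),
    (789, .gen 1695 (244, false)),
    (1416, .gen 1695 (244, true)),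
    (2179, .gen 3746 (148, true)),
    (3275, .gen 3746 (153, true)),
    (1313, .gen 3746 (245, false)),
    (1093, .gen 3746 (245, true)),
    (70, .gen 3257 (147, false)),
    (3070, .gen 3257 (148, true)),
    (1116, .gen 3257 (245, false)),
    (233, .gen 164 (153, false)),
    (2539, .gen 164 (244, false)),
    (1375, .gen 164 (244, true)),
    (3569, .gen 1164 (148, false)),
    (3244, .gen 1164 (148, true)),
    (2997, .gen 1164 (149, false)),
    (2922, .gen 1164 (245, false)),
    (1728, .gen 1164 (245, true)),
    (691, .gen 2718 (150, false)),
    (2961, .gen 1453 (149, false)),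
    (2823, .gen 1453 (244, false)),
    (1443, .gen 522 (244, true)),
    (2735, .gen 975 (149, false)),
    (1878, .gen 975 (153, false)),
    (3482, .gen 975 (153, true)),
    (925, .gen 3403 (149, false)),
    (3719, .gen 3403 (153, true)),
    (2245, .gen 2233 (245, false)),
    (873, .gen 2233 (245, true)),
    (1788, .gen 1467 (147, false)),
    (3548, .gen 1467 (148, false)),
    (3393, .gen 1467 (150, false)),
    (946, .gen 1467 (244, true)),
    (1979, .gen 1467 (245, false)),
    (1050, .gen 1033 (147, false)),
    (1370, .gen 1033 (148, true)),
    (2595, .gen 1033 (150, false)),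
    (1659, .gen 1033 (244, false)),
    (179, .gen 1033 (244, true)),
    (3033, .gen 2747 (153, false)),
    (2376, .gen 2747 (153, true)),
    (1102, .gen 3497 (147, false)),
    (3110, .gen 3497 (149, false)),
    (3565, .gen 3736 (149, false)),
    (3159, .gen 3736 (153, false)),
    (922, .gen 3736 (153, true)),
    (2796, .gen 3736 (245, false)),
    (3598, .gen 2445 (149, false)),
    (3506, .gen 2445 (153, true)),
    (477, .gen 2085 (244, true)),
    (1736, .gen 3729 (244, false)),
    (1048, .gen 3729 (244, true)),
    (1250, .gen 607 (244, false)),
    (1929, .gen 607 (244, true)),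
    (695, .gen 607 (245, true)),
    (1015, .gen 1719 (147, false)),
    (2168, .gen 1719 (149, false)),
    (1674, .gen 1719 (153, false)),
    (2501, .gen 1719 (153, true)),
    (610, .gen 3043 (149, false)),
    (725, .gen 3043 (245, true)),
    (880, .gen 1126 (153, false)),
    (2472, .gen 1126 (153, true)),
    (593, .gen 2364 (244, false)),
    (842, .gen 974 (245, true)),
    (2493, .gen 1359 (149, false)),
    (2283, .gen 1007 (149, false)),
    (1078, .gen 681 (153, false)),
    (88, .gen 29 (244, false)),
    (3689, .gen 29 (245, true)),
    (2209, .gen 3525 (153, false)),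
    (495, .gen 2040 (245, true)),
    (2299, .gen 496 (148, false)),
    (1877, .gen 496 (153, false)),
    (1620, .gen 496 (153, true)),
    (1284, .gen 3360 (149, false)),
    (425, .gen 3360 (153, false)),
    (1123, .gen 3360 (245, false)),
    (3031, .gen 3360 (245, true)),
    (1968, .gen 3447 (244, false)),
    (1217, .gen 2852 (245, false)),
    (1339, .gen 2852 (245, true)),
    (2351, .gen 448 (153, false)),
    (2782, .gen 448 (245, false)),
    (1619, .gen 3468 (244, false)),
    (1680, .gen 1260 (245, true)),
    (949, .gen 1016 (147, false)),
    (3036, .gen 1016 (148, true)),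
    (3682, .gen 1016 (150, false)),
    (467, .gen 1016 (153, false)),
    (2900, .gen 1016 (153, true)),
    (520, .gen 1016 (245, false)),
    (2143, .gen 1016 (245, true)),
    (2577, .gen 1643 (153, true)),
    (3270, .gen 1256 (153, true)),
    (1296, .gen 1203 (244, true)),
    (395, .gen 1203 (245, true)),
    (992, .gen 1787 (244, false))]

/-- Visits. -/
def v11_11 : List (ℕ × Src) :=
  [(2170, .gen 1787 (244, true)),
    (2119, .gen 2145 (149, false)),
    (689, .gen 2145 (245, true)),
    (3058, .gen 642 (148, false)),
    (1577, .gen 642 (148, true)),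
    (2263, .gen 642 (150, false)),
    (2276, .gen 642 (245, false)),
    (3677, .gen 642 (245, true)),
    (418, .gen 3232 (147, false)),
    (2862, .gen 3232 (244, true)),
    (2316, .gen 79 (153, false)),
    (2866, .gen 79 (153, true)),
    (633, .gen 1071 (148, true)),
    (1483, .gen 1071 (153, true)),
    (313, .gen 1071 (245, true)),
    (1433, .gen 3330 (150, false)),
    (2695, .gen 3330 (244, false)),
    (719, .gen 3330 (244, true)),
    (2615, .gen 3330 (245, false)),
    (2564, .gen 3330 (245, true)),
    (3508, .gen 914 (150, false)),
    (3130, .gen 914 (153, false)),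
    (2810, .gen 914 (153, true)),
    (2123, .gen 2956 (244, false)),
    (2401, .gen 2956 (245, true)),
    (2513, .gen 224 (153, false)),
    (2932, .gen 224 (153, true)),
    (784, .gen 502 (148, false)),
    (3097, .gen 502 (150, false)),
    (3001, .gen 502 (244, false)),
    (2654, .gen 502 (244, true)),
    (585, .gen 502 (245, false)),
    (2138, .gen 3515 (147, false)),
    (3213, .gen 3515 (150, false)),
    (1410, .gen 3515 (244, false)),
    (296, .gen 3515 (244, true)),
    (340, .gen 3515 (245, true)),
    (3162, .gen 3637 (147, false)),
    (3697, .gen 3637 (153, true)),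
    (3010, .gen 3637 (244, true)),
    (3534, .gen 1589 (147, false)),
    (410, .gen 1589 (149, false)),
    (1163, .gen 1589 (153, false)),
    (1146, .gen 1589 (153, true)),
    (3207, .gen 1589 (244, true)),
    (1461, .gen 1428 (149, false)),
    (1405, .gen 1428 (153, false)),
    (1442, .gen 1428 (244, false)),
    (41, .gen 1428 (244, true)),
    (3008, .gen 1428 (245, true)),
    (2612, .gen 754 (149, false)),
    (2757, .gen 754 (153, true)),
    (2342, .gen 754 (244, false)),
    (1512, .gen 754 (244, true)),
    (2635, .gen 2514 (153, false)),
    (2910, .gen 2514 (245, false)),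
    (1661, .gen 1431 (244, false)),
    (2914, .gen 1431 (244, true)),
    (1830, .gen 1431 (245, true)),
    (2876, .gen 1852 (148, false)),
    (3769, .gen 1852 (244, true)),
    (1959, .gen 2503 (149, false)),
    (2180, .gen 2503 (244, false)),
    (573, .gen 3500 (153, false)),
    (295, .gen 3500 (244, false)),
    (3306, .gen 485 (148, false)),
    (2832, .gen 485 (150, false)),
    (2132, .gen 485 (245, true)),
    (703, .gen 1885 (147, false)),
    (3541, .gen 1885 (245, true)),
    (2256, .gen 1360 (148, false)),
    (861, .gen 1360 (245, false)),
    (2400, .gen 2379 (153, false)),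
    (227, .gen 748 (148, false)),
    (2872, .gen 748 (150, false)),
    (305, .gen 748 (244, false)),
    (3480, .gen 748 (245, false)),
    (3101, .gen 748 (245, true)),
    (2880, .gen 3145 (245, false)),
    (3219, .gen 3145 (245, true)),
    (2627, .gen 2473 (148, false)),
    (404, .gen 2473 (148, true)),
    (174, .gen 2473 (149, false)),
    (2778, .gen 2473 (153, true)),
    (690, .gen 2473 (245, false)),
    (1419, .gen 2403 (147, false)),
    (554, .gen 2403 (149, false)),
    (3201, .gen 2403 (245, true)),
    (1794, .gen 199 (148, false)),
    (3174, .gen 891 (244, false)),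
    (1962, .gen 891 (244, true)),
    (3619, .gen 64 (244, true)),
    (13, .gen 2802 (148, false)),
    (935, .gen 2802 (148, true)),
    (1923, .gen 3593 (244, false)),
    (2076, .gen 3593 (244, true)),
    (287, .gen 568 (149, false)),
    (1223, .gen 568 (244, false)),
    (2598, .gen 568 (244, true)),
    (3581, .gen 3510 (149, false)),
    (1156, .gen 298 (245, false)),
    (3626, .gen 394 (244, true)),
    (2281, .gen 1846 (149, false)),
    (1753, .gen 1732 (149, false)),
    (1579, .gen 1732 (153, true)),
    (2996, .gen 2185 (149, false)),
    (3059, .gen 986 (153, true)),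
    (1470, .gen 986 (244, false)),
    (2580, .gen 3536 (244, false)),
    (2679, .gen 3611 (244, false)),
    (2781, .gen 3611 (245, false)),
    (2972, .gen 3611 (245, true)),
    (3099, .gen 3155 (147, false)),
    (2573, .gen 3155 (153, false)),
    (235, .gen 3155 (153, true)),
    (1095, .gen 2940 (244, true)),
    (3555, .gen 374 (148, true)),
    (2338, .gen 374 (153, false)),
    (1564, .gen 374 (245, true)),
    (260, .gen 253 (147, false)),
    (1387, .gen 253 (148, false)),
    (2103, .gen 253 (149, false)),
    (2398, .gen 253 (150, false)),
    (1305, .gen 253 (153, false)),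
    (2220, .gen 623 (153, false)),
    (3435, .gen 623 (244, false)),
    (1755, .gen 623 (244, true)),
    (1063, .gen 1377 (244, false)),
    (1596, .gen 1377 (244, true)),
    (1445, .gen 747 (148, true)),
    (1627, .gen 747 (245, false)),
    (3456, .gen 2062 (148, true)),
    (1013, .gen 2062 (245, false)),
    (2871, .gen 675 (244, false)),
    (3203, .gen 675 (244, true)),
    (3389, .gen 1232 (148, false)),
    (2244, .gen 1232 (149, false)),
    (1336, .gen 1232 (153, true)),
    (10, .gen 3195 (244, false)),
    (1162, .gen 3195 (244, true)),
    (1671, .gen 1647 (153, true)),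
    (1595, .gen 3748 (148, false)),
    (1743, .gen 3748 (148, true)),
    (1178, .gen 3748 (245, false)),
    (2096, .gen 2993 (153, false)),
    (1229, .gen 264 (244, true)),
    (2349, .gen 264 (245, true)),
    (1723, .gen 2011 (245, true)),
    (2111, .gen 818 (244, false)),
    (392, .gen 818 (244, true)),
    (1725, .gen 1792 (244, false)),
    (141, .gen 1982 (245, true)),
    (132, .gen 3734 (244, true)),
    (39, .gen 2592 (244, false)),
    (2661, .gen 2592 (245, true)),
    (1215, .gen 1167 (153, true)),
    (211, .gen 1167 (244, false)),
    (1924, .gen 1167 (245, false)),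
    (2211, .gen 1521 (244, true)),
    (2448, .gen 1521 (245, true)),
    (2554, .gen 2631 (244, false)),
    (2759, .gen 328 (244, false)),
    (1581, .gen 328 (245, false)),
    (2607, .gen 3354 (147, false)),
    (1996, .gen 3354 (153, false)),
    (2488, .gen 3354 (153, true)),
    (867, .gen 637 (153, true)),
    (122, .gen 519 (153, false)),
    (1488, .gen 519 (153, true)),
    (1819, .gen 519 (244, true)),
    (2634, .gen 3717 (244, false)),
    (734, .gen 3717 (245, false)),
    (795, .gen 445 (153, false)),
    (3, .gen 445 (245, false)),
    (1206, .gen 3632 (147, false)),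
    (2588, .gen 3632 (149, false)),
    (1533, .gen 3632 (150, false)),
    (911, .gen 488 (244, false)),
    (3262, .gen 488 (245, true)),
    (2365, .gen 2078 (148, false)),
    (2155, .gen 2078 (244, true)),
    (714, .gen 2893 (148, false)),
    (682, .gen 2893 (153, false)),
    (543, .gen 2893 (153, true)),
    (2279, .gen 783 (148, false)),
    (3573, .gen 783 (148, true)),
    (1530, .gen 783 (245, true)),
    (2848, .gen 2720 (148, false)),
    (603, .gen 2720 (150, false)),
    (304, .gen 3321 (149, false)),
    (278, .gen 3321 (244, false)),
    (3665, .gen 3321 (244, true)),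
    (409, .gen 1869 (148, false)),
    (1447, .gen 1869 (245, true)),
    (2442, .gen 1995 (148, false)),
    (24, .gen 1995 (148, true)),
    (3740, .gen 1995 (245, true)),
    (241, .gen 3452 (148, false)),
    (3293, .gen 2930 (244, false)),
    (3196, .gen 2930 (244, true)),
    (3369, .gen 1207 (244, true)),
    (3479, .gen 450 (153, false)),
    (794, .gen 450 (244, false)),
    (1518, .gen 450 (244, true)),
    (1038, .gen 1047 (244, true)),
    (3780, .gen 1047 (245, true)),
    (1825, .gen 3026 (149, false)),
    (2928, .gen 3026 (244, false)),
    (618, .gen 3026 (244, true)),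
    (899, .gen 2813 (245, true)),
    (1812, .gen 1940 (244, false)),
    (1002, .gen 1940 (244, true)),
    (2895, .gen 1940 (245, true)),
    (1417, .gen 1457 (149, false)),
    (2395, .gen 1457 (153, false)),
    (1672, .gen 1457 (153, true)),
    (2290, .gen 1231 (244, true)),
    (1245, .gen 598 (153, false)),
    (3149, .gen 598 (244, true)),
    (3502, .gen 2873 (244, true)),
    (2118, .gen 1983 (149, false)),
    (348, .gen 1983 (245, false)),
    (3520, .gen 907 (149, false)),
    (1385, .gen 907 (153, false)),
    (3522, .gen 907 (153, true)),
    (2120, .gen 1534 (153, false)),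
    (1202, .gen 1534 (245, true)),
    (845, .gen 2044 (153, false)),
    (2470, .gen 2044 (153, true)),
    (1769, .gen 185 (244, false)),
    (1255, .gen 185 (245, true)),
    (1145, .gen 223 (147, false)),
    (3411, .gen 223 (148, false)),
    (1822, .gen 223 (150, false)),
    (261, .gen 223 (245, true)),
    (3319, .gen 1276 (147, false)),
    (698, .gen 1276 (150, false)),
    (2284, .gen 128 (153, false)),
    (624, .gen 1094 (149, false)),
    (2242, .gen 1094 (153, false)),
    (3661, .gen 1094 (244, false)),
    (984, .gen 411 (147, false)),
    (3298, .gen 411 (244, false)),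
    (3681, .gen 3575 (149, false)),
    (831, .gen 1307 (150, false)),
    (878, .gen 1307 (244, false)),
    (3412, .gen 55 (153, false)),
    (1070, .gen 3023 (150, false)),
    (1546, .gen 3394 (153, true)),
    (3653, .gen 1597 (150, false)),
    (1088, .gen 1597 (153, false)),
    (1614, .gen 324 (153, false)),
    (1415, .gen 677 (244, true)),
    (2272, .gen 677 (245, false)),
    (1149, .gen 926 (245, true)),
    (2156, .gen 1248 (245, true)),
    (1942, .gen 281 (147, false)),
    (2038, .gen 281 (148, false)),
    (813, .gen 281 (150, false)),
    (2686, .gen 281 (245, true)),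
    (16, .gen 2671 (153, false)),
    (1820, .gen 2671 (153, true)),
    (2266, .gen 2671 (244, false)),
    (1538, .gen 384 (244, false)),
    (460, .gen 1218 (244, false)),
    (3239, .gen 1218 (244, true)),
    (2682, .gen 2831 (245, false)),
    (2630, .gen 487 (149, false)),
    (1065, .gen 487 (244, false)),
    (1031, .gen 487 (244, true)),
    (2147, .gen 2314 (149, false)),
    (314, .gen 2314 (153, false)),
    (2414, .gen 3488 (244, false)),
    (3551, .gen 3488 (245, false)),
    (3188, .gen 862 (245, false)),
    (1901, .gen 2845 (244, false)),
    (2490, .gen 2845 (245, false)),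
    (3419, .gen 3614 (245, false)),
    (386, .gen 3472 (153, true)),
    (728, .gen 3472 (244, false)),
    (1180, .gen 3647 (149, false)),
    (3027, .gen 3647 (153, false)),
    (708, .gen 3118 (245, true)),
    (3249, .gen 3312 (244, false)),
    (2440, .gen 3312 (245, false)),
    (1316, .gen 578 (150, false)),
    (609, .gen 578 (244, false)),
    (1511, .gen 578 (244, true)),
    (3117, .gen 2965 (245, false)),
    (1827, .gen 1014 (149, false)),
    (1668, .gen 3599 (153, false)),
    (3234, .gen 3599 (245, false)),
    (2963, .gen 3194 (153, false)),
    (1420, .gen 3194 (244, false)),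
    (2205, .gen 1280 (153, true)),
    (2549, .gen 1280 (245, false)),
    (1750, .gen 1275 (244, true)),
    (3067, .gen 3588 (244, true)),
    (2343, .gen 3379 (153, false)),
    (3528, .gen 3379 (245, false))]

/-- Visits. -/
def v11_12 : List (ℕ × Src) :=
  [(35, .gen 125 (245, false)),
    (1060, .gen 125 (245, true)),
    (1388, .gen 2317 (147, false)),
    (1214, .gen 2317 (149, false)),
    (1369, .gen 981 (244, false)),
    (2239, .gen 2879 (244, true)),
    (2497, .gen 1367 (244, false)),
    (2553, .gen 1367 (245, false)),
    (136, .gen 2617 (149, false)),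
    (2761, .gen 2190 (245, false)),
    (210, .gen 1468 (153, false)),
    (1129, .gen 1468 (244, false)),
    (3531, .gen 283 (244, false)),
    (1399, .gen 283 (245, false)),
    (2223, .gen 283 (245, true)),
    (1811, .gen 3540 (245, true)),
    (1211, .gen 2427 (244, true)),
    (3518, .gen 2884 (245, false)),
    (1068, .gen 3160 (245, true)),
    (1463, .gen 2297 (149, false)),
    (3284, .gen 2297 (153, false)),
    (2722, .gen 3052 (149, false)),
    (1201, .gen 1117 (149, false)),
    (950, .gen 1562 (149, false)),
    (3513, .gen 1562 (244, true)),
    (351, .gen 1562 (245, false)),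
    (195, .gen 413 (245, true)),
    (2752, .gen 1113 (153, false)),
    (1330, .gen 3759 (245, true)),
    (202, .gen 685 (245, false)),
    (639, .gen 3053 (245, false)),
    (1700, .gen 3053 (245, true)),
    (1408, .gen 1748 (147, false)),
    (2547, .gen 1748 (148, true)),
    (444, .gen 1748 (149, false)),
    (707, .gen 1748 (150, false)),
    (434, .gen 40 (245, false)),
    (2129, .gen 40 (245, true)),
    (342, .gen 2508 (150, false)),
    (1484, .gen 2508 (245, false)),
    (2032, .gen 69 (244, false)),
    (3350, .gen 69 (244, true)),
    (3287, .gen 133 (150, false)),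
    (1610, .gen 133 (153, false)),
    (779, .gen 2560 (244, false)),
    (2210, .gen 166 (147, false)),
    (3296, .gen 166 (244, false)),
    (772, .gen 166 (244, true)),
    (1105, .gen 1549 (244, false)),
    (378, .gen 1069 (244, false)),
    (2561, .gen 1069 (244, true)),
    (1709, .gen 1069 (245, true)),
    (3143, .gen 3283 (149, false)),
    (716, .gen 3283 (153, true)),
    (2842, .gen 406 (149, false)),
    (3322, .gen 1089 (244, true)),
    (641, .gen 2178 (244, false)),
    (2253, .gen 3735 (245, true)),
    (1702, .gen 2140 (244, true)),
    (803, .gen 2264 (153, false)),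
    (2555, .gen 1193 (150, false)),
    (1083, .gen 1193 (245, true)),
    (1345, .gen 3241 (244, true)),
    (145, .gen 2809 (244, false)),
    (3205, .gen 3660 (244, true)),
    (217, .gen 780 (244, false)),
    (1104, .gen 2599 (244, false)),
    (2067, .gen 3019 (244, true)),
    (94, .gen 116 (245, true)),
    (3377, .gen 431 (244, false)),
    (1587, .gen 2246 (245, true)),
    (337, .gen 1317 (148, false)),
    (1471, .gen 2805 (245, false)),
    (3009, .gen 3346 (244, false)),
    (2494, .gen 3346 (244, true)),
    (1208, .gen 1856 (245, false)),
    (2833, .gen 517 (153, true)),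
    (1854, .gen 3460 (244, true)),
    (679, .gen 2698 (245, true)),
    (540, .gen 2261 (245, false)),
    (960, .gen 1900 (153, true)),
    (2748, .gen 1922 (153, true)),
    (3012, .gen 1974 (244, false)),
    (1584, .gen 2049 (245, false)),
    (533, .gen 2049 (245, true)),
    (3240, .gen 509 (245, false)),
    (3158, .gen 726 (244, false)),
    (2625, .gen 3483 (153, true)),
    (433, .gen 504 (245, true)),
    (3028, .gen 918 (150, false)),
    (3654, .gen 918 (245, false)),
    (3683, .gen 2705 (244, false)),
    (3752, .gen 2705 (244, true)),
    (3524, .gen 3135 (244, true)),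
    (1946, .gen 3006 (244, false)),
    (2183, .gen 3264 (245, false)),
    (1690, .gen 2976 (244, false)),
    (2347, .gen 1582 (244, true)),
    (3416, .gen 89 (149, false)),
    (2964, .gen 3347 (245, true)),
    (2287, .gen 781 (244, false)),
    (3439, .gen 781 (244, true)),
    (1675, .gen 1598 (149, false)),
    (2801, .gen 1598 (244, true)),
    (3114, .gen 3165 (245, true)),
    (3437, .gen 1776 (244, false)),
    (2082, .gen 3490 (245, true)),
    (1591, .gen 333 (153, false)),
    (2302, .gen 333 (153, true)),
    (1128, .gen 2700 (244, false)),
    (1395, .gen 1390 (245, false)),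
    (2380, .gen 1390 (245, true)),
    (3337, .gen 2463 (149, false)),
    (1859, .gen 1491 (244, false)),
    (1978, .gen 1491 (244, true)),
    (1355, .gen 1119 (244, false)),
    (1365, .gen 3334 (148, false)),
    (1053, .gen 3334 (148, true)),
    (2212, .gen 3334 (149, false)),
    (2741, .gen 3134 (148, false)),
    (1500, .gen 1733 (153, false)),
    (3761, .gen 2544 (245, true)),
    (3477, .gen 1389 (153, true)),
    (1645, .gen 1389 (244, false)),
    (1908, .gen 1389 (244, true)),
    (1838, .gen 67 (244, true)),
    (249, .gen 512 (245, false)),
    (292, .gen 286 (149, false)),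
    (3427, .gen 286 (244, true)),
    (999, .gen 3623 (245, false)),
    (3301, .gen 3625 (153, true)),
    (939, .gen 3625 (244, true)),
    (3184, .gen 73 (244, false)),
    (743, .gen 3621 (245, false)),
    (852, .gen 2725 (244, false)),
    (3600, .gen 721 (244, false)),
    (1592, .gen 290 (149, false)),
    (1663, .gen 792 (244, false)),
    (1204, .gen 230 (245, false)),
    (3640, .gen 3178 (245, true)),
    (1086, .gen 1439 (245, false)),
    (307, .gen 2126 (147, false)),
    (2978, .gen 2126 (148, false)),
    (3065, .gen 729 (244, true)),
    (1799, .gen 3087 (150, false)),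
    (3578, .gen 1342 (244, true)),
    (3208, .gen 1342 (245, false)),
    (2063, .gen 1269 (153, false)),
    (1118, .gen 829 (244, false)),
    (148, .gen 3260 (244, true)),
    (658, .gen 2791 (153, false)),
    (686, .gen 2791 (153, true)),
    (557, .gen 3459 (148, false)),
    (2760, .gen 385 (244, true)),
    (3742, .gen 335 (153, false)),
    (3069, .gen 335 (153, true)),
    (3585, .gen 335 (244, false)),
    (1853, .gen 1499 (149, false)),
    (2158, .gen 1499 (153, true)),
    (2803, .gen 1600 (153, true)),
    (3402, .gen 710 (244, true)),
    (3790, .gen 2315 (149, false)),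
    (3123, .gen 2870 (244, false)),
    (3750, .gen 43 (153, false)),
    (204, .gen 2509 (245, false)),
    (1744, .gen 2990 (245, false)),
    (3325, .gen 1870 (244, true)),
    (1127, .gen 2890 (245, false)),
    (507, .gen 2196 (148, false)),
    (1108, .gen 2196 (148, true)),
    (948, .gen 932 (244, false)),
    (1380, .gen 932 (244, true)),
    (3073, .gen 1606 (244, false)),
    (539, .gen 2648 (148, true)),
    (2226, .gen 2088 (244, false)),
    (3484, .gen 152 (244, false)),
    (3309, .gen 565 (244, true)),
    (2902, .gen 243 (153, false)),
    (3007, .gen 3757 (245, false)),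
    (1424, .gen 3503 (153, true)),
    (2775, .gen 1734 (147, false)),
    (1599, .gen 1325 (245, false)),
    (1279, .gen 1513 (147, false)),
    (2703, .gen 1122 (148, true)),
    (2967, .gen 3017 (148, false)),
    (737, .gen 21 (245, false)),
    (3538, .gen 2375 (153, true)),
    (720, .gen 161 (245, true)),
    (2889, .gen 2906 (153, true)),
    (2659, .gen 2113 (244, false)),
    (3304, .gen 1134 (147, false)),
    (889, .gen 208 (149, false)),
    (1087, .gen 1247 (148, true)),
    (841, .gen 1524 (244, false)),
    (1019, .gen 1375 (148, true))]

/-- The visits of node 11. -/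
def visits11 : List (ℕ × Src) :=
  v11_0 ++ v11_1 ++ v11_2 ++ v11_3 ++ v11_4 ++ v11_5 ++ v11_6 ++ v11_7 ++ v11_8 ++ v11_9 ++ v11_10 ++ v11_11 ++ v11_12


end Cfsg.Agent.J4Bound.Data
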