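import Cfsg.Agent.Lib.J4Pres.Bound.Cover

/-! Data of the double coset enumeration for the presented fourth Janko group (tools/j4/bound/emitb.py). -/

set_option autoImplicit false
set_option maxRecDepth 100000
set_option maxHeartbeats 0

namespace Cfsg.Agent.J4Bound.Data

/-- Visits. -/
def v12_0 : List (ℕ × Src) :=
  [(33, .edge 160 true),
    (1386, .edge 165 false),
    (163, .edge 166 false),
    (1967, .edge 167 false),
    (2192, .edge 168 false),
    (344, .edge 168 true),
    (2924, .edge 169 false),
    (945, .edge 171 false),
    (3470, .edge 171 true),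
    (3645, .edge 172 false),
    (1075, .edge 172 true),
    (2762, .edge 173 false),
    (2352, .edge 173 true),
    (320, .edge 174 false),
    (3148, .edge 174 true),
    (1303, .edge 190 false),
    (924, .edge 199 true),
    (518, .edge 246 true),
    (3583, .edge 281 true),
    (40, .edge 282 true),
    (1877, .edge 283 true),
    (430, .edge 439 false),
    (370, .edge 659 false),
    (2677, .edge 1400 true),
    (961, .edge 1507 true),
    (2925, .gen 33 (163, false)),
    (74, .gen 33 (164, false)),
    (1051, .gen 33 (164, true)),
    (1611, .gen 33 (170, false)),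
    (1042, .gen 33 (170, true)),
    (1793, .gen 1386 (164, false)),
    (368, .gen 163 (163, false)),
    (2107, .gen 163 (164, false)),
    (3282, .gen 163 (164, true)),
    (119, .gen 163 (170, true)),
    (1170, .gen 1967 (163, false)),
    (1927, .gen 1967 (164, false)),
    (3273, .gen 1967 (164, true)),
    (1495, .gen 2192 (164, false)),
    (3280, .gen 2192 (164, true)),
    (1259, .gen 2192 (170, true)),
    (791, .gen 945 (170, false)),
    (1747, .gen 945 (170, true)),
    (2605, .gen 3470 (170, false)),
    (1649, .gen 3470 (170, true)),
    (988, .gen 3645 (164, false)),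
    (990, .gen 3645 (170, false)),
    (3586, .gen 3645 (170, true)),
    (3359, .gen 1075 (164, false)),
    (1817, .gen 1075 (170, false)),
    (1694, .gen 1075 (170, true)),
    (2289, .gen 2762 (163, false)),
    (3595, .gen 2352 (163, false)),
    (1104, .gen 2352 (170, false)),
    (2921, .gen 2352 (170, true)),
    (3278, .gen 320 (163, false)),
    (1898, .gen 320 (170, false)),
    (2371, .gen 320 (170, true)),
    (3331, .gen 3148 (163, false)),
    (1716, .gen 1303 (161, false)),
    (885, .gen 1303 (163, false)),
    (1666, .gen 1303 (164, false)),
    (2144, .gen 1303 (164, true)),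
    (98, .gen 1303 (170, false)),
    (1314, .gen 1303 (170, true)),
    (431, .gen 924 (161, false)),
    (2385, .gen 924 (162, false)),
    (1683, .gen 924 (163, false)),
    (1554, .gen 924 (170, false)),
    (461, .gen 518 (161, false)),
    (2614, .gen 518 (162, false)),
    (3663, .gen 518 (163, false)),
    (2298, .gen 518 (164, false)),
    (1830, .gen 518 (164, true)),
    (3, .gen 518 (170, false)),
    (2949, .gen 518 (170, true)),
    (1722, .gen 3583 (161, false)),
    (2787, .gen 3583 (162, false)),
    (2236, .gen 3583 (163, false)),
    (712, .gen 3583 (164, false)),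
    (181, .gen 3583 (164, true)),
    (268, .gen 3583 (170, false)),
    (785, .gen 3583 (170, true)),
    (999, .gen 40 (161, false)),
    (1216, .gen 40 (162, false)),
    (3375, .gen 40 (163, false)),
    (7, .gen 40 (164, false)),
    (237, .gen 40 (164, true)),
    (3101, .gen 40 (170, false)),
    (1923, .gen 40 (170, true)),
    (298, .gen 1877 (161, false)),
    (1359, .gen 1877 (162, false)),
    (339, .gen 1877 (163, false)),
    (180, .gen 1877 (164, false)),
    (633, .gen 1877 (170, false)),
    (2290, .gen 1877 (170, true)),
    (1609, .gen 430 (161, false)),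
    (3418, .gen 430 (162, false)),
    (1257, .gen 430 (163, false)),
    (2760, .gen 430 (164, false)),
    (1608, .gen 430 (164, true)),
    (2009, .gen 430 (170, false)),
    (629, .gen 430 (170, true)),
    (139, .gen 370 (161, false)),
    (866, .gen 370 (162, false)),
    (3765, .gen 370 (163, false)),
    (527, .gen 370 (164, false)),
    (2747, .gen 370 (170, false)),
    (404, .gen 370 (170, true)),
    (186, .gen 2677 (161, false)),
    (2620, .gen 2677 (162, false)),
    (1973, .gen 2677 (163, false)),
    (2738, .gen 2677 (164, false)),
    (2563, .gen 2677 (164, true)),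
    (1996, .gen 2677 (170, false)),
    (1019, .gen 2677 (170, true)),
    (1362, .gen 961 (161, false)),
    (1718, .gen 961 (162, false)),
    (2744, .gen 961 (163, false)),
    (2198, .gen 961 (164, false)),
    (2979, .gen 961 (164, true)),
    (3114, .gen 961 (170, false)),
    (1789, .gen 961 (170, true)),
    (61, .gen 2925 (161, false)),
    (1353, .gen 2925 (162, false)),
    (312, .gen 2925 (164, false)),
    (486, .gen 2925 (164, true)),
    (3336, .gen 2925 (170, false)),
    (315, .gen 2925 (170, true)),
    (1662, .gen 74 (163, false)),
    (1302, .gen 74 (164, false)),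
    (851, .gen 74 (170, false)),
    (2165, .gen 74 (170, true)),
    (534, .gen 1051 (163, false)),
    (2402, .gen 1051 (170, false)),
    (2079, .gen 1051 (170, true)),
    (1866, .gen 1611 (162, false)),
    (403, .gen 1611 (163, false)),
    (1189, .gen 1611 (164, false)),
    (2598, .gen 1611 (164, true)),
    (1807, .gen 1611 (170, false)),
    (2623, .gen 1042 (161, false)),
    (1752, .gen 1042 (163, false)),
    (3270, .gen 1042 (164, false)),
    (3671, .gen 1042 (164, true)),
    (1310, .gen 1042 (170, true)),
    (2731, .gen 1793 (163, false)),
    (1835, .gen 1793 (170, false)),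
    (1986, .gen 1793 (170, true)),
    (246, .gen 368 (164, false)),
    (1407, .gen 368 (164, true)),
    (1393, .gen 368 (170, false)),
    (3085, .gen 2107 (163, false)),
    (1965, .gen 2107 (164, false)),
    (1887, .gen 2107 (170, false)),
    (3662, .gen 3282 (170, false)),
    (1587, .gen 3282 (170, true)),
    (2348, .gen 119 (163, false)),
    (1607, .gen 119 (164, false)),
    (3368, .gen 119 (164, true)),
    (2080, .gen 1927 (163, false)),
    (2097, .gen 3273 (170, false)),
    (244, .gen 3273 (170, true)),
    (2173, .gen 1259 (164, false)),
    (3015, .gen 988 (163, false)),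
    (865, .gen 988 (170, false)),
    (1520, .gen 988 (170, true)),
    (2776, .gen 990 (164, false)),
    (1397, .gen 990 (164, true)),
    (1730, .gen 3586 (164, false)),
    (2102, .gen 3586 (164, true)),
    (3127, .gen 3359 (163, false)),
    (3392, .gen 3359 (170, false)),
    (608, .gen 3359 (170, true)),
    (2160, .gen 2289 (164, false)),
    (2246, .gen 2289 (164, true)),
    (600, .gen 3595 (170, false)),
    (2783, .gen 3595 (170, true)),
    (2381, .gen 1104 (164, false)),
    (826, .gen 1104 (164, true)),
    (3705, .gen 3278 (164, false)),
    (401, .gen 3278 (164, true)),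
    (2051, .gen 3278 (170, false)),
    (2504, .gen 3278 (170, true)),
    (3562, .gen 1898 (164, false)),
    (2265, .gen 1898 (164, true)),
    (621, .gen 1716 (163, false)),
    (3365, .gen 1716 (164, false)),
    (1770, .gen 1716 (164, true)),
    (3433, .gen 1716 (170, false)),
    (2429, .gen 1716 (170, true)),
    (215, .gen 885 (161, false)),
    (1180, .gen 885 (164, false)),
    (2140, .gen 885 (164, true)),
    (3366, .gen 885 (170, false)),
    (616, .gen 885 (170, true)),
    (1146, .gen 1666 (163, false)),
    (276, .gen 1666 (164, false)),
    (86, .gen 1666 (170, false)),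
    (1193, .gen 1666 (170, true)),
    (3790, .gen 2144 (163, false)),
    (2729, .gen 2144 (170, false)),
    (3508, .gen 2144 (170, true)),
    (2853, .gen 98 (163, false)),
    (120, .gen 98 (164, false)),
    (3087, .gen 98 (164, true)),
    (129, .gen 98 (170, false)),
    (2774, .gen 1314 (161, false)),
    (581, .gen 1314 (162, false)),
    (662, .gen 1314 (164, false)),
    (2010, .gen 1314 (164, true)),
    (1166, .gen 1314 (170, true)),
    (3064, .gen 431 (162, false)),
    (1845, .gen 431 (163, false)),
    (198, .gen 2385 (170, true)),
    (2652, .gen 461 (162, false)),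
    (1219, .gen 461 (163, false)),
    (3152, .gen 461 (164, false)),
    (2710, .gen 461 (164, true)),
    (1313, .gen 461 (170, false)),
    (549, .gen 461 (170, true)),
    (3529, .gen 2614 (163, false)),
    (2771, .gen 2614 (164, false)),
    (1375, .gen 2614 (164, true)),
    (1326, .gen 2614 (170, false)),
    (1009, .gen 2614 (170, true)),
    (1420, .gen 3663 (161, false)),
    (3482, .gen 3663 (162, false)),
    (1841, .gen 3663 (164, false)),
    (1415, .gen 3663 (164, true)),
    (2278, .gen 3663 (170, false)),
    (1058, .gen 3663 (170, true)),
    (2828, .gen 2298 (163, false)),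
    (3670, .gen 2298 (164, false)),
    (3782, .gen 2298 (170, false)),
    (3653, .gen 2298 (170, true)),
    (1108, .gen 1830 (163, false)),
    (18, .gen 1830 (170, false)),
    (3404, .gen 1830 (170, true)),
    (1581, .gen 3 (161, false)),
    (1341, .gen 3 (162, false)),
    (3506, .gen 3 (163, false)),
    (1222, .gen 3 (164, false)),
    (2966, .gen 3 (164, true)),
    (3088, .gen 3 (170, false)),
    (416, .gen 2949 (161, false)),
    (815, .gen 2949 (162, false)),
    (638, .gen 2949 (163, false)),
    (2864, .gen 2949 (164, false)),
    (728, .gen 2949 (164, true)),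
    (1726, .gen 2949 (170, true)),
    (331, .gen 1722 (162, false)),
    (3643, .gen 1722 (163, false)),
    (1679, .gen 1722 (164, false)),
    (1900, .gen 1722 (164, true)),
    (807, .gen 1722 (170, false)),
    (2480, .gen 1722 (170, true)),
    (1322, .gen 2787 (163, false)),
    (577, .gen 2787 (164, false)),
    (3109, .gen 2787 (164, true)),
    (1106, .gen 2787 (170, false)),
    (3460, .gen 2787 (170, true)),
    (1141, .gen 2236 (162, false)),
    (516, .gen 2236 (164, false)),
    (2269, .gen 2236 (170, false)),
    (2660, .gen 2236 (170, true)),
    (951, .gen 712 (164, false)),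
    (2358, .gen 712 (170, false)),
    (161, .gen 712 (170, true)),
    (1333, .gen 181 (163, false)),
    (2832, .gen 181 (170, false)),
    (1014, .gen 181 (170, true)),
    (2329, .gen 268 (161, false)),
    (513, .gen 268 (162, false)),
    (560, .gen 268 (163, false)),
    (501, .gen 268 (164, false)),
    (436, .gen 268 (164, true)),
    (2005, .gen 268 (170, false)),
    (2334, .gen 785 (163, false)),
    (1160, .gen 785 (164, false)),
    (3703, .gen 785 (164, true)),
    (2765, .gen 785 (170, true)),
    (937, .gen 999 (163, false)),
    (1187, .gen 999 (164, true)),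
    (2244, .gen 999 (170, false)),
    (1365, .gen 999 (170, true)),
    (2578, .gen 1216 (163, false)),
    (1118, .gen 1216 (164, false)),
    (3729, .gen 1216 (170, false)),
    (1846, .gen 1216 (170, true)),
    (1957, .gen 3375 (161, false)),
    (441, .gen 3375 (162, false)),
    (3706, .gen 3375 (164, false)),
    (427, .gen 3375 (164, true)),
    (3777, .gen 3375 (170, false)),
    (1174, .gen 3375 (170, true)),
    (618, .gen 7 (164, false)),
    (878, .gen 7 (170, false)),
    (3522, .gen 7 (170, true)),
    (2154, .gen 237 (163, false))]

/-- Visits. -/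
def v12_1 : List (ℕ × Src) :=
  [(554, .gen 237 (170, false)),
    (1849, .gen 237 (170, true)),
    (2264, .gen 3101 (162, false)),
    (3660, .gen 3101 (163, false)),
    (302, .gen 3101 (164, false)),
    (2022, .gen 3101 (164, true)),
    (695, .gen 3101 (170, false)),
    (2342, .gen 1923 (161, false)),
    (3524, .gen 1923 (162, false)),
    (202, .gen 1923 (163, false)),
    (954, .gen 1923 (164, false)),
    (3762, .gen 1923 (164, true)),
    (1963, .gen 1923 (170, true)),
    (1562, .gen 298 (162, false)),
    (1848, .gen 298 (163, false)),
    (1128, .gen 298 (164, true)),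
    (3689, .gen 298 (170, false)),
    (2375, .gen 298 (170, true)),
    (2262, .gen 1359 (163, false)),
    (2866, .gen 1359 (164, false)),
    (2695, .gen 1359 (170, false)),
    (3027, .gen 1359 (170, true)),
    (1721, .gen 339 (161, false)),
    (601, .gen 339 (162, false)),
    (1558, .gen 339 (164, false)),
    (3105, .gen 339 (164, true)),
    (3268, .gen 339 (170, false)),
    (1842, .gen 339 (170, true)),
    (1482, .gen 180 (170, false)),
    (3271, .gen 180 (170, true)),
    (3696, .gen 633 (161, false)),
    (2956, .gen 633 (162, false)),
    (3100, .gen 633 (163, false)),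
    (3623, .gen 633 (164, false)),
    (3403, .gen 633 (164, true)),
    (2880, .gen 633 (170, false)),
    (3484, .gen 2290 (161, false)),
    (1893, .gen 2290 (162, false)),
    (2437, .gen 2290 (164, false)),
    (2913, .gen 2290 (164, true)),
    (207, .gen 1609 (162, false)),
    (1499, .gen 1609 (164, false)),
    (1816, .gen 1609 (164, true)),
    (1081, .gen 1609 (170, false)),
    (3673, .gen 1609 (170, true)),
    (2916, .gen 3418 (163, false)),
    (2279, .gen 3418 (164, false)),
    (1271, .gen 3418 (164, true)),
    (3199, .gen 3418 (170, false)),
    (2527, .gen 3418 (170, true)),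
    (928, .gen 1257 (161, false)),
    (1230, .gen 1257 (170, false)),
    (1876, .gen 1257 (170, true)),
    (3555, .gen 2760 (163, false)),
    (1729, .gen 2760 (170, false)),
    (3456, .gen 2760 (170, true)),
    (1734, .gen 1608 (163, false)),
    (977, .gen 1608 (170, false)),
    (5, .gen 1608 (170, true)),
    (138, .gen 2009 (161, false)),
    (420, .gen 2009 (162, false)),
    (3108, .gen 2009 (163, false)),
    (2545, .gen 2009 (164, false)),
    (1295, .gen 2009 (164, true)),
    (868, .gen 629 (161, false)),
    (1976, .gen 629 (162, false)),
    (1179, .gen 629 (163, false)),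
    (2897, .gen 629 (164, false)),
    (570, .gen 629 (164, true)),
    (2846, .gen 139 (162, false)),
    (2270, .gen 139 (163, false)),
    (854, .gen 139 (164, true)),
    (212, .gen 139 (170, false)),
    (3187, .gen 139 (170, true)),
    (1343, .gen 866 (163, false)),
    (2396, .gen 866 (164, false)),
    (1049, .gen 866 (170, false)),
    (1979, .gen 866 (170, true)),
    (294, .gen 3765 (161, false)),
    (2119, .gen 3765 (162, false)),
    (2600, .gen 3765 (164, false)),
    (2612, .gen 3765 (164, true)),
    (2470, .gen 3765 (170, false)),
    (1064, .gen 3765 (170, true)),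
    (2295, .gen 527 (163, false)),
    (1966, .gen 527 (170, false)),
    (2705, .gen 527 (170, true)),
    (3184, .gen 2747 (161, false)),
    (1736, .gen 2747 (162, false)),
    (1758, .gen 2747 (163, false)),
    (3325, .gen 2747 (164, false)),
    (963, .gen 2747 (164, true)),
    (1547, .gen 2747 (170, false)),
    (1129, .gen 404 (161, false)),
    (929, .gen 404 (162, false)),
    (3123, .gen 404 (163, false)),
    (3579, .gen 404 (164, false)),
    (2224, .gen 404 (164, true)),
    (338, .gen 404 (170, true)),
    (2357, .gen 186 (162, false)),
    (3260, .gen 186 (163, false)),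
    (275, .gen 186 (164, false)),
    (1572, .gen 186 (164, true)),
    (979, .gen 186 (170, false)),
    (1971, .gen 186 (170, true)),
    (3257, .gen 2620 (163, false)),
    (996, .gen 2620 (164, false)),
    (484, .gen 2620 (164, true)),
    (435, .gen 2620 (170, false)),
    (3069, .gen 2620 (170, true)),
    (658, .gen 1973 (161, false)),
    (1260, .gen 1973 (162, false)),
    (1289, .gen 1973 (164, false)),
    (1380, .gen 1973 (164, true)),
    (1424, .gen 1973 (170, false)),
    (615, .gen 1973 (170, true)),
    (3708, .gen 2738 (163, false)),
    (967, .gen 2738 (164, false)),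
    (3291, .gen 2738 (170, false)),
    (3622, .gen 2738 (170, true)),
    (995, .gen 2563 (163, false)),
    (306, .gen 2563 (170, false)),
    (1265, .gen 2563 (170, true)),
    (2423, .gen 1996 (161, false)),
    (3334, .gen 1996 (162, false)),
    (1308, .gen 1996 (163, false)),
    (1917, .gen 1996 (164, false)),
    (863, .gen 1996 (164, true)),
    (2802, .gen 1996 (170, false)),
    (1959, .gen 1019 (161, false)),
    (174, .gen 1019 (162, false)),
    (3107, .gen 1019 (163, false)),
    (3537, .gen 1019 (164, false)),
    (3394, .gen 1019 (164, true)),
    (969, .gen 1019 (170, true)),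
    (218, .gen 1362 (162, false)),
    (2884, .gen 1362 (163, false)),
    (1650, .gen 1362 (164, false)),
    (209, .gen 1362 (164, true)),
    (335, .gen 1362 (170, false)),
    (1238, .gen 1362 (170, true)),
    (1428, .gen 1718 (163, false)),
    (1203, .gen 1718 (164, false)),
    (569, .gen 1718 (164, true)),
    (333, .gen 1718 (170, false)),
    (3453, .gen 1718 (170, true)),
    (1878, .gen 2744 (161, false)),
    (1201, .gen 2744 (162, false)),
    (1929, .gen 2744 (164, false)),
    (2313, .gen 2744 (164, true)),
    (2060, .gen 2744 (170, false)),
    (1350, .gen 2744 (170, true)),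
    (2885, .gen 2198 (163, false)),
    (1422, .gen 2198 (164, false)),
    (1143, .gen 2198 (170, true)),
    (3136, .gen 2979 (163, false)),
    (1370, .gen 2979 (170, false)),
    (3667, .gen 2979 (170, true)),
    (1690, .gen 3114 (161, false)),
    (624, .gen 3114 (162, false)),
    (3659, .gen 3114 (163, false)),
    (2691, .gen 3114 (164, false)),
    (2767, .gen 3114 (164, true)),
    (30, .gen 3114 (170, false)),
    (2559, .gen 1789 (161, false)),
    (173, .gen 1789 (162, false)),
    (2899, .gen 1789 (163, false)),
    (923, .gen 1789 (164, false)),
    (1344, .gen 1789 (164, true)),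
    (1800, .gen 1789 (170, true)),
    (137, .gen 61 (162, false)),
    (3758, .gen 61 (163, false)),
    (2450, .gen 61 (164, false)),
    (2238, .gen 61 (164, true)),
    (739, .gen 61 (170, false)),
    (48, .gen 61 (170, true)),
    (3658, .gen 1353 (163, false)),
    (366, .gen 1353 (164, false)),
    (767, .gen 1353 (164, true)),
    (309, .gen 1353 (170, false)),
    (700, .gen 1353 (170, true)),
    (1070, .gen 312 (163, false)),
    (3461, .gen 312 (164, false)),
    (3155, .gen 312 (170, false)),
    (2525, .gen 312 (170, true)),
    (1433, .gen 486 (163, false)),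
    (1592, .gen 486 (170, false)),
    (3340, .gen 486 (170, true)),
    (2405, .gen 3336 (161, false)),
    (367, .gen 3336 (163, false)),
    (1865, .gen 3336 (164, false)),
    (1926, .gen 3336 (164, true)),
    (3620, .gen 3336 (170, false)),
    (940, .gen 315 (161, false)),
    (1920, .gen 315 (163, false)),
    (459, .gen 315 (164, false)),
    (3633, .gen 315 (164, true)),
    (1023, .gen 315 (170, true)),
    (943, .gen 1662 (161, false)),
    (3466, .gen 1662 (162, false)),
    (253, .gen 1662 (164, true)),
    (2793, .gen 1662 (170, false)),
    (277, .gen 1662 (170, true)),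
    (3728, .gen 1302 (163, false)),
    (1567, .gen 851 (162, false)),
    (640, .gen 851 (163, false)),
    (1707, .gen 851 (164, false)),
    (325, .gen 851 (164, true)),
    (547, .gen 851 (170, false)),
    (3530, .gen 2165 (161, false)),
    (3139, .gen 2165 (162, false)),
    (3378, .gen 2165 (163, false)),
    (660, .gen 2165 (164, true)),
    (2052, .gen 2165 (170, true)),
    (1182, .gen 534 (161, false)),
    (3237, .gen 534 (162, false)),
    (759, .gen 534 (164, false)),
    (2858, .gen 2402 (162, false)),
    (1092, .gen 2402 (163, false)),
    (2902, .gen 2402 (164, false)),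
    (722, .gen 2079 (163, false)),
    (440, .gen 2079 (164, false)),
    (1630, .gen 2079 (164, true)),
    (127, .gen 1866 (163, false)),
    (346, .gen 1866 (164, false)),
    (3628, .gen 1866 (164, true)),
    (2008, .gen 1866 (170, false)),
    (1602, .gen 1866 (170, true)),
    (567, .gen 403 (162, false)),
    (1304, .gen 403 (164, false)),
    (978, .gen 403 (164, true)),
    (2856, .gen 403 (170, true)),
    (2363, .gen 1189 (164, false)),
    (2339, .gen 1189 (170, false)),
    (2592, .gen 1189 (170, true)),
    (434, .gen 2598 (163, false)),
    (3096, .gen 1807 (162, false)),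
    (1450, .gen 1807 (163, false)),
    (1357, .gen 1807 (164, false)),
    (52, .gen 1807 (164, true)),
    (529, .gen 2623 (163, false)),
    (1277, .gen 2623 (164, false)),
    (2120, .gen 2623 (164, true)),
    (1955, .gen 2623 (170, true)),
    (419, .gen 1752 (161, false)),
    (1717, .gen 1752 (162, false)),
    (1157, .gen 1752 (164, false)),
    (1363, .gen 1752 (164, true)),
    (257, .gen 1752 (170, false)),
    (3568, .gen 3270 (163, false)),
    (3650, .gen 3270 (164, false)),
    (2142, .gen 3671 (170, true)),
    (2240, .gen 1310 (161, false)),
    (1394, .gen 1310 (162, false)),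
    (1629, .gen 1310 (163, false)),
    (3266, .gen 1310 (164, false)),
    (2416, .gen 1310 (164, true)),
    (1904, .gen 246 (163, false)),
    (2117, .gen 246 (164, false)),
    (2636, .gen 246 (170, false)),
    (542, .gen 246 (170, true)),
    (2745, .gen 1407 (163, false)),
    (2471, .gen 1393 (163, false)),
    (666, .gen 1393 (164, false)),
    (574, .gen 1393 (164, true)),
    (398, .gen 621 (161, false)),
    (2772, .gen 621 (164, false)),
    (2448, .gen 621 (164, true)),
    (3574, .gen 621 (170, false)),
    (591, .gen 621 (170, true)),
    (3056, .gen 3365 (163, false)),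
    (498, .gen 3365 (164, false)),
    (375, .gen 3365 (170, false)),
    (1822, .gen 3365 (170, true)),
    (2638, .gen 1770 (163, false)),
    (2422, .gen 1770 (170, false)),
    (2670, .gen 1770 (170, true)),
    (872, .gen 3433 (163, false)),
    (233, .gen 3433 (164, false)),
    (3217, .gen 3433 (164, true)),
    (1801, .gen 3433 (170, false)),
    (300, .gen 2429 (164, false)),
    (1555, .gen 2429 (164, true)),
    (3617, .gen 2429 (170, true)),
    (1361, .gen 215 (163, false)),
    (3538, .gen 215 (164, false)),
    (1149, .gen 215 (164, true)),
    (1883, .gen 215 (170, false)),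
    (3462, .gen 215 (170, true)),
    (639, .gen 1180 (163, false)),
    (2433, .gen 1180 (164, false)),
    (693, .gen 1180 (170, false)),
    (3219, .gen 1180 (170, true)),
    (609, .gen 2140 (163, false)),
    (1933, .gen 2140 (170, false)),
    (3178, .gen 2140 (170, true)),
    (3210, .gen 3366 (170, false)),
    (994, .gen 616 (162, false)),
    (3198, .gen 616 (164, false)),
    (3342, .gen 616 (164, true))]

/-- Visits. -/
def v12_2 : List (ℕ × Src) :=
  [(2116, .gen 1146 (162, false)),
    (1156, .gen 1146 (164, true)),
    (595, .gen 1146 (170, false)),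
    (2721, .gen 1146 (170, true)),
    (858, .gen 276 (163, false)),
    (145, .gen 276 (170, false)),
    (1836, .gen 276 (170, true)),
    (1894, .gen 86 (162, false)),
    (2978, .gen 86 (163, false)),
    (654, .gen 86 (164, true)),
    (1264, .gen 1193 (162, false)),
    (1022, .gen 1193 (163, false)),
    (2672, .gen 1193 (164, false)),
    (3477, .gen 1193 (170, true)),
    (290, .gen 3790 (162, false)),
    (559, .gen 3790 (164, false)),
    (950, .gen 3790 (170, false)),
    (674, .gen 3790 (170, true)),
    (392, .gen 3508 (162, false)),
    (497, .gen 3508 (163, false)),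
    (2493, .gen 2853 (164, true)),
    (664, .gen 3087 (163, false)),
    (3414, .gen 129 (162, false)),
    (3436, .gen 129 (164, true)),
    (3648, .gen 129 (170, false)),
    (2606, .gen 2774 (164, true)),
    (3666, .gen 2774 (170, true)),
    (318, .gen 581 (170, false)),
    (594, .gen 581 (170, true)),
    (351, .gen 662 (170, false)),
    (2720, .gen 2010 (163, false)),
    (593, .gen 2010 (170, false)),
    (2482, .gen 1166 (164, false)),
    (944, .gen 1166 (164, true)),
    (1031, .gen 2652 (163, false)),
    (2627, .gen 2652 (164, false)),
    (764, .gen 2652 (164, true)),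
    (760, .gen 2652 (170, true)),
    (2205, .gen 1219 (161, false)),
    (3611, .gen 1219 (162, false)),
    (446, .gen 1219 (164, false)),
    (2419, .gen 1219 (164, true)),
    (1984, .gen 1219 (170, false)),
    (744, .gen 1219 (170, true)),
    (2634, .gen 3152 (163, false)),
    (2975, .gen 3152 (164, false)),
    (3605, .gen 3152 (170, false)),
    (1956, .gen 3152 (170, true)),
    (3373, .gen 2710 (163, false)),
    (715, .gen 2710 (170, false)),
    (2706, .gen 2710 (170, true)),
    (1122, .gen 1313 (162, false)),
    (1469, .gen 1313 (163, false)),
    (406, .gen 1313 (164, false)),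
    (3113, .gen 1313 (164, true)),
    (565, .gen 1313 (170, false)),
    (634, .gen 549 (164, false)),
    (124, .gen 549 (164, true)),
    (2495, .gen 549 (170, true)),
    (1429, .gen 3529 (161, false)),
    (2427, .gen 3529 (162, false)),
    (794, .gen 3529 (164, false)),
    (636, .gen 3529 (164, true)),
    (2249, .gen 3529 (170, false)),
    (1111, .gen 3529 (170, true)),
    (2089, .gen 2771 (163, false)),
    (1763, .gen 2771 (164, false)),
    (680, .gen 2771 (170, false)),
    (3748, .gen 2771 (170, true)),
    (1618, .gen 1375 (163, false)),
    (1301, .gen 1375 (170, false)),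
    (3507, .gen 1375 (170, true)),
    (35, .gen 1326 (162, false)),
    (1354, .gen 1326 (163, false)),
    (3601, .gen 1326 (164, false)),
    (2454, .gen 1326 (164, true)),
    (3093, .gen 1326 (170, false)),
    (2311, .gen 1009 (162, false)),
    (515, .gen 1009 (163, false)),
    (37, .gen 1009 (164, false)),
    (1896, .gen 1009 (164, true)),
    (2059, .gen 1009 (170, true)),
    (3060, .gen 1420 (162, false)),
    (745, .gen 1420 (163, false)),
    (1408, .gen 1420 (164, false)),
    (1847, .gen 1420 (164, true)),
    (483, .gen 1420 (170, false)),
    (3285, .gen 1420 (170, true)),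
    (1720, .gen 3482 (163, false)),
    (2415, .gen 3482 (164, false)),
    (2501, .gen 3482 (164, true)),
    (3438, .gen 3482 (170, false)),
    (3770, .gen 3482 (170, true)),
    (1638, .gen 1841 (163, false)),
    (3226, .gen 1841 (164, false)),
    (2543, .gen 1841 (170, false)),
    (3234, .gen 1841 (170, true)),
    (15, .gen 1415 (163, false)),
    (116, .gen 1415 (170, false)),
    (2589, .gen 1415 (170, true)),
    (3077, .gen 2278 (161, false)),
    (1858, .gen 2278 (162, false)),
    (532, .gen 2278 (163, false)),
    (3207, .gen 2278 (164, false)),
    (3352, .gen 2278 (164, true)),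
    (3756, .gen 2278 (170, false)),
    (471, .gen 1058 (161, false)),
    (2619, .gen 1058 (162, false)),
    (2951, .gen 1058 (163, false)),
    (3499, .gen 1058 (164, false)),
    (916, .gen 1058 (164, true)),
    (2914, .gen 1058 (170, true)),
    (1453, .gen 2828 (161, false)),
    (2230, .gen 2828 (162, false)),
    (1999, .gen 3670 (163, false)),
    (1465, .gen 3670 (170, false)),
    (2474, .gen 3670 (170, true)),
    (2191, .gen 3782 (161, false)),
    (723, .gen 3782 (163, false)),
    (3028, .gen 3782 (164, false)),
    (3061, .gen 3782 (164, true)),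
    (71, .gen 3782 (170, false)),
    (627, .gen 3653 (161, false)),
    (1095, .gen 3653 (162, false)),
    (2174, .gen 3653 (163, false)),
    (1154, .gen 3653 (164, false)),
    (1686, .gen 3653 (164, true)),
    (1164, .gen 3653 (170, true)),
    (1599, .gen 1108 (161, false)),
    (1063, .gen 1108 (162, false)),
    (3736, .gen 1108 (170, false)),
    (2528, .gen 1108 (170, true)),
    (2456, .gen 18 (161, false)),
    (2872, .gen 18 (163, false)),
    (1935, .gen 18 (164, false)),
    (159, .gen 18 (164, true)),
    (3794, .gen 18 (170, false)),
    (1992, .gen 3404 (161, false)),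
    (3092, .gen 3404 (162, false)),
    (2805, .gen 3404 (163, false)),
    (2658, .gen 3404 (164, false)),
    (755, .gen 3404 (164, true)),
    (2649, .gen 3404 (170, true)),
    (2703, .gen 1581 (162, false)),
    (2845, .gen 1581 (163, false)),
    (647, .gen 1581 (164, false)),
    (717, .gen 1581 (164, true)),
    (3510, .gen 1581 (170, false)),
    (576, .gen 1341 (163, false)),
    (3097, .gen 1341 (164, false)),
    (1910, .gen 1341 (164, true)),
    (843, .gen 1341 (170, false)),
    (1673, .gen 1341 (170, true)),
    (3159, .gen 3506 (161, false)),
    (1410, .gen 3506 (162, false)),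
    (2920, .gen 3506 (164, false)),
    (437, .gen 3506 (164, true)),
    (91, .gen 3506 (170, true)),
    (1997, .gen 1222 (163, false)),
    (1798, .gen 1222 (164, false)),
    (1776, .gen 1222 (170, false)),
    (1197, .gen 2966 (170, true)),
    (73, .gen 3088 (161, false)),
    (1538, .gen 3088 (162, false)),
    (1221, .gen 3088 (163, false)),
    (3398, .gen 3088 (164, false)),
    (1958, .gen 3088 (164, true)),
    (1098, .gen 3088 (170, false)),
    (620, .gen 416 (163, false)),
    (3065, .gen 416 (164, false)),
    (3451, .gen 416 (164, true)),
    (1298, .gen 416 (170, false)),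
    (1261, .gen 416 (170, true)),
    (165, .gen 815 (163, false)),
    (2496, .gen 815 (164, false)),
    (47, .gen 815 (164, true)),
    (1012, .gen 815 (170, false)),
    (1850, .gen 815 (170, true)),
    (935, .gen 638 (164, false)),
    (699, .gen 638 (164, true)),
    (912, .gen 638 (170, false)),
    (92, .gen 2864 (163, false)),
    (2220, .gen 2864 (164, false)),
    (2565, .gen 2864 (170, false)),
    (1241, .gen 728 (163, false)),
    (3166, .gen 1726 (161, false)),
    (859, .gen 1726 (162, false)),
    (3192, .gen 1726 (163, false)),
    (3032, .gen 1726 (164, false)),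
    (3162, .gen 1726 (164, true)),
    (2421, .gen 331 (163, false)),
    (267, .gen 331 (164, false)),
    (3009, .gen 331 (164, true)),
    (2506, .gen 331 (170, true)),
    (1011, .gen 3643 (162, false)),
    (3727, .gen 3643 (164, false)),
    (3057, .gen 3643 (164, true)),
    (1949, .gen 3643 (170, false)),
    (1477, .gen 3643 (170, true)),
    (190, .gen 1679 (163, false)),
    (330, .gen 1679 (164, false)),
    (3256, .gen 1679 (170, false)),
    (3078, .gen 1679 (170, true)),
    (2093, .gen 1900 (170, false)),
    (3010, .gen 1900 (170, true)),
    (46, .gen 807 (162, false)),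
    (2905, .gen 807 (163, false)),
    (255, .gen 807 (164, true)),
    (3193, .gen 807 (170, false)),
    (3153, .gen 2480 (163, false)),
    (1489, .gen 2480 (164, false)),
    (2980, .gen 2480 (164, true)),
    (3492, .gen 2480 (170, true)),
    (2152, .gen 1322 (162, false)),
    (32, .gen 1322 (164, true)),
    (3558, .gen 1322 (170, false)),
    (1455, .gen 1322 (170, true)),
    (2857, .gen 577 (163, false)),
    (871, .gen 577 (164, false)),
    (3163, .gen 577 (170, false)),
    (1700, .gen 577 (170, true)),
    (3472, .gen 3109 (170, false)),
    (24, .gen 3109 (170, true)),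
    (1056, .gen 1106 (162, false)),
    (1535, .gen 1106 (163, false)),
    (282, .gen 1106 (164, false)),
    (2868, .gen 1106 (170, false)),
    (3613, .gen 3460 (163, false)),
    (2372, .gen 3460 (164, true)),
    (2650, .gen 3460 (170, true)),
    (3388, .gen 1141 (163, false)),
    (1756, .gen 1141 (164, false)),
    (575, .gen 1141 (170, true)),
    (894, .gen 516 (163, false)),
    (1227, .gen 516 (170, false)),
    (2843, .gen 2269 (162, false)),
    (3370, .gen 2660 (161, false)),
    (1067, .gen 2660 (162, false)),
    (3055, .gen 2660 (164, true)),
    (2225, .gen 2660 (170, true)),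
    (452, .gen 951 (170, true)),
    (1078, .gen 2358 (161, false)),
    (1804, .gen 2358 (162, false)),
    (1594, .gen 2358 (163, false)),
    (3332, .gen 2358 (164, true)),
    (1405, .gen 161 (163, false)),
    (3399, .gen 161 (164, true)),
    (3168, .gen 1333 (161, false)),
    (3464, .gen 1333 (162, false)),
    (3145, .gen 1333 (170, false)),
    (2757, .gen 1333 (170, true)),
    (2017, .gen 2832 (161, false)),
    (3351, .gen 2832 (162, false)),
    (1280, .gen 2832 (170, false)),
    (2934, .gen 1014 (170, true)),
    (1814, .gen 2329 (164, false)),
    (1315, .gen 2329 (170, false)),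
    (2626, .gen 513 (164, true)),
    (973, .gen 501 (170, false)),
    (589, .gen 501 (170, true)),
    (3422, .gen 436 (163, false)),
    (1411, .gen 436 (170, true)),
    (466, .gen 2005 (163, false)),
    (2531, .gen 2005 (164, true)),
    (3147, .gen 2005 (170, false)),
    (2801, .gen 2334 (164, true)),
    (3083, .gen 1160 (170, false)),
    (1784, .gen 3703 (170, false)),
    (2756, .gen 2765 (162, false)),
    (1771, .gen 937 (161, false)),
    (1192, .gen 937 (162, false)),
    (1239, .gen 937 (170, false)),
    (2661, .gen 937 (170, true)),
    (3411, .gen 1187 (170, false)),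
    (1790, .gen 1187 (170, true)),
    (2256, .gen 2244 (162, false)),
    (2984, .gen 2244 (163, false)),
    (1766, .gen 2244 (164, false)),
    (2036, .gen 2244 (164, true)),
    (3170, .gen 2244 (170, false)),
    (2147, .gen 1365 (163, false)),
    (2927, .gen 1365 (164, false)),
    (1356, .gen 1365 (164, true)),
    (3384, .gen 1365 (170, true)),
    (2716, .gen 2578 (161, false)),
    (727, .gen 2578 (162, false)),
    (2221, .gen 2578 (164, false)),
    (1944, .gen 2578 (164, true)),
    (2248, .gen 2578 (170, true)),
    (1145, .gen 1118 (170, false)),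
    (3625, .gen 1118 (170, true)),
    (1521, .gen 3729 (162, false)),
    (60, .gen 3729 (164, false)),
    (2838, .gen 3729 (164, true)),
    (176, .gen 1846 (161, false)),
    (1539, .gen 1846 (162, false)),
    (1711, .gen 1846 (164, false)),
    (812, .gen 1846 (164, true)),
    (3723, .gen 1846 (170, true)),
    (3253, .gen 1957 (162, false))]

/-- Visits. -/
def v12_3 : List (ℕ × Src) :=
  [(1077, .gen 1957 (163, false)),
    (3075, .gen 1957 (164, false)),
    (1473, .gen 1957 (164, true)),
    (622, .gen 1957 (170, false)),
    (2410, .gen 1957 (170, true)),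
    (2368, .gen 441 (164, false)),
    (1212, .gen 441 (164, true)),
    (1880, .gen 3706 (170, false)),
    (635, .gen 3706 (170, true)),
    (1731, .gen 3777 (161, false)),
    (3216, .gen 3777 (164, false)),
    (243, .gen 1174 (161, false)),
    (716, .gen 1174 (163, false)),
    (907, .gen 1174 (164, true)),
    (2755, .gen 618 (163, false)),
    (3452, .gen 618 (170, false)),
    (2057, .gen 878 (162, false)),
    (3694, .gen 878 (163, false)),
    (2733, .gen 878 (164, false)),
    (1190, .gen 878 (164, true)),
    (3149, .gen 3522 (161, false)),
    (1762, .gen 3522 (162, false)),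
    (2588, .gen 3522 (163, false)),
    (1843, .gen 3522 (164, true)),
    (3035, .gen 2154 (161, false)),
    (2335, .gen 554 (162, false)),
    (2571, .gen 554 (164, false)),
    (2877, .gen 554 (164, true)),
    (272, .gen 1849 (164, false)),
    (1004, .gen 1849 (164, true)),
    (504, .gen 2264 (164, true)),
    (2156, .gen 2264 (170, false)),
    (1102, .gen 2264 (170, true)),
    (2507, .gen 3660 (161, false)),
    (1670, .gen 3660 (164, false)),
    (3046, .gen 302 (164, false)),
    (2594, .gen 302 (170, false)),
    (2664, .gen 302 (170, true)),
    (2608, .gen 2022 (170, true)),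
    (3143, .gen 695 (164, true)),
    (3780, .gen 2342 (163, false)),
    (1620, .gen 2342 (170, false)),
    (1214, .gen 3524 (170, false)),
    (2383, .gen 3524 (170, true)),
    (51, .gen 3762 (170, false)),
    (453, .gen 3762 (170, true)),
    (834, .gen 1562 (163, false)),
    (295, .gen 1562 (164, true)),
    (1819, .gen 1562 (170, true)),
    (2361, .gen 1848 (161, false)),
    (2000, .gen 1848 (162, false)),
    (2550, .gen 1848 (164, false)),
    (2186, .gen 1848 (164, true)),
    (2701, .gen 1848 (170, false)),
    (899, .gen 1848 (170, true)),
    (2403, .gen 1128 (170, false)),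
    (1053, .gen 1128 (170, true)),
    (557, .gen 3689 (162, false)),
    (643, .gen 3689 (163, false)),
    (1468, .gen 3689 (164, false)),
    (3759, .gen 3689 (164, true)),
    (1083, .gen 3689 (170, false)),
    (1892, .gen 2375 (164, false)),
    (881, .gen 2375 (164, true)),
    (3521, .gen 2262 (161, false)),
    (2556, .gen 2262 (162, false)),
    (2068, .gen 2262 (170, false)),
    (2957, .gen 2262 (170, true)),
    (3319, .gen 2866 (170, false)),
    (274, .gen 2866 (170, true)),
    (1940, .gen 2695 (162, false)),
    (711, .gen 2695 (163, false)),
    (3121, .gen 2695 (164, false)),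
    (1853, .gen 2695 (164, true)),
    (3295, .gen 2695 (170, false)),
    (2719, .gen 3027 (161, false)),
    (1163, .gen 3027 (162, false)),
    (1234, .gen 3027 (164, false)),
    (966, .gen 3027 (164, true)),
    (1436, .gen 1721 (162, false)),
    (1327, .gen 1721 (163, false)),
    (228, .gen 1721 (164, false)),
    (3070, .gen 1721 (164, true)),
    (665, .gen 1721 (170, false)),
    (3624, .gen 1721 (170, true)),
    (2750, .gen 601 (164, false)),
    (3290, .gen 601 (164, true)),
    (3357, .gen 601 (170, false)),
    (2928, .gen 601 (170, true)),
    (3204, .gen 1558 (170, false)),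
    (751, .gen 1558 (170, true)),
    (597, .gen 3268 (161, false)),
    (1232, .gen 3268 (163, false)),
    (2766, .gen 3268 (164, false)),
    (2281, .gen 3268 (170, false)),
    (3619, .gen 1842 (161, false)),
    (3640, .gen 1842 (164, true)),
    (2045, .gen 1482 (162, false)),
    (3544, .gen 1482 (163, false)),
    (2023, .gen 1482 (164, false)),
    (1833, .gen 1482 (164, true)),
    (410, .gen 1482 (170, false)),
    (632, .gen 3271 (161, false)),
    (981, .gen 3271 (162, false)),
    (993, .gen 3271 (164, false)),
    (3592, .gen 3271 (164, true)),
    (2882, .gen 3696 (162, false)),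
    (208, .gen 3696 (164, false)),
    (2735, .gen 3696 (164, true)),
    (2007, .gen 2956 (163, false)),
    (235, .gen 2956 (170, false)),
    (2639, .gen 2956 (170, true)),
    (156, .gen 3100 (170, true)),
    (3589, .gen 3623 (170, true)),
    (3573, .gen 3403 (163, false)),
    (3647, .gen 2880 (164, false)),
    (1279, .gen 3484 (163, false)),
    (1430, .gen 3484 (164, false)),
    (3053, .gen 3484 (170, false)),
    (1220, .gen 1893 (164, false)),
    (1057, .gen 1893 (164, true)),
    (1449, .gen 1893 (170, false)),
    (853, .gen 1893 (170, true)),
    (3513, .gen 2437 (164, false)),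
    (1777, .gen 2913 (163, false)),
    (2201, .gen 2913 (170, false)),
    (986, .gen 207 (164, false)),
    (2648, .gen 207 (164, true)),
    (2730, .gen 207 (170, true)),
    (3585, .gen 1499 (163, false)),
    (2904, .gen 1499 (170, false)),
    (2412, .gen 1499 (170, true)),
    (1735, .gen 1816 (163, false)),
    (2647, .gen 1816 (170, false)),
    (706, .gen 1816 (170, true)),
    (2500, .gen 1081 (163, false)),
    (2323, .gen 1081 (164, false)),
    (3431, .gen 1081 (164, true)),
    (592, .gen 3673 (163, false)),
    (2328, .gen 3673 (164, false)),
    (1705, .gen 3673 (164, true)),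
    (334, .gen 3673 (170, true)),
    (1079, .gen 2916 (161, false)),
    (291, .gen 2916 (170, false)),
    (2876, .gen 2279 (163, false)),
    (1317, .gen 2279 (170, false)),
    (1119, .gen 2279 (170, true)),
    (3408, .gen 1271 (163, false)),
    (2292, .gen 1271 (170, false)),
    (29, .gen 1271 (170, true)),
    (424, .gen 3199 (163, false)),
    (2726, .gen 3199 (164, false)),
    (3473, .gen 3199 (164, true)),
    (2836, .gen 2527 (162, false)),
    (3644, .gen 2527 (163, false)),
    (2821, .gen 2527 (164, false)),
    (3637, .gen 2527 (164, true)),
    (599, .gen 1230 (163, false)),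
    (423, .gen 1230 (164, false)),
    (78, .gen 1230 (164, true)),
    (2094, .gen 1876 (163, false)),
    (2250, .gen 1876 (164, false)),
    (1045, .gen 1876 (164, true)),
    (1827, .gen 3555 (161, false)),
    (3788, .gen 3555 (170, false)),
    (3348, .gen 1729 (161, false)),
    (197, .gen 1729 (162, false)),
    (778, .gen 1729 (164, false)),
    (915, .gen 1729 (170, false)),
    (117, .gen 3456 (161, false)),
    (710, .gen 3456 (162, false)),
    (460, .gen 1734 (161, false)),
    (2540, .gen 1734 (170, false)),
    (70, .gen 1734 (170, true)),
    (1745, .gen 977 (162, false)),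
    (230, .gen 977 (170, false)),
    (2611, .gen 5 (161, false)),
    (2799, .gen 5 (162, false)),
    (2694, .gen 5 (170, true)),
    (2047, .gen 138 (163, false)),
    (1556, .gen 138 (164, false)),
    (2003, .gen 420 (163, false)),
    (383, .gen 420 (164, false)),
    (3715, .gen 3108 (161, false)),
    (3183, .gen 3108 (164, true)),
    (3391, .gen 3108 (170, true)),
    (3308, .gen 2545 (170, false)),
    (425, .gen 2545 (170, true)),
    (2918, .gen 1295 (163, false)),
    (3339, .gen 1295 (170, true)),
    (2492, .gen 868 (163, false)),
    (2252, .gen 868 (164, false)),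
    (2788, .gen 868 (164, true)),
    (480, .gen 1976 (163, false)),
    (703, .gen 1976 (164, true)),
    (178, .gen 1179 (162, false)),
    (280, .gen 1179 (164, false)),
    (3556, .gen 1179 (170, false)),
    (487, .gen 2897 (163, false)),
    (960, .gen 570 (170, true)),
    (1712, .gen 2846 (163, false)),
    (2218, .gen 2846 (164, true)),
    (2547, .gen 2846 (170, true)),
    (479, .gen 2270 (161, false)),
    (2034, .gen 2270 (162, false)),
    (81, .gen 2270 (164, false)),
    (3111, .gen 2270 (164, true)),
    (2554, .gen 2270 (170, false)),
    (964, .gen 2270 (170, true)),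
    (1545, .gen 854 (163, false)),
    (1398, .gen 854 (170, false)),
    (3639, .gen 854 (170, true)),
    (1065, .gen 212 (162, false)),
    (1209, .gen 212 (163, false)),
    (3725, .gen 212 (164, false)),
    (2900, .gen 212 (164, true)),
    (3593, .gen 212 (170, false)),
    (2850, .gen 3187 (163, false)),
    (965, .gen 3187 (164, false)),
    (1487, .gen 3187 (164, true)),
    (2779, .gen 3187 (170, true)),
    (2178, .gen 1343 (161, false)),
    (2472, .gen 1343 (162, false)),
    (1838, .gen 1343 (164, false)),
    (724, .gen 1343 (164, true)),
    (2426, .gen 1343 (170, false)),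
    (248, .gen 1343 (170, true)),
    (741, .gen 2396 (163, false)),
    (175, .gen 2396 (170, false)),
    (1028, .gen 2396 (170, true)),
    (2044, .gen 1049 (162, false)),
    (1693, .gen 1049 (163, false)),
    (2035, .gen 1049 (164, false)),
    (158, .gen 1049 (164, true)),
    (1144, .gen 1049 (170, false)),
    (3008, .gen 1979 (161, false)),
    (3523, .gen 1979 (162, false)),
    (136, .gen 1979 (163, false)),
    (2990, .gen 1979 (164, false)),
    (823, .gen 1979 (164, true)),
    (2002, .gen 1979 (170, true)),
    (2011, .gen 294 (162, false)),
    (870, .gen 294 (163, false)),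
    (1461, .gen 294 (164, false)),
    (1828, .gen 294 (164, true)),
    (39, .gen 294 (170, false)),
    (625, .gen 294 (170, true)),
    (517, .gen 2119 (163, false)),
    (27, .gen 2119 (164, false)),
    (1283, .gen 2119 (164, true)),
    (2535, .gen 2119 (170, false)),
    (3349, .gen 2119 (170, true)),
    (2356, .gen 2600 (164, false)),
    (1938, .gen 2600 (170, false)),
    (2243, .gen 2600 (170, true)),
    (2929, .gen 2612 (163, false)),
    (3475, .gen 2612 (170, false)),
    (2349, .gen 2470 (161, false)),
    (2654, .gen 2470 (162, false)),
    (3224, .gen 2470 (163, false)),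
    (1417, .gen 2470 (164, false)),
    (1991, .gen 2470 (164, true)),
    (3712, .gen 2470 (170, false)),
    (793, .gen 1064 (161, false)),
    (347, .gen 1064 (162, false)),
    (299, .gen 1064 (163, false)),
    (1754, .gen 1064 (164, false)),
    (558, .gen 1064 (164, true)),
    (1282, .gen 1064 (170, true)),
    (2699, .gen 2295 (161, false)),
    (3668, .gen 2295 (162, false)),
    (3487, .gen 2295 (164, true)),
    (3171, .gen 2295 (170, false)),
    (1086, .gen 2295 (170, true)),
    (2875, .gen 1966 (162, false)),
    (2179, .gen 1966 (163, false)),
    (110, .gen 1966 (164, false)),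
    (2908, .gen 1966 (164, true)),
    (1412, .gen 1966 (170, false)),
    (2127, .gen 2705 (161, false)),
    (2871, .gen 2705 (162, false)),
    (1739, .gen 2705 (163, false)),
    (1953, .gen 2705 (164, false)),
    (2409, .gen 2705 (164, true)),
    (1998, .gen 2705 (170, true)),
    (3287, .gen 3184 (162, false)),
    (2467, .gen 3184 (163, false)),
    (353, .gen 3184 (164, false)),
    (2959, .gen 3184 (164, true)),
    (381, .gen 1736 (163, false)),
    (278, .gen 1736 (164, false)),
    (3778, .gen 1736 (164, true)),
    (598, .gen 1736 (170, false)),
    (2854, .gen 1736 (170, true)),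
    (1658, .gen 1758 (161, false)),
    (3567, .gen 1758 (162, false)),
    (2485, .gen 1758 (164, false)),
    (3314, .gen 1758 (164, true)),
    (3443, .gen 1758 (170, true)),
    (3718, .gen 3325 (164, false))]

/-- Visits. -/
def v12_4 : List (ℕ × Src) :=
  [(2180, .gen 3325 (170, false)),
    (3635, .gen 3325 (170, true)),
    (1432, .gen 963 (163, false)),
    (2974, .gen 1547 (162, false)),
    (2777, .gen 1547 (163, false)),
    (2498, .gen 1547 (164, false)),
    (3532, .gen 1547 (170, false)),
    (1369, .gen 1129 (163, false)),
    (604, .gen 1129 (164, false)),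
    (1036, .gen 1129 (164, true)),
    (3496, .gen 1129 (170, false)),
    (3030, .gen 1129 (170, true)),
    (1148, .gen 929 (163, false)),
    (1960, .gen 929 (164, false)),
    (2481, .gen 929 (164, true)),
    (2235, .gen 929 (170, false)),
    (3164, .gen 929 (170, true)),
    (3007, .gen 3123 (161, false)),
    (1005, .gen 3123 (162, false)),
    (1371, .gen 3123 (164, true)),
    (3213, .gen 3123 (170, false)),
    (3372, .gen 3579 (163, false)),
    (3409, .gen 3579 (164, false)),
    (1497, .gen 2224 (163, false)),
    (1675, .gen 2224 (170, false)),
    (1626, .gen 338 (162, false)),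
    (463, .gen 338 (163, false)),
    (1885, .gen 2357 (163, false)),
    (142, .gen 2357 (164, false)),
    (1779, .gen 2357 (164, true)),
    (1663, .gen 2357 (170, true)),
    (626, .gen 3260 (161, false)),
    (2452, .gen 3260 (162, false)),
    (297, .gen 3260 (164, false)),
    (3090, .gen 3260 (164, true)),
    (490, .gen 3260 (170, false)),
    (584, .gen 3260 (170, true)),
    (1262, .gen 275 (163, false)),
    (1913, .gen 275 (164, false)),
    (3722, .gen 275 (170, false)),
    (2039, .gen 275 (170, true)),
    (2350, .gen 1572 (163, false)),
    (758, .gen 1572 (170, false)),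
    (3741, .gen 1572 (170, true)),
    (3298, .gen 979 (162, false)),
    (1335, .gen 979 (163, false)),
    (637, .gen 979 (164, false)),
    (2515, .gen 979 (164, true)),
    (1217, .gen 979 (170, false)),
    (512, .gen 1971 (163, false)),
    (1541, .gen 1971 (164, false)),
    (1951, .gen 1971 (164, true)),
    (2459, .gen 1971 (170, true)),
    (2400, .gen 3257 (161, false)),
    (2364, .gen 3257 (162, false)),
    (1443, .gen 3257 (164, false)),
    (900, .gen 3257 (164, true)),
    (3033, .gen 3257 (170, false)),
    (345, .gen 3257 (170, true)),
    (3206, .gen 996 (163, false)),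
    (2176, .gen 996 (164, false)),
    (938, .gen 996 (170, false)),
    (3227, .gen 996 (170, true)),
    (1526, .gen 484 (163, false)),
    (1922, .gen 484 (170, false)),
    (2420, .gen 484 (170, true)),
    (3683, .gen 435 (162, false)),
    (3467, .gen 435 (163, false)),
    (3561, .gen 435 (164, false)),
    (1987, .gen 435 (164, true)),
    (216, .gen 435 (170, false)),
    (1591, .gen 3069 (161, false)),
    (2722, .gen 3069 (162, false)),
    (1889, .gen 3069 (163, false)),
    (1578, .gen 3069 (164, false)),
    (2941, .gen 3069 (164, true)),
    (155, .gen 3069 (170, true)),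
    (3347, .gen 658 (162, false)),
    (844, .gen 658 (163, false)),
    (1820, .gen 658 (164, false)),
    (3181, .gen 658 (164, true)),
    (670, .gen 658 (170, false)),
    (1213, .gen 658 (170, true)),
    (3020, .gen 1260 (163, false)),
    (2926, .gen 1260 (164, false)),
    (3052, .gen 1260 (164, true)),
    (3476, .gen 1260 (170, false)),
    (2494, .gen 1260 (170, true)),
    (1391, .gen 1289 (163, false)),
    (456, .gen 1289 (164, false)),
    (2713, .gen 1289 (170, false)),
    (2197, .gen 1289 (170, true)),
    (2617, .gen 1380 (163, false)),
    (692, .gen 1380 (170, false)),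
    (2213, .gen 1380 (170, true)),
    (3531, .gen 1424 (161, false)),
    (543, .gen 1424 (162, false)),
    (162, .gen 1424 (163, false)),
    (2907, .gen 1424 (164, false)),
    (1584, .gen 1424 (164, true)),
    (3721, .gen 1424 (170, false)),
    (225, .gen 615 (161, false)),
    (1208, .gen 615 (162, false)),
    (799, .gen 615 (163, false)),
    (1855, .gen 615 (164, false)),
    (2425, .gen 615 (164, true)),
    (1818, .gen 615 (170, true)),
    (2091, .gen 3708 (161, false)),
    (2077, .gen 3708 (162, false)),
    (199, .gen 3708 (164, true)),
    (3489, .gen 3708 (170, false)),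
    (2651, .gen 3708 (170, true)),
    (3317, .gen 967 (163, false)),
    (874, .gen 967 (170, false)),
    (3654, .gen 967 (170, true)),
    (3485, .gen 3291 (161, false)),
    (3733, .gen 3291 (162, false)),
    (2685, .gen 3291 (163, false)),
    (3374, .gen 3291 (164, false)),
    (1246, .gen 3291 (164, true)),
    (356, .gen 3291 (170, false)),
    (1810, .gen 3622 (161, false)),
    (2666, .gen 3622 (162, false)),
    (1570, .gen 3622 (163, false)),
    (876, .gen 3622 (164, false)),
    (583, .gen 3622 (164, true)),
    (3258, .gen 3622 (170, true)),
    (336, .gen 995 (161, false)),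
    (701, .gen 995 (162, false)),
    (65, .gen 995 (164, false)),
    (3491, .gen 995 (170, false)),
    (234, .gen 995 (170, true)),
    (3050, .gen 306 (161, false)),
    (3172, .gen 306 (162, false)),
    (509, .gen 306 (163, false)),
    (2684, .gen 306 (164, false)),
    (2514, .gen 306 (164, true)),
    (1834, .gen 306 (170, false)),
    (2137, .gen 1265 (161, false)),
    (3303, .gen 1265 (162, false)),
    (730, .gen 1265 (163, false)),
    (2568, .gen 1265 (164, false)),
    (3685, .gen 1265 (164, true)),
    (1665, .gen 1265 (170, true)),
    (2195, .gen 2423 (162, false)),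
    (183, .gen 2423 (163, false)),
    (1651, .gen 2423 (164, false)),
    (1215, .gen 2423 (164, true)),
    (2883, .gen 2423 (170, false)),
    (1912, .gen 3334 (163, false)),
    (1983, .gen 3334 (164, false)),
    (1840, .gen 3334 (164, true)),
    (2870, .gen 3334 (170, false)),
    (2333, .gen 3334 (170, true)),
    (363, .gen 1308 (161, false)),
    (2394, .gen 1308 (162, false)),
    (2200, .gen 1308 (164, false)),
    (3320, .gen 1308 (164, true)),
    (1000, .gen 1308 (170, true)),
    (3540, .gen 1917 (163, false)),
    (1438, .gen 1917 (164, false)),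
    (3677, .gen 1917 (170, false)),
    (2287, .gen 1917 (170, true)),
    (311, .gen 863 (163, false)),
    (3364, .gen 863 (170, true)),
    (2961, .gen 2802 (161, false)),
    (2392, .gen 2802 (162, false)),
    (2487, .gen 2802 (163, false)),
    (1474, .gen 2802 (164, false)),
    (266, .gen 2802 (164, true)),
    (1907, .gen 2802 (170, false)),
    (948, .gen 1959 (163, false)),
    (3051, .gen 1959 (164, false)),
    (2303, .gen 1959 (164, true)),
    (3591, .gen 1959 (170, false)),
    (2164, .gen 1959 (170, true)),
    (1600, .gen 174 (163, false)),
    (1746, .gen 174 (164, false)),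
    (2580, .gen 174 (164, true)),
    (3029, .gen 174 (170, false)),
    (390, .gen 174 (170, true)),
    (3309, .gen 3107 (161, false)),
    (1995, .gen 3107 (162, false)),
    (194, .gen 3107 (164, false)),
    (2622, .gen 3107 (164, true)),
    (445, .gen 3107 (170, false)),
    (2373, .gen 3537 (163, false)),
    (3255, .gen 3537 (164, false)),
    (2431, .gen 3537 (170, false)),
    (1590, .gen 3394 (163, false)),
    (2782, .gen 3394 (170, false)),
    (3730, .gen 3394 (170, true)),
    (2237, .gen 969 (161, false)),
    (2255, .gen 969 (162, false)),
    (2016, .gen 969 (163, false)),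
    (3072, .gen 969 (164, false)),
    (588, .gen 969 (164, true)),
    (3393, .gen 218 (163, false)),
    (3590, .gen 218 (164, false)),
    (2040, .gen 218 (164, true)),
    (3713, .gen 218 (170, true)),
    (3536, .gen 2884 (161, false)),
    (2038, .gen 2884 (162, false)),
    (2168, .gen 2884 (164, false)),
    (1281, .gen 2884 (164, true)),
    (869, .gen 2884 (170, false)),
    (1471, .gen 2884 (170, true)),
    (3432, .gen 1650 (163, false)),
    (1857, .gen 1650 (164, false)),
    (210, .gen 1650 (170, false)),
    (2451, .gen 209 (163, false)),
    (2806, .gen 209 (170, false)),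
    (2892, .gen 209 (170, true)),
    (340, .gen 335 (162, false)),
    (3389, .gen 335 (163, false)),
    (1435, .gen 335 (164, false)),
    (3355, .gen 335 (164, true)),
    (1245, .gen 335 (170, false)),
    (2753, .gen 1238 (164, false)),
    (2983, .gen 1238 (164, true)),
    (1854, .gen 1238 (170, true)),
    (754, .gen 1428 (161, false)),
    (2704, .gen 1428 (162, false)),
    (2399, .gen 1428 (164, false)),
    (2398, .gen 1428 (164, true)),
    (3179, .gen 1428 (170, true)),
    (3516, .gen 1203 (163, false)),
    (1580, .gen 1203 (164, false)),
    (1980, .gen 1203 (170, true)),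
    (813, .gen 569 (170, false)),
    (2555, .gen 569 (170, true)),
    (2778, .gen 333 (162, false)),
    (407, .gen 333 (164, false)),
    (1667, .gen 333 (164, true)),
    (2509, .gen 333 (170, false)),
    (1103, .gen 3453 (161, false)),
    (2669, .gen 3453 (162, false)),
    (1644, .gen 3453 (163, false)),
    (2033, .gen 3453 (164, false)),
    (2613, .gen 3453 (164, true)),
    (2001, .gen 3453 (170, true)),
    (2223, .gen 1878 (162, false)),
    (1514, .gen 1878 (163, false)),
    (2727, .gen 1878 (164, false)),
    (224, .gen 1878 (164, true)),
    (683, .gen 1201 (163, false)),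
    (677, .gen 1201 (164, false)),
    (3310, .gen 1201 (164, true)),
    (1224, .gen 1201 (170, false)),
    (222, .gen 1201 (170, true)),
    (150, .gen 1929 (164, false)),
    (1506, .gen 1929 (170, true)),
    (2330, .gen 2313 (163, false)),
    (1452, .gen 2313 (170, false)),
    (3511, .gen 2060 (161, false)),
    (3474, .gen 2060 (162, false)),
    (2888, .gen 2060 (163, false)),
    (2686, .gen 2060 (164, false)),
    (3182, .gen 2060 (164, true)),
    (2852, .gen 2060 (170, false)),
    (3214, .gen 1350 (161, false)),
    (293, .gen 1350 (163, false)),
    (1454, .gen 1350 (164, true)),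
    (2887, .gen 1350 (170, true)),
    (1990, .gen 2885 (161, false)),
    (538, .gen 2885 (162, false)),
    (1046, .gen 2885 (164, true)),
    (386, .gen 2885 (170, false)),
    (2800, .gen 2885 (170, true)),
    (1034, .gen 1422 (163, false)),
    (1909, .gen 1422 (170, false)),
    (985, .gen 1143 (161, false)),
    (1492, .gen 1143 (163, false)),
    (1124, .gen 1143 (164, true)),
    (2530, .gen 3136 (164, false)),
    (1071, .gen 3136 (170, true)),
    (535, .gen 1370 (161, false)),
    (1811, .gen 1370 (162, false)),
    (1406, .gen 1370 (163, false)),
    (447, .gen 1370 (164, false)),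
    (3447, .gen 1370 (164, true)),
    (2754, .gen 1370 (170, false)),
    (3379, .gen 3667 (163, false)),
    (1759, .gen 3667 (164, true)),
    (2211, .gen 3667 (170, true)),
    (10, .gen 1690 (162, false)),
    (3773, .gen 1690 (164, true)),
    (2414, .gen 1690 (170, false)),
    (1962, .gen 624 (163, false)),
    (3307, .gen 624 (164, false)),
    (1564, .gen 624 (170, false)),
    (1096, .gen 624 (170, true)),
    (467, .gen 3659 (161, false)),
    (2965, .gen 3659 (162, false)),
    (8, .gen 3659 (164, false)),
    (355, .gen 3659 (164, true)),
    (2353, .gen 3659 (170, true)),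
    (1185, .gen 2691 (164, false)),
    (1856, .gen 2767 (163, false)),
    (1218, .gen 2767 (170, true))]

/-- Visits. -/
def v12_5 : List (ℕ × Src) :=
  [(2577, .gen 30 (161, false)),
    (503, .gen 30 (162, false)),
    (2337, .gen 30 (163, false)),
    (2711, .gen 30 (164, false)),
    (3246, .gen 30 (170, false)),
    (1441, .gen 2559 (163, false)),
    (1207, .gen 2559 (164, true)),
    (1891, .gen 2559 (170, false)),
    (972, .gen 2559 (170, true)),
    (3124, .gen 173 (163, false)),
    (2346, .gen 2899 (161, false)),
    (2268, .gen 2899 (162, false)),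
    (862, .gen 2899 (164, false)),
    (904, .gen 2899 (170, false)),
    (2725, .gen 923 (164, false)),
    (3330, .gen 923 (170, false)),
    (1015, .gen 1344 (170, false)),
    (2081, .gen 1800 (161, false)),
    (3700, .gen 1800 (162, false)),
    (3135, .gen 1800 (164, false)),
    (1085, .gen 1800 (164, true)),
    (191, .gen 137 (164, false)),
    (2596, .gen 137 (164, true)),
    (95, .gen 3758 (164, false)),
    (847, .gen 3758 (164, true)),
    (118, .gen 3758 (170, false)),
    (1047, .gen 2450 (163, false)),
    (1617, .gen 2450 (164, false)),
    (607, .gen 2238 (163, false)),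
    (1334, .gen 2238 (170, false)),
    (316, .gen 2238 (170, true)),
    (1687, .gen 739 (163, false)),
    (2133, .gen 739 (164, false)),
    (3415, .gen 739 (170, false)),
    (956, .gen 48 (163, false)),
    (2816, .gen 48 (164, false)),
    (310, .gen 48 (170, true)),
    (1291, .gen 3658 (164, false)),
    (3602, .gen 3658 (164, true)),
    (170, .gen 3658 (170, false)),
    (895, .gen 3658 (170, true)),
    (3704, .gen 366 (170, false)),
    (2325, .gen 767 (170, true)),
    (75, .gen 309 (163, false)),
    (1544, .gen 309 (164, false)),
    (2370, .gen 309 (164, true)),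
    (2790, .gen 309 (170, false)),
    (1571, .gen 700 (163, false)),
    (1240, .gen 700 (164, false)),
    (2642, .gen 700 (164, true)),
    (470, .gen 700 (170, true)),
    (1158, .gen 1070 (161, false)),
    (3632, .gen 1070 (170, false)),
    (1671, .gen 1070 (170, true)),
    (3612, .gen 3461 (163, false)),
    (714, .gen 3155 (162, false)),
    (1610, .gen 3155 (163, false)),
    (3142, .gen 3155 (164, true)),
    (3494, .gen 2525 (161, false)),
    (2992, .gen 2525 (162, false)),
    (883, .gen 2525 (164, false)),
    (213, .gen 2525 (164, true)),
    (3520, .gen 2525 (170, true)),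
    (3402, .gen 1433 (161, false)),
    (1527, .gen 1433 (170, false)),
    (2374, .gen 1433 (170, true)),
    (1385, .gen 1592 (161, false)),
    (2315, .gen 1592 (162, false)),
    (2110, .gen 1592 (164, false)),
    (2439, .gen 1592 (164, true)),
    (3128, .gen 1592 (170, false)),
    (1373, .gen 3340 (161, false)),
    (3672, .gen 3340 (162, false)),
    (1786, .gen 3340 (163, false)),
    (1656, .gen 3340 (164, false)),
    (31, .gen 2405 (163, false)),
    (1888, .gen 2405 (164, true)),
    (1109, .gen 2405 (170, false)),
    (1152, .gen 367 (164, false)),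
    (2895, .gen 367 (164, true)),
    (1691, .gen 367 (170, true)),
    (800, .gen 1865 (163, false)),
    (3688, .gen 1865 (164, false)),
    (3707, .gen 1926 (170, true)),
    (2919, .gen 3620 (163, false)),
    (132, .gen 3620 (164, true)),
    (250, .gen 940 (163, false)),
    (3045, .gen 940 (164, true)),
    (1867, .gen 940 (170, true)),
    (2317, .gen 1920 (164, false)),
    (2795, .gen 1920 (164, true)),
    (1345, .gen 1920 (170, false)),
    (1382, .gen 459 (164, false)),
    (2665, .gen 459 (170, false)),
    (1648, .gen 3633 (163, false)),
    (1150, .gen 3633 (170, false)),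
    (2764, .gen 1023 (163, false)),
    (429, .gen 1023 (164, false)),
    (1378, .gen 943 (163, false)),
    (3211, .gen 3466 (170, false)),
    (769, .gen 2793 (163, false)),
    (3326, .gen 2793 (164, true)),
    (1097, .gen 277 (162, false)),
    (3501, .gen 277 (163, false)),
    (3444, .gen 3728 (161, false)),
    (3627, .gen 1567 (164, false)),
    (2169, .gen 1567 (170, true)),
    (1921, .gen 640 (162, false)),
    (3175, .gen 640 (164, false)),
    (2257, .gen 640 (170, true)),
    (2874, .gen 1707 (164, false)),
    (3201, .gen 325 (163, false)),
    (2717, .gen 547 (163, false)),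
    (1427, .gen 547 (164, false)),
    (3772, .gen 3530 (170, false)),
    (1839, .gen 3139 (164, true)),
    (279, .gen 3378 (164, true)),
    (2489, .gen 3378 (170, false)),
    (93, .gen 2052 (163, false)),
    (2106, .gen 1182 (162, false)),
    (458, .gen 1182 (164, true)),
    (1330, .gen 2858 (164, false)),
    (2258, .gen 2858 (170, true)),
    (2681, .gen 1092 (164, false)),
    (611, .gen 722 (162, false)),
    (1862, .gen 722 (164, false)),
    (802, .gen 440 (163, false)),
    (2390, .gen 440 (164, false)),
    (1634, .gen 127 (170, true)),
    (1873, .gen 346 (170, true)),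
    (2075, .gen 2008 (163, false)),
    (839, .gen 1602 (164, false)),
    (364, .gen 1602 (164, true)),
    (2108, .gen 1602 (170, true)),
    (2056, .gen 567 (170, true)),
    (167, .gen 1304 (163, false)),
    (3044, .gen 978 (170, false)),
    (3381, .gen 2856 (161, false)),
    (100, .gen 2856 (164, false)),
    (2865, .gen 2856 (164, true)),
    (656, .gen 2363 (170, true)),
    (201, .gen 2339 (170, false)),
    (1444, .gen 2592 (163, false)),
    (133, .gen 434 (161, false)),
    (499, .gen 434 (164, false)),
    (2529, .gen 434 (170, true)),
    (1653, .gen 3096 (163, false)),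
    (1073, .gen 1357 (170, false)),
    (2065, .gen 529 (170, false)),
    (1518, .gen 1277 (170, false)),
    (698, .gen 2120 (170, false)),
    (1486, .gen 1955 (163, false)),
    (2728, .gen 419 (170, false)),
    (571, .gen 1717 (170, false)),
    (3557, .gen 257 (164, false)),
    (492, .gen 3568 (162, false)),
    (2232, .gen 3568 (164, true)),
    (735, .gen 3650 (170, false)),
    (1881, .gen 1394 (163, false)),
    (1692, .gen 2416 (170, true)),
    (2607, .gen 398 (164, false)),
    (2999, .gen 398 (164, true)),
    (2675, .gen 398 (170, false)),
    (1919, .gen 2772 (163, false)),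
    (3440, .gen 2772 (164, false)),
    (2128, .gen 2772 (170, false)),
    (806, .gen 2772 (170, true)),
    (720, .gen 2448 (163, false)),
    (1181, .gen 2448 (170, false)),
    (3621, .gen 3574 (164, false)),
    (2860, .gen 3574 (164, true)),
    (2331, .gen 591 (164, true)),
    (3783, .gen 3056 (162, false)),
    (3250, .gen 375 (164, true)),
    (1532, .gen 1822 (163, false)),
    (3427, .gen 2638 (161, false)),
    (2086, .gen 2422 (164, false)),
    (1244, .gen 872 (162, false)),
    (2078, .gen 872 (164, true)),
    (1110, .gen 872 (170, true)),
    (1825, .gen 233 (170, false)),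
    (2609, .gen 1801 (162, false)),
    (1982, .gen 300 (163, false)),
    (307, .gen 3617 (164, true)),
    (3480, .gen 1361 (164, false)),
    (305, .gen 1361 (164, true)),
    (1199, .gen 1361 (170, false)),
    (2903, .gen 1883 (170, false)),
    (121, .gen 3462 (164, false)),
    (1505, .gen 693 (162, false)),
    (3649, .gen 693 (164, true)),
    (454, .gen 3210 (162, false)),
    (552, .gen 3210 (164, true)),
    (2813, .gen 3342 (163, false)),
    (321, .gen 595 (161, false)),
    (770, .gen 664 (161, false)),
    (239, .gen 3414 (170, true)),
    (1204, .gen 318 (164, false)),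
    (1589, .gen 318 (164, true)),
    (1908, .gen 1031 (161, false)),
    (2297, .gen 1031 (162, false)),
    (472, .gen 1031 (164, false)),
    (3690, .gen 1031 (164, true)),
    (2254, .gen 1031 (170, false)),
    (3450, .gen 1031 (170, true)),
    (2479, .gen 2627 (163, false)),
    (1140, .gen 2627 (164, false)),
    (2139, .gen 2627 (170, true)),
    (3195, .gen 764 (163, false)),
    (2143, .gen 764 (170, true)),
    (2105, .gen 760 (163, false)),
    (2037, .gen 760 (170, true)),
    (3360, .gen 2205 (162, false)),
    (1806, .gen 2205 (164, false)),
    (653, .gen 2205 (164, true)),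
    (3445, .gen 3611 (163, false)),
    (2113, .gen 3611 (164, false)),
    (1478, .gen 3611 (164, true)),
    (2536, .gen 3611 (170, false)),
    (1026, .gen 446 (163, false)),
    (3387, .gen 446 (164, false)),
    (2981, .gen 446 (170, false)),
    (2483, .gen 446 (170, true)),
    (3377, .gen 2419 (163, false)),
    (1123, .gen 2419 (170, false)),
    (2025, .gen 1984 (161, false)),
    (3120, .gen 1984 (162, false)),
    (2326, .gen 1984 (164, false)),
    (596, .gen 1984 (164, true)),
    (2214, .gen 1984 (170, false)),
    (2546, .gen 744 (161, false)),
    (2936, .gen 744 (164, false)),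
    (2344, .gen 744 (164, true)),
    (2063, .gen 2634 (161, false)),
    (2635, .gen 2634 (162, false)),
    (984, .gen 2634 (170, false)),
    (1237, .gen 2634 (170, true)),
    (1062, .gen 2975 (163, false)),
    (2076, .gen 2975 (170, false)),
    (684, .gen 2975 (170, true)),
    (2046, .gen 3605 (162, false)),
    (2718, .gen 3605 (163, false)),
    (3760, .gen 3605 (164, false)),
    (2021, .gen 3605 (164, true)),
    (719, .gen 3605 (170, false)),
    (563, .gen 1956 (163, false)),
    (2150, .gen 1956 (164, true)),
    (550, .gen 1956 (170, true)),
    (2027, .gen 3373 (161, false)),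
    (3262, .gen 3373 (162, false)),
    (765, .gen 3373 (164, false)),
    (2449, .gen 3373 (170, false)),
    (3160, .gen 3373 (170, true)),
    (1404, .gen 715 (162, false)),
    (505, .gen 715 (164, false)),
    (3692, .gen 715 (164, true)),
    (1153, .gen 715 (170, false)),
    (3720, .gen 2706 (163, false)),
    (1040, .gen 2706 (164, false)),
    (1419, .gen 1122 (163, false)),
    (1388, .gen 1122 (170, false)),
    (1251, .gen 1122 (170, true)),
    (795, .gen 1469 (162, false)),
    (153, .gen 1469 (164, false)),
    (1483, .gen 1469 (164, true)),
    (2366, .gen 406 (163, false)),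
    (2490, .gen 406 (170, false)),
    (2542, .gen 406 (170, true)),
    (3042, .gen 3113 (163, false)),
    (304, .gen 3113 (170, true)),
    (1325, .gen 565 (162, false)),
    (882, .gen 565 (170, false)),
    (2763, .gen 634 (163, false)),
    (1029, .gen 124 (170, false)),
    (2662, .gen 124 (170, true)),
    (362, .gen 2495 (161, false)),
    (1254, .gen 2495 (162, false)),
    (3017, .gen 2495 (164, false)),
    (111, .gen 2495 (164, true)),
    (2158, .gen 1429 (162, false)),
    (3241, .gen 1429 (164, false)),
    (2910, .gen 1429 (164, true)),
    (2282, .gen 1429 (170, false)),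
    (1678, .gen 1429 (170, true)),
    (1426, .gen 2427 (163, false)),
    (2302, .gen 2427 (164, false)),
    (426, .gen 2427 (164, true)),
    (1132, .gen 2427 (170, true)),
    (2185, .gen 794 (163, false)),
    (1937, .gen 794 (164, false)),
    (2114, .gen 636 (163, false)),
    (1773, .gen 636 (170, false)),
    (2453, .gen 1111 (161, false)),
    (1868, .gen 1111 (162, false)),
    (3048, .gen 1111 (164, false)),
    (2488, .gen 1111 (164, true)),
    (3232, .gen 2089 (162, false)),
    (3752, .gen 2089 (164, true)),
    (918, .gen 680 (162, false)),
    (860, .gen 680 (163, false))]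

/-- Visits. -/
def v12_6 : List (ℕ × Src) :=
  [(284, .gen 680 (164, true)),
    (2157, .gen 3748 (161, false)),
    (1445, .gen 3748 (162, false)),
    (2583, .gen 3748 (163, false)),
    (861, .gen 3748 (164, false)),
    (1440, .gen 3748 (164, true)),
    (1753, .gen 1618 (162, false)),
    (485, .gen 1301 (163, false)),
    (2659, .gen 3507 (164, false)),
    (3737, .gen 35 (164, false)),
    (3495, .gen 35 (170, true)),
    (2145, .gen 1354 (164, false)),
    (2277, .gen 1354 (164, true)),
    (3014, .gen 1354 (170, true)),
    (1139, .gen 2454 (163, false)),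
    (122, .gen 3093 (162, false)),
    (2215, .gen 3093 (164, false)),
    (1761, .gen 3093 (164, true)),
    (668, .gen 2311 (164, false)),
    (146, .gen 2311 (170, true)),
    (3002, .gen 515 (161, false)),
    (3401, .gen 515 (162, false)),
    (1423, .gen 515 (164, false)),
    (855, .gen 515 (164, true)),
    (2260, .gen 515 (170, false)),
    (873, .gen 37 (164, false)),
    (614, .gen 37 (170, false)),
    (2964, .gen 1896 (163, false)),
    (3468, .gen 1896 (170, true)),
    (1768, .gen 2059 (161, false)),
    (2100, .gen 2059 (162, false)),
    (1710, .gen 2059 (164, false)),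
    (1231, .gen 2059 (164, true)),
    (1668, .gen 3060 (164, false)),
    (1774, .gen 3060 (164, true)),
    (68, .gen 745 (164, false)),
    (1994, .gen 745 (164, true)),
    (2440, .gen 745 (170, false)),
    (286, .gen 1408 (163, false)),
    (1368, .gen 1408 (164, false)),
    (1131, .gen 1847 (163, false)),
    (3036, .gen 1847 (170, true)),
    (897, .gen 483 (162, false)),
    (1902, .gen 483 (164, false)),
    (888, .gen 483 (170, false)),
    (2347, .gen 3285 (164, false)),
    (3275, .gen 3285 (170, true)),
    (444, .gen 1720 (164, false)),
    (1188, .gen 1720 (164, true)),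
    (1719, .gen 1720 (170, false)),
    (968, .gen 2415 (170, true)),
    (822, .gen 2501 (170, true)),
    (836, .gen 3438 (164, false)),
    (3302, .gen 3438 (164, true)),
    (151, .gen 3438 (170, false)),
    (1616, .gen 3770 (163, false)),
    (184, .gen 3770 (164, false)),
    (788, .gen 3770 (164, true)),
    (1360, .gen 3770 (170, true)),
    (3697, .gen 3226 (163, false)),
    (252, .gen 3226 (170, false)),
    (2098, .gen 2543 (163, false)),
    (1060, .gen 3234 (161, false)),
    (1093, .gen 3234 (162, false)),
    (14, .gen 3234 (164, false)),
    (2445, .gen 3234 (170, true)),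
    (820, .gen 116 (161, false)),
    (211, .gen 116 (164, false)),
    (409, .gen 116 (164, true)),
    (3277, .gen 2589 (161, false)),
    (2095, .gen 2589 (162, false)),
    (1780, .gen 2589 (163, false)),
    (341, .gen 2589 (164, false)),
    (3228, .gen 3077 (162, false)),
    (1372, .gen 3077 (164, false)),
    (585, .gen 3077 (164, true)),
    (2407, .gen 3077 (170, false)),
    (2463, .gen 1858 (164, false)),
    (1226, .gen 1858 (164, true)),
    (3478, .gen 1858 (170, false)),
    (781, .gen 532 (164, false)),
    (1864, .gen 532 (170, true)),
    (1107, .gen 3207 (163, false)),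
    (3599, .gen 3207 (164, false)),
    (2808, .gen 3352 (170, true)),
    (399, .gen 3756 (161, false)),
    (2534, .gen 3756 (162, false)),
    (3731, .gen 3756 (163, false)),
    (917, .gen 3756 (164, false)),
    (3446, .gen 471 (164, true)),
    (833, .gen 2619 (164, false)),
    (1242, .gen 2619 (164, true)),
    (64, .gen 2951 (164, false)),
    (3726, .gen 3499 (170, false)),
    (205, .gen 916 (163, false)),
    (1442, .gen 2914 (163, false)),
    (697, .gen 2914 (164, false)),
    (686, .gen 2914 (164, true)),
    (1737, .gen 2230 (170, false)),
    (3281, .gen 2230 (170, true)),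
    (2985, .gen 1999 (161, false)),
    (2848, .gen 1465 (162, false)),
    (1396, .gen 1465 (164, true)),
    (1470, .gen 2474 (163, false)),
    (2803, .gen 2191 (164, false)),
    (2112, .gen 723 (170, true)),
    (1269, .gen 3028 (164, false)),
    (432, .gen 71 (163, false)),
    (753, .gen 627 (164, true)),
    (1401, .gen 1095 (163, false)),
    (3292, .gen 1095 (164, false)),
    (1027, .gen 2174 (170, false)),
    (1533, .gen 1154 (164, false)),
    (3742, .gen 1686 (170, false)),
    (1614, .gen 1164 (162, false)),
    (1794, .gen 1599 (170, true)),
    (2631, .gen 3736 (162, false)),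
    (2239, .gen 3736 (163, false)),
    (67, .gen 2528 (161, false)),
    (43, .gen 2528 (162, false)),
    (3626, .gen 2528 (163, false)),
    (2067, .gen 2528 (164, true)),
    (2628, .gen 2456 (164, true)),
    (1646, .gen 2872 (161, false)),
    (2087, .gen 2872 (170, true)),
    (2184, .gen 3794 (161, false)),
    (761, .gen 3794 (162, false)),
    (619, .gen 3794 (163, false)),
    (2599, .gen 1992 (164, true)),
    (3328, .gen 1992 (170, true)),
    (2773, .gen 3092 (164, false)),
    (358, .gen 2805 (161, false)),
    (1782, .gen 2805 (162, false)),
    (413, .gen 2805 (164, false)),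
    (2332, .gen 2805 (164, true)),
    (1055, .gen 2805 (170, false)),
    (1133, .gen 2658 (170, false)),
    (2446, .gen 2649 (162, false)),
    (3122, .gen 2649 (163, false)),
    (3608, .gen 2649 (164, true)),
    (3095, .gen 2703 (164, false)),
    (2810, .gen 2703 (164, true)),
    (1116, .gen 2845 (162, false)),
    (1791, .gen 2845 (164, false)),
    (2640, .gen 2845 (170, true)),
    (992, .gen 717 (163, false)),
    (2468, .gen 3510 (162, false)),
    (491, .gen 3510 (164, false)),
    (1038, .gen 576 (170, true)),
    (1084, .gen 1910 (170, true)),
    (337, .gen 843 (170, false)),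
    (1605, .gen 1673 (164, false)),
    (2791, .gen 1673 (164, true)),
    (974, .gen 3159 (164, true)),
    (3481, .gen 3159 (170, true)),
    (2020, .gen 1410 (170, true)),
    (1546, .gen 2920 (170, false)),
    (102, .gen 2920 (170, true)),
    (2687, .gen 437 (163, false)),
    (3024, .gen 437 (170, false)),
    (450, .gen 91 (161, false)),
    (3043, .gen 91 (162, false)),
    (1293, .gen 91 (164, false)),
    (72, .gen 91 (164, true)),
    (2587, .gen 1997 (170, true)),
    (1787, .gen 1798 (170, false)),
    (2018, .gen 1776 (170, false)),
    (1699, .gen 1197 (161, false)),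
    (3545, .gen 1197 (170, true)),
    (1969, .gen 73 (170, false)),
    (982, .gen 1538 (170, true)),
    (3230, .gen 3398 (170, true)),
    (1680, .gen 1958 (163, false)),
    (2294, .gen 1098 (161, false)),
    (3483, .gen 620 (161, false)),
    (1480, .gen 3065 (170, false)),
    (2676, .gen 3451 (170, false)),
    (520, .gen 1298 (170, false)),
    (107, .gen 1261 (170, true)),
    (396, .gen 165 (164, false)),
    (2769, .gen 47 (163, false)),
    (1932, .gen 47 (170, true)),
    (2307, .gen 1012 (164, false)),
    (2517, .gen 1012 (164, true)),
    (3435, .gen 1012 (170, false)),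
    (1585, .gen 699 (170, false)),
    (2859, .gen 699 (170, true)),
    (3150, .gen 912 (164, false)),
    (1126, .gen 912 (164, true)),
    (3541, .gen 92 (164, true)),
    (3249, .gen 92 (170, false)),
    (1799, .gen 2220 (163, false)),
    (1115, .gen 2565 (163, false)),
    (2204, .gen 2565 (164, true)),
    (763, .gen 2565 (170, false)),
    (94, .gen 859 (170, true)),
    (2576, .gen 3032 (163, false)),
    (845, .gen 3162 (170, false)),
    (1466, .gen 3162 (170, true)),
    (3329, .gen 2421 (164, true)),
    (2148, .gen 2421 (170, true)),
    (3559, .gen 3009 (170, true)),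
    (1072, .gen 2506 (164, false)),
    (2621, .gen 1011 (163, false)),
    (828, .gen 1011 (164, false)),
    (2867, .gen 3727 (164, false)),
    (3695, .gen 1949 (164, true)),
    (3686, .gen 190 (162, false)),
    (3300, .gen 190 (170, true)),
    (3423, .gen 330 (170, true)),
    (1943, .gen 3256 (164, false)),
    (1296, .gen 3256 (170, false)),
    (2630, .gen 2093 (162, false)),
    (2071, .gen 46 (164, true)),
    (1413, .gen 3193 (163, false)),
    (3158, .gen 2980 (170, false)),
    (229, .gen 3492 (163, false)),
    (192, .gen 2152 (163, false)),
    (3455, .gen 32 (170, false)),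
    (3299, .gen 1455 (163, false)),
    (1186, .gen 2857 (162, false)),
    (691, .gen 3472 (162, false)),
    (2879, .gen 24 (163, false)),
    (1236, .gen 2843 (170, false)),
    (3169, .gen 3168 (162, false)),
    (2579, .gen 1771 (162, false)),
    (1703, .gen 1771 (163, false)),
    (2573, .gen 1771 (170, true)),
    (2869, .gen 1239 (161, false)),
    (926, .gen 3411 (162, false)),
    (3209, .gen 3411 (164, true)),
    (564, .gen 1790 (164, false)),
    (3774, .gen 2256 (164, false)),
    (3458, .gen 2256 (164, true)),
    (3607, .gen 2256 (170, true)),
    (991, .gen 1766 (164, false)),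
    (3301, .gen 3170 (164, false)),
    (2340, .gen 1356 (170, false)),
    (105, .gen 3384 (164, false)),
    (1052, .gen 2716 (162, false)),
    (303, .gen 2716 (164, true)),
    (3652, .gen 727 (164, false)),
    (892, .gen 2221 (170, true)),
    (3786, .gen 3625 (161, false)),
    (743, .gen 3625 (162, false)),
    (556, .gen 3625 (164, true)),
    (2444, .gen 1521 (170, true)),
    (663, .gen 60 (170, false)),
    (1228, .gen 3253 (164, true)),
    (2737, .gen 2368 (170, true)),
    (766, .gen 2755 (161, false)),
    (2031, .gen 1843 (170, false)),
    (2316, .gen 2335 (170, true)),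
    (2072, .gen 834 (161, false)),
    (1320, .gen 1819 (164, false)),
    (1941, .gen 1819 (164, true)),
    (921, .gen 2361 (162, false)),
    (849, .gen 2361 (163, false)),
    (1347, .gen 2361 (164, false)),
    (3306, .gen 2361 (164, true)),
    (1604, .gen 2000 (164, false)),
    (685, .gen 2000 (164, true)),
    (3197, .gen 2701 (164, false)),
    (141, .gen 899 (161, false)),
    (671, .gen 899 (164, true)),
    (1709, .gen 2403 (162, false)),
    (2155, .gen 2403 (164, false)),
    (1542, .gen 1053 (164, false)),
    (2476, .gen 557 (170, true)),
    (3086, .gen 643 (161, false)),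
    (2129, .gen 1468 (163, false)),
    (3174, .gen 1892 (164, false)),
    (1861, .gen 3521 (162, false)),
    (3221, .gen 2068 (161, false)),
    (1725, .gen 3319 (162, false)),
    (3134, .gen 3319 (164, true)),
    (2549, .gen 1940 (170, true)),
    (750, .gen 1436 (164, true)),
    (3646, .gen 3204 (162, false)),
    (1316, .gen 3204 (164, true)),
    (1549, .gen 3592 (170, false)),
    (148, .gen 2882 (170, true)),
    (1235, .gen 156 (161, false)),
    (2096, .gen 986 (170, true)),
    (2442, .gen 2648 (163, false)),
    (1069, .gen 2648 (170, true)),
    (748, .gen 2730 (164, true)),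
    (3284, .gen 3585 (161, false)),
    (3361, .gen 1735 (161, false)),
    (2441, .gen 1735 (170, false)),
    (3420, .gen 2647 (162, false)),
    (713, .gen 2500 (161, false)),
    (3236, .gen 2500 (170, true)),
    (2166, .gen 2323 (170, false)),
    (2196, .gen 2323 (170, true)),
    (1020, .gen 592 (170, false)),
    (3479, .gen 2328 (163, false)),
    (63, .gen 1705 (170, true)),
    (2784, .gen 291 (164, false)),
    (573, .gen 3408 (161, false))]

/-- Visits. -/
def v12_7 : List (ℕ × Src) :=
  [(809, .gen 2292 (162, false)),
    (3509, .gen 424 (170, true)),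
    (1757, .gen 3473 (163, false)),
    (44, .gen 2836 (163, false)),
    (3215, .gen 3644 (170, false)),
    (2674, .gen 1827 (163, false)),
    (925, .gen 197 (170, true)),
    (1727, .gen 117 (170, false)),
    (408, .gen 710 (170, false)),
    (975, .gen 2611 (170, false)),
    (672, .gen 2799 (170, false)),
    (2839, .gen 2047 (170, true)),
    (1066, .gen 2003 (170, true)),
    (3764, .gen 383 (170, true)),
    (1655, .gen 2918 (170, true)),
    (1210, .gen 1712 (161, false)),
    (1137, .gen 1712 (162, false)),
    (742, .gen 1712 (164, false)),
    (85, .gen 1712 (164, true)),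
    (288, .gen 2547 (163, false)),
    (1948, .gen 2547 (164, false)),
    (2365, .gen 2547 (164, true)),
    (313, .gen 479 (162, false)),
    (2820, .gen 479 (163, false)),
    (681, .gen 479 (164, false)),
    (251, .gen 479 (164, true)),
    (2994, .gen 479 (170, false)),
    (936, .gen 479 (170, true)),
    (3651, .gen 2034 (163, false)),
    (62, .gen 2034 (164, false)),
    (476, .gen 2034 (164, true)),
    (3551, .gen 2034 (170, false)),
    (2595, .gen 81 (163, false)),
    (1168, .gen 81 (164, false)),
    (3376, .gen 81 (170, true)),
    (914, .gen 3111 (170, false)),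
    (3354, .gen 2554 (161, false)),
    (2380, .gen 2554 (162, false)),
    (495, .gen 2554 (163, false)),
    (1287, .gen 2554 (164, false)),
    (2012, .gen 2554 (164, true)),
    (2807, .gen 964 (161, false)),
    (1989, .gen 964 (163, false)),
    (2004, .gen 964 (164, false)),
    (2970, .gen 964 (164, true)),
    (2386, .gen 1545 (161, false)),
    (2104, .gen 1545 (162, false)),
    (3082, .gen 1545 (164, false)),
    (3294, .gen 1398 (162, false)),
    (1358, .gen 1398 (163, false)),
    (779, .gen 1398 (164, false)),
    (2162, .gen 1398 (164, true)),
    (2532, .gen 3639 (163, false)),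
    (3363, .gen 3639 (164, false)),
    (1383, .gen 1065 (164, false)),
    (1395, .gen 1065 (164, true)),
    (2299, .gen 1065 (170, false)),
    (2417, .gen 1065 (170, true)),
    (332, .gen 1209 (161, false)),
    (903, .gen 1209 (162, false)),
    (185, .gen 1209 (164, false)),
    (1134, .gen 1209 (164, true)),
    (1974, .gen 1209 (170, true)),
    (1795, .gen 3725 (163, false)),
    (3642, .gen 3725 (164, false)),
    (2693, .gen 3725 (170, false)),
    (1400, .gen 3725 (170, true)),
    (3735, .gen 2900 (163, false)),
    (623, .gen 3593 (161, false)),
    (3606, .gen 3593 (162, false)),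
    (3222, .gen 3593 (163, false)),
    (106, .gen 2850 (161, false)),
    (3125, .gen 2850 (162, false)),
    (89, .gen 2850 (164, false)),
    (783, .gen 2850 (164, true)),
    (385, .gen 2850 (170, false)),
    (1439, .gen 965 (163, false)),
    (3133, .gen 965 (164, false)),
    (603, .gen 1487 (170, true)),
    (2616, .gen 2779 (161, false)),
    (2610, .gen 2779 (162, false)),
    (1985, .gen 2779 (163, false)),
    (3681, .gen 2779 (164, true)),
    (2564, .gen 2178 (162, false)),
    (1484, .gen 2178 (164, true)),
    (911, .gen 2178 (170, false)),
    (2125, .gen 2178 (170, true)),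
    (3747, .gen 2472 (163, false)),
    (796, .gen 2472 (170, true)),
    (2014, .gen 1838 (170, true)),
    (2833, .gen 724 (170, false)),
    (3534, .gen 2426 (161, false)),
    (1339, .gen 2426 (163, false)),
    (3569, .gen 2426 (164, true)),
    (1975, .gen 248 (161, false)),
    (2336, .gen 248 (162, false)),
    (134, .gen 248 (163, false)),
    (2222, .gen 741 (161, false)),
    (3037, .gen 175 (162, false)),
    (411, .gen 175 (163, false)),
    (1627, .gen 175 (164, true)),
    (2962, .gen 1028 (161, false)),
    (2734, .gen 1028 (162, false)),
    (2574, .gen 1028 (163, false)),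
    (3454, .gen 1028 (164, false)),
    (746, .gen 1028 (164, true)),
    (578, .gen 2044 (164, false)),
    (2641, .gen 2044 (164, true)),
    (1114, .gen 2044 (170, true)),
    (455, .gen 1693 (162, false)),
    (3425, .gen 1693 (164, false)),
    (482, .gen 1693 (164, true)),
    (2567, .gen 1693 (170, true)),
    (927, .gen 2035 (164, false)),
    (2121, .gen 2035 (170, false)),
    (2937, .gen 158 (163, false)),
    (2841, .gen 1144 (162, false)),
    (3279, .gen 1144 (163, false)),
    (3417, .gen 1144 (164, false)),
    (189, .gen 3008 (163, false)),
    (2126, .gen 3008 (164, true)),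
    (3380, .gen 3008 (170, true)),
    (1044, .gen 3523 (164, false)),
    (3792, .gen 3523 (164, true)),
    (1744, .gen 136 (161, false)),
    (3264, .gen 136 (162, false)),
    (2569, .gen 136 (164, true)),
    (3229, .gen 136 (170, false)),
    (1553, .gen 2990 (163, false)),
    (1879, .gen 2990 (164, false)),
    (590, .gen 823 (163, false)),
    (2055, .gen 2002 (162, false)),
    (2915, .gen 2002 (163, false)),
    (104, .gen 2011 (164, false)),
    (217, .gen 2011 (164, true)),
    (709, .gen 870 (164, false)),
    (2969, .gen 870 (164, true)),
    (249, .gen 870 (170, false)),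
    (2724, .gen 1461 (163, false)),
    (2625, .gen 1461 (164, false)),
    (326, .gen 1828 (163, false)),
    (2382, .gen 1828 (170, false)),
    (1165, .gen 1828 (170, true)),
    (913, .gen 39 (163, false)),
    (1895, .gen 625 (163, false)),
    (757, .gen 625 (170, true)),
    (2043, .gen 517 (164, true)),
    (1229, .gen 517 (170, false)),
    (2889, .gen 517 (170, true)),
    (3512, .gen 27 (170, false)),
    (2752, .gen 27 (170, true)),
    (361, .gen 1283 (170, true)),
    (2789, .gen 2535 (163, false)),
    (2187, .gen 2535 (164, true)),
    (562, .gen 2535 (170, false)),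
    (2418, .gen 3349 (163, false)),
    (602, .gen 3349 (164, false)),
    (835, .gen 3349 (164, true)),
    (1379, .gen 3349 (170, true)),
    (2538, .gen 2356 (163, false)),
    (258, .gen 2356 (170, false)),
    (3315, .gen 1938 (162, false)),
    (738, .gen 1938 (163, false)),
    (140, .gen 1938 (164, true)),
    (3757, .gen 2243 (161, false)),
    (3353, .gen 2243 (162, false)),
    (3313, .gen 2243 (164, false)),
    (1399, .gen 2243 (164, true)),
    (2906, .gen 2243 (170, true)),
    (273, .gen 2929 (161, false)),
    (3286, .gen 2929 (170, true)),
    (2322, .gen 3475 (161, false)),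
    (1501, .gen 3475 (162, false)),
    (1459, .gen 3475 (164, false)),
    (3785, .gen 3475 (170, false)),
    (864, .gen 2349 (163, false)),
    (3490, .gen 2349 (164, false)),
    (171, .gen 2349 (170, false)),
    (164, .gen 2654 (163, false)),
    (2170, .gen 2654 (164, true)),
    (962, .gen 2654 (170, false)),
    (2881, .gen 3224 (161, false)),
    (241, .gen 3224 (164, true)),
    (108, .gen 3224 (170, true)),
    (1100, .gen 1417 (163, false)),
    (1305, .gen 1417 (164, false)),
    (3412, .gen 1991 (170, true)),
    (2163, .gen 3712 (163, false)),
    (526, .gen 793 (163, false)),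
    (1899, .gen 347 (163, false)),
    (1268, .gen 347 (164, true)),
    (221, .gen 347 (170, true)),
    (219, .gen 299 (161, false)),
    (931, .gen 299 (162, false)),
    (2247, .gen 299 (164, false)),
    (1517, .gen 299 (170, false)),
    (3656, .gen 1754 (164, false)),
    (1127, .gen 1754 (170, false)),
    (3618, .gen 558 (163, false)),
    (2042, .gen 558 (170, false)),
    (2541, .gen 1282 (162, false)),
    (3356, .gen 1282 (164, false)),
    (242, .gen 2699 (162, false)),
    (2251, .gen 2699 (163, false)),
    (3488, .gen 3487 (170, false)),
    (2301, .gen 3171 (161, false)),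
    (1552, .gen 3171 (163, false)),
    (1416, .gen 3171 (164, true)),
    (1689, .gen 1086 (162, false)),
    (2683, .gen 1086 (163, false)),
    (3074, .gen 2875 (164, false)),
    (3220, .gen 2875 (170, true)),
    (1772, .gen 2179 (162, false)),
    (2513, .gen 2179 (170, true)),
    (13, .gen 110 (164, false)),
    (3138, .gen 110 (170, false)),
    (811, .gen 2908 (163, false)),
    (1437, .gen 1412 (163, false)),
    (2708, .gen 1412 (164, false)),
    (1831, .gen 2127 (164, true)),
    (1376, .gen 2127 (170, false)),
    (2054, .gen 2871 (164, false)),
    (3079, .gen 2871 (164, true)),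
    (3407, .gen 2871 (170, false)),
    (3716, .gen 1739 (162, false)),
    (2327, .gen 1739 (164, true)),
    (1586, .gen 1739 (170, false)),
    (1509, .gen 1953 (163, false)),
    (1196, .gen 1953 (164, false)),
    (1117, .gen 2409 (170, false)),
    (2603, .gen 3287 (164, false)),
    (1661, .gen 3287 (164, true)),
    (1476, .gen 3287 (170, true)),
    (2355, .gen 2467 (162, false)),
    (1522, .gen 2467 (164, false)),
    (3254, .gen 353 (164, false)),
    (1048, .gen 2959 (163, false)),
    (2896, .gen 381 (170, false)),
    (1905, .gen 381 (170, true)),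
    (50, .gen 278 (170, true)),
    (2604, .gen 3778 (170, true)),
    (702, .gen 598 (163, false)),
    (414, .gen 598 (170, false)),
    (2942, .gen 2854 (164, false)),
    (422, .gen 2854 (164, true)),
    (2111, .gen 2854 (170, true)),
    (1059, .gen 1658 (170, false)),
    (147, .gen 1658 (170, true)),
    (1672, .gen 3567 (163, false)),
    (989, .gen 3567 (170, false)),
    (365, .gen 3567 (170, true)),
    (1859, .gen 2485 (163, false)),
    (2029, .gen 2485 (170, true)),
    (3322, .gen 3314 (170, false)),
    (1329, .gen 3443 (161, false)),
    (2597, .gen 3443 (162, false)),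
    (112, .gen 3443 (164, true)),
    (393, .gen 2180 (170, false)),
    (3265, .gen 3635 (163, false)),
    (1323, .gen 1432 (161, false)),
    (379, .gen 1432 (164, false)),
    (523, .gen 1432 (170, false)),
    (2943, .gen 1432 (170, true)),
    (357, .gen 2974 (163, false)),
    (2823, .gen 2974 (170, true)),
    (705, .gen 2498 (170, true)),
    (343, .gen 3532 (161, false)),
    (2741, .gen 1369 (161, false)),
    (510, .gen 1369 (170, false)),
    (1002, .gen 604 (170, false)),
    (3500, .gen 1036 (170, false)),
    (475, .gen 3496 (164, false)),
    (236, .gen 3496 (164, true)),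
    (3753, .gen 3030 (163, false)),
    (2780, .gen 1148 (164, false)),
    (369, .gen 1148 (170, false)),
    (395, .gen 1148 (170, true)),
    (3068, .gen 2481 (170, true)),
    (3049, .gen 2235 (164, false)),
    (1516, .gen 2235 (164, true)),
    (2960, .gen 2235 (170, false)),
    (3323, .gen 3164 (163, false)),
    (16, .gen 3007 (163, false)),
    (3337, .gen 3007 (170, false)),
    (1748, .gen 1005 (163, false)),
    (3614, .gen 1005 (170, false)),
    (1256, .gen 1005 (170, true)),
    (1003, .gen 1371 (163, false)),
    (1039, .gen 1371 (170, false)),
    (2997, .gen 3213 (162, false)),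
    (1306, .gen 3213 (164, false)),
    (2430, .gen 3213 (164, true)),
    (1138, .gen 3372 (162, false)),
    (3578, .gen 3372 (170, false)),
    (223, .gen 3372 (170, true)),
    (932, .gen 3409 (163, false)),
    (3104, .gen 1497 (170, true)),
    (768, .gen 1675 (162, false)),
    (449, .gen 1675 (163, false)),
    (2842, .gen 1675 (164, false))]

/-- Visits. -/
def v12_8 : List (ℕ × Src) :=
  [(846, .gen 1626 (163, false)),
    (1105, .gen 1626 (170, false)),
    (3350, .gen 1885 (161, false)),
    (3311, .gen 1885 (162, false)),
    (2657, .gen 1885 (164, false)),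
    (3400, .gen 1885 (164, true)),
    (1299, .gen 1885 (170, false)),
    (817, .gen 1885 (170, true)),
    (1080, .gen 142 (163, false)),
    (1074, .gen 142 (164, false)),
    (3430, .gen 142 (170, true)),
    (3744, .gen 1779 (163, false)),
    (2050, .gen 1779 (170, true)),
    (126, .gen 1663 (163, false)),
    (1796, .gen 1663 (164, false)),
    (443, .gen 1663 (164, true)),
    (3745, .gen 1663 (170, true)),
    (1657, .gen 626 (162, false)),
    (3177, .gen 626 (163, false)),
    (2141, .gen 626 (164, false)),
    (2976, .gen 626 (164, true)),
    (2615, .gen 626 (170, false)),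
    (1706, .gen 626 (170, true)),
    (3535, .gen 2452 (163, false)),
    (1715, .gen 2452 (164, false)),
    (322, .gen 2452 (164, true)),
    (946, .gen 2452 (170, false)),
    (1575, .gen 297 (163, false)),
    (3636, .gen 297 (164, false)),
    (786, .gen 297 (170, false)),
    (3157, .gen 297 (170, true)),
    (3655, .gen 3090 (163, false)),
    (1162, .gen 3090 (170, false)),
    (1924, .gen 490 (161, false)),
    (1783, .gen 490 (162, false)),
    (2678, .gen 490 (163, false)),
    (317, .gen 490 (164, false)),
    (262, .gen 490 (164, true)),
    (2461, .gen 490 (170, false)),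
    (1249, .gen 584 (161, false)),
    (2840, .gen 584 (163, false)),
    (1928, .gen 584 (164, false)),
    (2464, .gen 584 (164, true)),
    (2624, .gen 584 (170, true)),
    (1623, .gen 1262 (161, false)),
    (3089, .gen 1262 (162, false)),
    (3448, .gen 1262 (170, false)),
    (1311, .gen 1262 (170, true)),
    (777, .gen 1913 (163, false)),
    (733, .gen 1913 (170, false)),
    (3269, .gen 1913 (170, true)),
    (3550, .gen 3722 (162, false)),
    (1519, .gen 3722 (163, false)),
    (2861, .gen 3722 (164, false)),
    (2849, .gen 3722 (164, true)),
    (1184, .gen 3722 (170, false)),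
    (958, .gen 2039 (163, false)),
    (1548, .gen 2039 (164, true)),
    (2130, .gen 2039 (170, true)),
    (661, .gen 2350 (161, false)),
    (1823, .gen 2350 (162, false)),
    (1024, .gen 2350 (164, false)),
    (1502, .gen 2350 (170, false)),
    (3699, .gen 2350 (170, true)),
    (2950, .gen 758 (162, false)),
    (3144, .gen 758 (163, false)),
    (2988, .gen 758 (164, false)),
    (3080, .gen 758 (164, true)),
    (177, .gen 758 (170, false)),
    (2048, .gen 3741 (163, false)),
    (3787, .gen 3741 (164, false)),
    (2680, .gen 3741 (170, true)),
    (34, .gen 3298 (163, false)),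
    (1641, .gen 3298 (164, false)),
    (1588, .gen 3298 (164, true)),
    (1113, .gen 3298 (170, false)),
    (1183, .gen 3298 (170, true)),
    (289, .gen 1335 (161, false)),
    (3442, .gen 1335 (162, false)),
    (265, .gen 1335 (164, false)),
    (1225, .gen 1335 (164, true)),
    (2300, .gen 1335 (170, true)),
    (2955, .gen 637 (163, false)),
    (2827, .gen 637 (164, false)),
    (179, .gen 637 (170, false)),
    (879, .gen 637 (170, true)),
    (1531, .gen 2515 (163, false)),
    (891, .gen 2515 (170, true)),
    (3016, .gen 1217 (161, false)),
    (536, .gen 1217 (162, false)),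
    (2083, .gen 1217 (163, false)),
    (2484, .gen 1217 (164, false)),
    (2835, .gen 1217 (164, true)),
    (1961, .gen 1217 (170, false)),
    (0, .gen 512 (161, false)),
    (415, .gen 512 (162, false)),
    (580, .gen 512 (164, false)),
    (90, .gen 512 (164, true)),
    (125, .gen 512 (170, false)),
    (3669, .gen 1541 (163, false)),
    (1272, .gen 1541 (164, false)),
    (2389, .gen 1951 (170, false)),
    (3629, .gen 1951 (170, true)),
    (3679, .gen 2459 (161, false)),
    (657, .gen 2459 (162, false)),
    (541, .gen 2459 (163, false)),
    (80, .gen 2459 (164, false)),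
    (2511, .gen 2459 (164, true)),
    (2560, .gen 2400 (162, false)),
    (1297, .gen 2400 (164, false)),
    (1447, .gen 2400 (164, true)),
    (3439, .gen 2400 (170, false)),
    (359, .gen 2400 (170, true)),
    (3597, .gen 2364 (163, false)),
    (2343, .gen 2364 (164, false)),
    (3714, .gen 2364 (164, true)),
    (2131, .gen 2364 (170, true)),
    (374, .gen 1443 (163, false)),
    (774, .gen 1443 (164, false)),
    (3316, .gen 1443 (170, true)),
    (519, .gen 900 (163, false)),
    (2032, .gen 900 (170, false)),
    (1336, .gen 900 (170, true)),
    (3369, .gen 3033 (161, false)),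
    (418, .gen 3033 (163, false)),
    (3205, .gen 3033 (164, false)),
    (1061, .gen 3033 (164, true)),
    (2653, .gen 345 (161, false)),
    (2280, .gen 345 (162, false)),
    (787, .gen 345 (163, false)),
    (2519, .gen 345 (164, false)),
    (2378, .gen 345 (164, true)),
    (1384, .gen 3206 (161, false)),
    (2271, .gen 3206 (162, false)),
    (1068, .gen 3206 (164, true)),
    (3609, .gen 938 (162, false)),
    (187, .gen 938 (163, false)),
    (2939, .gen 938 (164, true)),
    (2367, .gen 3227 (161, false)),
    (3335, .gen 3227 (162, false)),
    (2944, .gen 3227 (163, false)),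
    (2505, .gen 3227 (164, false)),
    (3244, .gen 3227 (164, true)),
    (154, .gen 1526 (161, false)),
    (1988, .gen 1526 (162, false)),
    (3235, .gen 1922 (162, false)),
    (84, .gen 1922 (163, false)),
    (1451, .gen 1922 (164, false)),
    (732, .gen 2420 (161, false)),
    (2486, .gen 2420 (162, false)),
    (2306, .gen 2420 (163, false)),
    (2376, .gen 2420 (164, false)),
    (1613, .gen 2420 (164, true)),
    (2406, .gen 3683 (164, false)),
    (1390, .gen 3683 (164, true)),
    (2061, .gen 3683 (170, true)),
    (3406, .gen 3467 (162, false)),
    (3784, .gen 3467 (164, false)),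
    (669, .gen 3467 (164, true)),
    (468, .gen 3467 (170, true)),
    (172, .gen 3561 (164, false)),
    (1346, .gen 3561 (170, false)),
    (3261, .gen 1987 (163, false)),
    (1202, .gen 216 (162, false)),
    (1290, .gen 216 (163, false)),
    (3687, .gen 216 (164, false)),
    (906, .gen 216 (164, true)),
    (292, .gen 1591 (163, false)),
    (1090, .gen 1591 (164, false)),
    (1006, .gen 1591 (164, true)),
    (804, .gen 1591 (170, true)),
    (507, .gen 2722 (163, false)),
    (1559, .gen 2722 (164, false)),
    (1389, .gen 2722 (164, true)),
    (1001, .gen 2722 (170, true)),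
    (1732, .gen 1889 (161, false)),
    (2996, .gen 1889 (162, false)),
    (17, .gen 1889 (164, false)),
    (2345, .gen 1889 (164, true)),
    (514, .gen 1889 (170, false)),
    (1266, .gen 1578 (163, false)),
    (1337, .gen 1578 (164, false)),
    (114, .gen 1578 (170, false)),
    (3305, .gen 2941 (163, false)),
    (1695, .gen 2941 (170, true)),
    (1446, .gen 155 (161, false)),
    (3471, .gen 155 (162, false)),
    (1037, .gen 155 (163, false)),
    (1479, .gen 155 (164, false)),
    (825, .gen 155 (164, true)),
    (378, .gen 3347 (164, false)),
    (3680, .gen 3347 (164, true)),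
    (11, .gen 844 (164, false)),
    (531, .gen 844 (164, true)),
    (195, .gen 844 (170, false)),
    (3189, .gen 1820 (163, false)),
    (3318, .gen 1820 (164, false)),
    (1593, .gen 3181 (163, false)),
    (182, .gen 3181 (170, false)),
    (3575, .gen 3181 (170, true)),
    (3188, .gen 670 (162, false)),
    (721, .gen 670 (163, false)),
    (1557, .gen 670 (164, false)),
    (1491, .gen 670 (170, false)),
    (2092, .gen 1213 (163, false)),
    (1233, .gen 1213 (164, false)),
    (2655, .gen 1213 (170, true)),
    (1738, .gen 3020 (164, false)),
    (1642, .gen 3020 (164, true)),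
    (3137, .gen 3020 (170, false)),
    (2242, .gen 3020 (170, true)),
    (2069, .gen 2926 (170, false)),
    (803, .gen 2926 (170, true)),
    (2646, .gen 3052 (170, true)),
    (1647, .gen 3476 (163, false)),
    (2668, .gen 3476 (164, false)),
    (3675, .gen 3476 (164, true)),
    (725, .gen 3476 (170, false)),
    (3231, .gen 2494 (163, false)),
    (4, .gen 2494 (164, false)),
    (3346, .gen 2494 (164, true)),
    (101, .gen 2494 (170, true)),
    (388, .gen 1391 (161, false)),
    (955, .gen 1391 (170, false)),
    (3038, .gen 1391 (170, true)),
    (3702, .gen 456 (163, false)),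
    (1434, .gen 456 (170, false)),
    (3006, .gen 2713 (162, false)),
    (214, .gen 2713 (163, false)),
    (1285, .gen 2713 (164, true)),
    (502, .gen 2197 (161, false)),
    (2952, .gen 2197 (162, false)),
    (3212, .gen 2197 (164, false)),
    (980, .gen 2197 (164, true)),
    (1743, .gen 2197 (170, true)),
    (3382, .gen 2617 (161, false)),
    (2831, .gen 2617 (170, false)),
    (496, .gen 2617 (170, true)),
    (329, .gen 692 (161, false)),
    (3004, .gen 692 (162, false)),
    (97, .gen 692 (164, false)),
    (82, .gen 692 (164, true)),
    (2183, .gen 692 (170, false)),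
    (1809, .gen 2213 (161, false)),
    (1872, .gen 2213 (162, false)),
    (2310, .gen 2213 (163, false)),
    (2478, .gen 2213 (164, false)),
    (1723, .gen 3531 (162, false)),
    (3338, .gen 3531 (163, false)),
    (3012, .gen 3531 (164, false)),
    (890, .gen 3531 (164, true)),
    (1684, .gen 3531 (170, false)),
    (1503, .gen 543 (163, false)),
    (2748, .gen 543 (164, false)),
    (3248, .gen 543 (164, true)),
    (2998, .gen 543 (170, false)),
    (152, .gen 162 (161, false)),
    (488, .gen 162 (162, false)),
    (264, .gen 162 (164, false)),
    (1328, .gen 162 (164, true)),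
    (1954, .gen 162 (170, true)),
    (1135, .gen 2907 (163, false)),
    (1972, .gen 2907 (164, false)),
    (3768, .gen 1584 (170, true)),
    (2954, .gen 3721 (161, false)),
    (2379, .gen 3721 (162, false)),
    (2739, .gen 3721 (163, false)),
    (2912, .gen 3721 (164, false)),
    (464, .gen 3721 (164, true)),
    (1312, .gen 225 (163, false)),
    (2387, .gen 225 (164, true)),
    (3021, .gen 225 (170, true)),
    (2404, .gen 1208 (163, false)),
    (1682, .gen 1208 (164, false)),
    (1508, .gen 1208 (164, true)),
    (254, .gen 1208 (170, true)),
    (3553, .gen 799 (161, false)),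
    (3344, .gen 799 (162, false)),
    (377, .gen 799 (164, false)),
    (3094, .gen 799 (164, true)),
    (1702, .gen 799 (170, false)),
    (3463, .gen 1855 (164, false)),
    (2837, .gen 1855 (170, false)),
    (3151, .gen 2425 (163, false)),
    (1621, .gen 2425 (170, false)),
    (2712, .gen 1818 (162, false)),
    (3515, .gen 1818 (163, false)),
    (2466, .gen 1818 (164, false)),
    (1159, .gen 1818 (164, true)),
    (1550, .gen 2091 (162, false)),
    (2066, .gen 2091 (163, false)),
    (1421, .gen 2077 (170, false)),
    (2324, .gen 2077 (170, true)),
    (3693, .gen 199 (170, false)),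
    (1805, .gen 3489 (161, false)),
    (2732, .gen 3489 (162, false)),
    (2524, .gen 3489 (163, false)),
    (831, .gen 3489 (164, true)),
    (350, .gen 2651 (162, false)),
    (2321, .gen 2651 (163, false))]

/-- Visits. -/
def v12_9 : List (ℕ × Src) :=
  [(2602, .gen 3317 (161, false)),
    (3776, .gen 874 (162, false)),
    (3165, .gen 874 (163, false)),
    (1021, .gen 874 (164, false)),
    (886, .gen 874 (164, true)),
    (2758, .gen 3654 (161, false)),
    (481, .gen 3654 (163, false)),
    (775, .gen 3654 (164, false)),
    (2395, .gen 3654 (164, true)),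
    (3493, .gen 3485 (162, false)),
    (1481, .gen 3485 (164, false)),
    (1936, .gen 3733 (163, false)),
    (1551, .gen 3733 (164, false)),
    (957, .gen 3733 (170, true)),
    (2171, .gen 2685 (162, false)),
    (2844, .gen 2685 (164, false)),
    (1676, .gen 2685 (170, true)),
    (1931, .gen 3374 (164, false)),
    (1993, .gen 3374 (170, false)),
    (651, .gen 1246 (163, false)),
    (2987, .gen 356 (162, false)),
    (561, .gen 356 (163, false)),
    (1696, .gen 356 (164, false)),
    (1381, .gen 1810 (164, true)),
    (360, .gen 1810 (170, false)),
    (2989, .gen 2666 (163, false)),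
    (3019, .gen 2666 (164, false)),
    (676, .gen 2666 (164, true)),
    (2901, .gen 2666 (170, false)),
    (1824, .gen 1570 (162, false)),
    (2175, .gen 1570 (164, true)),
    (3781, .gen 1570 (170, false)),
    (3761, .gen 876 (163, false)),
    (1136, .gen 876 (164, false)),
    (3587, .gen 583 (163, false)),
    (2312, .gen 583 (170, false)),
    (3546, .gen 3258 (162, false)),
    (553, .gen 3258 (163, false)),
    (838, .gen 336 (162, false)),
    (1767, .gen 336 (163, false)),
    (734, .gen 336 (164, true)),
    (1243, .gen 336 (170, true)),
    (442, .gen 701 (170, false)),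
    (143, .gen 701 (170, true)),
    (704, .gen 65 (170, true)),
    (952, .gen 3491 (161, false)),
    (2935, .gen 3491 (162, false)),
    (38, .gen 3491 (163, false)),
    (2028, .gen 234 (161, false)),
    (2931, .gen 234 (162, false)),
    (3327, .gen 234 (163, false)),
    (905, .gen 234 (164, false)),
    (1523, .gen 234 (164, true)),
    (2151, .gen 3050 (162, false)),
    (2552, .gen 3050 (163, false)),
    (887, .gen 3050 (164, true)),
    (612, .gen 3172 (164, false)),
    (1342, .gen 3172 (164, true)),
    (2122, .gen 3172 (170, true)),
    (1874, .gen 509 (161, false)),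
    (949, .gen 509 (164, false)),
    (3395, .gen 509 (170, true)),
    (22, .gen 2684 (163, false)),
    (3789, .gen 2684 (164, false)),
    (2932, .gen 2514 (163, false)),
    (2384, .gen 1834 (161, false)),
    (2933, .gen 1834 (162, false)),
    (3560, .gen 1834 (163, false)),
    (2947, .gen 2137 (164, true)),
    (3063, .gen 2137 (170, false)),
    (2273, .gen 2137 (170, true)),
    (2499, .gen 3303 (164, false)),
    (3519, .gen 3303 (170, false)),
    (877, .gen 730 (161, false)),
    (2558, .gen 730 (162, false)),
    (729, .gen 730 (164, false)),
    (1852, .gen 730 (164, true)),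
    (997, .gen 730 (170, false)),
    (3600, .gen 2568 (163, false)),
    (3371, .gen 2568 (164, false)),
    (1751, .gen 2568 (170, false)),
    (1194, .gen 3685 (170, true)),
    (572, .gen 1665 (162, false)),
    (1886, .gen 1665 (163, false)),
    (3528, .gen 1665 (164, true)),
    (1263, .gen 2195 (164, false)),
    (2253, .gen 2195 (164, true)),
    (3691, .gen 2195 (170, true)),
    (1681, .gen 183 (162, false)),
    (412, .gen 183 (164, false)),
    (2948, .gen 183 (170, false)),
    (2798, .gen 183 (170, true)),
    (3013, .gen 1651 (164, false)),
    (1946, .gen 1215 (163, false)),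
    (1643, .gen 2883 (162, false)),
    (1130, .gen 2883 (163, false)),
    (1125, .gen 2883 (164, false)),
    (2518, .gen 1912 (162, false)),
    (2049, .gen 1912 (164, true)),
    (798, .gen 1912 (170, false)),
    (1352, .gen 1912 (170, true)),
    (1728, .gen 1983 (170, false)),
    (123, .gen 1983 (170, true)),
    (1749, .gen 1840 (170, true)),
    (1456, .gen 2870 (163, false)),
    (3738, .gen 2870 (170, false)),
    (3062, .gen 2333 (164, false)),
    (1677, .gen 2333 (164, true)),
    (3203, .gen 2333 (170, true)),
    (1574, .gen 363 (162, false)),
    (3615, .gen 363 (164, true)),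
    (587, .gen 363 (170, false)),
    (3396, .gen 363 (170, true)),
    (824, .gen 2394 (163, false)),
    (555, .gen 2394 (170, false)),
    (1177, .gen 2394 (170, true)),
    (2855, .gen 2200 (163, false)),
    (2234, .gen 2200 (170, false)),
    (910, .gen 2200 (170, true)),
    (2135, .gen 3320 (163, false)),
    (3631, .gen 3320 (170, false)),
    (2663, .gen 3320 (170, true)),
    (941, .gen 1000 (161, false)),
    (1270, .gen 1000 (162, false)),
    (128, .gen 1000 (164, false)),
    (1911, .gen 1000 (164, true)),
    (489, .gen 3540 (162, false)),
    (1583, .gen 3540 (170, false)),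
    (959, .gen 3540 (170, true)),
    (1977, .gen 1438 (170, false)),
    (1579, .gen 1438 (170, true)),
    (756, .gen 3677 (164, false)),
    (1603, .gen 3677 (170, false)),
    (1812, .gen 2287 (163, false)),
    (971, .gen 311 (161, false)),
    (1032, .gen 311 (164, false)),
    (1925, .gen 311 (170, false)),
    (3526, .gen 311 (170, true)),
    (83, .gen 3364 (161, false)),
    (3116, .gen 3364 (170, true)),
    (3321, .gen 2961 (162, false)),
    (2099, .gen 2961 (163, false)),
    (856, .gen 2961 (164, true)),
    (3000, .gen 2961 (170, false)),
    (1030, .gen 2392 (163, false)),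
    (821, .gen 2392 (170, true)),
    (238, .gen 1474 (170, false)),
    (3413, .gen 1474 (170, true)),
    (970, .gen 266 (163, false)),
    (2570, .gen 1907 (161, false)),
    (2775, .gen 948 (161, false)),
    (1016, .gen 948 (170, false)),
    (319, .gen 948 (170, true)),
    (2533, .gen 3051 (170, false)),
    (2629, .gen 2303 (170, false)),
    (465, .gen 3591 (164, false)),
    (500, .gen 3591 (164, true)),
    (2893, .gen 3591 (170, false)),
    (2475, .gen 2164 (163, false)),
    (1635, .gen 2164 (170, true)),
    (2886, .gen 1600 (164, false)),
    (1595, .gen 1600 (170, false)),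
    (287, .gen 1600 (170, true)),
    (2982, .gen 1746 (170, false)),
    (1576, .gen 2580 (163, false)),
    (736, .gen 2580 (170, false)),
    (2830, .gen 2580 (170, true)),
    (528, .gen 3029 (164, false)),
    (2696, .gen 3029 (164, true)),
    (226, .gen 3029 (170, false)),
    (3779, .gen 390 (163, false)),
    (342, .gen 3309 (163, false)),
    (372, .gen 3309 (164, false)),
    (3746, .gen 3309 (170, false)),
    (79, .gen 3309 (170, true)),
    (1082, .gen 1995 (163, false)),
    (1307, .gen 1995 (170, false)),
    (2819, .gen 1995 (170, true)),
    (1507, .gen 194 (163, false)),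
    (1631, .gen 194 (170, true)),
    (3566, .gen 2622 (163, false)),
    (3106, .gen 2622 (170, false)),
    (3039, .gen 2622 (170, true)),
    (3312, .gen 445 (161, false)),
    (3345, .gen 445 (162, false)),
    (644, .gen 445 (164, false)),
    (1300, .gen 445 (164, true)),
    (3176, .gen 2373 (162, false)),
    (840, .gen 2373 (164, true)),
    (707, .gen 2373 (170, false)),
    (655, .gen 2373 (170, true)),
    (1511, .gen 3255 (163, false)),
    (1500, .gen 3255 (170, false)),
    (206, .gen 3255 (170, true)),
    (1007, .gen 2431 (163, false)),
    (1475, .gen 2431 (164, true)),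
    (2199, .gen 2431 (170, false)),
    (511, .gen 1590 (170, true)),
    (2930, .gen 2782 (162, false)),
    (832, .gen 2782 (163, false)),
    (1155, .gen 2782 (164, false)),
    (3657, .gen 3730 (161, false)),
    (1490, .gen 3730 (164, true)),
    (2473, .gen 3730 (170, true)),
    (1674, .gen 2237 (170, false)),
    (898, .gen 2255 (163, false)),
    (3031, .gen 2255 (170, false)),
    (2090, .gen 2255 (170, true)),
    (54, .gen 2016 (161, false)),
    (1010, .gen 3072 (163, false)),
    (308, .gen 588 (170, false)),
    (2229, .gen 588 (170, true)),
    (3719, .gen 3393 (161, false)),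
    (2894, .gen 3393 (162, false)),
    (3457, .gen 3393 (164, false)),
    (3502, .gen 3393 (164, true)),
    (1537, .gen 3393 (170, false)),
    (2736, .gen 3590 (163, false)),
    (818, .gen 3590 (164, false)),
    (55, .gen 3590 (170, true)),
    (3011, .gen 2040 (163, false)),
    (1890, .gen 3713 (163, false)),
    (1934, .gen 3713 (164, true)),
    (1942, .gen 3536 (162, false)),
    (2922, .gen 3536 (164, true)),
    (650, .gen 2038 (163, false)),
    (852, .gen 2038 (164, false)),
    (1914, .gen 2168 (164, false)),
    (2124, .gen 2168 (170, false)),
    (1018, .gen 2168 (170, true)),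
    (2510, .gen 1281 (163, false)),
    (1733, .gen 1281 (170, false)),
    (1340, .gen 869 (161, false)),
    (438, .gen 869 (162, false)),
    (3594, .gen 869 (163, false)),
    (792, .gen 869 (164, false)),
    (530, .gen 869 (164, true)),
    (3263, .gen 869 (170, false)),
    (1273, .gen 1471 (161, false)),
    (908, .gen 1471 (164, false)),
    (1167, .gen 1471 (164, true)),
    (2411, .gen 3432 (161, false)),
    (1741, .gen 3432 (162, false)),
    (1088, .gen 3432 (170, true)),
    (3190, .gen 1857 (163, false)),
    (2190, .gen 210 (162, false)),
    (1915, .gen 210 (163, false)),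
    (1563, .gen 210 (164, false)),
    (2917, .gen 210 (170, false)),
    (3571, .gen 2451 (161, false)),
    (2911, .gen 2451 (162, false)),
    (3711, .gen 2451 (164, false)),
    (2208, .gen 2451 (170, false)),
    (232, .gen 2451 (170, true)),
    (1947, .gen 2806 (163, false)),
    (922, .gen 2806 (170, false)),
    (814, .gen 2892 (163, false)),
    (1169, .gen 2892 (164, false)),
    (2707, .gen 340 (164, false)),
    (566, .gen 340 (170, false)),
    (2, .gen 340 (170, true)),
    (69, .gen 3389 (162, false)),
    (188, .gen 3389 (164, false)),
    (546, .gen 3389 (170, true)),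
    (1871, .gen 1435 (164, false)),
    (1724, .gen 1435 (170, false)),
    (405, .gen 3355 (163, false)),
    (3419, .gen 3355 (170, true)),
    (3581, .gen 1245 (161, false)),
    (3497, .gen 1245 (163, false)),
    (1821, .gen 1245 (164, true)),
    (88, .gen 2753 (164, false)),
    (3709, .gen 1854 (161, false)),
    (2812, .gen 1854 (162, false)),
    (3441, .gen 1854 (164, false)),
    (1568, .gen 1854 (164, true)),
    (2194, .gen 754 (170, false)),
    (1198, .gen 754 (170, true)),
    (810, .gen 2704 (163, false)),
    (1844, .gen 2704 (164, true)),
    (57, .gen 2399 (163, false)),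
    (808, .gen 2399 (164, false)),
    (902, .gen 2398 (170, false)),
    (2878, .gen 2398 (170, true)),
    (2971, .gen 3179 (161, false)),
    (1485, .gen 3179 (162, false)),
    (462, .gen 1980 (162, false)),
    (3504, .gen 1980 (163, false)),
    (3505, .gen 1980 (164, false)),
    (1276, .gen 2555 (162, false)),
    (1171, .gen 2555 (164, false)),
    (2601, .gen 2778 (164, true)),
    (391, .gen 2778 (170, true)),
    (2572, .gen 407 (164, false)),
    (397, .gen 1667 (163, false)),
    (1697, .gen 2509 (162, false)),
    (3385, .gen 2509 (164, false)),
    (2026, .gen 2509 (164, true)),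
    (2308, .gen 1103 (164, true)),
    (2041, .gen 1103 (170, true))]

/-- Visits. -/
def v12_10 : List (ℕ × Src) :=
  [(1025, .gen 2669 (163, false)),
    (3091, .gen 2669 (164, false)),
    (2318, .gen 1644 (161, false)),
    (1632, .gen 1644 (162, false)),
    (3001, .gen 1644 (164, false)),
    (25, .gen 1644 (164, true)),
    (1901, .gen 2033 (164, false)),
    (1851, .gen 2001 (161, false)),
    (387, .gen 2001 (162, false)),
    (605, .gen 2001 (164, false)),
    (1939, .gen 2223 (164, false)),
    (3276, .gen 2727 (164, false)),
    (1142, .gen 224 (170, false)),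
    (2709, .gen 683 (164, true)),
    (3358, .gen 677 (170, false)),
    (2296, .gen 677 (170, true)),
    (1981, .gen 1224 (164, true)),
    (3767, .gen 1224 (170, false)),
    (1387, .gen 222 (164, true)),
    (20, .gen 150 (163, false)),
    (166, .gen 1506 (162, false)),
    (1884, .gen 2330 (161, false)),
    (3548, .gen 2330 (170, true)),
    (2817, .gen 1452 (161, false)),
    (1349, .gen 1452 (162, false)),
    (2591, .gen 1452 (164, false)),
    (749, .gen 3511 (170, false)),
    (1191, .gen 3474 (163, false)),
    (3341, .gen 3474 (164, true)),
    (3763, .gen 2888 (161, false)),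
    (327, .gen 2686 (164, false)),
    (2462, .gen 3182 (170, true)),
    (2581, .gen 2852 (162, false)),
    (1252, .gen 2852 (164, false)),
    (2986, .gen 3214 (170, true)),
    (2673, .gen 293 (161, false)),
    (3698, .gen 293 (162, false)),
    (1463, .gen 293 (164, false)),
    (285, .gen 293 (164, true)),
    (2796, .gen 2887 (163, false)),
    (1195, .gen 1990 (162, false)),
    (160, .gen 1990 (163, false)),
    (49, .gen 1046 (170, false)),
    (1598, .gen 386 (161, false)),
    (850, .gen 386 (162, false)),
    (2537, .gen 386 (164, true)),
    (260, .gen 1909 (162, false)),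
    (2618, .gen 985 (170, false)),
    (1431, .gen 2530 (170, true)),
    (384, .gen 1071 (162, false)),
    (772, .gen 1071 (163, false)),
    (2847, .gen 1071 (164, false)),
    (3751, .gen 535 (163, false)),
    (245, .gen 447 (164, false)),
    (3191, .gen 2754 (161, false)),
    (2058, .gen 2754 (162, false)),
    (1837, .gen 3379 (161, false)),
    (1916, .gen 3379 (162, false)),
    (2667, .gen 3379 (164, true)),
    (3717, .gen 3379 (170, false)),
    (2436, .gen 2211 (162, false)),
    (1569, .gen 2211 (163, false)),
    (2497, .gen 2211 (164, true)),
    (2207, .gen 10 (170, true)),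
    (3025, .gen 3773 (163, false)),
    (1660, .gen 2414 (162, false)),
    (3740, .gen 2414 (163, false)),
    (1247, .gen 2414 (164, false)),
    (1860, .gen 1962 (164, true)),
    (3185, .gen 1962 (170, false)),
    (1669, .gen 3307 (170, true)),
    (2566, .gen 1564 (163, false)),
    (2815, .gen 467 (162, false)),
    (2715, .gen 467 (164, true)),
    (2742, .gen 467 (170, false)),
    (3194, .gen 2965 (163, false)),
    (2259, .gen 2965 (170, false)),
    (3059, .gen 8 (163, false)),
    (3293, .gen 2353 (164, false)),
    (3576, .gen 1185 (170, false)),
    (1284, .gen 1185 (170, true)),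
    (2584, .gen 1856 (164, false)),
    (1788, .gen 1856 (170, false)),
    (2216, .gen 1218 (170, true)),
    (2206, .gen 2577 (163, false)),
    (548, .gen 2577 (164, true)),
    (2873, .gen 503 (163, false)),
    (1120, .gen 2711 (170, true)),
    (53, .gen 1441 (161, false)),
    (1612, .gen 1441 (170, true)),
    (3040, .gen 2346 (163, false)),
    (2136, .gen 2268 (163, false)),
    (2940, .gen 862 (170, true)),
    (708, .gen 904 (164, true)),
    (2671, .gen 2725 (170, true)),
    (2276, .gen 3330 (163, false)),
    (448, .gen 3330 (164, true)),
    (3674, .gen 3330 (170, false)),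
    (400, .gen 3700 (170, false)),
    (678, .gen 3700 (170, true)),
    (3156, .gen 3135 (163, false)),
    (1248, .gen 191 (163, false)),
    (2818, .gen 95 (164, false)),
    (2314, .gen 118 (164, true)),
    (3026, .gen 1047 (161, false)),
    (2637, .gen 1617 (163, false)),
    (3283, .gen 607 (170, false)),
    (1826, .gen 607 (170, true)),
    (3304, .gen 1334 (163, false)),
    (3750, .gen 1334 (170, false)),
    (582, .gen 316 (163, false)),
    (193, .gen 316 (164, false)),
    (2401, .gen 1687 (164, true)),
    (920, .gen 2133 (163, false)),
    (3514, .gen 2133 (170, false)),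
    (1525, .gen 2133 (170, true)),
    (1321, .gen 956 (170, false)),
    (1870, .gen 895 (164, true)),
    (3771, .gen 2325 (162, false)),
    (1785, .gen 75 (170, true)),
    (1173, .gen 1544 (170, false)),
    (433, .gen 2370 (163, false)),
    (3243, .gen 1571 (170, false)),
    (3251, .gen 2992 (170, false)),
    (3421, .gen 3402 (163, false)),
    (314, .gen 1527 (163, false)),
    (1619, .gen 1786 (170, false)),
    (168, .gen 31 (170, true)),
    (1348, .gen 1888 (163, false)),
    (469, .gen 1691 (164, false)),
    (3676, .gen 1691 (164, true)),
    (3539, .gen 3707 (161, false)),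
    (2369, .gen 499 (170, true)),
    (3734, .gen 2999 (170, true)),
    (109, .gen 3440 (163, false)),
    (2103, .gen 806 (161, false)),
    (1050, .gen 1908 (162, false)),
    (3367, .gen 1908 (164, false)),
    (3405, .gen 1908 (164, true)),
    (2809, .gen 2297 (163, false)),
    (780, .gen 472 (163, false)),
    (1775, .gen 3690 (163, false)),
    (1460, .gen 3690 (170, false)),
    (2233, .gen 2479 (161, false)),
    (77, .gen 2479 (162, false)),
    (1414, .gen 3195 (161, false)),
    (3437, .gen 2105 (164, false)),
    (1950, .gen 2037 (161, false)),
    (642, .gen 2037 (164, false)),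
    (819, .gen 3360 (164, false)),
    (901, .gen 3360 (164, true)),
    (3223, .gen 3445 (164, false)),
    (3208, .gen 3445 (164, true)),
    (694, .gen 2113 (170, false)),
    (2502, .gen 1478 (170, true)),
    (1278, .gen 2536 (170, false)),
    (3112, .gen 2981 (162, false)),
    (2219, .gen 2483 (162, false)),
    (2759, .gen 2483 (164, false)),
    (2632, .gen 3377 (161, false)),
    (521, .gen 1123 (162, false)),
    (1742, .gen 1123 (164, false)),
    (3525, .gen 3120 (170, false)),
    (1374, .gen 596 (170, true)),
    (544, .gen 2344 (163, false)),
    (2123, .gen 2063 (162, false)),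
    (2377, .gen 2027 (163, false)),
    (1664, .gen 2027 (170, true)),
    (2991, .gen 765 (170, true)),
    (394, .gen 1153 (162, false)),
    (240, .gen 1419 (170, true)),
    (2202, .gen 1388 (170, false)),
    (2968, .gen 1251 (164, false)),
    (3570, .gen 1251 (164, true)),
    (2909, .gen 795 (170, true)),
    (1829, .gen 1483 (163, false)),
    (1288, .gen 2542 (163, false)),
    (740, .gen 111 (170, true)),
    (380, .gen 2910 (170, false)),
    (2963, .gen 1426 (164, false)),
    (3005, .gen 2302 (170, false)),
    (2958, .gen 1132 (164, false)),
    (1377, .gen 1773 (161, false)),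
    (352, .gen 1773 (162, false)),
    (2209, .gen 1773 (164, false)),
    (2781, .gen 1773 (164, true)),
    (231, .gen 2453 (164, true)),
    (3058, .gen 1445 (164, true)),
    (3732, .gen 3495 (164, true)),
    (679, .gen 2145 (170, true)),
    (2898, .gen 3014 (161, false)),
    (2159, .gen 1139 (161, false)),
    (382, .gen 1139 (164, false)),
    (2469, .gen 2215 (170, true)),
    (1112, .gen 668 (170, false)),
    (3769, .gen 2260 (164, false)),
    (2688, .gen 2260 (164, true)),
    (2006, .gen 1710 (163, false)),
    (3225, .gen 1231 (170, true)),
    (1624, .gen 3036 (164, false)),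
    (2826, .gen 897 (170, false)),
    (296, .gen 1902 (170, false)),
    (2593, .gen 2098 (170, true)),
    (2582, .gen 1060 (164, true)),
    (2822, .gen 3228 (164, false)),
    (1211, .gen 585 (163, false)),
    (2526, .gen 2112 (162, false)),
    (1364, .gen 1027 (162, false)),
    (3196, .gen 1614 (163, false)),
    (3289, .gen 1055 (161, false)),
    (3397, .gen 2640 (164, true)),
    (3580, .gen 107 (164, true)),
    (889, .gen 3284 (163, false)),
    (3469, .gen 1210 (164, false)),
    (3542, .gen 1137 (163, false)),
    (2682, .gen 85 (170, false)),
    (1952, .gen 288 (164, false)),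
    (3724, .gen 1948 (164, false)),
    (1094, .gen 2365 (170, true)),
    (3047, .gen 313 (164, false)),
    (2656, .gen 2820 (164, false)),
    (1418, .gen 2820 (164, true)),
    (1258, .gen 2820 (170, false)),
    (1367, .gen 251 (163, false)),
    (1903, .gen 251 (170, false)),
    (731, .gen 251 (170, true)),
    (2770, .gen 2994 (163, false)),
    (2967, .gen 2994 (164, false)),
    (1324, .gen 936 (170, true)),
    (3161, .gen 3651 (164, false)),
    (3641, .gen 476 (170, true)),
    (3218, .gen 3551 (164, true)),
    (113, .gen 3551 (170, false)),
    (1200, .gen 2595 (170, false)),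
    (349, .gen 1168 (163, false)),
    (2227, .gen 3376 (161, false)),
    (3103, .gen 3376 (162, false)),
    (2228, .gen 3376 (164, false)),
    (41, .gen 914 (161, false)),
    (3023, .gen 914 (162, false)),
    (1534, .gen 2380 (163, false)),
    (3022, .gen 2380 (164, true)),
    (1797, .gen 2380 (170, false)),
    (875, .gen 495 (162, false)),
    (1175, .gen 495 (170, true)),
    (3682, .gen 1287 (164, false)),
    (2551, .gen 2012 (170, true)),
    (493, .gen 1989 (164, false)),
    (21, .gen 1989 (170, false)),
    (1832, .gen 2004 (164, false)),
    (1101, .gen 2386 (163, false)),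
    (896, .gen 2386 (164, true)),
    (2544, .gen 3082 (170, true)),
    (2082, .gen 3294 (164, false)),
    (2455, .gen 3294 (170, true)),
    (942, .gen 2162 (163, false)),
    (2751, .gen 3363 (163, false)),
    (2177, .gen 1383 (170, true)),
    (3272, .gen 1395 (170, true)),
    (2786, .gen 2299 (163, false)),
    (2553, .gen 2417 (164, false)),
    (646, .gen 2417 (164, true)),
    (2015, .gen 2417 (170, true)),
    (2679, .gen 903 (163, false)),
    (3132, .gen 903 (170, false)),
    (1560, .gen 903 (170, true)),
    (2210, .gen 1134 (170, false)),
    (1701, .gen 1974 (161, false)),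
    (953, .gen 1974 (162, false)),
    (417, .gen 1974 (164, false)),
    (1869, .gen 1974 (164, true)),
    (771, .gen 2693 (170, false)),
    (3073, .gen 3735 (161, false)),
    (2945, .gen 3606 (163, false)),
    (3565, .gen 783 (170, false)),
    (939, .gen 385 (161, false)),
    (1275, .gen 385 (164, false)),
    (2743, .gen 1439 (162, false)),
    (1573, .gen 1439 (170, false)),
    (2575, .gen 2610 (163, false)),
    (3638, .gen 3681 (170, true)),
    (1708, .gen 1484 (163, false)),
    (752, .gen 1484 (170, false)),
    (1615, .gen 1484 (170, true)),
    (545, .gen 2125 (170, true)),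
    (2851, .gen 2014 (162, false)),
    (2814, .gen 2833 (161, false)),
    (2388, .gen 2833 (162, false)),
    (28, .gen 3534 (170, false)),
    (2862, .gen 1339 (170, true)),
    (816, .gen 2336 (170, true)),
    (930, .gen 134 (170, false)),
    (2512, .gen 3037 (170, true)),
    (1524, .gen 1114 (164, false)),
    (2644, .gen 1114 (164, true)),
    (1043, .gen 2567 (161, false)),
    (2070, .gen 2567 (164, true)),
    (2432, .gen 2937 (161, false)),
    (3129, .gen 2841 (163, false)),
    (3242, .gen 3380 (163, false))]

/-- Visits. -/
def v12_11 : List (ℕ × Src) :=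
  [(3259, .gen 3264 (170, false)),
    (3598, .gen 3229 (162, false)),
    (2946, .gen 3229 (164, false)),
    (3288, .gen 3229 (164, true)),
    (1530, .gen 1553 (162, false)),
    (2115, .gen 104 (163, false)),
    (1013, .gen 326 (170, false)),
    (3267, .gen 326 (170, true)),
    (1255, .gen 1165 (170, true)),
    (2188, .gen 757 (161, false)),
    (348, .gen 1229 (164, false)),
    (2019, .gen 361 (162, false)),
    (3126, .gen 2789 (170, true)),
    (3110, .gen 2418 (164, true)),
    (1968, .gen 2418 (170, false)),
    (324, .gen 1379 (164, false)),
    (2341, .gen 258 (163, false)),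
    (1803, .gen 3353 (164, false)),
    (540, .gen 3353 (170, false)),
    (1205, .gen 3313 (164, false)),
    (690, .gen 273 (163, false)),
    (3238, .gen 3286 (162, false)),
    (2074, .gen 3785 (162, false)),
    (3343, .gen 164 (170, true)),
    (1645, .gen 2881 (170, true)),
    (1639, .gen 108 (164, false)),
    (3678, .gen 1899 (170, false)),
    (841, .gen 219 (170, false)),
    (1582, .gen 1127 (164, true)),
    (3755, .gen 2541 (170, true)),
    (3610, .gen 1586 (164, true)),
    (2562, .gen 1509 (162, false)),
    (2351, .gen 1476 (164, true)),
    (3665, .gen 989 (170, false)),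
    (909, .gen 1323 (170, true)),
    (1366, .gen 357 (170, false)),
    (762, .gen 3350 (162, false)),
    (3115, .gen 3350 (164, false)),
    (3167, .gen 3350 (164, true)),
    (2995, .gen 3350 (170, true)),
    (3577, .gen 3311 (163, false)),
    (263, .gen 2657 (163, false)),
    (2938, .gen 3400 (163, false)),
    (1652, .gen 3400 (170, false)),
    (259, .gen 1080 (161, false)),
    (373, .gen 1080 (162, false)),
    (1654, .gen 3430 (163, false)),
    (1206, .gen 3430 (164, true)),
    (2391, .gen 3744 (161, false)),
    (1318, .gen 126 (164, false)),
    (328, .gen 126 (170, false)),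
    (2132, .gen 1796 (163, false)),
    (2408, .gen 1796 (164, false)),
    (3180, .gen 443 (170, true)),
    (3710, .gen 3745 (161, false)),
    (1425, .gen 3745 (164, false)),
    (1566, .gen 1657 (164, false)),
    (1659, .gen 1657 (164, true)),
    (3003, .gen 3177 (164, false)),
    (45, .gen 3177 (164, true)),
    (2245, .gen 3177 (170, false)),
    (428, .gen 2141 (163, false)),
    (36, .gen 2976 (163, false)),
    (2825, .gen 2976 (170, false)),
    (2272, .gen 2976 (170, true)),
    (893, .gen 2615 (163, false)),
    (3240, .gen 2615 (164, false)),
    (474, .gen 1706 (163, false)),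
    (323, .gen 1706 (170, true)),
    (3486, .gen 3535 (164, false)),
    (2891, .gen 3535 (164, true)),
    (3754, .gen 1715 (170, false)),
    (2293, .gen 322 (170, true)),
    (533, .gen 946 (164, false)),
    (3775, .gen 946 (164, true)),
    (2013, .gen 946 (170, false)),
    (3547, .gen 1575 (161, false)),
    (776, .gen 1575 (170, false)),
    (2458, .gen 3636 (163, false)),
    (1688, .gen 786 (162, false)),
    (2746, .gen 786 (163, false)),
    (1513, .gen 3157 (161, false)),
    (3634, .gen 3157 (162, false)),
    (2053, .gen 3157 (164, false)),
    (2167, .gen 3157 (164, true)),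
    (1813, .gen 3157 (170, true)),
    (2241, .gen 3655 (161, false)),
    (3386, .gen 3655 (170, true)),
    (1750, .gen 1162 (161, false)),
    (1033, .gen 1162 (162, false)),
    (3563, .gen 1162 (164, false)),
    (1089, .gen 1924 (170, false)),
    (1292, .gen 1783 (163, false)),
    (3247, .gen 1783 (164, true)),
    (2283, .gen 1783 (170, false)),
    (522, .gen 2678 (162, false)),
    (2161, .gen 2678 (164, false)),
    (3274, .gen 2678 (164, true)),
    (2088, .gen 2678 (170, true)),
    (3498, .gen 317 (164, false)),
    (3749, .gen 262 (170, true)),
    (3527, .gen 2461 (163, false)),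
    (606, .gen 2461 (164, false)),
    (1035, .gen 2461 (164, true)),
    (3054, .gen 2840 (164, false)),
    (1402, .gen 2840 (170, false)),
    (884, .gen 1928 (164, false)),
    (1403, .gen 2464 (163, false)),
    (998, .gen 2464 (170, false)),
    (3173, .gen 2624 (162, false)),
    (2561, .gen 2624 (163, false)),
    (790, .gen 1623 (162, false)),
    (2689, .gen 1623 (163, false)),
    (3426, .gen 3448 (163, false)),
    (524, .gen 3448 (164, true)),
    (1596, .gen 733 (163, false)),
    (696, .gen 733 (164, false)),
    (2811, .gen 733 (164, true)),
    (3324, .gen 3269 (163, false)),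
    (2522, .gen 3550 (164, false)),
    (2267, .gen 3550 (170, true)),
    (631, .gen 1519 (170, true)),
    (3604, .gen 2861 (164, false)),
    (2434, .gen 2849 (163, false)),
    (1540, .gen 1184 (163, false)),
    (1091, .gen 1184 (164, false)),
    (976, .gen 958 (164, true)),
    (1601, .gen 958 (170, false)),
    (3131, .gen 661 (162, false)),
    (2824, .gen 661 (163, false)),
    (579, .gen 661 (164, true)),
    (3630, .gen 661 (170, true)),
    (1338, .gen 1024 (170, true)),
    (2443, .gen 1502 (162, false)),
    (1351, .gen 1502 (163, false)),
    (3584, .gen 3699 (163, false)),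
    (857, .gen 3699 (164, false)),
    (797, .gen 2950 (164, false)),
    (3429, .gen 2950 (164, true)),
    (2305, .gen 2950 (170, true)),
    (1577, .gen 3144 (164, false)),
    (1099, .gen 3144 (170, true)),
    (200, .gen 2988 (164, false)),
    (227, .gen 3080 (163, false)),
    (196, .gen 177 (162, false)),
    (628, .gen 177 (163, false)),
    (99, .gen 2048 (170, false)),
    (439, .gen 3787 (163, false)),
    (6, .gen 2680 (163, false)),
    (2413, .gen 2680 (164, true)),
    (3791, .gen 34 (162, false)),
    (451, .gen 34 (164, true)),
    (271, .gen 34 (170, false)),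
    (2428, .gen 34 (170, true)),
    (1906, .gen 1641 (170, false)),
    (2690, .gen 1641 (170, true)),
    (3202, .gen 1588 (170, true)),
    (3252, .gen 1113 (163, false)),
    (2477, .gen 1113 (170, false)),
    (3552, .gen 1183 (164, false)),
    (1176, .gen 1183 (164, true)),
    (2972, .gen 1183 (170, true)),
    (827, .gen 289 (170, true)),
    (3099, .gen 3442 (163, false)),
    (2785, .gen 3442 (170, false)),
    (1017, .gen 3442 (170, true)),
    (2491, .gen 265 (170, false)),
    (652, .gen 1225 (163, false)),
    (457, .gen 1225 (170, false)),
    (537, .gen 2300 (161, false)),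
    (1319, .gen 2300 (162, false)),
    (2360, .gen 2300 (164, false)),
    (2508, .gen 2300 (164, true)),
    (2953, .gen 2955 (170, false)),
    (2217, .gen 2827 (170, false)),
    (1945, .gen 2827 (170, true)),
    (867, .gen 179 (170, false)),
    (2585, .gen 879 (163, false)),
    (3434, .gen 1531 (161, false)),
    (586, .gen 1531 (164, false)),
    (3362, .gen 1531 (170, false)),
    (659, .gen 3016 (162, false)),
    (3766, .gen 3016 (163, false)),
    (3297, .gen 3016 (164, true)),
    (2586, .gen 536 (163, false)),
    (805, .gen 2484 (170, false)),
    (1714, .gen 2835 (163, false)),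
    (1286, .gen 1961 (161, false)),
    (1769, .gen 0 (170, false)),
    (1863, .gen 90 (163, false)),
    (3616, .gen 90 (170, false)),
    (1294, .gen 125 (161, false)),
    (2503, .gen 125 (164, false)),
    (256, .gen 3669 (162, false)),
    (3186, .gen 3669 (164, true)),
    (2397, .gen 3669 (170, false)),
    (2181, .gen 3669 (170, true)),
    (1355, .gen 1272 (170, false)),
    (2700, .gen 1272 (170, true)),
    (2539, .gen 2389 (163, false)),
    (1897, .gen 3629 (161, false)),
    (1331, .gen 3629 (170, true)),
    (2457, .gen 657 (163, false)),
    (3684, .gen 657 (170, false)),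
    (645, .gen 2511 (170, false)),
    (1628, .gen 2511 (170, true)),
    (2523, .gen 2560 (164, false)),
    (801, .gen 1447 (163, false)),
    (1464, .gen 1447 (170, false)),
    (525, .gen 1447 (170, true)),
    (3333, .gen 3439 (164, false)),
    (726, .gen 359 (170, true)),
    (2149, .gen 3597 (164, false)),
    (3066, .gen 3597 (164, true)),
    (1161, .gen 2343 (170, false)),
    (3118, .gen 3714 (170, true)),
    (1875, .gen 2131 (164, false)),
    (144, .gen 2131 (170, true)),
    (1151, .gen 374 (161, false)),
    (1597, .gen 374 (170, false)),
    (2723, .gen 774 (163, false)),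
    (1808, .gen 3316 (161, false)),
    (2309, .gen 3316 (162, false)),
    (1448, .gen 3316 (164, true)),
    (2266, .gen 519 (161, false)),
    (2212, .gen 519 (170, true)),
    (1792, .gen 2032 (161, false)),
    (2460, .gen 2032 (162, false)),
    (247, .gen 2032 (164, false)),
    (3603, .gen 2032 (164, true)),
    (3296, .gen 1336 (162, false)),
    (3140, .gen 1336 (163, false)),
    (837, .gen 3369 (170, false)),
    (2064, .gen 418 (164, true)),
    (551, .gen 418 (170, true)),
    (135, .gen 3205 (163, false)),
    (2085, .gen 3205 (164, false)),
    (1504, .gen 2653 (164, true)),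
    (1815, .gen 2280 (164, false)),
    (1253, .gen 2280 (170, true)),
    (1778, .gen 787 (164, false)),
    (2393, .gen 787 (170, false)),
    (1041, .gen 2519 (164, false)),
    (478, .gen 2519 (170, false)),
    (2768, .gen 3609 (170, true)),
    (1457, .gen 3335 (164, false)),
    (269, .gen 3335 (164, true)),
    (3081, .gen 2944 (162, false)),
    (2193, .gen 2505 (163, false)),
    (718, .gen 3235 (170, true)),
    (842, .gen 732 (164, true)),
    (3076, .gen 2376 (164, false)),
    (1121, .gen 2406 (170, true)),
    (2231, .gen 2061 (164, false)),
    (3154, .gen 2061 (164, true)),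
    (1633, .gen 3784 (163, false)),
    (2275, .gen 3784 (170, true)),
    (2109, .gen 468 (161, false)),
    (1561, .gen 468 (164, true)),
    (283, .gen 172 (170, true)),
    (2740, .gen 3261 (161, false)),
    (421, .gen 3261 (164, false)),
    (829, .gen 3261 (170, true)),
    (1309, .gen 1202 (163, false)),
    (58, .gen 3687 (170, false)),
    (3034, .gen 3687 (170, true)),
    (204, .gen 1090 (170, false)),
    (2320, .gen 1006 (170, false)),
    (782, .gen 804 (163, false)),
    (848, .gen 1559 (170, false)),
    (539, .gen 1389 (170, false)),
    (2590, .gen 1001 (163, false)),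
    (2118, .gen 1732 (170, false)),
    (1178, .gen 2996 (170, false)),
    (1510, .gen 17 (163, false)),
    (947, .gen 17 (170, true)),
    (2138, .gen 514 (162, false)),
    (1008, .gen 514 (164, false)),
    (2362, .gen 514 (164, true)),
    (2263, .gen 1266 (162, false)),
    (667, .gen 1266 (164, true)),
    (1543, .gen 1337 (170, false)),
    (19, .gen 3471 (163, false)),
    (1536, .gen 1479 (163, false)),
    (26, .gen 825 (170, true)),
    (1978, .gen 378 (163, false)),
    (1740, .gen 11 (164, false)),
    (261, .gen 195 (164, true)),
    (2973, .gen 3189 (161, false)),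
    (3098, .gen 3318 (163, false)),
    (773, .gen 1593 (170, false)),
    (3701, .gen 1593 (170, true)),
    (402, .gen 182 (163, false)),
    (3664, .gen 182 (170, false)),
    (3543, .gen 3575 (163, false)),
    (3383, .gen 3575 (164, false)),
    (1076, .gen 3575 (170, true)),
    (103, .gen 3188 (170, false)),
    (3661, .gen 721 (164, true)),
    (3582, .gen 1557 (163, false))]

/-- Visits. -/
def v12_12 : List (ℕ × Src) :=
  [(2304, .gen 1557 (170, false)),
    (1918, .gen 1557 (170, true)),
    (1713, .gen 1491 (170, false)),
    (1755, .gen 2092 (170, false)),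
    (2354, .gen 1233 (163, false)),
    (2073, .gen 2655 (161, false)),
    (1409, .gen 2655 (164, true)),
    (2438, .gen 1738 (170, true)),
    (1640, .gen 1642 (170, false)),
    (270, .gen 1642 (170, true)),
    (784, .gen 3137 (164, false)),
    (1496, .gen 2242 (164, false)),
    (3503, .gen 2242 (164, true)),
    (1970, .gen 2646 (162, false)),
    (2134, .gen 2646 (163, false)),
    (76, .gen 2646 (164, true)),
    (880, .gen 1647 (164, false)),
    (1529, .gen 1647 (170, true)),
    (130, .gen 2668 (170, false)),
    (494, .gen 3675 (163, false)),
    (1606, .gen 725 (164, true)),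
    (1528, .gen 3231 (164, true)),
    (2226, .gen 3231 (170, false)),
    (1172, .gen 4 (163, false)),
    (1462, .gen 3346 (170, true)),
    (2890, .gen 101 (163, false)),
    (354, .gen 101 (164, false)),
    (2557, .gen 955 (161, false)),
    (2749, .gen 955 (162, false)),
    (934, .gen 3038 (163, false)),
    (2698, .gen 1434 (163, false)),
    (2172, .gen 214 (162, false)),
    (3572, .gen 214 (170, true)),
    (2804, .gen 502 (164, true)),
    (2146, .gen 502 (170, false)),
    (2447, .gen 2952 (163, false)),
    (2030, .gen 2952 (164, false)),
    (220, .gen 2952 (170, false)),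
    (689, .gen 3212 (164, false)),
    (3517, .gen 980 (170, false)),
    (747, .gen 1743 (162, false)),
    (3239, .gen 3382 (163, false)),
    (675, .gen 3382 (170, true)),
    (477, .gen 2831 (163, false)),
    (568, .gen 496 (162, false)),
    (169, .gen 329 (162, false)),
    (2284, .gen 329 (163, false)),
    (648, .gen 329 (164, true)),
    (737, .gen 3004 (170, true)),
    (1250, .gen 2183 (162, false)),
    (131, .gen 2310 (162, false)),
    (1704, .gen 2310 (170, false)),
    (2794, .gen 1723 (164, false)),
    (1882, .gen 3338 (170, true)),
    (371, .gen 890 (163, false)),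
    (2633, .gen 1684 (164, false)),
    (2435, .gen 1503 (170, true)),
    (1054, .gen 2748 (170, false)),
    (1637, .gen 2998 (170, false)),
    (3449, .gen 152 (164, true)),
    (2702, .gen 152 (170, true)),
    (1274, .gen 488 (170, true)),
    (3416, .gen 1328 (170, true)),
    (115, .gen 1954 (164, false)),
    (2863, .gen 1954 (164, true)),
    (3245, .gen 1135 (162, false)),
    (2692, .gen 3768 (161, false)),
    (2714, .gen 2954 (170, false)),
    (281, .gen 1312 (170, false)),
    (1636, .gen 2387 (170, false)),
    (3554, .gen 3021 (170, true)),
    (3428, .gen 2404 (170, false)),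
    (2521, .gen 1682 (170, false)),
    (617, .gen 1508 (170, true)),
    (688, .gen 3553 (170, false)),
    (1467, .gen 3344 (170, false)),
    (682, .gen 377 (163, false)),
    (3739, .gen 1702 (164, false)),
    (1, .gen 1702 (164, true)),
    (3102, .gen 2837 (164, true)),
    (2520, .gen 2712 (170, true)),
    (1498, .gen 2066 (164, true)),
    (1472, .gen 2324 (170, true)),
    (3141, .gen 1805 (170, false)),
    (3564, .gen 2732 (163, false)),
    (673, .gen 886 (163, false)),
    (389, .gen 2758 (170, false)),
    (3549, .gen 3493 (170, true)),
    (3067, .gen 957 (164, true)),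
    (3743, .gen 1676 (162, false)),
    (2643, .gen 2989 (164, false)),
    (42, .gen 2901 (164, true)),
    (1332, .gen 2901 (170, false)),
    (3533, .gen 1824 (170, true)),
    (649, .gen 3781 (162, false)),
    (2153, .gen 3781 (164, true)),
    (641, .gen 3761 (162, false)),
    (1565, .gen 3546 (163, false)),
    (2516, .gen 3546 (170, false)),
    (2829, .gen 2931 (163, false)),
    (1802, .gen 905 (170, false)),
    (87, .gen 2151 (170, true)),
    (376, .gen 3395 (162, false)),
    (9, .gen 3395 (164, false)),
    (630, .gen 2933 (170, true)),
    (3130, .gen 1852 (170, false)),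
    (2359, .gen 997 (161, false)),
    (3233, .gen 997 (164, false)),
    (2761, .gen 1751 (170, false)),
    (1458, .gen 3691 (164, false)),
    (2291, .gen 3691 (164, true)),
    (506, .gen 2948 (170, false)),
    (3793, .gen 2798 (164, true)),
    (2338, .gen 1946 (161, false)),
    (919, .gen 1946 (162, false)),
    (473, .gen 1643 (163, false)),
    (3119, .gen 1352 (164, false)),
    (1515, .gen 3203 (164, false)),
    (2261, .gen 3396 (164, false)),
    (3518, .gen 555 (170, false)),
    (830, .gen 910 (164, true)),
    (203, .gen 941 (164, true)),
    (2286, .gen 756 (170, false)),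
    (2548, .gen 971 (170, true)),
    (1494, .gen 1032 (170, true)),
    (2024, .gen 2099 (164, false)),
    (2424, .gen 1030 (170, false)),
    (2797, .gen 821 (164, false)),
    (1781, .gen 1635 (164, true)),
    (2697, .gen 1576 (162, false)),
    (2062, .gen 2830 (163, false)),
    (1930, .gen 226 (164, true)),
    (983, .gen 1082 (164, true)),
    (2792, .gen 840 (170, false)),
    (2182, .gen 1475 (163, false)),
    (1685, .gen 308 (164, false)),
    (149, .gen 2229 (161, false)),
    (3390, .gen 2894 (163, false)),
    (1488, .gen 3502 (170, false)),
    (2189, .gen 1942 (164, true)),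
    (3410, .gen 2922 (170, true)),
    (1964, .gen 650 (164, true)),
    (1625, .gen 1018 (162, false)),
    (2465, .gen 2510 (161, false)),
    (2285, .gen 2510 (170, true)),
    (2288, .gen 438 (170, false)),
    (2084, .gen 3594 (164, false)),
    (1087, .gen 792 (164, false)),
    (3018, .gen 1167 (163, false)),
    (2101, .gen 3711 (170, true)),
    (3459, .gen 922 (162, false)),
    (610, .gen 1169 (163, false)),
    (687, .gen 566 (163, false)),
    (157, .gen 405 (170, false)),
    (12, .gen 2812 (170, false)),
    (2993, .gen 808 (163, false)),
    (3588, .gen 3505 (163, false)),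
    (96, .gen 397 (164, false)),
    (3071, .gen 1697 (163, false)),
    (1392, .gen 2709 (170, false)),
    (3424, .gen 1387 (170, true)),
    (3465, .gen 1884 (170, true)),
    (2274, .gen 3548 (162, false)),
    (301, .gen 850 (163, false)),
    (66, .gen 1660 (163, false)),
    (987, .gen 3514 (170, false)),
    (3146, .gen 1534 (170, true)),
    (1512, .gen 3132 (170, false)),
    (56, .gen 3167 (163, false)),
    (508, .gen 263 (161, false)),
    (2977, .gen 2938 (161, false)),
    (59, .gen 1652 (161, false)),
    (2834, .gen 1652 (162, false)),
    (1622, .gen 2408 (170, false)),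
    (1493, .gen 1566 (163, false)),
    (2923, .gen 2293 (162, false)),
    (3084, .gen 2746 (170, true)),
    (1698, .gen 2241 (163, false)),
    (2645, .gen 1292 (170, true)),
    (613, .gen 2088 (164, false)),
    (1147, .gen 2088 (164, true)),
    (2319, .gen 1402 (164, true)),
    (1765, .gen 3173 (170, true)),
    (23, .gen 2811 (163, false)),
    (1760, .gen 1099 (162, false)),
    (789, .gen 1099 (164, false)),
    (2203, .gen 2785 (170, false)),
    (1267, .gen 586 (170, true)),
    (3200, .gen 3186 (170, false)),
    (1223, .gen 3118 (162, false)),
    (3117, .gen 3664 (163, false)),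
    (933, .gen 2304 (170, false)),
    (1764, .gen 2354 (170, false)),
    (3596, .gen 2226 (164, true)),
    (3041, .gen 2435 (164, false))]

/-- The visits of node 12. -/
def visits12 : List (ℕ × Src) :=
  v12_0 ++ v12_1 ++ v12_2 ++ v12_3 ++ v12_4 ++ v12_5 ++ v12_6 ++ v12_7 ++ v12_8 ++ v12_9 ++ v12_10 ++ v12_11 ++ v12_12

/-- Visits. -/
def v13_0 : List (ℕ × Src) :=
  [(163, .edge 175 true),
    (119, .edge 179 false),
    (315, .edge 180 false),
    (48, .edge 180 true),
    (2192, .edge 181 false),
    (2348, .edge 182 false),
    (344, .edge 183 false),
    (1965, .edge 184 false),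
    (276, .edge 184 true),
    (498, .edge 185 false),
    (1110, .edge 186 false),
    (3381, .edge 187 false),
    (263, .edge 189 true),
    (1157, .edge 190 true),
    (2009, .edge 191 false),
    (1450, .edge 192 false),
    (3650, .edge 193 false),
    (2818, .edge 193 true),
    (2321, .edge 194 false),
    (1236, .edge 194 true),
    (334, .edge 195 true),
    (360, .edge 196 false),
    (272, .edge 197 false),
    (2066, .edge 198 false),
    (1673, .edge 200 false),
    (307, .edge 243 true),
    (621, .edge 259 true),
    (8, .edge 286 true),
    (1310, .edge 306 false),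
    (2108, .edge 308 true),
    (3067, .edge 312 true),
    (37, .edge 349 false),
    (2560, .edge 353 true),
    (753, .edge 354 false),
    (1381, .edge 365 false),
    (619, .edge 371 false),
    (3391, .edge 372 true),
    (816, .edge 374 false),
    (2918, .edge 405 true),
    (190, .edge 412 false),
    (217, .edge 413 false),
    (2117, .edge 424 true),
    (1786, .edge 443 true),
    (1790, .edge 445 true),
    (294, .edge 457 true),
    (1571, .edge 613 true),
    (33, .edge 620 false),
    (3788, .edge 621 false),
    (3190, .edge 628 true),
    (423, .edge 633 false),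
    (161, .edge 638 true),
    (35, .edge 647 true),
    (1495, .edge 675 true),
    (722, .edge 685 true),
    (837, .edge 688 true),
    (1054, .edge 693 true),
    (1628, .edge 703 true),
    (1438, .edge 719 true),
    (2333, .edge 720 true),
    (1160, .edge 721 true),
    (189, .edge 739 true),
    (994, .edge 1094 true),
    (1098, .edge 1103 true),
    (61, .edge 1143 true),
    (3433, .edge 1183 true),
    (528, .edge 1227 true),
    (419, .edge 1297 true),
    (206, .edge 1455 true),
    (1575, .edge 1471 true),
    (743, .edge 1497 false),
    (132, .edge 1514 true),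
    (171, .edge 1519 true),
    (135, .edge 1520 true),
    (333, .edge 1526 true),
    (136, .edge 1530 true),
    (1944, .edge 1536 true),
    (221, .edge 1542 true),
    (700, .gen 163 (178, false)),
    (940, .gen 163 (178, true)),
    (1043, .gen 163 (188, false)),
    (1319, .gen 163 (188, true)),
    (2056, .gen 119 (188, true)),
    (238, .gen 315 (188, false)),
    (376, .gen 315 (188, true)),
    (58, .gen 48 (188, false)),
    (649, .gen 48 (188, true)),
    (368, .gen 2192 (177, false)),
    (26, .gen 2192 (178, false)),
    (3395, .gen 2192 (178, true)),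
    (1498, .gen 2192 (188, false)),
    (3576, .gen 2192 (188, true)),
    (1634, .gen 2348 (178, false)),
    (2856, .gen 2348 (178, true)),
    (168, .gen 2348 (188, false)),
    (2774, .gen 2348 (188, true)),
    (109, .gen 344 (178, false)),
    (1802, .gen 344 (188, false)),
    (2098, .gen 344 (188, true)),
    (2181, .gen 1965 (188, false)),
    (2597, .gen 1965 (188, true)),
    (1226, .gen 276 (188, false)),
    (1270, .gen 276 (188, true)),
    (910, .gen 498 (188, false)),
    (149, .gen 498 (188, true)),
    (2275, .gen 1110 (188, false)),
    (1918, .gen 1110 (188, true)),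
    (1412, .gen 263 (176, false)),
    (9, .gen 263 (177, false)),
    (1364, .gen 263 (177, true)),
    (584, .gen 263 (178, false)),
    (81, .gen 263 (188, false)),
    (817, .gen 263 (188, true)),
    (255, .gen 1157 (176, false)),
    (547, .gen 1157 (177, true)),
    (356, .gen 1157 (178, false)),
    (2737, .gen 1157 (188, false)),
    (556, .gen 2009 (176, false)),
    (2768, .gen 2009 (178, false)),
    (1779, .gen 2009 (178, true)),
    (3410, .gen 2009 (188, false)),
    (1012, .gen 2009 (188, true)),
    (3612, .gen 1450 (177, false)),
    (3486, .gen 1450 (178, false)),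
    (2285, .gen 1450 (188, false)),
    (3082, .gen 1450 (188, true)),
    (2901, .gen 3650 (178, false)),
    (2576, .gen 3650 (188, false)),
    (2251, .gen 3650 (188, true)),
    (3066, .gen 2818 (178, false)),
    (1272, .gen 2818 (188, false)),
    (2018, .gen 2818 (188, true)),
    (3602, .gen 2321 (177, true)),
    (1337, .gen 2321 (178, false)),
    (2146, .gen 2321 (178, true)),
    (1782, .gen 2321 (188, false)),
    (2025, .gen 2321 (188, true)),
    (3560, .gen 1236 (177, false)),
    (3180, .gen 1236 (178, false)),
    (1740, .gen 1236 (178, true)),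
    (515, .gen 1236 (188, false)),
    (2625, .gen 1236 (188, true)),
    (812, .gen 334 (176, false)),
    (2153, .gen 334 (188, false)),
    (1064, .gen 334 (188, true)),
    (1642, .gen 360 (178, false)),
    (936, .gen 360 (188, false)),
    (2632, .gen 360 (188, true)),
    (1081, .gen 272 (176, false)),
    (2182, .gen 272 (188, true)),
    (218, .gen 1673 (176, false)),
    (461, .gen 1673 (177, false)),
    (273, .gen 1673 (177, true)),
    (1915, .gen 1673 (188, false)),
    (391, .gen 1673 (188, true)),
    (3053, .gen 307 (176, false)),
    (199, .gen 307 (177, false)),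
    (1131, .gen 307 (177, true)),
    (580, .gen 307 (178, false)),
    (308, .gen 307 (178, true)),
    (1507, .gen 307 (188, false)),
    (2857, .gen 307 (188, true)),
    (215, .gen 621 (176, false)),
    (2605, .gen 621 (177, false)),
    (957, .gen 621 (178, false)),
    (1572, .gen 621 (178, true)),
    (2462, .gen 621 (188, false)),
    (1553, .gen 621 (188, true)),
    (85, .gen 8 (176, false)),
    (961, .gen 8 (177, false)),
    (904, .gen 8 (177, true)),
    (2614, .gen 8 (178, true)),
    (835, .gen 8 (188, false)),
    (2626, .gen 8 (188, true)),
    (2240, .gen 1310 (176, false)),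
    (470, .gen 1310 (177, false)),
    (310, .gen 1310 (178, false)),
    (1910, .gen 1310 (188, false)),
    (1525, .gen 1310 (188, true)),
    (2623, .gen 2108 (176, false)),
    (1244, .gen 2108 (177, false)),
    (872, .gen 2108 (177, true)),
    (895, .gen 2108 (178, false)),
    (265, .gen 2108 (188, false)),
    (1177, .gen 2108 (188, true)),
    (1211, .gen 3067 (176, false)),
    (3010, .gen 3067 (177, false)),
    (2735, .gen 3067 (177, true)),
    (2277, .gen 3067 (178, false)),
    (2669, .gen 3067 (178, true)),
    (1880, .gen 3067 (188, false)),
    (219, .gen 3067 (188, true)),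
    (3294, .gen 37 (176, false)),
    (969, .gen 37 (177, false)),
    (2779, .gen 37 (177, true)),
    (1686, .gen 37 (178, true)),
    (1127, .gen 37 (188, false)),
    (122, .gen 37 (188, true)),
    (2434, .gen 2560 (176, false)),
    (1422, .gen 2560 (177, false)),
    (386, .gen 2560 (177, true)),
    (3184, .gen 2560 (178, false)),
    (3476, .gen 2560 (178, true)),
    (2115, .gen 2560 (188, false)),
    (183, .gen 753 (176, false)),
    (1932, .gen 753 (177, false)),
    (692, .gen 753 (177, true)),
    (343, .gen 753 (178, false)),
    (3103, .gen 753 (178, true)),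
    (3673, .gen 753 (188, false)),
    (1016, .gen 753 (188, true)),
    (2467, .gen 1381 (176, false)),
    (844, .gen 1381 (177, false)),
    (2854, .gen 1381 (177, true)),
    (2999, .gen 1381 (178, false)),
    (632, .gen 1381 (178, true)),
    (3725, .gen 1381 (188, false)),
    (3225, .gen 1381 (188, true)),
    (1912, .gen 619 (176, false)),
    (2021, .gen 619 (177, false)),
    (3261, .gen 619 (177, true)),
    (976, .gen 619 (178, false)),
    (2937, .gen 619 (178, true)),
    (2919, .gen 619 (188, false)),
    (3166, .gen 619 (188, true)),
    (3458, .gen 3391 (176, false)),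
    (469, .gen 3391 (177, false)),
    (1413, .gen 3391 (177, true)),
    (1954, .gen 3391 (178, false)),
    (209, .gen 3391 (178, true)),
    (2387, .gen 3391 (188, false)),
    (3443, .gen 3391 (188, true)),
    (2583, .gen 816 (176, false)),
    (525, .gen 816 (177, false)),
    (1040, .gen 816 (177, true)),
    (3164, .gen 816 (178, true)),
    (3017, .gen 816 (188, false)),
    (1202, .gen 816 (188, true)),
    (1900, .gen 2918 (176, false)),
    (1034, .gen 2918 (177, false)),
    (1252, .gen 2918 (177, true)),
    (3492, .gen 2918 (178, false)),
    (2354, .gen 2918 (178, true)),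
    (2582, .gen 2918 (188, false)),
    (3759, .gen 2918 (188, true)),
    (2647, .gen 190 (176, false)),
    (1999, .gen 190 (177, false)),
    (3610, .gen 190 (177, true)),
    (2594, .gen 190 (188, false)),
    (3702, .gen 190 (188, true)),
    (3341, .gen 217 (176, false)),
    (2726, .gen 217 (177, false)),
    (197, .gen 217 (177, true)),
    (431, .gen 217 (178, false)),
    (713, .gen 217 (178, true)),
    (3422, .gen 217 (188, true)),
    (1170, .gen 2117 (177, false)),
    (2229, .gen 2117 (178, false)),
    (3781, .gen 2117 (178, true)),
    (311, .gen 2117 (188, false)),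
    (2709, .gen 2117 (188, true)),
    (1216, .gen 1786 (176, false)),
    (536, .gen 1786 (177, false)),
    (1547, .gen 1786 (177, true)),
    (2990, .gen 1786 (178, false)),
    (954, .gen 1786 (188, false)),
    (2719, .gen 1790 (176, false)),
    (2535, .gen 1790 (177, false)),
    (1299, .gen 1790 (177, true)),
    (19, .gen 1790 (178, false)),
    (300, .gen 1790 (178, true)),
    (3532, .gen 1790 (188, false)),
    (706, .gen 1790 (188, true)),
    (2454, .gen 294 (176, false)),
    (3047, .gen 294 (177, false)),
    (1140, .gen 294 (177, true)),
    (2761, .gen 294 (178, false)),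
    (1744, .gen 294 (178, true)),
    (921, .gen 294 (188, false)),
    (228, .gen 294 (188, true)),
    (1629, .gen 1571 (177, false)),
    (2363, .gen 1571 (177, true)),
    (2551, .gen 1571 (178, false)),
    (1791, .gen 1571 (178, true)),
    (1516, .gen 1571 (188, false)),
    (2519, .gen 1571 (188, true)),
    (3658, .gen 33 (176, false)),
    (127, .gen 33 (177, false)),
    (567, .gen 33 (177, true)),
    (2131, .gen 33 (178, false)),
    (579, .gen 33 (178, true)),
    (1009, .gen 33 (188, false)),
    (3318, .gen 33 (188, true)),
    (1220, .gen 3788 (176, false)),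
    (1169, .gen 3788 (177, false)),
    (157, .gen 3788 (177, true)),
    (1714, .gen 3788 (178, false)),
    (3514, .gen 3788 (178, true)),
    (787, .gen 3788 (188, false)),
    (3481, .gen 3788 (188, true)),
    (2600, .gen 3190 (176, false))]

/-- Visits. -/
def v13_1 : List (ℕ × Src) :=
  [(3592, .gen 3190 (177, false)),
    (3464, .gen 3190 (177, true)),
    (3041, .gen 3190 (178, false)),
    (3089, .gen 3190 (178, true)),
    (3228, .gen 3190 (188, false)),
    (3295, .gen 3190 (188, true)),
    (881, .gen 423 (176, false)),
    (808, .gen 423 (177, false)),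
    (285, .gen 423 (177, true)),
    (2545, .gen 423 (178, false)),
    (809, .gen 423 (178, true)),
    (3293, .gen 423 (188, false)),
    (3734, .gen 423 (188, true)),
    (3284, .gen 161 (176, false)),
    (1467, .gen 161 (177, false)),
    (3678, .gen 161 (177, true)),
    (773, .gen 161 (178, false)),
    (1789, .gen 161 (178, true)),
    (363, .gen 161 (188, false)),
    (121, .gen 161 (188, true)),
    (852, .gen 35 (176, false)),
    (444, .gen 35 (177, false)),
    (3052, .gen 35 (177, true)),
    (3073, .gen 35 (178, false)),
    (759, .gen 35 (188, false)),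
    (1879, .gen 35 (188, true)),
    (865, .gen 1495 (176, false)),
    (1611, .gen 1495 (177, false)),
    (170, .gen 1495 (177, true)),
    (810, .gen 1495 (178, false)),
    (1344, .gen 1495 (178, true)),
    (1948, .gen 1495 (188, false)),
    (2878, .gen 1495 (188, true)),
    (1056, .gen 722 (176, false)),
    (1621, .gen 722 (177, false)),
    (1475, .gen 722 (177, true)),
    (3757, .gen 722 (178, false)),
    (216, .gen 722 (178, true)),
    (577, .gen 722 (188, false)),
    (1689, .gen 722 (188, true)),
    (3115, .gen 837 (176, false)),
    (3308, .gen 837 (177, false)),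
    (703, .gen 837 (177, true)),
    (2808, .gen 837 (178, false)),
    (2249, .gen 837 (178, true)),
    (372, .gen 837 (188, false)),
    (2935, .gen 837 (188, true)),
    (3335, .gen 1054 (176, false)),
    (1179, .gen 1054 (177, false)),
    (480, .gen 1054 (177, true)),
    (633, .gen 1054 (178, false)),
    (2700, .gen 1054 (178, true)),
    (2345, .gen 1054 (188, false)),
    (1680, .gen 1054 (188, true)),
    (1099, .gen 1628 (176, false)),
    (2148, .gen 1628 (177, false)),
    (2106, .gen 1628 (177, true)),
    (1158, .gen 1628 (178, false)),
    (3515, .gen 1628 (178, true)),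
    (3605, .gen 1628 (188, false)),
    (1094, .gen 1628 (188, true)),
    (131, .gen 1438 (176, false)),
    (1806, .gen 1438 (177, false)),
    (1751, .gen 1438 (177, true)),
    (2183, .gen 1438 (178, false)),
    (670, .gen 1438 (178, true)),
    (79, .gen 1438 (188, false)),
    (375, .gen 1438 (188, true)),
    (2366, .gen 2333 (176, false)),
    (1209, .gen 2333 (177, false)),
    (2518, .gen 2333 (177, true)),
    (898, .gen 2333 (178, false)),
    (662, .gen 2333 (178, true)),
    (2763, .gen 2333 (188, false)),
    (1181, .gen 2333 (188, true)),
    (1378, .gen 1160 (176, false)),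
    (3076, .gen 1160 (177, false)),
    (3371, .gen 1160 (177, true)),
    (1603, .gen 1160 (178, false)),
    (3133, .gen 1160 (178, true)),
    (2390, .gen 1160 (188, true)),
    (734, .gen 189 (176, false)),
    (3360, .gen 189 (177, false)),
    (1283, .gen 189 (177, true)),
    (911, .gen 189 (178, false)),
    (2044, .gen 189 (178, true)),
    (2478, .gen 189 (188, true)),
    (591, .gen 994 (176, false)),
    (1687, .gen 994 (177, false)),
    (367, .gen 994 (177, true)),
    (2987, .gen 994 (178, false)),
    (2225, .gen 994 (178, true)),
    (1423, .gen 994 (188, false)),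
    (1913, .gen 994 (188, true)),
    (1120, .gen 1098 (176, false)),
    (3183, .gen 1098 (177, false)),
    (1729, .gen 1098 (177, true)),
    (2512, .gen 1098 (178, false)),
    (2469, .gen 1098 (178, true)),
    (984, .gen 1098 (188, false)),
    (3140, .gen 1098 (188, true)),
    (2925, .gen 61 (176, false)),
    (318, .gen 61 (177, false)),
    (1303, .gen 61 (177, true)),
    (2494, .gen 61 (178, false)),
    (1975, .gen 61 (178, true)),
    (1721, .gen 61 (188, false)),
    (2358, .gen 61 (188, true)),
    (1199, .gen 3433 (176, false)),
    (2681, .gen 3433 (177, false)),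
    (3688, .gen 3433 (177, true)),
    (2334, .gen 3433 (178, false)),
    (412, .gen 3433 (178, true)),
    (938, .gen 3433 (188, false)),
    (3773, .gen 3433 (188, true)),
    (933, .gen 528 (176, false)),
    (3064, .gen 528 (177, false)),
    (1554, .gen 528 (177, true)),
    (3220, .gen 528 (178, false)),
    (967, .gen 528 (178, true)),
    (2971, .gen 528 (188, false)),
    (3611, .gen 528 (188, true)),
    (529, .gen 419 (176, false)),
    (858, .gen 419 (177, false)),
    (2433, .gen 419 (177, true)),
    (1039, .gen 419 (178, false)),
    (468, .gen 419 (178, true)),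
    (1882, .gen 419 (188, false)),
    (3731, .gen 419 (188, true)),
    (3748, .gen 206 (176, false)),
    (55, .gen 206 (177, false)),
    (862, .gen 206 (177, true)),
    (1013, .gen 206 (178, false)),
    (2997, .gen 206 (178, true)),
    (152, .gen 206 (188, false)),
    (16, .gen 206 (188, true)),
    (3716, .gen 1575 (176, false)),
    (741, .gen 1575 (177, false)),
    (2570, .gen 1575 (177, true)),
    (2338, .gen 1575 (178, false)),
    (1978, .gen 1575 (178, true)),
    (742, .gen 1575 (188, false)),
    (47, .gen 1575 (188, true)),
    (2290, .gen 743 (176, false)),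
    (946, .gen 743 (177, false)),
    (2426, .gen 743 (177, true)),
    (552, .gen 743 (178, false)),
    (54, .gen 743 (178, true)),
    (1517, .gen 743 (188, false)),
    (1246, .gen 743 (188, true)),
    (618, .gen 132 (176, false)),
    (1638, .gen 132 (177, false)),
    (3102, .gen 132 (177, true)),
    (1257, .gen 132 (178, false)),
    (661, .gen 132 (178, true)),
    (564, .gen 132 (188, false)),
    (2828, .gen 132 (188, true)),
    (3769, .gen 171 (176, false)),
    (2412, .gen 171 (177, false)),
    (915, .gen 171 (177, true)),
    (3104, .gen 171 (178, false)),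
    (2629, .gen 171 (178, true)),
    (2666, .gen 171 (188, false)),
    (2152, .gen 171 (188, true)),
    (3245, .gen 135 (176, false)),
    (3418, .gen 135 (177, false)),
    (207, .gen 135 (177, true)),
    (1671, .gen 135 (178, false)),
    (2344, .gen 135 (178, true)),
    (2679, .gen 135 (188, false)),
    (3670, .gen 135 (188, true)),
    (2906, .gen 333 (176, false)),
    (2312, .gen 333 (177, false)),
    (3152, .gen 333 (177, true)),
    (3675, .gen 333 (178, false)),
    (2269, .gen 333 (178, true)),
    (1917, .gen 333 (188, false)),
    (3188, .gen 333 (188, true)),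
    (539, .gen 136 (176, false)),
    (2274, .gen 136 (177, false)),
    (2686, .gen 136 (177, true)),
    (2326, .gen 136 (178, false)),
    (1238, .gen 136 (178, true)),
    (2897, .gen 136 (188, false)),
    (2120, .gen 136 (188, true)),
    (2836, .gen 1944 (176, false)),
    (3139, .gen 1944 (177, false)),
    (3332, .gen 1944 (177, true)),
    (3735, .gen 1944 (178, false)),
    (174, .gen 1944 (178, true)),
    (805, .gen 1944 (188, false)),
    (280, .gen 1944 (188, true)),
    (855, .gen 221 (176, false)),
    (155, .gen 221 (177, false)),
    (3171, .gen 221 (177, true)),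
    (1784, .gen 221 (178, false)),
    (2236, .gen 221 (178, true)),
    (80, .gen 221 (188, false)),
    (714, .gen 221 (188, true)),
    (1967, .gen 700 (178, false)),
    (2109, .gen 700 (188, false)),
    (647, .gen 700 (188, true)),
    (22, .gen 940 (188, false)),
    (953, .gen 940 (188, true)),
    (1651, .gen 1043 (178, true)),
    (153, .gen 1319 (178, false)),
    (3106, .gen 368 (178, false)),
    (99, .gen 368 (178, true)),
    (2969, .gen 368 (188, false)),
    (3641, .gen 368 (188, true)),
    (2924, .gen 26 (178, false)),
    (2424, .gen 26 (188, false)),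
    (673, .gen 26 (188, true)),
    (2618, .gen 3395 (188, false)),
    (399, .gen 3395 (188, true)),
    (352, .gen 1498 (176, false)),
    (2628, .gen 1498 (178, true)),
    (2826, .gen 3576 (176, false)),
    (2911, .gen 3576 (178, false)),
    (1259, .gen 1634 (178, false)),
    (1785, .gen 1634 (188, false)),
    (1691, .gen 1634 (188, true)),
    (2429, .gen 2856 (188, false)),
    (581, .gen 2856 (188, true)),
    (735, .gen 168 (178, true)),
    (1314, .gen 2774 (178, false)),
    (2029, .gen 109 (188, false)),
    (214, .gen 109 (188, true)),
    (1213, .gen 1412 (177, false)),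
    (2125, .gen 1412 (177, true)),
    (2542, .gen 1412 (178, true)),
    (359, .gen 1412 (188, false)),
    (2430, .gen 1412 (188, true)),
    (879, .gen 9 (188, false)),
    (1891, .gen 9 (188, true)),
    (625, .gen 1364 (188, false)),
    (1860, .gen 1364 (188, true)),
    (780, .gen 584 (188, false)),
    (912, .gen 584 (188, true)),
    (679, .gen 81 (188, false)),
    (1426, .gen 817 (188, true)),
    (1814, .gen 255 (177, false)),
    (194, .gen 255 (178, true)),
    (2305, .gen 255 (188, true)),
    (17, .gen 547 (178, true)),
    (291, .gen 356 (188, true)),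
    (2738, .gen 2737 (178, true)),
    (3445, .gen 556 (188, false)),
    (1724, .gen 556 (188, true)),
    (3390, .gen 2768 (188, false)),
    (1514, .gen 2768 (188, true)),
    (3635, .gen 1779 (188, false)),
    (1708, .gen 1779 (188, true)),
    (2824, .gen 3612 (178, false)),
    (3009, .gen 3612 (188, false)),
    (2441, .gen 3612 (188, true)),
    (1057, .gen 3486 (188, false)),
    (2904, .gen 3486 (188, true)),
    (1969, .gen 2285 (176, false)),
    (1914, .gen 3082 (176, false)),
    (3724, .gen 2901 (188, false)),
    (3714, .gen 2901 (188, true)),
    (2714, .gen 2576 (176, false)),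
    (797, .gen 2251 (176, false)),
    (3230, .gen 3602 (178, false)),
    (1101, .gen 3602 (178, true)),
    (1616, .gen 3602 (188, false)),
    (1133, .gen 3602 (188, true)),
    (3501, .gen 1337 (178, false)),
    (3376, .gen 1337 (188, false)),
    (2736, .gen 1337 (188, true)),
    (836, .gen 2146 (188, false)),
    (2141, .gen 2146 (188, true)),
    (927, .gen 1782 (176, false)),
    (397, .gen 1782 (178, true)),
    (3511, .gen 2025 (176, false)),
    (3231, .gen 2025 (178, false)),
    (3409, .gen 3560 (178, false)),
    (3241, .gen 3560 (178, true)),
    (3527, .gen 3560 (188, false)),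
    (767, .gen 3560 (188, true)),
    (3604, .gen 3180 (178, false)),
    (2327, .gen 3180 (188, false)),
    (1699, .gen 3180 (188, true)),
    (2322, .gen 1740 (188, true)),
    (2667, .gen 515 (176, false)),
    (1037, .gen 515 (178, true)),
    (3197, .gen 515 (188, false)),
    (3342, .gen 2625 (178, false)),
    (3216, .gen 2625 (188, true)),
    (1112, .gen 812 (188, false)),
    (345, .gen 812 (188, true)),
    (2995, .gen 1642 (188, false)),
    (1024, .gen 1642 (188, true)),
    (771, .gen 461 (177, false)),
    (3505, .gen 461 (188, false)),
    (2802, .gen 3053 (177, false)),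
    (3606, .gen 3053 (177, true)),
    (1403, .gen 3053 (178, false)),
    (2933, .gen 3053 (178, true))]

/-- Visits. -/
def v13_2 : List (ℕ × Src) :=
  [(2030, .gen 3053 (188, false)),
    (2124, .gen 3053 (188, true)),
    (40, .gen 199 (177, false)),
    (499, .gen 199 (178, false)),
    (1607, .gen 199 (178, true)),
    (724, .gen 199 (188, false)),
    (1722, .gen 1131 (178, false)),
    (2783, .gen 1131 (178, true)),
    (421, .gen 1131 (188, false)),
    (1958, .gen 580 (178, false)),
    (1864, .gen 580 (188, false)),
    (96, .gen 308 (188, false)),
    (1510, .gen 1507 (176, false)),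
    (1606, .gen 1507 (178, true)),
    (3703, .gen 1507 (188, false)),
    (1317, .gen 2857 (176, false)),
    (2258, .gen 2857 (178, false)),
    (582, .gen 2857 (188, true)),
    (990, .gen 215 (177, false)),
    (2204, .gen 215 (188, false)),
    (1952, .gen 215 (188, true)),
    (996, .gen 2605 (178, false)),
    (3549, .gen 2605 (178, true)),
    (1796, .gen 2605 (188, false)),
    (3224, .gen 2605 (188, true)),
    (2528, .gen 957 (188, false)),
    (2316, .gen 957 (188, true)),
    (2866, .gen 1572 (188, false)),
    (721, .gen 1572 (188, true)),
    (73, .gen 2462 (176, false)),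
    (2860, .gen 2462 (178, true)),
    (1563, .gen 1553 (176, false)),
    (3270, .gen 1553 (178, false)),
    (2946, .gen 85 (177, false)),
    (2260, .gen 85 (177, true)),
    (2, .gen 85 (178, false)),
    (229, .gen 85 (188, false)),
    (765, .gen 85 (188, true)),
    (2642, .gen 961 (188, false)),
    (2241, .gen 961 (188, true)),
    (1243, .gen 904 (188, false)),
    (248, .gen 904 (188, true)),
    (3346, .gen 2614 (188, false)),
    (615, .gen 2614 (188, true)),
    (1867, .gen 2240 (177, false)),
    (1023, .gen 2240 (178, true)),
    (3248, .gen 2240 (188, false)),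
    (723, .gen 2240 (188, true)),
    (1955, .gen 470 (178, true)),
    (2665, .gen 470 (188, false)),
    (511, .gen 470 (188, true)),
    (3193, .gen 310 (188, false)),
    (1017, .gen 310 (188, true)),
    (1560, .gen 1910 (176, false)),
    (2685, .gen 1910 (188, false)),
    (3240, .gen 1525 (178, false)),
    (537, .gen 1525 (188, true)),
    (2853, .gen 2623 (177, false)),
    (145, .gen 2623 (177, true)),
    (1042, .gen 2623 (178, true)),
    (941, .gen 2623 (188, false)),
    (1315, .gen 2623 (188, true)),
    (763, .gen 1244 (188, false)),
    (3012, .gen 1244 (188, true)),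
    (1329, .gen 872 (188, false)),
    (1061, .gen 872 (188, true)),
    (2199, .gen 895 (188, false)),
    (3539, .gen 895 (188, true)),
    (776, .gen 265 (188, false)),
    (451, .gen 1177 (188, true)),
    (2279, .gen 1211 (177, false)),
    (2442, .gen 1211 (177, true)),
    (3454, .gen 1211 (178, false)),
    (2042, .gen 1211 (178, true)),
    (2578, .gen 1211 (188, false)),
    (802, .gen 1211 (188, true)),
    (1512, .gen 3010 (177, false)),
    (1798, .gen 3010 (178, false)),
    (602, .gen 3010 (178, true)),
    (3779, .gen 3010 (188, false)),
    (3510, .gen 3010 (188, true)),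
    (2603, .gen 2735 (178, false)),
    (3324, .gen 2735 (178, true)),
    (517, .gen 2735 (188, false)),
    (1135, .gen 2735 (188, true)),
    (1369, .gen 2277 (178, false)),
    (2341, .gen 2277 (188, false)),
    (3378, .gen 2277 (188, true)),
    (1555, .gen 2669 (188, false)),
    (553, .gen 2669 (188, true)),
    (2916, .gen 1880 (176, false)),
    (1511, .gen 1880 (178, true)),
    (814, .gen 1880 (188, false)),
    (2587, .gen 219 (176, false)),
    (2382, .gen 219 (178, false)),
    (503, .gen 219 (188, true)),
    (676, .gen 3294 (177, false)),
    (3404, .gen 3294 (177, true)),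
    (657, .gen 3294 (178, false)),
    (893, .gen 3294 (188, false)),
    (3575, .gen 3294 (188, true)),
    (3094, .gen 969 (177, false)),
    (545, .gen 969 (178, false)),
    (495, .gen 969 (188, false)),
    (2810, .gen 969 (188, true)),
    (2073, .gen 2779 (178, false)),
    (932, .gen 2779 (188, false)),
    (3402, .gen 2779 (188, true)),
    (1359, .gen 1686 (188, false)),
    (3696, .gen 1686 (188, true)),
    (677, .gen 1127 (178, true)),
    (1245, .gen 122 (176, false)),
    (1573, .gen 2434 (177, false)),
    (3043, .gen 2434 (177, true)),
    (3626, .gen 2434 (178, false)),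
    (1242, .gen 2434 (178, true)),
    (1513, .gen 2434 (188, false)),
    (1836, .gen 2434 (188, true)),
    (2270, .gen 1422 (177, false)),
    (716, .gen 1422 (178, false)),
    (1204, .gen 1422 (178, true)),
    (1382, .gen 1422 (188, true)),
    (639, .gen 386 (178, false)),
    (2248, .gen 386 (178, true)),
    (1251, .gen 386 (188, true)),
    (2539, .gen 3184 (178, false)),
    (1718, .gen 3184 (188, true)),
    (1126, .gen 3476 (188, false)),
    (2070, .gen 3476 (188, true)),
    (1406, .gen 2115 (176, false)),
    (594, .gen 2115 (178, true)),
    (3484, .gen 2115 (188, false)),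
    (2235, .gen 183 (177, false)),
    (2061, .gen 183 (177, true)),
    (12, .gen 183 (178, false)),
    (3328, .gen 183 (178, true)),
    (3546, .gen 183 (188, false)),
    (1247, .gen 183 (188, true)),
    (1548, .gen 1932 (177, false)),
    (1200, .gen 1932 (178, false)),
    (2498, .gen 1932 (178, true)),
    (1521, .gen 1932 (188, false)),
    (1015, .gen 1932 (188, true)),
    (1858, .gen 692 (178, false)),
    (3463, .gen 692 (178, true)),
    (3329, .gen 692 (188, false)),
    (213, .gen 692 (188, true)),
    (660, .gen 343 (178, false)),
    (1982, .gen 343 (188, false)),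
    (3784, .gen 343 (188, true)),
    (3490, .gen 3103 (188, false)),
    (1949, .gen 3103 (188, true)),
    (2368, .gen 3673 (176, false)),
    (2473, .gen 3673 (178, true)),
    (1104, .gen 3673 (188, false)),
    (1021, .gen 1016 (176, false)),
    (3278, .gen 1016 (178, false)),
    (811, .gen 1016 (188, true)),
    (2955, .gen 2467 (177, false)),
    (18, .gen 2467 (177, true)),
    (1849, .gen 2467 (178, false)),
    (235, .gen 2467 (178, true)),
    (3366, .gen 2467 (188, false)),
    (593, .gen 2467 (188, true)),
    (2150, .gen 844 (177, false)),
    (2470, .gen 844 (178, false)),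
    (1778, .gen 844 (178, true)),
    (2653, .gen 844 (188, false)),
    (1664, .gen 844 (188, true)),
    (543, .gen 2854 (178, false)),
    (3175, .gen 2854 (188, false)),
    (654, .gen 2854 (188, true)),
    (793, .gen 2999 (188, false)),
    (1585, .gen 632 (188, false)),
    (441, .gen 632 (188, true)),
    (548, .gen 3725 (176, false)),
    (2102, .gen 3725 (188, false)),
    (1523, .gen 3225 (176, false)),
    (1258, .gen 3225 (188, true)),
    (3747, .gen 1912 (177, false)),
    (2677, .gen 1912 (177, true)),
    (2917, .gen 1912 (178, false)),
    (1055, .gen 1912 (178, true)),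
    (3233, .gen 1912 (188, false)),
    (2929, .gen 1912 (188, true)),
    (934, .gen 2021 (177, false)),
    (2227, .gen 2021 (178, false)),
    (3000, .gen 2021 (178, true)),
    (2556, .gen 2021 (188, false)),
    (2652, .gen 2021 (188, true)),
    (3002, .gen 3261 (178, false)),
    (2356, .gen 3261 (178, true)),
    (1617, .gen 3261 (188, true)),
    (3494, .gen 976 (188, false)),
    (2903, .gen 976 (188, true)),
    (3461, .gen 2937 (188, true)),
    (1096, .gen 2919 (178, true)),
    (1194, .gen 2919 (188, false)),
    (2041, .gen 3166 (176, false)),
    (987, .gen 3458 (177, false)),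
    (2480, .gen 3458 (177, true)),
    (2562, .gen 3458 (178, false)),
    (918, .gen 3458 (178, true)),
    (1486, .gen 3458 (188, false)),
    (2407, .gen 3458 (188, true)),
    (3236, .gen 469 (177, false)),
    (1529, .gen 469 (178, false)),
    (3756, .gen 469 (178, true)),
    (860, .gen 469 (188, false)),
    (1439, .gen 469 (188, true)),
    (2656, .gen 1413 (178, false)),
    (129, .gen 1413 (188, false)),
    (1267, .gen 1413 (188, true)),
    (1409, .gen 1954 (188, false)),
    (1586, .gen 209 (188, false)),
    (465, .gen 209 (188, true)),
    (958, .gen 2387 (176, false)),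
    (250, .gen 2387 (188, false)),
    (3352, .gen 3443 (176, false)),
    (1733, .gen 3443 (188, true)),
    (3679, .gen 2583 (177, false)),
    (3314, .gen 2583 (177, true)),
    (1346, .gen 2583 (178, false)),
    (1118, .gen 2583 (188, false)),
    (3681, .gen 2583 (188, true)),
    (144, .gen 525 (177, false)),
    (3398, .gen 525 (178, false)),
    (2493, .gen 525 (188, false)),
    (3259, .gen 525 (188, true)),
    (3054, .gen 1040 (178, false)),
    (1165, .gen 1040 (188, false)),
    (392, .gen 1040 (188, true)),
    (788, .gen 3164 (188, false)),
    (3411, .gen 3164 (188, true)),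
    (2914, .gen 3017 (178, true)),
    (3262, .gen 1202 (176, false)),
    (2985, .gen 1900 (177, false)),
    (393, .gen 1900 (177, true)),
    (3340, .gen 1900 (188, false)),
    (2704, .gen 1900 (188, true)),
    (2540, .gen 1034 (177, false)),
    (1489, .gen 1034 (178, false)),
    (3034, .gen 1034 (178, true)),
    (1481, .gen 1034 (188, false)),
    (506, .gen 1034 (188, true)),
    (2169, .gen 1252 (178, false)),
    (3564, .gen 1252 (178, true)),
    (2830, .gen 1252 (188, false)),
    (3029, .gen 1252 (188, true)),
    (1997, .gen 3492 (188, false)),
    (3763, .gen 3492 (188, true)),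
    (2287, .gen 2354 (188, false)),
    (1114, .gen 2354 (188, true)),
    (1335, .gen 2582 (176, false)),
    (106, .gen 2582 (178, true)),
    (1727, .gen 3759 (176, false)),
    (1383, .gen 3759 (178, false)),
    (1568, .gen 2647 (177, false)),
    (245, .gen 2647 (177, true)),
    (2859, .gen 2647 (188, false)),
    (398, .gen 2647 (188, true)),
    (2437, .gen 1999 (177, false)),
    (1290, .gen 1999 (188, false)),
    (1817, .gen 1999 (188, true)),
    (2777, .gen 3610 (188, false)),
    (635, .gen 3610 (188, true)),
    (138, .gen 2594 (176, false)),
    (2377, .gen 2594 (188, false)),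
    (791, .gen 3702 (188, true)),
    (3168, .gen 3341 (177, false)),
    (1542, .gen 3341 (177, true)),
    (892, .gen 3341 (178, false)),
    (2265, .gen 3341 (178, true)),
    (2523, .gen 3341 (188, false)),
    (2246, .gen 3341 (188, true)),
    (94, .gen 2726 (177, false)),
    (838, .gen 2726 (178, false)),
    (500, .gen 2726 (178, true)),
    (3039, .gen 2726 (188, false)),
    (1080, .gen 2726 (188, true)),
    (1147, .gen 197 (178, true)),
    (2861, .gen 197 (188, false)),
    (909, .gen 431 (178, false)),
    (2524, .gen 431 (188, false)),
    (2294, .gen 431 (188, true)),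
    (1291, .gen 713 (188, false)),
    (3161, .gen 3422 (178, false)),
    (1623, .gen 3422 (188, true)),
    (3749, .gen 1170 (178, false)),
    (631, .gen 1170 (178, true)),
    (680, .gen 1170 (188, false)),
    (3525, .gen 1170 (188, true)),
    (1386, .gen 2229 (178, false)),
    (3374, .gen 2229 (188, false)),
    (551, .gen 2229 (188, true)),
    (538, .gen 3781 (188, false)),
    (1509, .gen 3781 (188, true)),
    (1645, .gen 311 (176, false)),
    (646, .gen 311 (178, true)),
    (1831, .gen 2709 (176, false))]

/-- Visits. -/
def v13_3 : List (ℕ × Src) :=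
  [(2040, .gen 2709 (178, false)),
    (1593, .gen 1216 (177, false)),
    (1453, .gen 1216 (177, true)),
    (2337, .gen 1216 (178, true)),
    (2075, .gen 1216 (188, true)),
    (849, .gen 536 (177, false)),
    (935, .gen 536 (178, true)),
    (2637, .gen 536 (188, true)),
    (2193, .gen 1547 (178, true)),
    (1230, .gen 1547 (188, true)),
    (1356, .gen 2990 (188, true)),
    (3199, .gen 954 (176, false)),
    (1302, .gen 954 (178, true)),
    (3477, .gen 954 (188, false)),
    (1546, .gen 2719 (177, false)),
    (2272, .gen 2719 (177, true)),
    (3100, .gen 2719 (178, false)),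
    (2303, .gen 2719 (178, true)),
    (497, .gen 2719 (188, false)),
    (3251, .gen 2719 (188, true)),
    (1919, .gen 2535 (177, false)),
    (1960, .gen 2535 (178, false)),
    (2585, .gen 2535 (178, true)),
    (653, .gen 2535 (188, false)),
    (1911, .gen 2535 (188, true)),
    (744, .gen 1299 (178, false)),
    (72, .gen 1299 (178, true)),
    (2657, .gen 1299 (188, false)),
    (1696, .gen 1299 (188, true)),
    (3283, .gen 19 (178, false)),
    (297, .gen 19 (188, false)),
    (2058, .gen 19 (188, true)),
    (2872, .gen 300 (188, false)),
    (1832, .gen 300 (188, true)),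
    (2446, .gen 3532 (176, false)),
    (1650, .gen 3532 (178, true)),
    (2619, .gen 3532 (188, false)),
    (3163, .gen 706 (176, false)),
    (1485, .gen 706 (178, false)),
    (587, .gen 706 (188, true)),
    (2983, .gen 2454 (177, false)),
    (166, .gen 2454 (177, true)),
    (204, .gen 2454 (178, false)),
    (422, .gen 2454 (178, true)),
    (3382, .gen 2454 (188, false)),
    (983, .gen 2454 (188, true)),
    (3311, .gen 3047 (177, false)),
    (1201, .gen 3047 (178, false)),
    (3585, .gen 3047 (178, true)),
    (1115, .gen 3047 (188, false)),
    (2767, .gen 3047 (188, true)),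
    (1463, .gen 1140 (178, false)),
    (2760, .gen 1140 (178, true)),
    (1827, .gen 1140 (188, false)),
    (1726, .gen 1140 (188, true)),
    (867, .gen 2761 (178, false)),
    (1781, .gen 2761 (188, false)),
    (186, .gen 2761 (188, true)),
    (1137, .gen 1744 (188, false)),
    (1323, .gen 1744 (188, true)),
    (1052, .gen 921 (176, false)),
    (555, .gen 921 (178, true)),
    (1117, .gen 921 (188, false)),
    (1705, .gen 228 (176, false)),
    (3719, .gen 228 (178, false)),
    (1868, .gen 228 (188, true)),
    (1920, .gen 1629 (177, false)),
    (147, .gen 1629 (178, false)),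
    (1930, .gen 1629 (178, true)),
    (3003, .gen 1629 (188, false)),
    (3509, .gen 1629 (188, true)),
    (3396, .gen 2363 (178, false)),
    (2822, .gen 2363 (178, true)),
    (715, .gen 2363 (188, false)),
    (1203, .gen 2363 (188, true)),
    (3414, .gen 2551 (178, false)),
    (3200, .gen 2551 (188, false)),
    (2702, .gen 2551 (188, true)),
    (2036, .gen 1791 (188, false)),
    (1195, .gen 1791 (188, true)),
    (1792, .gen 1516 (176, false)),
    (3062, .gen 1516 (178, true)),
    (1815, .gen 2519 (176, false)),
    (1470, .gen 2519 (178, false)),
    (3349, .gen 3658 (178, false)),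
    (3377, .gen 3658 (178, true)),
    (3589, .gen 3658 (188, false)),
    (2975, .gen 3658 (188, true)),
    (2280, .gen 127 (178, false)),
    (2087, .gen 127 (178, true)),
    (830, .gen 127 (188, false)),
    (1007, .gen 127 (188, true)),
    (347, .gen 567 (178, false)),
    (2690, .gen 567 (178, true)),
    (2842, .gen 567 (188, false)),
    (1871, .gen 567 (188, true)),
    (2675, .gen 2131 (178, false)),
    (740, .gen 2131 (188, false)),
    (2532, .gen 2131 (188, true)),
    (1795, .gen 579 (188, false)),
    (985, .gen 579 (188, true)),
    (1435, .gen 1009 (176, false)),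
    (637, .gen 1009 (178, true)),
    (3580, .gen 1009 (188, false)),
    (955, .gen 3318 (176, false)),
    (562, .gen 3318 (178, false)),
    (103, .gen 3318 (188, true)),
    (3387, .gen 1220 (177, false)),
    (896, .gen 1220 (177, true)),
    (3579, .gen 1220 (188, false)),
    (3637, .gen 1220 (188, true)),
    (3420, .gen 1169 (177, false)),
    (2135, .gen 1169 (178, false)),
    (3423, .gen 1169 (178, true)),
    (3302, .gen 1169 (188, false)),
    (2452, .gen 1169 (188, true)),
    (1351, .gen 157 (178, false)),
    (1051, .gen 157 (178, true)),
    (3718, .gen 157 (188, false)),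
    (2310, .gen 157 (188, true)),
    (2284, .gen 1714 (188, false)),
    (1532, .gen 1714 (188, true)),
    (1659, .gen 3514 (188, false)),
    (3048, .gen 3514 (188, true)),
    (1698, .gen 787 (176, false)),
    (2461, .gen 787 (178, true)),
    (1857, .gen 3481 (176, false)),
    (853, .gen 3481 (178, false)),
    (3348, .gen 2600 (177, false)),
    (78, .gen 2600 (177, true)),
    (998, .gen 2600 (178, false)),
    (11, .gen 2600 (178, true)),
    (15, .gen 2600 (188, false)),
    (833, .gen 2600 (188, true)),
    (2308, .gen 3592 (177, false)),
    (663, .gen 3592 (178, false)),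
    (826, .gen 3592 (178, true)),
    (2960, .gen 3592 (188, false)),
    (1111, .gen 3592 (188, true)),
    (3762, .gen 3464 (178, false)),
    (3705, .gen 3464 (178, true)),
    (3121, .gen 3464 (188, false)),
    (620, .gen 3464 (188, true)),
    (2101, .gen 3041 (178, false)),
    (2195, .gen 3041 (188, false)),
    (3032, .gen 3041 (188, true)),
    (1723, .gen 3089 (188, false)),
    (3792, .gen 3089 (188, true)),
    (2194, .gen 3228 (176, false)),
    (1312, .gen 3228 (178, true)),
    (1284, .gen 3228 (188, false)),
    (1666, .gen 3295 (176, false)),
    (3529, .gen 3295 (178, false)),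
    (1350, .gen 3295 (188, true)),
    (337, .gen 881 (177, false)),
    (540, .gen 881 (177, true)),
    (712, .gen 881 (178, false)),
    (1430, .gen 881 (178, true)),
    (557, .gen 881 (188, false)),
    (278, .gen 881 (188, true)),
    (960, .gen 808 (177, false)),
    (301, .gen 808 (178, false)),
    (1947, .gen 808 (178, true)),
    (445, .gen 808 (188, false)),
    (1046, .gen 808 (188, true)),
    (922, .gen 285 (188, false)),
    (1748, .gen 285 (188, true)),
    (3598, .gen 2545 (188, false)),
    (2537, .gen 2545 (188, true)),
    (2965, .gen 809 (188, false)),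
    (2722, .gen 809 (188, true)),
    (3435, .gen 3293 (176, false)),
    (1983, .gen 3293 (188, false)),
    (3026, .gen 3734 (176, false)),
    (1255, .gen 3734 (188, true)),
    (1033, .gen 3284 (177, false)),
    (2781, .gen 3284 (177, true)),
    (3238, .gen 3284 (178, false)),
    (2090, .gen 3284 (178, true)),
    (2515, .gen 3284 (188, false)),
    (1418, .gen 3284 (188, true)),
    (3403, .gen 1467 (177, false)),
    (2254, .gen 1467 (178, false)),
    (481, .gen 1467 (178, true)),
    (3698, .gen 1467 (188, false)),
    (3588, .gen 1467 (188, true)),
    (2162, .gen 3678 (178, false)),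
    (2569, .gen 3678 (178, true)),
    (869, .gen 3678 (188, false)),
    (2849, .gen 3678 (188, true)),
    (1811, .gen 773 (178, false)),
    (1471, .gen 773 (188, false)),
    (1938, .gen 773 (188, true)),
    (3405, .gen 1789 (188, false)),
    (1139, .gen 1789 (188, true)),
    (2599, .gen 363 (176, false)),
    (1853, .gen 363 (178, true)),
    (3289, .gen 363 (188, false)),
    (3357, .gen 121 (176, false)),
    (2739, .gen 121 (178, false)),
    (2427, .gen 121 (188, true)),
    (1971, .gen 852 (177, false)),
    (3322, .gen 852 (177, true)),
    (2778, .gen 852 (178, true)),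
    (786, .gen 852 (188, false)),
    (3058, .gen 852 (188, true)),
    (2082, .gen 444 (177, false)),
    (404, .gen 444 (178, true)),
    (1713, .gen 444 (188, false)),
    (2064, .gen 444 (188, true)),
    (342, .gen 3052 (178, true)),
    (1130, .gen 3052 (188, false)),
    (2445, .gen 3052 (188, true)),
    (1376, .gen 3073 (188, false)),
    (241, .gen 3073 (188, true)),
    (1825, .gen 759 (176, false)),
    (636, .gen 759 (188, false)),
    (3223, .gen 1879 (176, false)),
    (3222, .gen 1879 (178, false)),
    (2118, .gen 1879 (188, true)),
    (1866, .gen 865 (177, false)),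
    (118, .gen 865 (177, true)),
    (1720, .gen 865 (178, false)),
    (1298, .gen 865 (178, true)),
    (1541, .gen 865 (188, false)),
    (2716, .gen 865 (188, true)),
    (3392, .gen 1611 (177, false)),
    (2724, .gen 1611 (178, false)),
    (2809, .gen 1611 (178, true)),
    (3260, .gen 1611 (188, false)),
    (3692, .gen 1611 (188, true)),
    (745, .gen 170 (178, false)),
    (251, .gen 170 (178, true)),
    (2116, .gen 170 (188, false)),
    (2282, .gen 170 (188, true)),
    (1397, .gen 810 (178, false)),
    (2564, .gen 810 (188, false)),
    (884, .gen 810 (188, true)),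
    (446, .gen 1344 (188, false)),
    (738, .gen 1344 (188, true)),
    (1349, .gen 1948 (176, false)),
    (1850, .gen 1948 (178, true)),
    (1610, .gen 1948 (188, false)),
    (3487, .gen 2878 (176, false)),
    (2156, .gen 2878 (178, false)),
    (1183, .gen 2878 (188, true)),
    (2663, .gen 1056 (177, false)),
    (2271, .gen 1056 (177, true)),
    (3373, .gen 1056 (178, false)),
    (687, .gen 1056 (178, true)),
    (645, .gen 1056 (188, true)),
    (513, .gen 1621 (177, false)),
    (1077, .gen 1621 (178, false)),
    (287, .gen 1621 (178, true)),
    (233, .gen 1621 (188, false)),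
    (1886, .gen 1621 (188, true)),
    (1339, .gen 1475 (178, true)),
    (82, .gen 1475 (188, false)),
    (2177, .gen 1475 (188, true)),
    (3426, .gen 3757 (178, false)),
    (1569, .gen 3757 (188, true)),
    (1937, .gen 216 (188, true)),
    (2292, .gen 577 (176, false)),
    (74, .gen 577 (178, true)),
    (1240, .gen 577 (188, false)),
    (388, .gen 1689 (176, false)),
    (3789, .gen 1689 (188, true)),
    (2550, .gen 3115 (177, false)),
    (2832, .gen 3115 (177, true)),
    (1537, .gen 3115 (178, false)),
    (1977, .gen 3115 (178, true)),
    (1873, .gen 3115 (188, false)),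
    (2991, .gen 3115 (188, true)),
    (113, .gen 3308 (177, false)),
    (2899, .gen 3308 (178, false)),
    (2477, .gen 3308 (178, true)),
    (3331, .gen 3308 (188, false)),
    (3362, .gen 3308 (188, true)),
    (2559, .gen 703 (178, false)),
    (2104, .gen 703 (178, true)),
    (795, .gen 703 (188, false)),
    (1502, .gen 703 (188, true)),
    (1712, .gen 2808 (178, false)),
    (3662, .gen 2808 (188, false)),
    (3687, .gen 2808 (188, true)),
    (1756, .gen 2249 (188, false)),
    (3489, .gen 2249 (188, true)),
    (2944, .gen 372 (176, false)),
    (583, .gen 372 (178, true)),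
    (2161, .gen 372 (188, false)),
    (533, .gen 2935 (176, false)),
    (1178, .gen 2935 (178, false)),
    (254, .gen 2935 (188, true)),
    (2221, .gen 3335 (177, false)),
    (427, .gen 3335 (177, true)),
    (2706, .gen 3335 (178, false)),
    (3101, .gen 3335 (178, true)),
    (252, .gen 3335 (188, false)),
    (2309, .gen 3335 (188, true)),
    (270, .gen 1179 (177, false))]

/-- Visits. -/
def v13_4 : List (ℕ × Src) :=
  [(2986, .gen 1179 (178, false)),
    (1307, .gen 1179 (178, true)),
    (1846, .gen 1179 (188, false)),
    (3507, .gen 1179 (188, true)),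
    (1276, .gen 480 (178, false)),
    (2513, .gen 480 (178, true)),
    (3442, .gen 480 (188, false)),
    (2668, .gen 480 (188, true)),
    (1455, .gen 633 (178, false)),
    (3427, .gen 633 (188, false)),
    (1474, .gen 633 (188, true)),
    (899, .gen 2700 (188, false)),
    (3320, .gen 2700 (188, true)),
    (4, .gen 2345 (176, false)),
    (1035, .gen 2345 (178, true)),
    (3649, .gen 2345 (188, false)),
    (3531, .gen 1680 (176, false)),
    (3672, .gen 1680 (178, false)),
    (390, .gen 1680 (188, true)),
    (3237, .gen 1099 (177, false)),
    (575, .gen 1099 (177, true)),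
    (3653, .gen 1099 (178, false)),
    (1264, .gen 1099 (178, true)),
    (3530, .gen 1099 (188, false)),
    (1644, .gen 1099 (188, true)),
    (2359, .gen 2148 (177, false)),
    (1962, .gen 2148 (178, false)),
    (1294, .gen 2148 (178, true)),
    (3742, .gen 2148 (188, false)),
    (2574, .gen 2148 (188, true)),
    (2887, .gen 2106 (178, false)),
    (3638, .gen 2106 (178, true)),
    (275, .gen 2106 (188, false)),
    (2502, .gen 2106 (188, true)),
    (592, .gen 1158 (178, false)),
    (2503, .gen 1158 (188, false)),
    (3521, .gen 1158 (188, true)),
    (2671, .gen 3515 (188, false)),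
    (2697, .gen 3515 (188, true)),
    (2357, .gen 3605 (176, false)),
    (3475, .gen 3605 (178, true)),
    (2340, .gen 3605 (188, false)),
    (3379, .gen 1094 (176, false)),
    (2730, .gen 1094 (178, false)),
    (83, .gen 1094 (188, true)),
    (799, .gen 131 (177, false)),
    (2418, .gen 131 (177, true)),
    (2219, .gen 131 (178, false)),
    (824, .gen 131 (178, true)),
    (2785, .gen 131 (188, false)),
    (3630, .gen 131 (188, true)),
    (463, .gen 1806 (177, false)),
    (3522, .gen 1806 (178, false)),
    (671, .gen 1806 (178, true)),
    (908, .gen 1806 (188, false)),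
    (93, .gen 1806 (188, true)),
    (1146, .gen 1751 (178, false)),
    (2401, .gen 1751 (178, true)),
    (486, .gen 1751 (188, false)),
    (3740, .gen 1751 (188, true)),
    (1731, .gen 2183 (178, false)),
    (2727, .gen 2183 (188, false)),
    (3321, .gen 2183 (188, true)),
    (1742, .gen 670 (188, false)),
    (1564, .gen 670 (188, true)),
    (704, .gen 79 (176, false)),
    (3282, .gen 79 (178, true)),
    (172, .gen 79 (188, false)),
    (2525, .gen 375 (176, false)),
    (1496, .gen 375 (178, false)),
    (2874, .gen 375 (188, true)),
    (1685, .gen 2366 (177, true)),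
    (711, .gen 2366 (178, false)),
    (1583, .gen 2366 (178, true)),
    (870, .gen 1209 (177, false)),
    (447, .gen 1209 (178, false)),
    (931, .gen 1209 (178, true)),
    (3310, .gen 1209 (188, false)),
    (1566, .gen 1209 (188, true)),
    (1273, .gen 2518 (178, false)),
    (798, .gen 2518 (178, true)),
    (472, .gen 2518 (188, false)),
    (3004, .gen 2518 (188, true)),
    (2388, .gen 898 (178, false)),
    (1492, .gen 898 (188, false)),
    (2067, .gen 2763 (178, true)),
    (316, .gen 1181 (176, false)),
    (1615, .gen 1181 (178, false)),
    (426, .gen 1378 (178, false)),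
    (2408, .gen 1378 (178, true)),
    (389, .gen 3076 (178, false)),
    (505, .gen 3076 (178, true)),
    (1010, .gen 3076 (188, false)),
    (3407, .gen 3076 (188, true)),
    (2988, .gen 3371 (178, true)),
    (1032, .gen 1603 (188, false)),
    (2884, .gen 734 (177, false)),
    (2190, .gen 734 (177, true)),
    (3065, .gen 734 (178, false)),
    (2505, .gen 734 (178, true)),
    (2458, .gen 734 (188, false)),
    (544, .gen 734 (188, true)),
    (1889, .gen 3360 (177, false)),
    (141, .gen 3360 (178, false)),
    (1053, .gen 3360 (178, true)),
    (2980, .gen 3360 (188, false)),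
    (2895, .gen 3360 (188, true)),
    (1330, .gen 1283 (178, true)),
    (2083, .gen 1283 (188, false)),
    (1107, .gen 911 (178, false)),
    (3772, .gen 911 (188, false)),
    (1897, .gen 911 (188, true)),
    (3533, .gen 2044 (188, false)),
    (900, .gen 2478 (178, false)),
    (3780, .gen 2478 (188, true)),
    (31, .gen 591 (177, false)),
    (75, .gen 591 (177, true)),
    (2816, .gen 591 (178, false)),
    (266, .gen 591 (178, true)),
    (1828, .gen 591 (188, false)),
    (496, .gen 591 (188, true)),
    (3462, .gen 1687 (177, false)),
    (1097, .gen 1687 (178, false)),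
    (2464, .gen 1687 (178, true)),
    (2710, .gen 1687 (188, false)),
    (2027, .gen 1687 (188, true)),
    (436, .gen 367 (178, false)),
    (2028, .gen 367 (178, true)),
    (3431, .gen 367 (188, false)),
    (407, .gen 367 (188, true)),
    (3096, .gen 2987 (178, false)),
    (3181, .gen 2987 (188, false)),
    (1144, .gen 2987 (188, true)),
    (473, .gen 2225 (188, false)),
    (2206, .gen 2225 (188, true)),
    (864, .gen 1423 (176, false)),
    (2468, .gen 1423 (178, true)),
    (2694, .gen 1423 (188, false)),
    (382, .gen 1913 (176, false)),
    (993, .gen 1913 (178, false)),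
    (1113, .gen 1913 (188, true)),
    (3169, .gen 1120 (177, false)),
    (966, .gen 1120 (177, true)),
    (2176, .gen 1120 (178, false)),
    (3434, .gen 1120 (178, true)),
    (1459, .gen 1120 (188, false)),
    (2813, .gen 1120 (188, true)),
    (417, .gen 3183 (177, false)),
    (3313, .gen 3183 (178, false)),
    (2360, .gen 3183 (178, true)),
    (822, .gen 3183 (188, false)),
    (2908, .gen 3183 (188, true)),
    (1456, .gen 1729 (178, false)),
    (1774, .gen 1729 (178, true)),
    (443, .gen 1729 (188, false)),
    (2695, .gen 1729 (188, true)),
    (678, .gen 2512 (178, false)),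
    (3685, .gen 2512 (188, false)),
    (1305, .gen 2512 (188, true)),
    (2174, .gen 2469 (188, false)),
    (607, .gen 2469 (188, true)),
    (369, .gen 984 (176, false)),
    (2631, .gen 984 (178, true)),
    (2002, .gen 984 (188, false)),
    (726, .gen 3140 (176, false)),
    (2213, .gen 3140 (178, false)),
    (1909, .gen 3140 (188, true)),
    (1361, .gen 2925 (177, false)),
    (1716, .gen 2925 (177, true)),
    (2320, .gen 2925 (178, false)),
    (1466, .gen 2925 (178, true)),
    (2386, .gen 2925 (188, false)),
    (2212, .gen 2925 (188, true)),
    (1353, .gen 318 (177, false)),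
    (2336, .gen 318 (178, false)),
    (2970, .gen 318 (178, true)),
    (2791, .gen 318 (188, false)),
    (351, .gen 318 (188, true)),
    (1208, .gen 1303 (178, false)),
    (1249, .gen 1303 (178, true)),
    (1980, .gen 1303 (188, false)),
    (1612, .gen 1303 (188, true)),
    (3415, .gen 2494 (178, false)),
    (1561, .gen 2494 (188, false)),
    (2159, .gen 2494 (188, true)),
    (696, .gen 1975 (188, false)),
    (2399, .gen 1975 (188, true)),
    (3035, .gen 1721 (176, false)),
    (1189, .gen 1721 (178, true)),
    (3547, .gen 1721 (188, false)),
    (5, .gen 2358 (176, false)),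
    (2004, .gen 2358 (178, false)),
    (1707, .gen 2358 (188, true)),
    (2764, .gen 1199 (177, false)),
    (3326, .gen 1199 (177, true)),
    (1584, .gen 1199 (178, false)),
    (973, .gen 1199 (178, true)),
    (1274, .gen 1199 (188, false)),
    (2420, .gen 1199 (188, true)),
    (239, .gen 2681 (177, false)),
    (2511, .gen 2681 (178, false)),
    (3613, .gen 2681 (178, true)),
    (1404, .gen 2681 (188, false)),
    (3141, .gen 2681 (188, true)),
    (187, .gen 3688 (178, false)),
    (2489, .gen 3688 (178, true)),
    (475, .gen 3688 (188, false)),
    (2039, .gen 3688 (188, true)),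
    (571, .gen 2334 (178, false)),
    (3006, .gen 2334 (188, false)),
    (1640, .gen 2334 (188, true)),
    (2198, .gen 412 (188, false)),
    (130, .gen 412 (188, true)),
    (947, .gen 938 (176, false)),
    (1631, .gen 938 (178, true)),
    (2743, .gen 938 (188, false)),
    (684, .gen 3773 (176, false)),
    (160, .gen 3773 (178, false)),
    (2137, .gen 3773 (188, true)),
    (2160, .gen 933 (177, false)),
    (3562, .gen 933 (177, true)),
    (1460, .gen 933 (178, false)),
    (3754, .gen 933 (178, true)),
    (2012, .gen 933 (188, false)),
    (605, .gen 933 (188, true)),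
    (115, .gen 3064 (177, false)),
    (2415, .gen 3064 (178, false)),
    (764, .gen 3064 (178, true)),
    (1005, .gen 3064 (188, false)),
    (1293, .gen 3064 (188, true)),
    (2548, .gen 1554 (178, false)),
    (3680, .gen 1554 (178, true)),
    (3709, .gen 1554 (188, false)),
    (2766, .gen 1554 (188, true)),
    (1262, .gen 3220 (178, false)),
    (1852, .gen 3220 (188, false)),
    (2457, .gen 3220 (188, true)),
    (1639, .gen 967 (188, false)),
    (3421, .gen 967 (188, true)),
    (471, .gen 2971 (176, false)),
    (3162, .gen 2971 (178, true)),
    (3005, .gen 2971 (188, false)),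
    (2613, .gen 3611 (176, false)),
    (3535, .gen 3611 (178, false)),
    (2705, .gen 3611 (188, true)),
    (3648, .gen 529 (177, false)),
    (3440, .gen 529 (177, true)),
    (863, .gen 529 (178, false)),
    (1396, .gen 529 (178, true)),
    (2696, .gen 529 (188, false)),
    (3774, .gen 529 (188, true)),
    (1717, .gen 858 (177, false)),
    (1352, .gen 858 (178, false)),
    (2300, .gen 858 (178, true)),
    (42, .gen 858 (188, false)),
    (3297, .gen 858 (188, true)),
    (1905, .gen 2433 (178, false)),
    (1974, .gen 2433 (178, true)),
    (95, .gen 2433 (188, false)),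
    (1497, .gen 2433 (188, true)),
    (1345, .gen 1039 (178, false)),
    (3146, .gen 1039 (188, false)),
    (1175, .gen 1039 (188, true)),
    (2847, .gen 468 (188, false)),
    (888, .gen 468 (188, true)),
    (2209, .gen 1882 (176, false)),
    (466, .gen 1882 (178, true)),
    (1654, .gen 1882 (188, false)),
    (3516, .gen 3731 (176, false)),
    (1504, .gen 3731 (178, false)),
    (2306, .gen 3731 (188, true)),
    (3023, .gen 3748 (177, false)),
    (1354, .gen 3748 (177, true)),
    (1222, .gen 3748 (178, false)),
    (1071, .gen 3748 (178, true)),
    (2959, .gen 3748 (188, false)),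
    (1538, .gen 3748 (188, true)),
    (1772, .gen 55 (177, false)),
    (1070, .gen 55 (178, false)),
    (2197, .gen 55 (178, true)),
    (2922, .gen 55 (188, false)),
    (1102, .gen 55 (188, true)),
    (2956, .gen 862 (178, false)),
    (627, .gen 862 (178, true)),
    (1087, .gen 862 (188, false)),
    (49, .gen 862 (188, true)),
    (991, .gen 1013 (178, false)),
    (1916, .gen 1013 (188, false)),
    (2230, .gen 1013 (188, true)),
    (2501, .gen 2997 (188, false)),
    (3497, .gen 2997 (188, true)),
    (3664, .gen 152 (176, false)),
    (13, .gen 152 (178, true)),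
    (2302, .gen 152 (188, false)),
    (3249, .gen 16 (176, false)),
    (2889, .gen 16 (178, false)),
    (3671, .gen 16 (188, true)),
    (2749, .gen 3716 (177, false)),
    (697, .gen 3716 (177, true)),
    (1148, .gen 3716 (178, false))]

/-- Visits. -/
def v13_5 : List (ℕ × Src) :=
  [(2644, .gen 3716 (178, true)),
    (126, .gen 3716 (188, false)),
    (3545, .gen 3716 (188, true)),
    (3726, .gen 741 (177, false)),
    (2595, .gen 741 (178, false)),
    (925, .gen 741 (178, true)),
    (2772, .gen 741 (188, false)),
    (1856, .gen 741 (188, true)),
    (1050, .gen 2570 (178, false)),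
    (3555, .gen 2570 (178, true)),
    (460, .gen 2570 (188, false)),
    (974, .gen 2570 (188, true)),
    (57, .gen 2338 (178, false)),
    (3170, .gen 2338 (188, false)),
    (68, .gen 2338 (188, true)),
    (1539, .gen 1978 (188, false)),
    (261, .gen 1978 (188, true)),
    (2208, .gen 742 (176, false)),
    (2517, .gen 742 (178, true)),
    (2158, .gen 742 (188, false)),
    (212, .gen 47 (176, false)),
    (1431, .gen 47 (178, false)),
    (1487, .gen 47 (188, true)),
    (179, .gen 2290 (177, false)),
    (2659, .gen 2290 (177, true)),
    (3116, .gen 2290 (178, false)),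
    (2701, .gen 2290 (178, true)),
    (3117, .gen 2290 (188, false)),
    (2844, .gen 2290 (188, true)),
    (3790, .gen 946 (177, false)),
    (1478, .gen 946 (178, false)),
    (3285, .gen 946 (178, true)),
    (2757, .gen 946 (188, false)),
    (2711, .gen 946 (188, true)),
    (3167, .gen 2426 (178, false)),
    (1138, .gen 2426 (178, true)),
    (3619, .gen 2426 (188, false)),
    (3361, .gen 2426 (188, true)),
    (2314, .gen 552 (178, false)),
    (2023, .gen 552 (188, false)),
    (2205, .gen 552 (188, true)),
    (1461, .gen 54 (188, false)),
    (1499, .gen 54 (188, true)),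
    (1342, .gen 1517 (176, false)),
    (3177, .gen 1517 (178, true)),
    (3056, .gen 1517 (188, false)),
    (236, .gen 1246 (176, false)),
    (3155, .gen 1246 (178, false)),
    (158, .gen 1246 (188, true)),
    (2299, .gen 618 (177, false)),
    (729, .gen 618 (177, true)),
    (2350, .gen 618 (178, false)),
    (302, .gen 618 (178, true)),
    (1318, .gen 618 (188, false)),
    (2099, .gen 618 (188, true)),
    (2549, .gen 1638 (177, false)),
    (268, .gen 1638 (178, false)),
    (3603, .gen 1638 (178, true)),
    (595, .gen 1638 (188, false)),
    (3755, .gen 1638 (188, true)),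
    (611, .gen 3102 (178, false)),
    (6, .gen 3102 (178, true)),
    (3388, .gen 3102 (188, false)),
    (790, .gen 3102 (188, true)),
    (568, .gen 1257 (178, false)),
    (3607, .gen 1257 (188, false)),
    (45, .gen 1257 (188, true)),
    (1090, .gen 661 (188, false)),
    (1526, .gen 661 (188, true)),
    (2500, .gen 564 (176, false)),
    (2396, .gen 564 (178, true)),
    (2107, .gen 564 (188, false)),
    (659, .gen 2828 (176, false)),
    (2352, .gen 2828 (178, false)),
    (1531, .gen 2828 (188, true)),
    (3105, .gen 3769 (177, false)),
    (2934, .gen 3769 (177, true)),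
    (3417, .gen 3769 (178, false)),
    (2800, .gen 3769 (178, true)),
    (1434, .gen 3769 (188, false)),
    (3330, .gen 3769 (188, true)),
    (2998, .gen 2412 (177, false)),
    (1907, .gen 2412 (178, false)),
    (2601, .gen 2412 (178, true)),
    (894, .gen 2412 (188, false)),
    (1822, .gen 2412 (188, true)),
    (2222, .gen 915 (178, false)),
    (3453, .gen 915 (178, true)),
    (3710, .gen 915 (188, false)),
    (1212, .gen 915 (188, true)),
    (1885, .gen 3104 (178, false)),
    (920, .gen 3104 (188, false)),
    (2837, .gen 3104 (188, true)),
    (1322, .gen 2629 (188, false)),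
    (3652, .gen 2629 (188, true)),
    (1172, .gen 2666 (176, false)),
    (3244, .gen 2666 (178, true)),
    (874, .gen 2666 (188, false)),
    (1544, .gen 2152 (176, false)),
    (1559, .gen 2152 (178, false)),
    (698, .gen 2152 (188, true)),
    (2571, .gen 3245 (177, false)),
    (2022, .gen 3245 (177, true)),
    (2770, .gen 3245 (178, false)),
    (7, .gen 3245 (178, true)),
    (3559, .gen 3245 (188, false)),
    (2397, .gen 3245 (188, true)),
    (38, .gen 3418 (177, false)),
    (3581, .gen 3418 (178, false)),
    (2089, .gen 3418 (178, true)),
    (2119, .gen 3418 (188, false)),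
    (597, .gen 3418 (188, true)),
    (3071, .gen 207 (178, false)),
    (736, .gen 207 (178, true)),
    (1995, .gen 207 (188, false)),
    (3480, .gen 207 (188, true)),
    (807, .gen 1671 (178, false)),
    (3350, .gen 1671 (188, false)),
    (1334, .gen 1671 (188, true)),
    (1008, .gen 2344 (188, false)),
    (202, .gen 2344 (188, true)),
    (2184, .gen 2679 (176, false)),
    (2864, .gen 2679 (178, true)),
    (1968, .gen 2679 (188, false)),
    (923, .gen 3670 (176, false)),
    (477, .gen 3670 (178, false)),
    (2010, .gen 3670 (188, true)),
    (1979, .gen 2906 (177, false)),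
    (2972, .gen 2906 (177, true)),
    (560, .gen 2906 (178, false)),
    (3247, .gen 2906 (178, true)),
    (1028, .gen 2906 (188, false)),
    (1633, .gen 2906 (188, true)),
    (3502, .gen 2312 (177, false)),
    (629, .gen 2312 (178, false)),
    (1767, .gen 2312 (178, true)),
    (290, .gen 2312 (188, false)),
    (2289, .gen 2312 (188, true)),
    (1976, .gen 3152 (178, false)),
    (2122, .gen 3152 (178, true)),
    (2940, .gen 3152 (188, false)),
    (458, .gen 3152 (188, true)),
    (2963, .gen 3675 (178, false)),
    (3625, .gen 3675 (188, false)),
    (968, .gen 3675 (188, true)),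
    (907, .gen 2269 (188, false)),
    (2045, .gen 2269 (188, true)),
    (3345, .gen 1917 (176, false)),
    (1926, .gen 1917 (178, true)),
    (1549, .gen 1917 (188, false)),
    (2483, .gen 3188 (176, false)),
    (70, .gen 3188 (178, false)),
    (2371, .gen 3188 (188, true)),
    (1484, .gen 539 (177, false)),
    (1031, .gen 539 (177, true)),
    (523, .gen 539 (178, false)),
    (1545, .gen 539 (178, true)),
    (970, .gen 539 (188, false)),
    (2648, .gen 539 (188, true)),
    (292, .gen 2274 (177, false)),
    (3068, .gen 2274 (178, false)),
    (857, .gen 2274 (178, true)),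
    (1217, .gen 2274 (188, false)),
    (1063, .gen 2274 (188, true)),
    (483, .gen 2686 (178, false)),
    (2780, .gen 2686 (178, true)),
    (2504, .gen 2686 (188, false)),
    (2013, .gen 2686 (188, true)),
    (2203, .gen 2326 (178, false)),
    (2974, .gen 2326 (188, false)),
    (2145, .gen 2326 (188, true)),
    (2725, .gen 1238 (188, false)),
    (28, .gen 1238 (188, true)),
    (3290, .gen 2897 (176, false)),
    (841, .gen 2897 (178, true)),
    (2787, .gen 2897 (188, false)),
    (2444, .gen 2120 (176, false)),
    (3583, .gen 2120 (178, false)),
    (0, .gen 2120 (188, true)),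
    (2843, .gen 2836 (177, false)),
    (1173, .gen 2836 (177, true)),
    (378, .gen 2836 (178, false)),
    (340, .gen 2836 (178, true)),
    (1819, .gen 2836 (188, false)),
    (3667, .gen 2836 (188, true)),
    (2608, .gen 3139 (177, false)),
    (708, .gen 3139 (178, false)),
    (2547, .gen 3139 (178, true)),
    (128, .gen 3139 (188, false)),
    (926, .gen 3139 (188, true)),
    (1690, .gen 3332 (178, false)),
    (3203, .gen 3332 (178, true)),
    (3298, .gen 3332 (188, false)),
    (943, .gen 3332 (188, true)),
    (2149, .gen 3735 (178, false)),
    (2307, .gen 3735 (188, false)),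
    (3227, .gen 3735 (188, true)),
    (3257, .gen 174 (188, false)),
    (3370, .gen 174 (188, true)),
    (1760, .gen 805 (176, false)),
    (803, .gen 805 (178, true)),
    (1533, .gen 805 (188, false)),
    (750, .gen 280 (176, false)),
    (2615, .gen 280 (178, false)),
    (1709, .gen 280 (188, true)),
    (3176, .gen 855 (177, false)),
    (2589, .gen 855 (177, true)),
    (1888, .gen 855 (178, false)),
    (1411, .gen 855 (178, true)),
    (3022, .gen 855 (188, false)),
    (1416, .gen 855 (188, true)),
    (101, .gen 155 (177, false)),
    (167, .gen 155 (178, false)),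
    (978, .gen 155 (178, true)),
    (3439, .gen 155 (188, false)),
    (2253, .gen 155 (188, true)),
    (3083, .gen 3171 (178, false)),
    (1141, .gen 3171 (178, true)),
    (2059, .gen 3171 (188, false)),
    (542, .gen 3171 (188, true)),
    (2646, .gen 1784 (178, false)),
    (3354, .gen 1784 (188, false)),
    (3147, .gen 1784 (188, true)),
    (634, .gen 2236 (188, false)),
    (3595, .gen 2236 (188, true)),
    (3448, .gen 80 (176, false)),
    (2815, .gen 80 (178, true)),
    (3429, .gen 80 (188, false)),
    (3783, .gen 714 (176, false)),
    (1476, .gen 714 (178, false)),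
    (3312, .gen 714 (188, true)),
    (1393, .gen 3106 (178, false)),
    (3126, .gen 3106 (188, false)),
    (2581, .gen 99 (188, true)),
    (2684, .gen 2969 (178, true)),
    (965, .gen 3641 (178, false)),
    (1018, .gen 1213 (188, false)),
    (964, .gen 1213 (188, true)),
    (683, .gen 2125 (188, false)),
    (56, .gen 2125 (188, true)),
    (234, .gen 1814 (178, false)),
    (1490, .gen 3230 (178, false)),
    (1515, .gen 3230 (188, false)),
    (3364, .gen 1616 (178, true)),
    (299, .gen 1133 (176, false)),
    (3191, .gen 1133 (178, false)),
    (1328, .gen 927 (188, true)),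
    (2650, .gen 3409 (178, false)),
    (2751, .gen 3409 (188, false)),
    (3636, .gen 3241 (188, true)),
    (2673, .gen 3527 (178, true)),
    (574, .gen 2802 (178, false)),
    (331, .gen 2802 (178, true)),
    (913, .gen 2802 (188, false)),
    (2051, .gen 3606 (178, false)),
    (2439, .gen 3606 (178, true)),
    (162, .gen 1403 (188, false)),
    (1536, .gen 1403 (188, true)),
    (2544, .gen 2124 (176, false)),
    (2378, .gen 40 (178, false)),
    (1648, .gen 40 (188, true)),
    (3088, .gen 499 (178, false)),
    (751, .gen 1607 (188, true)),
    (1124, .gen 724 (176, false)),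
    (3186, .gen 724 (178, true)),
    (1184, .gen 724 (188, false)),
    (2765, .gen 2783 (188, true)),
    (2323, .gen 421 (178, true)),
    (1660, .gen 421 (188, false)),
    (2961, .gen 2204 (176, false)),
    (2782, .gen 1952 (176, false)),
    (102, .gen 2946 (188, false)),
    (1311, .gen 2946 (188, true)),
    (1706, .gen 2260 (188, false)),
    (277, .gen 2260 (188, true)),
    (848, .gen 2 (188, false)),
    (177, .gen 2 (188, true)),
    (1394, .gen 1867 (178, false)),
    (1840, .gen 1867 (188, false)),
    (1936, .gen 1867 (188, true)),
    (2868, .gen 3248 (178, true)),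
    (1701, .gen 723 (176, false)),
    (2005, .gen 2853 (188, false)),
    (365, .gen 2853 (188, true)),
    (1073, .gen 145 (188, false)),
    (1372, .gen 145 (188, true)),
    (1750, .gen 2279 (177, false)),
    (1775, .gen 2279 (178, false)),
    (1884, .gen 2279 (178, true)),
    (519, .gen 2279 (188, false)),
    (3221, .gen 2279 (188, true)),
    (2977, .gen 2442 (178, false)),
    (462, .gen 2442 (178, true)),
    (501, .gen 2442 (188, false)),
    (1851, .gen 2442 (188, true)),
    (2617, .gen 3454 (178, false)),
    (1480, .gen 3454 (188, false)),
    (1464, .gen 3454 (188, true)),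
    (1848, .gen 2578 (176, false)),
    (3499, .gen 2578 (178, true))]

/-- Visits. -/
def v13_6 : List (ℕ × Src) :=
  [(1620, .gen 802 (176, false)),
    (652, .gen 802 (178, false)),
    (2557, .gen 1512 (178, false)),
    (1667, .gen 1512 (178, true)),
    (1503, .gen 1512 (188, false)),
    (1681, .gen 1512 (188, true)),
    (2744, .gen 1798 (178, false)),
    (875, .gen 1798 (188, false)),
    (293, .gen 1798 (188, true)),
    (271, .gen 602 (188, true)),
    (2134, .gen 3779 (176, false)),
    (1839, .gen 3779 (178, true)),
    (1823, .gen 3779 (188, false)),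
    (3131, .gen 3510 (178, false)),
    (1241, .gen 3510 (188, true)),
    (535, .gen 2603 (178, false)),
    (2733, .gen 2603 (188, false)),
    (2077, .gen 3324 (188, false)),
    (1658, .gen 3324 (188, true)),
    (222, .gen 517 (178, true)),
    (1877, .gen 517 (188, false)),
    (371, .gen 1135 (176, false)),
    (3087, .gen 1135 (178, false)),
    (394, .gen 2341 (188, false)),
    (2947, .gen 3378 (188, true)),
    (622, .gen 2916 (188, true)),
    (664, .gen 1511 (188, true)),
    (1132, .gen 814 (178, true)),
    (606, .gen 2382 (188, false)),
    (3021, .gen 676 (177, false)),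
    (2024, .gen 676 (178, true)),
    (324, .gen 676 (188, false)),
    (3217, .gen 676 (188, true)),
    (1401, .gen 3404 (178, true)),
    (3218, .gen 3404 (188, false)),
    (2180, .gen 3404 (188, true)),
    (1419, .gen 657 (188, false)),
    (2533, .gen 657 (188, true)),
    (1993, .gen 893 (176, false)),
    (554, .gen 3575 (178, false)),
    (3316, .gen 3094 (178, true)),
    (1193, .gen 3094 (188, false)),
    (1703, .gen 3094 (188, true)),
    (2114, .gen 545 (188, true)),
    (1153, .gen 495 (176, false)),
    (1870, .gen 2810 (188, true)),
    (3130, .gen 2073 (188, false)),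
    (1095, .gen 932 (188, false)),
    (1972, .gen 3402 (178, false)),
    (2920, .gen 1573 (177, false)),
    (3201, .gen 1573 (178, false)),
    (434, .gen 1573 (178, true)),
    (3666, .gen 1573 (188, false)),
    (2871, .gen 1573 (188, true)),
    (2957, .gen 3043 (178, false)),
    (3654, .gen 3626 (178, false)),
    (1998, .gen 1513 (176, false)),
    (454, .gen 1836 (176, false)),
    (1981, .gen 1836 (178, false)),
    (3137, .gen 2270 (178, false)),
    (3444, .gen 2270 (188, false)),
    (117, .gen 716 (178, false)),
    (3728, .gen 716 (188, false)),
    (2250, .gen 716 (188, true)),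
    (3495, .gen 639 (188, false)),
    (1362, .gen 2248 (188, false)),
    (3761, .gen 1718 (188, true)),
    (3695, .gen 3484 (178, true)),
    (2485, .gen 2235 (177, false)),
    (2593, .gen 2235 (178, false)),
    (438, .gen 2235 (178, true)),
    (2111, .gen 2235 (188, false)),
    (3296, .gen 2235 (188, true)),
    (1749, .gen 2061 (178, false)),
    (1185, .gen 2061 (178, true)),
    (2200, .gen 2061 (188, false)),
    (1904, .gen 2061 (188, true)),
    (3250, .gen 12 (178, false)),
    (1663, .gen 12 (188, false)),
    (1304, .gen 12 (188, true)),
    (2748, .gen 3546 (176, false)),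
    (1047, .gen 3546 (178, true)),
    (779, .gen 1247 (176, false)),
    (2905, .gen 1247 (178, false)),
    (1961, .gen 1548 (178, false)),
    (3401, .gen 1548 (178, true)),
    (1668, .gen 1548 (188, false)),
    (3172, .gen 1548 (188, true)),
    (2833, .gen 1200 (178, false)),
    (829, .gen 1200 (188, false)),
    (1465, .gen 1200 (188, true)),
    (3337, .gen 2498 (188, true)),
    (1940, .gen 1521 (176, false)),
    (2907, .gen 1521 (178, true)),
    (2689, .gen 1521 (188, false)),
    (87, .gen 1015 (178, false)),
    (3582, .gen 1015 (188, true)),
    (2495, .gen 1858 (178, false)),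
    (868, .gen 1858 (188, false)),
    (3063, .gen 3463 (188, false)),
    (617, .gen 3463 (188, true)),
    (3356, .gen 3329 (178, true)),
    (2168, .gen 3329 (188, false)),
    (2079, .gen 213 (176, false)),
    (1326, .gen 213 (178, false)),
    (3031, .gen 1982 (188, false)),
    (306, .gen 3784 (188, true)),
    (2413, .gen 2368 (188, true)),
    (3258, .gen 2473 (188, true)),
    (1167, .gen 1104 (178, true)),
    (929, .gen 3278 (188, false)),
    (1574, .gen 2955 (177, false)),
    (845, .gen 2955 (178, true)),
    (682, .gen 2955 (188, false)),
    (3334, .gen 18 (178, false)),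
    (1986, .gen 18 (188, true)),
    (2325, .gen 1849 (178, false)),
    (1883, .gen 3366 (176, false)),
    (428, .gen 3366 (178, true)),
    (2902, .gen 593 (176, false)),
    (156, .gen 593 (178, false)),
    (2573, .gen 2150 (178, false)),
    (1602, .gen 2150 (188, true)),
    (532, .gen 2470 (178, false)),
    (2807, .gen 2470 (188, true)),
    (114, .gen 1778 (188, true)),
    (3758, .gen 1664 (188, true)),
    (429, .gen 793 (188, false)),
    (903, .gen 3747 (177, false)),
    (2649, .gen 3747 (178, false)),
    (1890, .gen 3747 (178, true)),
    (3469, .gen 3747 (188, false)),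
    (400, .gen 2677 (178, true)),
    (3210, .gen 2677 (188, false)),
    (1192, .gen 2917 (178, false)),
    (2163, .gen 3233 (176, false)),
    (2422, .gen 3233 (178, true)),
    (1085, .gen 2929 (176, false)),
    (3077, .gen 934 (178, true)),
    (518, .gen 2227 (188, false)),
    (1432, .gen 3000 (188, true)),
    (3617, .gen 2556 (188, false)),
    (279, .gen 3002 (188, false)),
    (1166, .gen 2356 (188, false)),
    (2207, .gen 1617 (178, false)),
    (1340, .gen 2903 (188, true)),
    (2838, .gen 987 (177, false)),
    (2460, .gen 987 (178, true)),
    (1935, .gen 987 (188, false)),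
    (2084, .gen 2480 (178, false)),
    (956, .gen 2480 (188, true)),
    (2231, .gen 2562 (178, false)),
    (1881, .gen 1486 (176, false)),
    (2798, .gen 1486 (178, true)),
    (2885, .gen 2407 (176, false)),
    (2863, .gen 2407 (178, false)),
    (2351, .gen 3236 (178, false)),
    (3015, .gen 3236 (188, true)),
    (90, .gen 1529 (178, false)),
    (402, .gen 1529 (188, true)),
    (1000, .gen 3756 (188, true)),
    (2173, .gen 1439 (188, true)),
    (1551, .gen 1409 (188, false)),
    (3386, .gen 3679 (177, false)),
    (1818, .gen 3679 (178, true)),
    (1088, .gen 3679 (188, false)),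
    (164, .gen 3679 (188, true)),
    (175, .gen 3314 (178, true)),
    (3677, .gen 3314 (188, false)),
    (1086, .gen 3314 (188, true)),
    (2555, .gen 1346 (188, false)),
    (2873, .gen 1346 (188, true)),
    (2795, .gen 1118 (176, false)),
    (2403, .gen 3681 (178, false)),
    (2164, .gen 144 (178, true)),
    (1518, .gen 144 (188, false)),
    (522, .gen 144 (188, true)),
    (3717, .gen 3398 (188, true)),
    (148, .gen 2493 (176, false)),
    (675, .gen 3259 (188, true)),
    (3661, .gen 3054 (188, false)),
    (2561, .gen 1165 (188, false)),
    (2143, .gen 392 (178, false)),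
    (2913, .gen 2985 (177, false)),
    (2635, .gen 2985 (188, false)),
    (972, .gen 393 (188, true)),
    (1933, .gen 3340 (176, false)),
    (2604, .gen 2704 (176, false)),
    (883, .gen 2540 (178, false)),
    (2804, .gen 2540 (178, true)),
    (425, .gen 2540 (188, false)),
    (3425, .gen 2540 (188, true)),
    (3059, .gen 1489 (188, true)),
    (2531, .gen 3034 (188, true)),
    (3049, .gen 1481 (176, false)),
    (2154, .gen 1481 (178, true)),
    (3669, .gen 506 (188, true)),
    (339, .gen 3564 (188, false)),
    (116, .gen 3029 (176, false)),
    (1429, .gen 3029 (178, false)),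
    (3473, .gen 1568 (177, false)),
    (420, .gen 245 (188, false)),
    (3793, .gen 245 (188, true)),
    (885, .gen 398 (176, false)),
    (2538, .gen 2437 (188, true)),
    (2522, .gen 1817 (188, true)),
    (3091, .gen 3168 (177, false)),
    (1677, .gen 3168 (178, false)),
    (2792, .gen 3168 (188, false)),
    (3299, .gen 3168 (188, true)),
    (1988, .gen 1542 (178, true)),
    (3156, .gen 1542 (188, false)),
    (3760, .gen 1542 (188, true)),
    (3246, .gen 892 (178, false)),
    (2487, .gen 2523 (176, false)),
    (1683, .gen 2246 (176, false)),
    (424, .gen 94 (178, true)),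
    (1745, .gen 838 (178, false)),
    (1540, .gen 838 (188, true)),
    (2717, .gen 500 (188, true)),
    (3279, .gen 3039 (178, true)),
    (1234, .gen 3039 (188, false)),
    (2784, .gen 1080 (178, false)),
    (3397, .gen 1147 (188, true)),
    (3584, .gen 2861 (178, true)),
    (2927, .gen 2524 (188, false)),
    (2471, .gen 3749 (178, false)),
    (2543, .gen 3749 (188, false)),
    (3307, .gen 631 (188, true)),
    (1500, .gen 680 (178, true)),
    (2474, .gen 3525 (178, false)),
    (488, .gen 1593 (178, false)),
    (1534, .gen 1593 (188, true)),
    (1325, .gen 849 (178, false)),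
    (1653, .gen 849 (188, false)),
    (2509, .gen 1356 (188, true)),
    (2315, .gen 1546 (177, false)),
    (1059, .gen 1546 (178, false)),
    (3432, .gen 1546 (178, true)),
    (1678, .gen 1546 (188, false)),
    (2472, .gen 1546 (188, true)),
    (2092, .gen 2272 (178, false)),
    (3185, .gen 2272 (178, true)),
    (1501, .gen 2272 (188, false)),
    (2019, .gen 2272 (188, true)),
    (2147, .gen 3100 (178, false)),
    (2409, .gen 3100 (188, false)),
    (3344, .gen 3100 (188, true)),
    (3268, .gen 497 (176, false)),
    (3721, .gen 497 (178, true)),
    (3384, .gen 3251 (176, false)),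
    (2389, .gen 3251 (178, false)),
    (3753, .gen 1919 (178, false)),
    (1239, .gen 1919 (178, true)),
    (775, .gen 1919 (188, false)),
    (379, .gen 1919 (188, true)),
    (641, .gen 1960 (178, false)),
    (3446, .gen 1960 (188, false)),
    (3288, .gen 1960 (188, true)),
    (230, .gen 2585 (188, true)),
    (2734, .gen 653 (176, false)),
    (2529, .gen 653 (178, true)),
    (165, .gen 653 (188, false)),
    (53, .gen 1911 (178, false)),
    (3451, .gen 1911 (188, true)),
    (916, .gen 744 (178, false)),
    (1286, .gen 744 (188, false)),
    (3040, .gen 72 (188, false)),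
    (2475, .gen 72 (188, true)),
    (91, .gen 2657 (178, true)),
    (2068, .gen 2657 (188, false)),
    (2565, .gen 1696 (176, false)),
    (3436, .gen 1696 (178, false)),
    (846, .gen 297 (188, false)),
    (1951, .gen 2058 (188, true)),
    (880, .gen 2446 (188, true)),
    (3694, .gen 1650 (188, true)),
    (1580, .gen 2619 (178, true)),
    (782, .gen 1485 (188, false)),
    (1159, .gen 2983 (177, false)),
    (208, .gen 2983 (178, false)),
    (1420, .gen 2983 (178, true)),
    (2688, .gen 2983 (188, false)),
    (686, .gen 2983 (188, true)),
    (1014, .gen 166 (178, false)),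
    (690, .gen 166 (178, true)),
    (2046, .gen 166 (188, false)),
    (2297, .gen 166 (188, true)),
    (1089, .gen 204 (178, false)),
    (1331, .gen 204 (188, false)),
    (1700, .gen 204 (188, true)),
    (2741, .gen 3382 (176, false)),
    (725, .gen 3382 (178, true)),
    (541, .gen 983 (176, false)),
    (3385, .gen 983 (178, false)),
    (1123, .gen 3311 (178, false)),
    (415, .gen 3311 (178, true)),
    (1963, .gen 3311 (188, false)),
    (3196, .gen 3311 (188, true)),
    (3306, .gen 1201 (178, false))]

/-- Visits. -/
def v13_7 : List (ℕ × Src) :=
  [(674, .gen 1201 (188, false)),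
    (1038, .gen 1201 (188, true)),
    (1804, .gen 3585 (188, true)),
    (2210, .gen 1115 (176, false)),
    (3309, .gen 1115 (178, true)),
    (1154, .gen 1115 (188, false)),
    (34, .gen 2767 (178, false)),
    (1755, .gen 2767 (188, true)),
    (2017, .gen 1463 (178, false)),
    (2339, .gen 1463 (188, false)),
    (3567, .gen 2760 (188, false)),
    (1162, .gen 2760 (188, true)),
    (1002, .gen 1827 (178, true)),
    (491, .gen 1827 (188, false)),
    (387, .gen 1726 (176, false)),
    (3642, .gen 1726 (178, false)),
    (3544, .gen 1781 (188, false)),
    (3665, .gen 186 (188, true)),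
    (658, .gen 1052 (188, true)),
    (77, .gen 555 (188, true)),
    (2211, .gen 1117 (178, true)),
    (191, .gen 3719 (188, false)),
    (2428, .gen 1920 (178, false)),
    (2172, .gen 1920 (178, true)),
    (847, .gen 1920 (188, false)),
    (3767, .gen 1920 (188, true)),
    (1793, .gen 147 (178, false)),
    (2372, .gen 147 (188, false)),
    (2506, .gen 147 (188, true)),
    (730, .gen 1930 (188, true)),
    (3739, .gen 3003 (176, false)),
    (3468, .gen 3003 (178, true)),
    (2451, .gen 3003 (188, false)),
    (2214, .gen 3509 (178, false)),
    (3267, .gen 3509 (188, true)),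
    (3127, .gen 3396 (178, false)),
    (2435, .gen 3396 (188, false)),
    (364, .gen 715 (178, true)),
    (3785, .gen 1203 (176, false)),
    (2558, .gen 1203 (178, false)),
    (453, .gen 1792 (188, true)),
    (3574, .gen 3349 (178, false)),
    (1973, .gen 3349 (188, false)),
    (1231, .gen 3349 (188, true)),
    (2252, .gen 3589 (176, false)),
    (2217, .gen 3589 (178, true)),
    (1207, .gen 2975 (176, false)),
    (897, .gen 2975 (178, false)),
    (1730, .gen 2280 (178, false)),
    (1594, .gen 2280 (188, false)),
    (1168, .gen 2087 (188, true)),
    (2166, .gen 830 (178, true)),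
    (2449, .gen 1007 (178, false)),
    (2080, .gen 347 (178, false)),
    (2247, .gen 347 (188, false)),
    (681, .gen 2690 (188, true)),
    (3713, .gen 2842 (178, true)),
    (1506, .gen 1871 (178, false)),
    (3686, .gen 3387 (177, false)),
    (2113, .gen 3387 (188, false)),
    (1670, .gen 896 (188, true)),
    (3358, .gen 3579 (176, false)),
    (3070, .gen 3637 (176, false)),
    (3212, .gen 3420 (178, false)),
    (2756, .gen 3420 (178, true)),
    (1598, .gen 3420 (188, false)),
    (3150, .gen 3420 (188, true)),
    (3456, .gen 2135 (188, true)),
    (326, .gen 3423 (188, true)),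
    (2178, .gen 3302 (176, false)),
    (1741, .gen 3302 (178, true)),
    (3132, .gen 2452 (188, true)),
    (3770, .gen 1051 (188, false)),
    (2016, .gen 2310 (176, false)),
    (2630, .gen 2310 (178, false)),
    (107, .gen 3348 (177, false)),
    (2385, .gen 3348 (178, false)),
    (599, .gen 3348 (178, true)),
    (3570, .gen 3348 (188, false)),
    (3541, .gen 3348 (188, true)),
    (198, .gen 78 (178, false)),
    (3108, .gen 78 (178, true)),
    (2295, .gen 78 (188, false)),
    (3441, .gen 78 (188, true)),
    (3226, .gen 998 (178, false)),
    (2261, .gen 998 (188, false)),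
    (408, .gen 998 (188, true)),
    (948, .gen 15 (176, false)),
    (3038, .gen 15 (178, true)),
    (3323, .gen 833 (176, false)),
    (2136, .gen 833 (178, false)),
    (1458, .gen 2308 (178, false)),
    (154, .gen 2308 (178, true)),
    (2865, .gen 2308 (188, false)),
    (1269, .gen 2308 (188, true)),
    (1941, .gen 663 (178, false)),
    (2007, .gen 663 (188, false)),
    (3627, .gen 663 (188, true)),
    (346, .gen 826 (188, true)),
    (3281, .gen 2960 (176, false)),
    (3123, .gen 2960 (178, true)),
    (3656, .gen 2960 (188, false)),
    (3572, .gen 1111 (178, false)),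
    (1579, .gen 1111 (188, true)),
    (3109, .gen 3762 (178, false)),
    (752, .gen 3762 (188, false)),
    (1084, .gen 3705 (188, false)),
    (489, .gen 3705 (188, true)),
    (3174, .gen 3121 (178, true)),
    (3587, .gen 3121 (188, false)),
    (1632, .gen 620 (176, false)),
    (2698, .gen 620 (178, false)),
    (2606, .gen 2195 (188, false)),
    (21, .gen 3032 (188, true)),
    (2349, .gen 2194 (188, true)),
    (3189, .gen 1312 (188, true)),
    (1923, .gen 1284 (178, true)),
    (2383, .gen 3529 (188, false)),
    (1186, .gen 337 (177, false)),
    (882, .gen 337 (178, false)),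
    (1400, .gen 337 (178, true)),
    (2508, .gen 337 (188, false)),
    (3159, .gen 337 (188, true)),
    (2703, .gen 540 (188, false)),
    (3207, .gen 540 (188, true)),
    (2910, .gen 712 (188, false)),
    (578, .gen 712 (188, true)),
    (2256, .gen 557 (176, false)),
    (10, .gen 278 (176, false)),
    (1830, .gen 960 (188, false)),
    (3234, .gen 960 (188, true)),
    (2343, .gen 301 (188, false)),
    (1613, .gen 301 (188, true)),
    (3008, .gen 445 (188, false)),
    (3165, .gen 1046 (188, true)),
    (2242, .gen 3598 (188, false)),
    (1991, .gen 2537 (188, true)),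
    (1816, .gen 1033 (177, false)),
    (1704, .gen 1033 (178, false)),
    (2572, .gen 1033 (178, true)),
    (1734, .gen 1033 (188, false)),
    (1989, .gen 1033 (188, true)),
    (2526, .gen 2781 (178, false)),
    (1143, .gen 2781 (178, true)),
    (3504, .gen 2781 (188, false)),
    (36, .gen 2781 (188, true)),
    (3663, .gen 3238 (178, false)),
    (2674, .gen 3238 (188, false)),
    (2278, .gen 3238 (188, true)),
    (774, .gen 2515 (176, false)),
    (3450, .gen 2515 (178, true)),
    (3629, .gen 1418 (176, false)),
    (3597, .gen 1418 (178, false)),
    (3601, .gen 3403 (178, false)),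
    (2346, .gen 3403 (178, true)),
    (2063, .gen 3403 (188, false)),
    (2318, .gen 3403 (188, true)),
    (507, .gen 2254 (178, false)),
    (65, .gen 2254 (188, false)),
    (358, .gen 2254 (188, true)),
    (3660, .gen 481 (188, true)),
    (2851, .gen 3698 (176, false)),
    (242, .gen 3698 (178, true)),
    (834, .gen 3698 (188, false)),
    (3375, .gen 3588 (178, false)),
    (2105, .gen 3588 (188, true)),
    (288, .gen 2162 (178, false)),
    (2355, .gen 2162 (188, false)),
    (2729, .gen 2569 (188, false)),
    (1452, .gen 2569 (188, true)),
    (439, .gen 869 (178, true)),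
    (1702, .gen 869 (188, false)),
    (370, .gen 2849 (176, false)),
    (409, .gen 2849 (178, false)),
    (3125, .gen 1471 (188, false)),
    (2693, .gen 1938 (188, true)),
    (322, .gen 2599 (188, true)),
    (550, .gen 1853 (188, true)),
    (2827, .gen 3289 (178, true)),
    (1732, .gen 2739 (188, false)),
    (1837, .gen 1971 (177, false)),
    (707, .gen 1971 (178, false)),
    (3389, .gen 1971 (188, false)),
    (284, .gen 1971 (188, true)),
    (1408, .gen 3322 (178, false)),
    (1387, .gen 3322 (188, false)),
    (220, .gen 3322 (188, true)),
    (2043, .gen 786 (176, false)),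
    (2939, .gen 786 (178, true)),
    (2890, .gen 3058 (176, false)),
    (520, .gen 2082 (178, false)),
    (1316, .gen 2082 (188, false)),
    (3255, .gen 404 (188, true)),
    (1637, .gen 1713 (178, true)),
    (1522, .gen 342 (188, false)),
    (1223, .gen 1130 (188, false)),
    (939, .gen 2445 (176, false)),
    (2981, .gen 241 (188, true)),
    (1297, .gen 636 (178, true)),
    (3046, .gen 3222 (188, false)),
    (3280, .gen 1866 (177, false)),
    (1171, .gen 1866 (178, false)),
    (650, .gen 1866 (178, true)),
    (3594, .gen 1866 (188, false)),
    (3712, .gen 1866 (188, true)),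
    (2753, .gen 118 (178, false)),
    (530, .gen 118 (178, true)),
    (1029, .gen 118 (188, false)),
    (1279, .gen 118 (188, true)),
    (2776, .gen 1720 (178, false)),
    (1939, .gen 1720 (188, false)),
    (314, .gen 1720 (188, true)),
    (435, .gen 1541 (176, false)),
    (1646, .gen 1541 (178, true)),
    (2361, .gen 2716 (176, false)),
    (1669, .gen 2716 (178, false)),
    (1625, .gen 3392 (178, false)),
    (3751, .gen 3392 (178, true)),
    (2568, .gen 3392 (188, false)),
    (3033, .gen 3392 (188, true)),
    (309, .gen 2724 (178, false)),
    (3292, .gen 2724 (188, false)),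
    (1119, .gen 2724 (188, true)),
    (610, .gen 2809 (188, true)),
    (227, .gen 3260 (176, false)),
    (2823, .gen 3260 (178, true)),
    (1588, .gen 3260 (188, false)),
    (3317, .gen 3692 (178, false)),
    (2490, .gen 3692 (188, true)),
    (3336, .gen 745 (178, false)),
    (3483, .gen 745 (188, false)),
    (2699, .gen 251 (188, false)),
    (3551, .gen 251 (188, true)),
    (1045, .gen 2116 (178, true)),
    (770, .gen 2116 (188, false)),
    (3457, .gen 2282 (176, false)),
    (440, .gen 2282 (178, false)),
    (3791, .gen 2564 (188, false)),
    (2376, .gen 884 (188, true)),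
    (2976, .gen 1349 (188, true)),
    (3794, .gen 1850 (188, true)),
    (2186, .gen 1610 (178, true)),
    (1758, .gen 2156 (188, false)),
    (1761, .gen 2663 (178, false)),
    (1562, .gen 2663 (178, true)),
    (464, .gen 2663 (188, true)),
    (1826, .gen 2271 (178, true)),
    (200, .gen 3373 (178, false)),
    (452, .gen 3373 (188, false)),
    (1565, .gen 3373 (188, true)),
    (413, .gen 513 (178, false)),
    (2232, .gen 513 (188, false)),
    (1190, .gen 513 (188, true)),
    (504, .gen 1077 (178, false)),
    (1227, .gen 1077 (188, false)),
    (1892, .gen 233 (188, false)),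
    (383, .gen 1886 (178, false)),
    (1609, .gen 1886 (188, true)),
    (3151, .gen 82 (188, false)),
    (188, .gen 2177 (176, false)),
    (430, .gen 1569 (188, true)),
    (2577, .gen 1240 (178, true)),
    (3690, .gen 2550 (177, false)),
    (3113, .gen 2550 (178, false)),
    (1205, .gen 2550 (178, true)),
    (2255, .gen 2550 (188, false)),
    (2133, .gen 2550 (188, true)),
    (2746, .gen 2832 (178, false)),
    (815, .gen 2832 (178, true)),
    (1928, .gen 2832 (188, false)),
    (3736, .gen 2832 (188, true)),
    (781, .gen 1537 (178, false)),
    (2610, .gen 1537 (188, false)),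
    (2398, .gen 1537 (188, true)),
    (2103, .gen 1873 (176, false)),
    (2745, .gen 1873 (178, true)),
    (1324, .gen 2991 (176, false)),
    (1805, .gen 2991 (178, false)),
    (2938, .gen 113 (178, false)),
    (3778, .gen 113 (178, true)),
    (2237, .gen 113 (188, false)),
    (2170, .gen 113 (188, true)),
    (476, .gen 2899 (178, false)),
    (2616, .gen 2899 (188, false)),
    (630, .gen 2899 (188, true)),
    (3491, .gen 2477 (188, true)),
    (2921, .gen 3331 (176, false)),
    (2244, .gen 3331 (178, true)),
    (2273, .gen 3331 (188, false)),
    (572, .gen 3362 (178, false)),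
    (1728, .gen 3362 (188, true)),
    (1763, .gen 2559 (178, false)),
    (2622, .gen 2559 (188, false)),
    (1421, .gen 2104 (188, false)),
    (2085, .gen 2104 (188, true)),
    (1922, .gen 795 (178, true)),
    (2447, .gen 795 (188, false)),
    (669, .gen 1502 (176, false)),
    (2655, .gen 1502 (178, false)),
    (3787, .gen 3662 (188, false))]

/-- Visits. -/
def v13_8 : List (ℕ × Src) :=
  [(1093, .gen 3687 (188, true)),
    (2416, .gen 2944 (188, true)),
    (3689, .gen 583 (188, true)),
    (494, .gen 2161 (178, true)),
    (1992, .gen 1178 (188, false)),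
    (2050, .gen 2221 (177, false)),
    (1483, .gen 2221 (178, false)),
    (576, .gen 2221 (178, true)),
    (3037, .gen 2221 (188, false)),
    (2607, .gen 2221 (188, true)),
    (2932, .gen 427 (178, false)),
    (223, .gen 427 (178, true)),
    (2989, .gen 427 (188, false)),
    (2755, .gen 427 (188, true)),
    (1067, .gen 2706 (178, false)),
    (2712, .gen 2706 (188, false)),
    (205, .gen 2706 (188, true)),
    (1854, .gen 252 (176, false)),
    (2142, .gen 252 (178, true)),
    (338, .gen 2309 (176, false)),
    (2130, .gen 2309 (178, false)),
    (1433, .gen 270 (178, false)),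
    (2967, .gen 270 (178, true)),
    (1398, .gen 270 (188, false)),
    (380, .gen 270 (188, true)),
    (478, .gen 2986 (178, false)),
    (733, .gen 2986 (188, false)),
    (1229, .gen 2986 (188, true)),
    (689, .gen 1307 (188, true)),
    (981, .gen 1846 (176, false)),
    (2465, .gen 1846 (178, true)),
    (2732, .gen 1846 (188, false)),
    (317, .gen 3507 (178, false)),
    (3020, .gen 3507 (188, true)),
    (3768, .gen 1276 (178, false)),
    (2048, .gen 1276 (188, false)),
    (1479, .gen 2513 (188, false)),
    (3730, .gen 2513 (188, true)),
    (2423, .gen 3442 (178, true)),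
    (2139, .gen 3442 (188, false)),
    (1665, .gen 2668 (176, false)),
    (2459, .gen 2668 (178, false)),
    (2912, .gen 3427 (188, false)),
    (866, .gen 1474 (188, true)),
    (1152, .gen 4 (188, true)),
    (3315, .gen 1035 (188, true)),
    (2953, .gen 3649 (178, true)),
    (668, .gen 3672 (188, false)),
    (2692, .gen 3237 (177, false)),
    (1614, .gen 3237 (178, false)),
    (914, .gen 3237 (178, true)),
    (2060, .gen 3237 (188, false)),
    (1581, .gen 3237 (188, true)),
    (1743, .gen 575 (178, false)),
    (2076, .gen 575 (178, true)),
    (1771, .gen 575 (188, false)),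
    (2664, .gen 575 (188, true)),
    (303, .gen 3653 (178, false)),
    (2754, .gen 3653 (188, false)),
    (2891, .gen 3653 (188, true)),
    (3044, .gen 3530 (176, false)),
    (3069, .gen 3530 (178, true)),
    (2332, .gen 1644 (176, false)),
    (332, .gen 1644 (178, false)),
    (2882, .gen 2359 (178, false)),
    (3569, .gen 2359 (178, true)),
    (3668, .gen 2359 (188, false)),
    (588, .gen 2359 (188, true)),
    (457, .gen 1962 (178, false)),
    (3738, .gen 1962 (188, false)),
    (3239, .gen 1962 (188, true)),
    (1122, .gen 1294 (188, true)),
    (2015, .gen 3742 (176, false)),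
    (1535, .gen 3742 (178, true)),
    (25, .gen 3742 (188, false)),
    (3512, .gen 2574 (178, false)),
    (825, .gen 2574 (188, true)),
    (2516, .gen 2887 (178, false)),
    (1161, .gen 2887 (188, false)),
    (859, .gen 3638 (188, false)),
    (3333, .gen 3638 (188, true)),
    (1415, .gen 275 (178, true)),
    (2817, .gen 275 (188, false)),
    (3406, .gen 2502 (176, false)),
    (823, .gen 2502 (178, false)),
    (3561, .gen 2503 (188, false)),
    (1557, .gen 3521 (188, true)),
    (3419, .gen 2357 (188, true)),
    (3558, .gen 3475 (188, true)),
    (1129, .gen 2340 (178, true)),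
    (437, .gen 2730 (188, false)),
    (1780, .gen 799 (177, false)),
    (3301, .gen 799 (178, false)),
    (1385, .gen 799 (178, true)),
    (1407, .gen 799 (188, false)),
    (3691, .gen 799 (188, true)),
    (2140, .gen 2418 (178, false)),
    (1163, .gen 2418 (178, true)),
    (3195, .gen 2418 (188, false)),
    (2915, .gen 2418 (188, true)),
    (2238, .gen 2219 (178, false)),
    (2762, .gen 2219 (188, false)),
    (2507, .gen 2219 (188, true)),
    (644, .gen 2785 (176, false)),
    (362, .gen 2785 (178, true)),
    (1233, .gen 3630 (176, false)),
    (873, .gen 3630 (178, false)),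
    (2347, .gen 463 (178, false)),
    (1134, .gen 463 (178, true)),
    (2304, .gen 463 (188, false)),
    (2453, .gen 463 (188, true)),
    (361, .gen 3522 (178, false)),
    (628, .gen 3522 (188, false)),
    (1576, .gen 3522 (188, true)),
    (2579, .gen 671 (188, true)),
    (2814, .gen 908 (176, false)),
    (1605, .gen 908 (178, true)),
    (2078, .gen 908 (188, false)),
    (1327, .gen 93 (178, false)),
    (3214, .gen 93 (188, true)),
    (1058, .gen 1146 (178, false)),
    (1256, .gen 1146 (188, false)),
    (3128, .gen 2401 (188, false)),
    (3079, .gen 2401 (188, true)),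
    (341, .gen 486 (178, true)),
    (2835, .gen 486 (188, false)),
    (1530, .gen 3740 (176, false)),
    (1834, .gen 3740 (178, false)),
    (756, .gen 2727 (188, false)),
    (3590, .gen 3321 (188, true)),
    (329, .gen 704 (188, true)),
    (134, .gen 3282 (188, true)),
    (3467, .gen 172 (178, true)),
    (2829, .gen 1496 (188, false)),
    (3242, .gen 870 (178, false)),
    (2984, .gen 870 (178, true)),
    (563, .gen 870 (188, false)),
    (937, .gen 931 (188, true)),
    (1254, .gen 3310 (176, false)),
    (201, .gen 3310 (178, true)),
    (2262, .gen 3310 (188, false)),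
    (1943, .gen 505 (188, true)),
    (2634, .gen 2884 (177, false)),
    (2638, .gen 2884 (178, false)),
    (176, .gen 2884 (188, false)),
    (3413, .gen 2884 (188, true)),
    (2448, .gen 2190 (178, true)),
    (709, .gen 2190 (188, false)),
    (2683, .gen 2190 (188, true)),
    (1402, .gen 3065 (178, false)),
    (3112, .gen 2458 (176, false)),
    (1924, .gen 544 (176, false)),
    (2893, .gen 1889 (178, true)),
    (3646, .gen 141 (178, false)),
    (3455, .gen 141 (188, true)),
    (2491, .gen 1053 (188, true)),
    (1688, .gen 2980 (178, true)),
    (3764, .gen 2980 (188, false)),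
    (1296, .gen 2895 (178, false)),
    (349, .gen 1330 (188, true)),
    (1656, .gen 2083 (178, true)),
    (3600, .gen 3772 (188, false)),
    (616, .gen 31 (177, false)),
    (196, .gen 31 (178, false)),
    (3633, .gen 31 (178, true)),
    (405, .gen 31 (188, false)),
    (832, .gen 31 (188, true)),
    (143, .gen 75 (178, false)),
    (282, .gen 75 (178, true)),
    (3416, .gen 75 (188, false)),
    (1757, .gen 75 (188, true)),
    (1862, .gen 2816 (178, false)),
    (30, .gen 2816 (188, false)),
    (1320, .gen 2816 (188, true)),
    (3182, .gen 1828 (176, false)),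
    (3252, .gen 1828 (178, true)),
    (418, .gen 496 (176, false)),
    (493, .gen 496 (178, false)),
    (2931, .gen 3462 (178, false)),
    (52, .gen 3462 (178, true)),
    (2639, .gen 3462 (188, false)),
    (1368, .gen 3462 (188, true)),
    (1520, .gen 1097 (178, false)),
    (2317, .gen 1097 (188, false)),
    (2825, .gen 1097 (188, true)),
    (527, .gen 2464 (188, true)),
    (3618, .gen 2710 (176, false)),
    (2033, .gen 2710 (178, true)),
    (298, .gen 2710 (188, false)),
    (120, .gen 2027 (178, false)),
    (2584, .gen 2027 (188, true)),
    (3273, .gen 436 (178, false)),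
    (377, .gen 436 (188, false)),
    (1214, .gen 2028 (188, false)),
    (449, .gen 2028 (188, true)),
    (3122, .gen 3431 (178, true)),
    (71, .gen 3431 (188, false)),
    (1388, .gen 407 (176, false)),
    (395, .gen 407 (178, false)),
    (1187, .gen 3181 (188, false)),
    (150, .gen 1144 (188, true)),
    (2945, .gen 864 (188, true)),
    (1062, .gen 2468 (188, true)),
    (3098, .gen 2694 (178, true)),
    (944, .gen 993 (188, false)),
    (1759, .gen 3169 (177, false)),
    (357, .gen 3169 (178, false)),
    (2926, .gen 3169 (178, true)),
    (328, .gen 3169 (188, false)),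
    (2875, .gen 3169 (188, true)),
    (1309, .gen 966 (178, false)),
    (2771, .gen 966 (178, true)),
    (1336, .gen 966 (188, false)),
    (3745, .gen 966 (188, true)),
    (27, .gen 2176 (178, false)),
    (3614, .gen 2176 (188, false)),
    (2624, .gen 2176 (188, true)),
    (3720, .gen 1459 (176, false)),
    (3380, .gen 1459 (178, true)),
    (2592, .gen 2813 (176, false)),
    (806, .gen 2813 (178, false)),
    (1765, .gen 417 (178, false)),
    (2834, .gen 417 (178, true)),
    (3528, .gen 417 (188, false)),
    (2373, .gen 417 (188, true)),
    (267, .gen 3313 (178, false)),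
    (411, .gen 3313 (188, false)),
    (1970, .gen 3313 (188, true)),
    (2215, .gen 2360 (188, true)),
    (1001, .gen 822 (176, false)),
    (1528, .gen 822 (178, true)),
    (3001, .gen 822 (188, false)),
    (2900, .gen 2908 (178, false)),
    (258, .gen 2908 (188, true)),
    (1777, .gen 1456 (178, false)),
    (1215, .gen 1456 (188, false)),
    (1410, .gen 1774 (188, false)),
    (2095, .gen 1774 (188, true)),
    (3277, .gen 443 (178, true)),
    (878, .gen 443 (188, false)),
    (3729, .gen 2695 (176, false)),
    (1482, .gen 2695 (178, false)),
    (1266, .gen 3685 (188, false)),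
    (3471, .gen 1305 (188, true)),
    (1578, .gen 369 (188, true)),
    (1253, .gen 2631 (188, true)),
    (1446, .gen 2002 (178, true)),
    (1776, .gen 2213 (188, false)),
    (137, .gen 1361 (177, false)),
    (614, .gen 1361 (178, false)),
    (1374, .gen 1361 (178, true)),
    (3365, .gen 1361 (188, false)),
    (762, .gen 1361 (188, true)),
    (508, .gen 1716 (178, false)),
    (1493, .gen 1716 (178, true)),
    (3577, .gen 1716 (188, false)),
    (1026, .gen 1716 (188, true)),
    (1109, .gen 2320 (178, false)),
    (1174, .gen 2320 (188, false)),
    (3192, .gen 2320 (188, true)),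
    (3737, .gen 2386 (176, false)),
    (2283, .gen 2386 (178, true)),
    (195, .gen 2212 (176, false)),
    (1950, .gen 2212 (178, false)),
    (796, .gen 1353 (178, false)),
    (225, .gen 1353 (178, true)),
    (2964, .gen 1353 (188, false)),
    (3286, .gen 1353 (188, true)),
    (1694, .gen 2336 (178, false)),
    (1906, .gen 2336 (188, false)),
    (2436, .gen 2336 (188, true)),
    (2201, .gen 2970 (188, true)),
    (1003, .gen 2791 (176, false)),
    (3693, .gen 2791 (178, true)),
    (14, .gen 2791 (188, false)),
    (289, .gen 351 (178, false)),
    (173, .gen 351 (188, true)),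
    (3586, .gen 1208 (178, false)),
    (1373, .gen 1208 (188, false)),
    (455, .gen 1249 (188, false)),
    (416, .gen 1249 (188, true)),
    (2216, .gen 1980 (178, true)),
    (728, .gen 1980 (188, false)),
    (110, .gen 1612 (176, false)),
    (1065, .gen 1612 (178, false)),
    (2380, .gen 1561 (188, false)),
    (1025, .gen 2159 (188, true)),
    (406, .gen 3035 (188, true)),
    (777, .gen 1189 (188, true)),
    (2898, .gen 3547 (178, true)),
    (490, .gen 2004 (188, false)),
    (98, .gen 2764 (177, false)),
    (1692, .gen 2764 (178, false)),
    (2794, .gen 2764 (178, true)),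
    (758, .gen 2764 (188, false)),
    (2074, .gen 2764 (188, true)),
    (3153, .gen 3326 (178, false)),
    (3775, .gen 3326 (178, true)),
    (2950, .gen 3326 (188, false)),
    (2534, .gen 3326 (188, true))]

/-- Visits. -/
def v13_9 : List (ℕ × Src) :=
  [(2065, .gen 1584 (178, false)),
    (3291, .gen 1584 (188, false)),
    (2032, .gen 1584 (188, true)),
    (1377, .gen 1274 (176, false)),
    (1524, .gen 1274 (178, true)),
    (980, .gen 2420 (176, false)),
    (732, .gen 2420 (178, false)),
    (3707, .gen 239 (178, false)),
    (2171, .gen 239 (178, true)),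
    (3609, .gen 239 (188, false)),
    (3447, .gen 239 (188, true)),
    (988, .gen 2511 (178, false)),
    (3493, .gen 2511 (188, false)),
    (108, .gen 2511 (188, true)),
    (2288, .gen 3613 (188, true)),
    (2088, .gen 1404 (176, false)),
    (1695, .gen 1404 (178, true)),
    (1265, .gen 1404 (188, false)),
    (1448, .gen 3141 (178, false)),
    (2224, .gen 3141 (188, true)),
    (2731, .gen 187 (178, false)),
    (3485, .gen 187 (188, false)),
    (2486, .gen 2489 (188, false)),
    (448, .gen 2489 (188, true)),
    (1622, .gen 475 (178, true)),
    (1863, .gen 475 (188, false)),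
    (2438, .gen 2039 (176, false)),
    (3303, .gen 2039 (178, false)),
    (648, .gen 3006 (188, false)),
    (1787, .gen 1640 (188, true)),
    (1990, .gen 947 (188, true)),
    (3343, .gen 1631 (188, true)),
    (2191, .gen 2743 (178, true)),
    (247, .gen 160 (188, false)),
    (3552, .gen 2160 (177, false)),
    (1030, .gen 2160 (178, false)),
    (3766, .gen 2160 (178, true)),
    (2400, .gen 2160 (188, false)),
    (3540, .gen 2160 (188, true)),
    (3129, .gen 3562 (178, false)),
    (702, .gen 3562 (178, true)),
    (3537, .gen 3562 (188, false)),
    (3657, .gen 3562 (188, true)),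
    (259, .gen 1460 (178, false)),
    (2034, .gen 1460 (188, false)),
    (146, .gen 1460 (188, true)),
    (876, .gen 2012 (176, false)),
    (2185, .gen 2012 (178, true)),
    (1675, .gen 605 (176, false)),
    (2869, .gen 605 (178, false)),
    (3554, .gen 115 (178, false)),
    (854, .gen 115 (178, true)),
    (2821, .gen 115 (188, false)),
    (3568, .gen 115 (188, true)),
    (1843, .gen 2415 (178, false)),
    (487, .gen 2415 (188, false)),
    (1271, .gen 2415 (188, true)),
    (104, .gen 764 (188, true)),
    (801, .gen 1005 (176, false)),
    (2773, .gen 1005 (178, true)),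
    (2228, .gen 1005 (188, false)),
    (2419, .gen 1293 (178, false)),
    (1894, .gen 1293 (188, true)),
    (1004, .gen 2548 (178, false)),
    (902, .gen 2548 (188, false)),
    (959, .gen 3680 (188, false)),
    (1235, .gen 3680 (188, true)),
    (3339, .gen 3709 (178, true)),
    (2591, .gen 3709 (188, false)),
    (2721, .gen 2766 (176, false)),
    (2640, .gen 2766 (178, false)),
    (3472, .gen 1852 (188, false)),
    (3253, .gen 2457 (188, true)),
    (283, .gen 471 (188, true)),
    (2394, .gen 3162 (188, true)),
    (3055, .gen 3005 (178, true)),
    (1347, .gen 3535 (188, false)),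
    (1752, .gen 3648 (177, false)),
    (111, .gen 3648 (178, false)),
    (3095, .gen 3648 (178, true)),
    (785, .gen 3648 (188, false)),
    (1278, .gen 3648 (188, true)),
    (3274, .gen 3440 (178, false)),
    (1263, .gen 3440 (178, true)),
    (182, .gen 3440 (188, false)),
    (1125, .gen 3440 (188, true)),
    (1321, .gen 863 (178, false)),
    (2369, .gen 863 (188, false)),
    (3460, .gen 863 (188, true)),
    (613, .gen 2696 (176, false)),
    (612, .gen 2696 (178, true)),
    (3556, .gen 3774 (176, false)),
    (2691, .gen 3774 (178, false)),
    (827, .gen 1717 (178, false)),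
    (2567, .gen 1717 (178, true)),
    (531, .gen 1717 (188, false)),
    (3215, .gen 1717 (188, true)),
    (3470, .gen 1352 (178, false)),
    (1764, .gen 1352 (188, false)),
    (2862, .gen 1352 (188, true)),
    (1953, .gen 2300 (188, true)),
    (1773, .gen 42 (176, false)),
    (2291, .gen 42 (178, true)),
    (151, .gen 42 (188, false)),
    (3011, .gen 3297 (178, false)),
    (1766, .gen 3297 (188, true)),
    (945, .gen 1905 (178, false)),
    (1366, .gen 1905 (188, false)),
    (3263, .gen 1974 (188, false)),
    (1066, .gen 1974 (188, true)),
    (1355, .gen 95 (178, true)),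
    (60, .gen 95 (188, false)),
    (3025, .gen 1497 (176, false)),
    (1020, .gen 1497 (178, false)),
    (1176, .gen 3146 (188, false)),
    (3209, .gen 1175 (188, true)),
    (2852, .gen 2209 (188, true)),
    (3596, .gen 466 (188, true)),
    (3028, .gen 1654 (178, true)),
    (2319, .gen 1504 (188, false)),
    (269, .gen 3023 (177, false)),
    (524, .gen 3023 (178, false)),
    (2264, .gen 3023 (178, true)),
    (2941, .gen 3023 (188, false)),
    (3187, .gen 3023 (188, true)),
    (1358, .gen 1354 (178, false)),
    (2670, .gen 1354 (178, true)),
    (3016, .gen 1354 (188, false)),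
    (737, .gen 1354 (188, true)),
    (1725, .gen 1222 (178, false)),
    (1794, .gen 1222 (188, false)),
    (3, .gen 1222 (188, true)),
    (3114, .gen 2959 (176, false)),
    (1627, .gen 2959 (178, true)),
    (2414, .gen 1538 (176, false)),
    (2365, .gen 1538 (178, false)),
    (1116, .gen 1772 (178, false)),
    (514, .gen 1772 (178, true)),
    (1414, .gen 1772 (188, false)),
    (1447, .gen 1772 (188, true)),
    (747, .gen 1070 (178, false)),
    (891, .gen 1070 (188, false)),
    (335, .gen 1070 (188, true)),
    (1019, .gen 2197 (188, true)),
    (1313, .gen 2922 (176, false)),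
    (772, .gen 2922 (178, true)),
    (1449, .gen 2922 (188, false)),
    (2978, .gen 1102 (178, false)),
    (1082, .gen 1102 (188, true)),
    (1164, .gen 2956 (178, false)),
    (1100, .gen 2956 (188, false)),
    (999, .gen 627 (188, false)),
    (2627, .gen 627 (188, true)),
    (2796, .gen 1087 (178, true)),
    (3110, .gen 1087 (188, false)),
    (2220, .gen 49 (176, false)),
    (1901, .gen 49 (178, false)),
    (3593, .gen 1916 (188, false)),
    (3523, .gen 2230 (188, true)),
    (1812, .gen 3664 (188, true)),
    (3599, .gen 13 (188, true)),
    (3608, .gen 2302 (178, true)),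
    (2392, .gen 2889 (188, false)),
    (905, .gen 2749 (177, false)),
    (24, .gen 2749 (178, false)),
    (1788, .gen 2749 (178, true)),
    (2948, .gen 2749 (188, false)),
    (3271, .gen 2749 (188, true)),
    (3573, .gen 697 (178, false)),
    (3393, .gen 697 (178, true)),
    (3639, .gen 697 (188, false)),
    (1367, .gen 697 (188, true)),
    (963, .gen 1148 (178, false)),
    (989, .gen 1148 (188, false)),
    (1280, .gen 1148 (188, true)),
    (1618, .gen 126 (176, false)),
    (1527, .gen 126 (178, true)),
    (1552, .gen 3545 (176, false)),
    (2364, .gen 3545 (178, false)),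
    (521, .gen 3726 (178, false)),
    (3752, .gen 3726 (178, true)),
    (643, .gen 3726 (188, false)),
    (930, .gen 3726 (188, true)),
    (2311, .gen 2595 (178, false)),
    (312, .gen 2595 (188, false)),
    (3305, .gen 2595 (188, true)),
    (3701, .gen 925 (188, true)),
    (2928, .gen 2772 (176, false)),
    (123, .gen 2772 (178, true)),
    (685, .gen 2772 (188, false)),
    (748, .gen 1856 (178, false)),
    (2514, .gen 1856 (188, true)),
    (590, .gen 1050 (178, false)),
    (240, .gen 1050 (188, false)),
    (3479, .gen 3555 (188, false)),
    (281, .gen 3555 (188, true)),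
    (2759, .gen 460 (178, true)),
    (2633, .gen 460 (188, false)),
    (479, .gen 974 (176, false)),
    (3013, .gen 974 (178, false)),
    (3777, .gen 3170 (188, false)),
    (3061, .gen 68 (188, true)),
    (1156, .gen 2208 (188, true)),
    (1754, .gen 2517 (188, true)),
    (1783, .gen 2158 (178, true)),
    (3198, .gen 1431 (188, false)),
    (133, .gen 179 (177, false)),
    (2259, .gen 179 (178, false)),
    (2840, .gen 179 (178, true)),
    (3080, .gen 179 (188, false)),
    (1942, .gen 179 (188, true)),
    (1198, .gen 2659 (178, false)),
    (1899, .gen 2659 (178, true)),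
    (210, .gen 2659 (188, false)),
    (1365, .gen 2659 (188, true)),
    (3143, .gen 3116 (178, false)),
    (2456, .gen 3116 (188, false)),
    (2144, .gen 3116 (188, true)),
    (2654, .gen 3117 (176, false)),
    (1608, .gen 3117 (178, true)),
    (2769, .gen 2844 (176, false)),
    (3204, .gen 2844 (178, false)),
    (3723, .gen 3790 (178, false)),
    (3254, .gen 3790 (178, true)),
    (1630, .gen 3790 (188, false)),
    (1672, .gen 3790 (188, true)),
    (761, .gen 1478 (178, false)),
    (1436, .gen 1478 (188, false)),
    (1600, .gen 1478 (188, true)),
    (159, .gen 3285 (188, true)),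
    (1735, .gen 2757 (176, false)),
    (1424, .gen 2757 (178, true)),
    (2973, .gen 2757 (188, false)),
    (3007, .gen 2711 (178, false)),
    (2488, .gen 2711 (188, true)),
    (3051, .gen 3167 (178, false)),
    (1945, .gen 3167 (188, false)),
    (2775, .gen 1138 (188, false)),
    (1996, .gen 1138 (188, true)),
    (2850, .gen 3619 (178, true)),
    (1693, .gen 3619 (188, false)),
    (1405, .gen 3361 (176, false)),
    (2923, .gen 3361 (178, false)),
    (766, .gen 2023 (188, false)),
    (2395, .gen 2205 (188, true)),
    (1219, .gen 1342 (188, true)),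
    (296, .gen 3177 (188, true)),
    (1068, .gen 3056 (178, true)),
    (1505, .gen 3155 (188, false)),
    (950, .gen 2299 (177, false)),
    (1285, .gen 2299 (178, false)),
    (1106, .gen 2299 (178, true)),
    (2006, .gen 2299 (188, false)),
    (1292, .gen 2299 (188, true)),
    (586, .gen 729 (178, false)),
    (459, .gen 729 (178, true)),
    (1494, .gen 729 (188, false)),
    (3148, .gen 729 (188, true)),
    (3338, .gen 2350 (178, false)),
    (23, .gen 2350 (188, false)),
    (192, .gen 2350 (188, true)),
    (350, .gen 1318 (176, false)),
    (1277, .gen 1318 (178, true)),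
    (3526, .gen 2099 (176, false)),
    (336, .gen 2099 (178, false)),
    (928, .gen 2549 (178, false)),
    (3708, .gen 2549 (178, true)),
    (1289, .gen 2549 (188, false)),
    (667, .gen 2549 (188, true)),
    (66, .gen 268 (178, false)),
    (2298, .gen 268 (188, false)),
    (1221, .gen 268 (188, true)),
    (1121, .gen 3603 (188, true)),
    (180, .gen 595 (176, false)),
    (3699, .gen 595 (178, true)),
    (2381, .gen 595 (188, false)),
    (1845, .gen 3755 (178, false)),
    (840, .gen 3755 (188, true)),
    (3355, .gen 611 (178, false)),
    (1711, .gen 611 (188, false)),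
    (924, .gen 6 (188, false)),
    (3327, .gen 6 (188, true)),
    (2126, .gen 3388 (178, true)),
    (2786, .gen 3388 (188, false)),
    (373, .gen 790 (176, false)),
    (1847, .gen 790 (178, false)),
    (1803, .gen 3607 (188, false)),
    (561, .gen 45 (188, true)),
    (43, .gen 2500 (188, true)),
    (2425, .gen 2396 (188, true)),
    (88, .gen 2107 (178, true)),
    (2586, .gen 2352 (188, false)),
    (3119, .gen 3105 (177, false)),
    (3138, .gen 3105 (178, false)),
    (1710, .gen 3105 (178, true)),
    (831, .gen 3105 (188, false)),
    (1865, .gen 3105 (188, true)),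
    (760, .gen 2934 (178, false)),
    (655, .gen 2934 (178, true)),
    (1636, .gen 2934 (188, false))]

/-- Visits. -/
def v13_10 : List (ℕ × Src) :=
  [(1966, .gen 2934 (188, true)),
    (264, .gen 3417 (178, false)),
    (2179, .gen 3417 (188, false)),
    (1624, .gen 3417 (188, true)),
    (92, .gen 1434 (176, false)),
    (2858, .gen 1434 (178, true)),
    (1048, .gen 3330 (176, false)),
    (2094, .gen 3330 (178, false)),
    (3438, .gen 2998 (178, false)),
    (2112, .gen 2998 (178, true)),
    (717, .gen 2998 (188, false)),
    (3173, .gen 2998 (188, true)),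
    (112, .gen 1907 (178, false)),
    (651, .gen 1907 (188, false)),
    (951, .gen 1907 (188, true)),
    (2052, .gen 2601 (188, true)),
    (871, .gen 894 (176, false)),
    (1872, .gen 894 (178, true)),
    (534, .gen 894 (188, false)),
    (1182, .gen 1822 (178, false)),
    (1006, .gen 1822 (188, true)),
    (2909, .gen 2222 (178, false)),
    (3741, .gen 2222 (188, false)),
    (3399, .gen 3453 (188, false)),
    (2541, .gen 3453 (188, true)),
    (2402, .gen 3710 (178, true)),
    (1929, .gen 3710 (188, false)),
    (178, .gen 1212 (176, false)),
    (3275, .gen 1212 (178, false)),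
    (1595, .gen 920 (188, false)),
    (184, .gen 2837 (188, true)),
    (3211, .gen 1172 (188, true)),
    (2055, .gen 3244 (188, true)),
    (433, .gen 874 (178, true)),
    (3412, .gen 1559 (188, false)),
    (1931, .gen 2571 (177, false)),
    (2841, .gen 2571 (178, false)),
    (746, .gen 2571 (178, true)),
    (2590, .gen 2571 (188, false)),
    (1684, .gen 2571 (188, true)),
    (2883, .gen 2022 (178, false)),
    (1799, .gen 2022 (178, true)),
    (720, .gen 2022 (188, false)),
    (688, .gen 2022 (188, true)),
    (1357, .gen 2770 (178, false)),
    (2575, .gen 2770 (188, false)),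
    (2233, .gen 2770 (188, true)),
    (3408, .gen 3559 (176, false)),
    (3449, .gen 3559 (178, true)),
    (474, .gen 2397 (176, false)),
    (3304, .gen 2397 (178, false)),
    (2476, .gen 38 (178, false)),
    (1925, .gen 38 (178, true)),
    (1142, .gen 38 (188, false)),
    (2894, .gen 38 (188, true)),
    (1384, .gen 3581 (178, false)),
    (3674, .gen 3581 (188, false)),
    (3351, .gen 3581 (188, true)),
    (3111, .gen 2089 (188, true)),
    (596, .gen 2119 (176, false)),
    (672, .gen 2119 (178, true)),
    (2994, .gen 2119 (188, false)),
    (842, .gen 597 (178, false)),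
    (1838, .gen 597 (188, true)),
    (3744, .gen 3071 (178, false)),
    (979, .gen 3071 (188, false)),
    (432, .gen 736 (188, false)),
    (3465, .gen 736 (188, true)),
    (1604, .gen 1995 (178, true)),
    (1994, .gen 1995 (188, false)),
    (2880, .gen 3480 (176, false)),
    (526, .gen 3480 (178, false)),
    (2951, .gen 3350 (188, false)),
    (1908, .gen 1334 (188, true)),
    (3732, .gen 2184 (188, true)),
    (2155, .gen 2864 (188, true)),
    (570, .gen 1968 (178, true)),
    (1036, .gen 477 (188, false)),
    (982, .gen 1979 (177, false)),
    (3519, .gen 1979 (178, false)),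
    (1228, .gen 1979 (178, true)),
    (1921, .gen 1979 (188, false)),
    (3632, .gen 1979 (188, true)),
    (718, .gen 2972 (178, false)),
    (1473, .gen 2972 (178, true)),
    (949, .gen 2972 (188, false)),
    (691, .gen 2972 (188, true)),
    (1399, .gen 560 (178, false)),
    (32, .gen 560 (188, false)),
    (2020, .gen 560 (188, true)),
    (901, .gen 1028 (176, false)),
    (1893, .gen 1028 (178, true)),
    (3722, .gen 1633 (176, false)),
    (2057, .gen 1633 (178, false)),
    (2552, .gen 3502 (178, false)),
    (193, .gen 3502 (178, true)),
    (2680, .gen 3502 (188, false)),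
    (1343, .gen 3502 (188, true)),
    (1442, .gen 629 (178, false)),
    (442, .gen 629 (188, false)),
    (1736, .gen 629 (188, true)),
    (39, .gen 1767 (188, true)),
    (3704, .gen 290 (176, false)),
    (1715, .gen 290 (178, true)),
    (2035, .gen 290 (188, false)),
    (3459, .gen 2289 (178, false)),
    (1902, .gen 2289 (188, true)),
    (1661, .gen 1976 (178, false)),
    (2463, .gen 1976 (188, false)),
    (3659, .gen 2122 (188, false)),
    (1657, .gen 2122 (188, true)),
    (2245, .gen 2940 (178, true)),
    (3550, .gen 2940 (188, false)),
    (2672, .gen 458 (176, false)),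
    (1472, .gen 458 (178, false)),
    (952, .gen 3625 (188, false)),
    (1813, .gen 968 (188, true)),
    (1589, .gen 3345 (188, true)),
    (2379, .gen 1926 (188, true)),
    (1250, .gen 1549 (178, true)),
    (1425, .gen 70 (188, false)),
    (1108, .gen 1484 (177, false)),
    (2982, .gen 1484 (178, false)),
    (2892, .gen 1484 (178, true)),
    (1829, .gen 1484 (188, false)),
    (1044, .gen 1484 (188, true)),
    (2676, .gen 1031 (178, false)),
    (1821, .gen 1031 (178, true)),
    (1210, .gen 1031 (188, false)),
    (800, .gen 1031 (188, true)),
    (2239, .gen 523 (178, false)),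
    (1946, .gen 523 (188, false)),
    (3368, .gen 523 (188, true)),
    (2053, .gen 970 (176, false)),
    (3202, .gen 970 (178, true)),
    (3623, .gen 2648 (176, false)),
    (3367, .gen 2648 (178, false)),
    (354, .gen 292 (178, false)),
    (2268, .gen 292 (178, true)),
    (3482, .gen 292 (188, false)),
    (2384, .gen 292 (188, true)),
    (3134, .gen 3068 (178, false)),
    (3500, .gen 3068 (188, false)),
    (319, .gen 3068 (188, true)),
    (295, .gen 857 (188, true)),
    (304, .gen 1217 (176, false)),
    (2234, .gen 1217 (178, true)),
    (3014, .gen 1217 (188, false)),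
    (20, .gen 1063 (178, false)),
    (2651, .gen 1063 (188, true)),
    (2801, .gen 483 (178, false)),
    (2611, .gen 483 (188, false)),
    (2296, .gen 2780 (188, false)),
    (1508, .gen 2780 (188, true)),
    (2881, .gen 2504 (178, true)),
    (2196, .gen 2504 (188, false)),
    (3400, .gen 2013 (176, false)),
    (3078, .gen 2013 (178, false)),
    (1878, .gen 2974 (188, false)),
    (2324, .gen 2145 (188, true)),
    (1697, .gen 3290 (188, true)),
    (1136, .gen 841 (188, true)),
    (67, .gen 2787 (178, true)),
    (1370, .gen 3583 (188, false)),
    (2527, .gen 2843 (177, false)),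
    (1443, .gen 2843 (178, false)),
    (3325, .gen 2843 (178, true)),
    (3498, .gen 2843 (188, false)),
    (2062, .gen 2843 (188, true)),
    (1375, .gen 1173 (178, false)),
    (1719, .gen 1173 (178, true)),
    (76, .gen 1173 (188, false)),
    (1206, .gen 1173 (188, true)),
    (484, .gen 378 (178, false)),
    (185, .gen 378 (188, false)),
    (3394, .gen 378 (188, true)),
    (3149, .gen 1819 (176, false)),
    (2127, .gen 1819 (178, true)),
    (2845, .gen 3667 (176, false)),
    (2660, .gen 3667 (178, false)),
    (2440, .gen 2608 (178, false)),
    (1105, .gen 2608 (178, true)),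
    (3097, .gen 2608 (188, false)),
    (3538, .gen 2608 (188, true)),
    (2049, .gen 708 (178, false)),
    (1597, .gen 708 (188, false)),
    (792, .gen 708 (188, true)),
    (710, .gen 2547 (188, true)),
    (3269, .gen 128 (176, false)),
    (609, .gen 128 (178, true)),
    (3644, .gen 128 (188, false)),
    (2031, .gen 926 (178, false)),
    (410, .gen 926 (188, true)),
    (1874, .gen 1690 (178, false)),
    (2521, .gen 1690 (188, false)),
    (51, .gen 3203 (188, false)),
    (2588, .gen 3203 (188, true)),
    (818, .gen 3298 (178, true)),
    (384, .gen 3298 (188, false)),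
    (1662, .gen 943 (176, false)),
    (3488, .gen 943 (178, false)),
    (2138, .gen 2307 (188, false)),
    (3520, .gen 3227 (188, true)),
    (313, .gen 1760 (188, true)),
    (1592, .gen 803 (188, true)),
    (450, .gen 1533 (178, true)),
    (3213, .gen 2615 (188, false)),
    (3543, .gen 3176 (177, false)),
    (2793, .gen 3176 (178, false)),
    (330, .gen 3176 (178, true)),
    (1395, .gen 3176 (188, false)),
    (1049, .gen 3176 (188, true)),
    (3057, .gen 2589 (178, false)),
    (851, .gen 2589 (178, true)),
    (2370, .gen 2589 (188, false)),
    (820, .gen 2589 (188, true)),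
    (1287, .gen 1888 (178, false)),
    (3506, .gen 1888 (188, false)),
    (3700, .gen 1888 (188, true)),
    (3019, .gen 3022 (176, false)),
    (1457, .gen 3022 (178, true)),
    (3118, .gen 1416 (176, false)),
    (1898, .gen 1416 (178, false)),
    (1567, .gen 101 (178, false)),
    (3266, .gen 101 (178, true)),
    (253, .gen 101 (188, false)),
    (86, .gen 101 (188, true)),
    (396, .gen 167 (178, false)),
    (1232, .gen 167 (188, false)),
    (2410, .gen 167 (188, true)),
    (2281, .gen 978 (188, true)),
    (861, .gen 3439 (176, false)),
    (2658, .gen 3439 (178, true)),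
    (3563, .gen 3439 (188, false)),
    (2151, .gen 2253 (178, false)),
    (492, .gen 2253 (188, true)),
    (1338, .gen 3083 (178, false)),
    (1225, .gen 3083 (188, false)),
    (2855, .gen 1141 (188, false)),
    (1957, .gen 1141 (188, true)),
    (1770, .gen 2059 (178, true)),
    (1596, .gen 2059 (188, false)),
    (1887, .gen 542 (176, false)),
    (1440, .gen 542 (178, false)),
    (3452, .gen 3354 (188, false)),
    (2072, .gen 3147 (188, true)),
    (3503, .gen 3448 (188, true)),
    (1308, .gen 2815 (188, true)),
    (3624, .gen 3429 (178, true)),
    (2720, .gen 1476 (188, false)),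
    (638, .gen 1750 (178, false)),
    (456, .gen 1750 (178, true)),
    (2014, .gen 1750 (188, false)),
    (1550, .gen 1750 (188, true)),
    (3060, .gen 1775 (178, false)),
    (598, .gen 519 (176, false)),
    (1079, .gen 519 (178, true)),
    (3265, .gen 2977 (178, false)),
    (1261, .gen 1851 (176, false)),
    (3090, .gen 1851 (178, false)),
    (2566, .gen 1848 (188, true)),
    (3107, .gen 2557 (178, false)),
    (2620, .gen 2557 (188, false)),
    (3353, .gen 1667 (188, true)),
    (46, .gen 1503 (178, true)),
    (3557, .gen 1503 (188, false)),
    (1301, .gen 875 (188, false)),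
    (1363, .gen 1839 (188, true)),
    (1626, .gen 3021 (178, false)),
    (2870, .gen 3021 (188, false)),
    (1218, .gen 3021 (188, true)),
    (784, .gen 324 (178, true)),
    (1488, .gen 2180 (176, false)),
    (1558, .gen 2920 (188, false)),
    (1427, .gen 1998 (188, true)),
    (1441, .gen 2485 (178, false)),
    (2466, .gen 2485 (178, true)),
    (69, .gen 2485 (188, false)),
    (2267, .gen 2485 (188, true)),
    (2313, .gen 2593 (178, false)),
    (794, .gen 2111 (176, false)),
    (3706, .gen 2111 (178, true)),
    (3711, .gen 1749 (178, false)),
    (1587, .gen 1904 (176, false)),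
    (642, .gen 1904 (178, false)),
    (1341, .gen 2748 (188, true)),
    (2000, .gen 1961 (178, false)),
    (1092, .gen 1961 (188, false)),
    (3018, .gen 3401 (188, true)),
    (509, .gen 1668 (178, true)),
    (1060, .gen 1668 (188, false)),
    (516, .gen 829 (188, false)),
    (84, .gen 2907 (188, true)),
    (2081, .gen 682 (178, true)),
    (403, .gen 2573 (188, false)),
    (1191, .gen 2649 (178, false)),
    (2715, .gen 3469 (176, false)),
    (2484, .gen 1935 (178, true)),
    (2609, .gen 2351 (188, false)),
    (1956, .gen 3386 (178, false))]

/-- Visits. -/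
def v13_11 : List (ℕ × Src) :=
  [(843, .gen 3386 (188, false)),
    (41, .gen 3386 (188, true)),
    (125, .gen 1088 (178, true)),
    (2266, .gen 1086 (176, false)),
    (2996, .gen 2635 (176, false)),
    (1768, .gen 972 (176, false)),
    (1679, .gen 3091 (188, true)),
    (2723, .gen 3760 (176, false)),
    (100, .gen 2315 (178, false)),
    (124, .gen 2315 (178, true)),
    (850, .gen 2315 (188, false)),
    (731, .gen 2315 (188, true)),
    (3287, .gen 1059 (178, false)),
    (3136, .gen 1678 (176, false)),
    (2811, .gen 1678 (178, true)),
    (226, .gen 2092 (178, false)),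
    (2742, .gen 2019 (176, false)),
    (2750, .gen 2019 (178, false)),
    (1895, .gen 3268 (188, true)),
    (1083, .gen 3753 (178, false)),
    (819, .gen 3753 (188, false)),
    (1288, .gen 1239 (188, true)),
    (3474, .gen 775 (178, true)),
    (626, .gen 775 (188, false)),
    (2896, .gen 3446 (188, false)),
    (3120, .gen 2529 (188, true)),
    (1599, .gen 1159 (178, false)),
    (3518, .gen 1159 (178, true)),
    (1392, .gen 1159 (188, false)),
    (2499, .gen 1159 (188, true)),
    (2096, .gen 208 (178, false)),
    (1437, .gen 2688 (176, false)),
    (2086, .gen 2688 (178, true)),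
    (2328, .gen 1014 (178, false)),
    (3548, .gen 2297 (176, false)),
    (2799, .gen 2297 (178, false)),
    (2121, .gen 2741 (188, true)),
    (2968, .gen 1123 (178, false)),
    (889, .gen 1123 (188, false)),
    (2979, .gen 415 (188, true)),
    (3542, .gen 1963 (178, true)),
    (1987, .gen 1963 (188, false)),
    (2129, .gen 674 (188, false)),
    (2740, .gen 3309 (188, true)),
    (1801, .gen 2428 (178, false)),
    (2713, .gen 2428 (188, false)),
    (2839, .gen 2172 (188, true)),
    (2942, .gen 847 (178, true)),
    (2962, .gen 2113 (176, false)),
    (2596, .gen 1670 (176, false)),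
    (995, .gen 107 (178, false)),
    (1, .gen 107 (178, true)),
    (559, .gen 107 (188, false)),
    (1091, .gen 107 (188, true)),
    (778, .gen 2385 (178, false)),
    (1196, .gen 3570 (176, false)),
    (2530, .gen 3570 (178, true)),
    (1295, .gen 198 (178, false)),
    (1869, .gen 3441 (176, false)),
    (695, .gen 3441 (178, false)),
    (569, .gen 948 (188, true)),
    (3276, .gen 1458 (178, false)),
    (3300, .gen 1458 (188, false)),
    (3363, .gen 154 (188, true)),
    (2406, .gen 2865 (178, true)),
    (2132, .gen 2865 (188, false)),
    (2876, .gen 2007 (188, false)),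
    (2602, .gen 3123 (188, true)),
    (549, .gen 1816 (178, false)),
    (414, .gen 1816 (178, true)),
    (1985, .gen 1816 (188, false)),
    (3771, .gen 1816 (188, true)),
    (1151, .gen 1704 (178, false)),
    (2879, .gen 1734 (176, false)),
    (1590, .gen 1734 (178, true)),
    (2479, .gen 2526 (178, false)),
    (1371, .gen 36 (176, false)),
    (2450, .gen 36 (178, false)),
    (1275, .gen 774 (188, true)),
    (2223, .gen 3601 (178, false)),
    (1454, .gen 3601 (188, false)),
    (754, .gen 2346 (188, true)),
    (2037, .gen 2063 (178, true)),
    (2404, .gen 2063 (188, false)),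
    (2432, .gen 65 (188, false)),
    (2812, .gen 242 (188, true)),
    (2276, .gen 1837 (178, true)),
    (2848, .gen 3389 (176, false)),
    (62, .gen 3280 (178, false)),
    (50, .gen 3280 (178, true)),
    (3256, .gen 3280 (188, false)),
    (1737, .gen 3280 (188, true)),
    (739, .gen 1171 (178, false)),
    (942, .gen 3594 (176, false)),
    (3124, .gen 3594 (178, true)),
    (2405, .gen 2753 (178, false)),
    (1149, .gen 1279 (176, false)),
    (3697, .gen 1279 (178, false)),
    (2820, .gen 435 (188, true)),
    (1835, .gen 1625 (178, false)),
    (1762, .gen 1625 (188, false)),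
    (169, .gen 3751 (188, true)),
    (2708, .gen 2568 (178, true)),
    (2954, .gen 2568 (188, false)),
    (3027, .gen 3292 (188, false)),
    (2431, .gen 2823 (188, true)),
    (2330, .gen 3690 (178, false)),
    (1739, .gen 3690 (178, true)),
    (3235, .gen 3690 (188, false)),
    (3072, .gen 3690 (188, true)),
    (2806, .gen 3113 (178, false)),
    (3092, .gen 2255 (176, false)),
    (1875, .gen 2255 (178, true)),
    (3135, .gen 2746 (178, false)),
    (385, .gen 3736 (176, false)),
    (3205, .gen 3736 (178, false)),
    (1379, .gen 2103 (188, true)),
    (3347, .gen 2938 (178, false)),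
    (603, .gen 2938 (188, false)),
    (2958, .gen 3778 (188, true)),
    (2886, .gen 2237 (178, true)),
    (2867, .gen 2237 (188, false)),
    (260, .gen 2616 (188, false)),
    (1824, .gen 2244 (188, true)),
    (2952, .gen 2050 (178, false)),
    (3219, .gen 2050 (178, true)),
    (3160, .gen 2050 (188, false)),
    (2443, .gen 2050 (188, true)),
    (997, .gen 1483 (178, false)),
    (699, .gen 3037 (176, false)),
    (1570, .gen 3037 (178, true)),
    (3743, .gen 2932 (178, false)),
    (601, .gen 2755 (176, false)),
    (1417, .gen 2755 (178, false)),
    (3030, .gen 1854 (188, true)),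
    (1150, .gen 1433 (178, false)),
    (381, .gen 1433 (188, false)),
    (1808, .gen 2967 (188, true)),
    (856, .gen 1398 (178, true)),
    (2661, .gen 1398 (188, false)),
    (256, .gen 733 (188, false)),
    (3081, .gen 2465 (188, true)),
    (502, .gen 2692 (178, false)),
    (2335, .gen 2692 (178, true)),
    (3684, .gen 2692 (188, false)),
    (2001, .gen 2692 (188, true)),
    (3622, .gen 1614 (178, false)),
    (1984, .gen 2060 (176, false)),
    (3651, .gen 2060 (178, true)),
    (1810, .gen 1743 (178, false)),
    (1876, .gen 2664 (176, false)),
    (2189, .gen 2664 (178, false)),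
    (1197, .gen 3044 (188, true)),
    (2492, .gen 2882 (178, false)),
    (3517, .gen 2882 (188, false)),
    (2175, .gen 3569 (188, true)),
    (2992, .gen 3668 (178, true)),
    (2682, .gen 3668 (188, false)),
    (142, .gen 3738 (188, false)),
    (2128, .gen 1535 (188, true)),
    (3157, .gen 1780 (178, false)),
    (2747, .gen 1780 (178, true)),
    (2187, .gen 1780 (188, false)),
    (237, .gen 1780 (188, true)),
    (3179, .gen 3301 (178, false)),
    (320, .gen 1407 (176, false)),
    (1896, .gen 1407 (178, true)),
    (1964, .gen 2140 (178, false)),
    (2805, .gen 2915 (176, false)),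
    (1861, .gen 2915 (178, false)),
    (589, .gen 644 (188, true)),
    (2331, .gen 2347 (178, false)),
    (665, .gen 2347 (188, false)),
    (2621, .gen 1134 (188, true)),
    (623, .gen 2304 (178, true)),
    (3496, .gen 2304 (188, false)),
    (1022, .gen 628 (188, false)),
    (2930, .gen 1605 (188, true)),
    (986, .gen 2634 (188, true)),
    (1188, .gen 2683 (176, false)),
    (2071, .gen 616 (178, false)),
    (906, .gen 616 (178, true)),
    (2455, .gen 616 (188, false)),
    (2374, .gen 616 (188, true)),
    (608, .gen 196 (178, false)),
    (2243, .gen 405 (176, false)),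
    (1647, .gen 405 (178, true)),
    (1927, .gen 143 (178, false)),
    (181, .gen 1757 (176, false)),
    (59, .gen 1757 (178, false)),
    (89, .gen 3182 (188, true)),
    (1807, .gen 2931 (178, false)),
    (63, .gen 2931 (188, false)),
    (1391, .gen 52 (188, true)),
    (1643, .gen 2639 (178, true)),
    (1841, .gen 2639 (188, false)),
    (1333, .gen 2317 (188, false)),
    (3232, .gen 2033 (188, true)),
    (2218, .gen 1759 (178, false)),
    (2687, .gen 1759 (178, true)),
    (2301, .gen 1759 (188, false)),
    (467, .gen 1759 (188, true)),
    (1556, .gen 357 (178, false)),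
    (2831, .gen 328 (176, false)),
    (1769, .gen 328 (178, true)),
    (977, .gen 1309 (178, false)),
    (3024, .gen 3745 (176, false)),
    (2188, .gen 3745 (178, false)),
    (1844, .gen 3720 (188, true)),
    (1934, .gen 1765 (178, false)),
    (2936, .gen 1765 (188, false)),
    (1469, .gen 2834 (188, true)),
    (1577, .gen 3528 (178, true)),
    (3776, .gen 3528 (188, false)),
    (1282, .gen 411 (188, false)),
    (3036, .gen 1528 (188, true)),
    (1027, .gen 137 (178, false)),
    (3655, .gen 137 (178, true)),
    (1582, .gen 137 (188, false)),
    (2293, .gen 137 (188, true)),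
    (1747, .gen 614 (178, false)),
    (1842, .gen 3365 (176, false)),
    (693, .gen 3365 (178, true)),
    (1649, .gen 508 (178, false)),
    (2643, .gen 1026 (176, false)),
    (2788, .gen 1026 (178, false)),
    (274, .gen 3737 (188, true)),
    (3620, .gen 796 (178, false)),
    (232, .gen 796 (188, false)),
    (3524, .gen 225 (188, true)),
    (1451, .gen 2964 (178, true)),
    (3765, .gen 2964 (188, false)),
    (353, .gen 1906 (188, false)),
    (139, .gen 3693 (188, true)),
    (3144, .gen 98 (178, false)),
    (2257, .gen 98 (178, true)),
    (2069, .gen 98 (188, false)),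
    (3631, .gen 98 (188, true)),
    (2097, .gen 1692 (178, false)),
    (1332, .gen 758 (176, false)),
    (1462, .gen 758 (178, true)),
    (3359, .gen 3153 (178, false)),
    (3571, .gen 2534 (176, false)),
    (2054, .gen 2534 (178, false)),
    (3383, .gen 1377 (188, true)),
    (257, .gen 3707 (178, false)),
    (2645, .gen 3707 (188, false)),
    (3430, .gen 2171 (188, true)),
    (97, .gen 3609 (178, true)),
    (3478, .gen 3609 (188, false)),
    (211, .gen 3493 (188, false)),
    (3733, .gen 1695 (188, true)),
    (1652, .gen 3552 (178, false)),
    (694, .gen 3552 (178, true)),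
    (1833, .gen 3552 (188, false)),
    (3553, .gen 3552 (188, true)),
    (2047, .gen 1030 (178, false)),
    (2797, .gen 2400 (176, false)),
    (3372, .gen 2400 (178, true)),
    (3715, .gen 3129 (178, false)),
    (2846, .gen 3657 (176, false)),
    (3536, .gen 3657 (178, false)),
    (1491, .gen 876 (188, true)),
    (1155, .gen 3554 (178, false)),
    (2510, .gen 3554 (188, false)),
    (203, .gen 854 (188, true)),
    (705, .gen 2821 (178, true)),
    (2803, .gen 2821 (188, false)),
    (3074, .gen 487 (188, false)),
    (2496, .gen 2773 (188, true)),
    (2966, .gen 1752 (178, false)),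
    (886, .gen 1752 (178, true)),
    (971, .gen 1752 (188, false)),
    (2481, .gen 1752 (188, true)),
    (3645, .gen 111 (178, false)),
    (3676, .gen 785 (176, false)),
    (887, .gen 785 (178, true)),
    (1075, .gen 3274 (178, false)),
    (877, .gen 1125 (176, false)),
    (749, .gen 1125 (178, false)),
    (1855, .gen 613 (188, true)),
    (656, .gen 827 (178, false)),
    (1072, .gen 827 (188, false)),
    (1682, .gen 2567 (188, true)),
    (1543, .gen 531 (178, true)),
    (604, .gen 531 (188, false)),
    (839, .gen 1764 (188, false)),
    (3782, .gen 2291 (188, true)),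
    (1076, .gen 269 (178, false)),
    (224, .gen 269 (178, true)),
    (1903, .gen 269 (188, false)),
    (3750, .gen 269 (188, true)),
    (510, .gen 524 (178, false)),
    (2819, .gen 2941 (176, false)),
    (1237, .gen 2941 (178, true)),
    (3746, .gen 1358 (178, false)),
    (1591, .gen 737 (176, false)),
    (1820, .gen 737 (178, false)),
    (1128, .gen 3114 (188, true)),
    (3178, .gen 1116 (178, false))]

/-- Visits. -/
def v13_12 : List (ℕ × Src) :=
  [(3194, .gen 1116 (188, false)),
    (321, .gen 514 (188, true)),
    (3084, .gen 1414 (178, true)),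
    (1674, .gen 1414 (188, false)),
    (348, .gen 891 (188, false)),
    (1268, .gen 772 (188, true)),
    (512, .gen 905 (178, false)),
    (3428, .gen 905 (178, true)),
    (2554, .gen 905 (188, false)),
    (3145, .gen 905 (188, true)),
    (1103, .gen 24 (178, false)),
    (2362, .gen 2948 (176, false)),
    (3424, .gen 2948 (178, true)),
    (2707, .gen 3573 (178, false)),
    (1428, .gen 1367 (176, false)),
    (3099, .gen 1367 (178, false)),
    (2546, .gen 1618 (188, true)),
    (1224, .gen 521 (178, false)),
    (1655, .gen 521 (188, false)),
    (2411, .gen 3752 (188, true)),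
    (1300, .gen 643 (178, true)),
    (325, .gen 643 (188, false)),
    (1468, .gen 312 (188, false)),
    (2758, .gen 123 (188, true)),
    (231, .gen 133 (178, false)),
    (366, .gen 133 (178, true)),
    (2123, .gen 133 (188, false)),
    (1753, .gen 133 (188, true)),
    (3683, .gen 2259 (178, false)),
    (2417, .gen 3080 (176, false)),
    (2662, .gen 3080 (178, true)),
    (1859, .gen 1198 (178, false)),
    (3513, .gen 1365 (176, false)),
    (2393, .gen 1365 (178, false)),
    (2100, .gen 2654 (188, true)),
    (3647, .gen 3723 (178, false)),
    (2598, .gen 3723 (188, false)),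
    (1800, .gen 3254 (188, true)),
    (2612, .gen 1630 (178, true)),
    (813, .gen 1630 (188, false)),
    (243, .gen 1436 (188, false)),
    (2038, .gen 1424 (188, true)),
    (2091, .gen 950 (178, false)),
    (2877, .gen 950 (178, true)),
    (566, .gen 950 (188, false)),
    (401, .gen 950 (188, true)),
    (3093, .gen 1285 (178, false)),
    (1074, .gen 2006 (176, false)),
    (2003, .gen 2006 (178, true)),
    (2752, .gen 586 (178, false)),
    (246, .gen 3148 (176, false)),
    (558, .gen 3148 (178, false)),
    (3042, .gen 350 (188, true)),
    (64, .gen 928 (178, false)),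
    (769, .gen 928 (188, false)),
    (2520, .gen 3708 (188, true)),
    (2286, .gen 1289 (178, true)),
    (140, .gen 1289 (188, false)),
    (3142, .gen 2298 (188, false)),
    (3154, .gen 3699 (188, true)),
    (1041, .gen 3119 (178, false)),
    (1281, .gen 3119 (178, true)),
    (3158, .gen 3119 (188, false)),
    (1477, .gen 3119 (188, true)),
    (2993, .gen 3138 (178, false)),
    (1445, .gen 831 (176, false)),
    (2167, .gen 831 (178, true)),
    (2353, .gen 760 (178, false)),
    (917, .gen 1966 (176, false)),
    (1011, .gen 1966 (178, false)),
    (3319, .gen 92 (188, true)),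
    (2011, .gen 3438 (178, false)),
    (482, .gen 3438 (188, false)),
    (1145, .gen 2112 (188, true)),
    (3616, .gen 717 (178, true)),
    (3643, .gen 717 (188, false)),
    (1809, .gen 651 (188, false)),
    (1676, .gen 1872 (188, true)),
    (2678, .gen 1931 (178, false)),
    (2482, .gen 1931 (178, true)),
    (29, .gen 1931 (188, false)),
    (3369, .gen 1931 (188, true)),
    (2391, .gen 2841 (178, false)),
    (1746, .gen 2590 (176, false)),
    (2580, .gen 2590 (178, true)),
    (3206, .gen 2883 (178, false)),
    (992, .gen 688 (176, false)),
    (355, .gen 688 (178, false)),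
    (105, .gen 3408 (188, true)),
    (3045, .gen 2476 (178, false)),
    (783, .gen 2476 (188, false)),
    (1444, .gen 1925 (188, true)),
    (2375, .gen 1142 (178, true)),
    (962, .gen 1142 (188, false)),
    (374, .gen 3674 (188, false)),
    (3786, .gen 672 (188, true)),
    (2165, .gen 982 (178, false)),
    (1519, .gen 982 (178, true)),
    (719, .gen 982 (188, false)),
    (1360, .gen 982 (188, true)),
    (624, .gen 3519 (178, false)),
    (3727, .gen 1921 (176, false)),
    (3229, .gen 1921 (178, true)),
    (2497, .gen 718 (178, false)),
    (1069, .gen 691 (176, false)),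
    (3634, .gen 691 (178, false)),
    (3085, .gen 901 (188, true)),
    (1380, .gen 2552 (178, false)),
    (546, .gen 2552 (188, false)),
    (2636, .gen 193 (188, true)),
    (2263, .gen 2680 (178, true)),
    (3640, .gen 2680 (188, false)),
    (768, .gen 442 (188, false)),
    (3682, .gen 1715 (188, true)),
    (2949, .gen 1108 (178, false)),
    (1635, .gen 1108 (178, true)),
    (1389, .gen 1108 (188, false)),
    (1306, .gen 1108 (188, true)),
    (573, .gen 2982 (178, false)),
    (2226, .gen 1829 (176, false)),
    (1078, .gen 1829 (178, true)),
    (975, .gen 2676 (178, false)),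
    (1348, .gen 800 (176, false)),
    (3621, .gen 800 (178, false)),
    (3264, .gen 2053 (188, true)),
    (2553, .gen 354 (178, false)),
    (666, .gen 354 (188, false)),
    (789, .gen 2268 (188, true)),
    (1641, .gen 3482 (178, true)),
    (565, .gen 3482 (188, false)),
    (600, .gen 3500 (188, false)),
    (1260, .gen 2234 (188, true)),
    (3208, .gen 2527 (178, false)),
    (327, .gen 2527 (178, true)),
    (3272, .gen 2527 (188, false)),
    (44, .gen 2527 (188, true)),
    (262, .gen 1443 (178, false)),
    (2157, .gen 3498 (176, false)),
    (1601, .gen 3498 (178, true)),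
    (3615, .gen 1375 (178, false)),
    (3534, .gen 1206 (176, false)),
    (2093, .gen 1206 (178, false)),
    (1248, .gen 3149 (188, true)),
    (2563, .gen 2440 (178, false)),
    (249, .gen 2440 (188, false)),
    (3508, .gen 1105 (188, true)),
    (2367, .gen 3097 (178, true)),
    (2718, .gen 3097 (188, false)),
    (3437, .gen 1597 (188, false)),
    (3566, .gen 609 (188, true)),
    (2421, .gen 3543 (178, false)),
    (2110, .gen 3543 (178, true)),
    (3628, .gen 3543 (188, false)),
    (3050, .gen 3543 (188, true)),
    (323, .gen 2793 (178, false)),
    (2026, .gen 1395 (176, false)),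
    (890, .gen 1395 (178, true)),
    (757, .gen 3057 (178, false)),
    (3591, .gen 820 (176, false)),
    (2342, .gen 820 (178, false)),
    (3565, .gen 3019 (188, true)),
    (755, .gen 1567 (178, false)),
    (2641, .gen 1567 (188, false)),
    (585, .gen 3266 (188, true)),
    (640, .gen 253 (178, true)),
    (821, .gen 253 (188, false)),
    (2888, .gen 1232 (188, false)),
    (828, .gen 2658 (188, true)),
    (286, .gen 638 (178, false)),
    (727, .gen 1441 (178, false)),
    (1180, .gen 100 (178, false)),
    (1797, .gen 1599 (178, false)),
    (2943, .gen 995 (178, false)),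
    (3578, .gen 549 (178, false)),
    (244, .gen 62 (178, false)),
    (1390, .gen 2330 (178, false)),
    (3466, .gen 2952 (178, false)),
    (3075, .gen 502 (178, false)),
    (3086, .gen 3157 (178, false)),
    (2008, .gen 2071 (178, false)),
    (2202, .gen 2218 (178, false)),
    (2790, .gen 1027 (178, false)),
    (2728, .gen 3144 (178, false)),
    (701, .gen 1652 (178, false)),
    (3243, .gen 2966 (178, false)),
    (1619, .gen 1076 (178, false)),
    (2536, .gen 512 (178, false)),
    (305, .gen 231 (178, false)),
    (2789, .gen 2091 (178, false)),
    (485, .gen 1041 (178, false)),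
    (2329, .gen 2678 (178, false)),
    (1959, .gen 2165 (178, false)),
    (919, .gen 2949 (178, false)),
    (1738, .gen 3208 (178, false)),
    (804, .gen 2421 (178, false))]

/-- The visits of node 13. -/
def visits13 : List (ℕ × Src) :=
  v13_0 ++ v13_1 ++ v13_2 ++ v13_3 ++ v13_4 ++ v13_5 ++ v13_6 ++ v13_7 ++ v13_8 ++ v13_9 ++ v13_10 ++ v13_11 ++ v13_12


end Cfsg.Agent.J4Bound.Data
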