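import Cfsg.Agent.Lib.J4Pres.Bound.Cover

/-! Data of the double coset enumeration for the presented fourth Janko group (tools/j4/bound/emitb.py). -/

set_option autoImplicit false
set_option maxRecDepth 100000
set_option maxHeartbeats 0

namespace Cfsg.Agent.J4Bound.Data

/-- Visits. -/
def v14_0 : List (ℕ × Src) :=
  [(4, .edge 201 true),
    (1875, .edge 204 true),
    (221, .edge 205 true),
    (470, .edge 206 false),
    (184, .edge 206 true),
    (1240, .edge 207 false),
    (416, .edge 208 false),
    (1564, .edge 210 true),
    (3386, .edge 211 true),
    (3037, .edge 212 false),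
    (1131, .edge 213 false),
    (2123, .edge 214 false),
    (1165, .edge 215 false),
    (756, .edge 216 false),
    (1744, .edge 217 false),
    (2984, .edge 218 false),
    (932, .edge 219 false),
    (3690, .edge 220 false),
    (223, .edge 221 false),
    (2479, .edge 222 false),
    (3357, .edge 223 false),
    (2565, .edge 224 false),
    (1814, .edge 224 true),
    (711, .edge 225 false),
    (266, .edge 225 true),
    (513, .edge 226 false),
    (425, .edge 226 true),
    (268, .edge 227 false),
    (477, .edge 228 false),
    (628, .edge 228 true),
    (419, .edge 229 false),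
    (3007, .edge 230 false),
    (1920, .edge 231 false),
    (0, .edge 231 true),
    (751, .edge 232 false),
    (1737, .edge 233 false),
    (3734, .edge 233 true),
    (3364, .edge 234 false),
    (986, .edge 234 true),
    (976, .edge 235 false),
    (2217, .edge 235 true),
    (701, .edge 236 false),
    (3567, .edge 236 true),
    (2947, .edge 237 false),
    (961, .edge 237 true),
    (3088, .edge 238 false),
    (3622, .edge 239 false),
    (1647, .edge 240 false),
    (3018, .edge 241 false),
    (1239, .edge 241 true),
    (746, .edge 242 true),
    (2905, .edge 243 false),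
    (971, .edge 246 false),
    (857, .edge 247 false),
    (849, .edge 248 false),
    (3607, .edge 248 true),
    (1458, .edge 284 false),
    (3721, .edge 288 false),
    (3620, .edge 290 true),
    (3036, .edge 305 false),
    (3178, .edge 307 false),
    (64, .edge 343 true),
    (3204, .edge 345 true),
    (3707, .edge 346 false),
    (2074, .edge 378 true),
    (380, .edge 383 true),
    (1836, .edge 386 true),
    (2740, .edge 442 false),
    (156, .edge 450 true),
    (2000, .edge 453 true),
    (3492, .edge 454 true),
    (282, .edge 467 true),
    (2622, .edge 468 false),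
    (1940, .edge 475 true),
    (2114, .edge 476 false),
    (2448, .edge 480 true),
    (1897, .edge 496 true),
    (1755, .edge 497 true),
    (2949, .edge 498 true),
    (2053, .edge 505 true),
    (1646, .edge 507 true),
    (626, .edge 599 false),
    (2008, .edge 600 false),
    (762, .edge 624 false),
    (483, .edge 625 false),
    (3234, .edge 637 true),
    (2890, .edge 643 true),
    (2346, .edge 670 true),
    (2277, .edge 677 false),
    (2314, .edge 678 false),
    (3253, .edge 679 false),
    (3322, .edge 748 false),
    (1995, .edge 769 true),
    (2790, .edge 775 true),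
    (301, .edge 776 true),
    (1073, .edge 783 true),
    (3720, .edge 829 true),
    (3136, .edge 1051 false),
    (3173, .edge 1052 false),
    (1187, .edge 1127 true),
    (2378, .edge 1190 false),
    (1317, .edge 1191 false),
    (1660, .edge 1192 false),
    (3416, .edge 1193 false),
    (3078, .edge 1219 true),
    (2164, .edge 1250 false),
    (1651, .edge 1251 false),
    (2875, .edge 1285 true),
    (1941, .edge 1323 true),
    (583, .edge 1328 true),
    (132, .edge 1332 true),
    (604, .edge 1337 true),
    (111, .edge 1341 true),
    (2138, .edge 1350 true),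
    (660, .edge 1354 true),
    (3498, .edge 1432 true),
    (1921, .edge 1438 true),
    (2559, .edge 1441 false),
    (261, .edge 1506 true),
    (133, .edge 1509 true),
    (1323, .edge 1516 true),
    (737, .edge 1630 false),
    (3044, .edge 1631 false),
    (1946, .edge 1677 true),
    (285, .edge 1680 true),
    (2260, .edge 1688 true),
    (2946, .edge 1691 true),
    (1502, .edge 1695 true),
    (1931, .edge 1696 true),
    (2668, .edge 1698 true),
    (2536, .edge 1710 true),
    (741, .edge 1715 true),
    (3270, .gen 4 (209, false)),
    (254, .gen 1875 (202, false)),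
    (1172, .gen 1875 (202, true)),
    (3579, .gen 1875 (209, false)),
    (2568, .gen 1875 (209, true)),
    (53, .gen 221 (202, false)),
    (997, .gen 221 (202, true)),
    (3697, .gen 221 (209, false)),
    (307, .gen 221 (209, true)),
    (3227, .gen 470 (202, false)),
    (602, .gen 470 (202, true)),
    (454, .gen 470 (203, false)),
    (3317, .gen 470 (209, false)),
    (1607, .gen 470 (209, true)),
    (523, .gen 184 (202, false)),
    (2175, .gen 184 (202, true)),
    (12, .gen 184 (203, false)),
    (1498, .gen 184 (209, false)),
    (3477, .gen 184 (209, true)),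
    (1578, .gen 1240 (202, false)),
    (1948, .gen 1240 (202, true)),
    (46, .gen 416 (202, false)),
    (648, .gen 416 (202, true)),
    (816, .gen 416 (203, false)),
    (459, .gen 416 (209, false)),
    (283, .gen 416 (209, true)),
    (322, .gen 1564 (202, false)),
    (2806, .gen 1564 (202, true)),
    (1551, .gen 1564 (203, false)),
    (2035, .gen 1564 (209, false)),
    (2446, .gen 1564 (209, true)),
    (736, .gen 3386 (202, false)),
    (171, .gen 3386 (202, true)),
    (3286, .gen 3386 (203, false)),
    (3630, .gen 3386 (209, false)),
    (2845, .gen 3037 (202, false)),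
    (2976, .gen 3037 (202, true)),
    (2707, .gen 3037 (203, false)),
    (2673, .gen 3037 (209, false)),
    (3330, .gen 3037 (209, true)),
    (3287, .gen 1131 (202, false)),
    (385, .gen 1131 (202, true)),
    (3170, .gen 1131 (203, false)),
    (3043, .gen 1131 (209, false)),
    (530, .gen 1131 (209, true)),
    (850, .gen 2123 (202, false)),
    (585, .gen 2123 (202, true)),
    (555, .gen 1165 (202, false)),
    (1511, .gen 1165 (202, true)),
    (2191, .gen 1165 (203, false)),
    (2391, .gen 1165 (209, true)),
    (1571, .gen 756 (202, false)),
    (1989, .gen 756 (202, true)),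
    (3596, .gen 756 (203, false)),
    (1852, .gen 756 (209, false)),
    (655, .gen 756 (209, true)),
    (1268, .gen 1744 (202, false)),
    (3624, .gen 1744 (202, true)),
    (2225, .gen 2984 (202, false)),
    (3417, .gen 2984 (202, true)),
    (1975, .gen 2984 (203, false)),
    (3640, .gen 932 (203, false)),
    (3159, .gen 3690 (202, false)),
    (804, .gen 3690 (202, true)),
    (3790, .gen 3690 (203, false)),
    (2625, .gen 3690 (209, false)),
    (2555, .gen 3690 (209, true)),
    (1071, .gen 223 (202, false)),
    (734, .gen 223 (202, true)),
    (1133, .gen 223 (209, false)),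
    (1199, .gen 223 (209, true)),
    (3389, .gen 2479 (202, false)),
    (3506, .gen 2479 (202, true)),
    (3356, .gen 3357 (202, false)),
    (458, .gen 3357 (202, true)),
    (2542, .gen 3357 (203, false)),
    (1408, .gen 3357 (209, false)),
    (412, .gen 3357 (209, true)),
    (3100, .gen 2565 (202, false)),
    (579, .gen 2565 (202, true)),
    (3726, .gen 2565 (203, false)),
    (99, .gen 2565 (209, true)),
    (3761, .gen 1814 (202, false)),
    (1060, .gen 1814 (202, true)),
    (2352, .gen 1814 (203, false)),
    (1982, .gen 1814 (209, true)),
    (1427, .gen 711 (202, true)),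
    (225, .gen 711 (203, false)),
    (1413, .gen 266 (203, false)),
    (1357, .gen 266 (209, false)),
    (1878, .gen 513 (202, false)),
    (845, .gen 513 (209, true)),
    (708, .gen 425 (203, false)),
    (1520, .gen 425 (209, false)),
    (3694, .gen 268 (202, false)),
    (793, .gen 268 (202, true)),
    (672, .gen 477 (202, false)),
    (1363, .gen 477 (202, true)),
    (71, .gen 477 (203, false)),
    (787, .gen 477 (209, false)),
    (529, .gen 477 (209, true)),
    (1170, .gen 628 (202, false)),
    (2688, .gen 628 (202, true)),
    (2291, .gen 628 (203, false)),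
    (811, .gen 628 (209, true)),
    (2948, .gen 419 (202, false)),
    (134, .gen 419 (202, true)),
    (1732, .gen 751 (202, false)),
    (2758, .gen 751 (202, true)),
    (2812, .gen 751 (203, false)),
    (123, .gen 751 (209, false)),
    (1978, .gen 1737 (202, false)),
    (3024, .gen 1737 (203, false)),
    (3309, .gen 1737 (209, false)),
    (1979, .gen 3734 (203, false)),
    (1682, .gen 3734 (209, true)),
    (570, .gen 3364 (202, false)),
    (3064, .gen 3364 (202, true)),
    (2977, .gen 3364 (203, false)),
    (1484, .gen 3364 (209, false)),
    (1134, .gen 3364 (209, true)),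
    (657, .gen 986 (202, true)),
    (1627, .gen 986 (203, false)),
    (1747, .gen 986 (209, false)),
    (2145, .gen 976 (202, false)),
    (3391, .gen 976 (202, true)),
    (2433, .gen 976 (209, false)),
    (308, .gen 976 (209, true)),
    (8, .gen 2217 (202, false)),
    (3339, .gen 2217 (202, true)),
    (1267, .gen 2217 (209, false)),
    (2405, .gen 2217 (209, true)),
    (646, .gen 701 (202, false)),
    (1652, .gen 701 (202, true)),
    (1125, .gen 701 (203, false)),
    (3049, .gen 701 (209, false)),
    (192, .gen 701 (209, true)),
    (2873, .gen 3567 (202, false)),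
    (3650, .gen 3567 (202, true)),
    (471, .gen 3567 (203, false)),
    (1696, .gen 3567 (209, true)),
    (1108, .gen 2947 (202, false)),
    (815, .gen 2947 (202, true)),
    (2619, .gen 2947 (203, false)),
    (250, .gen 2947 (209, false)),
    (1227, .gen 2947 (209, true)),
    (106, .gen 961 (202, false)),
    (1208, .gen 961 (202, true)),
    (23, .gen 961 (203, false)),
    (239, .gen 961 (209, false)),
    (2362, .gen 961 (209, true)),
    (3649, .gen 3088 (202, false)),
    (592, .gen 3088 (202, true)),
    (2713, .gen 3088 (203, false)),
    (1569, .gen 3088 (209, false)),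
    (1159, .gen 3088 (209, true)),
    (918, .gen 3622 (202, false)),
    (276, .gen 3622 (202, true)),
    (2402, .gen 3622 (203, false)),
    (3184, .gen 3622 (209, false)),
    (2972, .gen 3622 (209, true)),
    (2708, .gen 1647 (202, false)),
    (794, .gen 1647 (202, true)),
    (1750, .gen 1647 (203, false)),
    (292, .gen 1647 (209, false)),
    (164, .gen 1647 (209, true)),
    (2549, .gen 3018 (202, false)),
    (2706, .gen 3018 (202, true))]

/-- Visits. -/
def v14_1 : List (ℕ × Src) :=
  [(3408, .gen 3018 (203, false)),
    (2316, .gen 3018 (209, false)),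
    (52, .gen 1239 (202, false)),
    (1474, .gen 1239 (202, true)),
    (3377, .gen 1239 (203, false)),
    (3547, .gen 1239 (209, true)),
    (1965, .gen 746 (202, false)),
    (2968, .gen 746 (202, true)),
    (3468, .gen 746 (203, false)),
    (1671, .gen 746 (209, false)),
    (1258, .gen 746 (209, true)),
    (2366, .gen 2905 (202, false)),
    (2711, .gen 2905 (202, true)),
    (3595, .gen 2905 (203, false)),
    (485, .gen 2905 (209, false)),
    (1766, .gen 2905 (209, true)),
    (954, .gen 971 (202, false)),
    (3002, .gen 971 (202, true)),
    (2180, .gen 971 (203, false)),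
    (3625, .gen 971 (209, false)),
    (1780, .gen 971 (209, true)),
    (3268, .gen 857 (202, false)),
    (906, .gen 857 (202, true)),
    (2431, .gen 857 (203, false)),
    (2480, .gen 857 (209, false)),
    (3655, .gen 857 (209, true)),
    (3276, .gen 849 (202, false)),
    (1034, .gen 849 (202, true)),
    (2099, .gen 849 (209, false)),
    (1537, .gen 3607 (202, false)),
    (2408, .gen 3607 (202, true)),
    (2633, .gen 3607 (209, false)),
    (860, .gen 1458 (202, false)),
    (2215, .gen 1458 (202, true)),
    (1722, .gen 1458 (203, false)),
    (3438, .gen 1458 (209, false)),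
    (2407, .gen 1458 (209, true)),
    (1269, .gen 3721 (202, false)),
    (3072, .gen 3721 (202, true)),
    (3155, .gen 3721 (203, false)),
    (2515, .gen 3721 (209, false)),
    (725, .gen 3721 (209, true)),
    (3174, .gen 3620 (202, false)),
    (1955, .gen 3620 (202, true)),
    (1835, .gen 3620 (203, false)),
    (2649, .gen 3620 (209, false)),
    (3585, .gen 3620 (209, true)),
    (3379, .gen 3036 (202, false)),
    (833, .gen 3036 (202, true)),
    (2823, .gen 3036 (203, false)),
    (3206, .gen 3036 (209, false)),
    (2997, .gen 3036 (209, true)),
    (2860, .gen 3178 (202, false)),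
    (1789, .gen 3178 (202, true)),
    (3208, .gen 3178 (203, false)),
    (2457, .gen 3178 (209, true)),
    (2615, .gen 64 (202, false)),
    (500, .gen 64 (202, true)),
    (2226, .gen 64 (203, false)),
    (3414, .gen 64 (209, false)),
    (3693, .gen 64 (209, true)),
    (117, .gen 3204 (202, false)),
    (2489, .gen 3204 (202, true)),
    (3599, .gen 3204 (203, false)),
    (142, .gen 3204 (209, false)),
    (1874, .gen 3204 (209, true)),
    (2716, .gen 3707 (202, false)),
    (2259, .gen 3707 (202, true)),
    (3063, .gen 3707 (203, false)),
    (3533, .gen 3707 (209, true)),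
    (675, .gen 2074 (202, false)),
    (1823, .gen 2074 (202, true)),
    (2718, .gen 2074 (203, false)),
    (1089, .gen 2074 (209, false)),
    (3202, .gen 2074 (209, true)),
    (392, .gen 380 (202, false)),
    (1414, .gen 380 (202, true)),
    (1372, .gen 380 (203, false)),
    (1827, .gen 380 (209, false)),
    (687, .gen 1836 (202, false)),
    (3244, .gen 1836 (202, true)),
    (1867, .gen 1836 (203, false)),
    (796, .gen 1836 (209, false)),
    (2923, .gen 1836 (209, true)),
    (181, .gen 2740 (202, false)),
    (2142, .gen 2740 (202, true)),
    (723, .gen 2740 (203, false)),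
    (3027, .gen 2740 (209, false)),
    (927, .gen 2740 (209, true)),
    (1118, .gen 156 (202, false)),
    (629, .gen 156 (202, true)),
    (2579, .gen 156 (203, false)),
    (373, .gen 156 (209, false)),
    (2979, .gen 156 (209, true)),
    (3681, .gen 2000 (202, false)),
    (1228, .gen 2000 (202, true)),
    (1436, .gen 2000 (203, false)),
    (3466, .gen 2000 (209, false)),
    (2546, .gen 2000 (209, true)),
    (218, .gen 3492 (202, false)),
    (2814, .gen 3492 (202, true)),
    (3455, .gen 3492 (203, false)),
    (2472, .gen 3492 (209, false)),
    (350, .gen 3492 (209, true)),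
    (1122, .gen 282 (202, false)),
    (298, .gen 282 (202, true)),
    (600, .gen 282 (203, false)),
    (3524, .gen 282 (209, false)),
    (2869, .gen 282 (209, true)),
    (524, .gen 2622 (202, false)),
    (2442, .gen 2622 (202, true)),
    (3744, .gen 2622 (209, false)),
    (978, .gen 2622 (209, true)),
    (499, .gen 1940 (202, false)),
    (1636, .gen 1940 (202, true)),
    (929, .gen 1940 (203, false)),
    (994, .gen 1940 (209, false)),
    (1450, .gen 1940 (209, true)),
    (177, .gen 2114 (202, false)),
    (3617, .gen 2114 (202, true)),
    (3632, .gen 2114 (203, false)),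
    (586, .gen 2114 (209, false)),
    (1928, .gen 2114 (209, true)),
    (1419, .gen 2448 (202, false)),
    (2778, .gen 2448 (202, true)),
    (2930, .gen 2448 (203, false)),
    (323, .gen 2448 (209, false)),
    (875, .gen 2448 (209, true)),
    (1286, .gen 1897 (202, false)),
    (2208, .gen 1897 (202, true)),
    (913, .gen 1897 (203, false)),
    (3171, .gen 1897 (209, false)),
    (2518, .gen 1897 (209, true)),
    (1917, .gen 1755 (202, false)),
    (3074, .gen 1755 (202, true)),
    (522, .gen 1755 (203, false)),
    (1331, .gen 1755 (209, false)),
    (2077, .gen 1755 (209, true)),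
    (1390, .gen 2949 (202, false)),
    (1972, .gen 2949 (202, true)),
    (3021, .gen 2949 (203, false)),
    (1123, .gen 2949 (209, false)),
    (3467, .gen 2949 (209, true)),
    (3422, .gen 2053 (202, false)),
    (3107, .gen 2053 (202, true)),
    (1764, .gen 2053 (203, false)),
    (1189, .gen 2053 (209, false)),
    (2602, .gen 2053 (209, true)),
    (1812, .gen 1646 (202, false)),
    (3111, .gen 1646 (202, true)),
    (2885, .gen 1646 (203, false)),
    (1232, .gen 1646 (209, false)),
    (937, .gen 1646 (209, true)),
    (963, .gen 626 (202, false)),
    (293, .gen 626 (202, true)),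
    (3011, .gen 626 (203, false)),
    (2881, .gen 626 (209, false)),
    (2753, .gen 626 (209, true)),
    (3158, .gen 2008 (202, false)),
    (92, .gen 2008 (202, true)),
    (865, .gen 2008 (203, false)),
    (2227, .gen 2008 (209, false)),
    (460, .gen 2008 (209, true)),
    (1302, .gen 762 (202, false)),
    (1137, .gen 762 (202, true)),
    (3025, .gen 762 (203, false)),
    (2752, .gen 762 (209, false)),
    (3035, .gen 762 (209, true)),
    (1394, .gen 483 (202, false)),
    (1028, .gen 483 (202, true)),
    (2025, .gen 483 (203, false)),
    (2505, .gen 483 (209, false)),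
    (2893, .gen 483 (209, true)),
    (2811, .gen 3234 (202, false)),
    (2115, .gen 3234 (202, true)),
    (3437, .gen 3234 (203, false)),
    (130, .gen 3234 (209, true)),
    (706, .gen 2890 (202, false)),
    (1230, .gen 2890 (202, true)),
    (979, .gen 2890 (203, false)),
    (2627, .gen 2890 (209, true)),
    (938, .gen 2346 (202, false)),
    (3199, .gen 2346 (202, true)),
    (1818, .gen 2346 (203, false)),
    (2155, .gen 2346 (209, false)),
    (1395, .gen 2346 (209, true)),
    (157, .gen 2277 (202, false)),
    (1558, .gen 2277 (202, true)),
    (1346, .gen 2277 (203, false)),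
    (1589, .gen 2277 (209, false)),
    (1549, .gen 2277 (209, true)),
    (1320, .gen 2314 (202, false)),
    (1094, .gen 2314 (202, true)),
    (1086, .gen 2314 (203, false)),
    (3083, .gen 2314 (209, false)),
    (2874, .gen 2314 (209, true)),
    (259, .gen 3253 (202, false)),
    (3626, .gen 3253 (202, true)),
    (2339, .gen 3253 (203, false)),
    (313, .gen 3253 (209, false)),
    (968, .gen 3253 (209, true)),
    (3029, .gen 3322 (202, false)),
    (867, .gen 3322 (202, true)),
    (3696, .gen 3322 (203, false)),
    (2788, .gen 3322 (209, false)),
    (3010, .gen 3322 (209, true)),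
    (3776, .gen 1995 (202, false)),
    (3126, .gen 1995 (202, true)),
    (136, .gen 1995 (203, false)),
    (3105, .gen 1995 (209, false)),
    (2841, .gen 1995 (209, true)),
    (3388, .gen 2790 (202, false)),
    (1865, .gen 2790 (202, true)),
    (244, .gen 2790 (203, false)),
    (3125, .gen 2790 (209, false)),
    (1735, .gen 2790 (209, true)),
    (3058, .gen 301 (202, false)),
    (3676, .gen 301 (202, true)),
    (124, .gen 301 (203, false)),
    (2499, .gen 301 (209, false)),
    (1057, .gen 301 (209, true)),
    (3224, .gen 1073 (202, false)),
    (1467, .gen 1073 (202, true)),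
    (2891, .gen 1073 (203, false)),
    (2698, .gen 1073 (209, true)),
    (2865, .gen 3720 (202, false)),
    (1, .gen 3720 (202, true)),
    (3792, .gen 3720 (203, false)),
    (2321, .gen 3720 (209, false)),
    (1196, .gen 3720 (209, true)),
    (2015, .gen 3136 (202, false)),
    (3260, .gen 3136 (202, true)),
    (363, .gen 3136 (203, false)),
    (2422, .gen 3136 (209, false)),
    (2657, .gen 3136 (209, true)),
    (698, .gen 3173 (202, false)),
    (653, .gen 3173 (202, true)),
    (1441, .gen 3173 (203, false)),
    (3509, .gen 3173 (209, false)),
    (3711, .gen 3173 (209, true)),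
    (2807, .gen 1187 (202, false)),
    (508, .gen 1187 (202, true)),
    (233, .gen 1187 (203, false)),
    (384, .gen 1187 (209, false)),
    (2899, .gen 1187 (209, true)),
    (3160, .gen 2378 (202, false)),
    (2270, .gen 2378 (202, true)),
    (2867, .gen 2378 (203, false)),
    (3494, .gen 2378 (209, false)),
    (2092, .gen 2378 (209, true)),
    (1364, .gen 1317 (202, false)),
    (2189, .gen 1317 (202, true)),
    (3504, .gen 1317 (203, false)),
    (3315, .gen 1317 (209, false)),
    (109, .gen 1317 (209, true)),
    (1774, .gen 1660 (202, false)),
    (65, .gen 1660 (202, true)),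
    (2942, .gen 1660 (203, false)),
    (2828, .gen 1660 (209, false)),
    (745, .gen 1660 (209, true)),
    (3701, .gen 3416 (202, false)),
    (750, .gen 3416 (202, true)),
    (2957, .gen 3416 (203, false)),
    (1270, .gen 3416 (209, false)),
    (1624, .gen 3416 (209, true)),
    (2282, .gen 3078 (202, false)),
    (3519, .gen 3078 (202, true)),
    (348, .gen 3078 (203, false)),
    (615, .gen 3078 (209, false)),
    (3245, .gen 3078 (209, true)),
    (3712, .gen 2164 (202, false)),
    (3008, .gen 2164 (202, true)),
    (2557, .gen 2164 (203, false)),
    (1385, .gen 2164 (209, false)),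
    (371, .gen 2164 (209, true)),
    (2507, .gen 1651 (202, false)),
    (327, .gen 1651 (202, true)),
    (3261, .gen 1651 (203, false)),
    (1895, .gen 1651 (209, false)),
    (3531, .gen 1651 (209, true)),
    (3338, .gen 2875 (202, false)),
    (1684, .gen 2875 (202, true)),
    (3483, .gen 2875 (203, false)),
    (2453, .gen 2875 (209, false)),
    (2991, .gen 2875 (209, true)),
    (1310, .gen 1941 (202, false)),
    (2705, .gen 1941 (202, true)),
    (362, .gen 1941 (203, false)),
    (1635, .gen 1941 (209, false)),
    (1633, .gen 1941 (209, true)),
    (2117, .gen 583 (202, false)),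
    (1539, .gen 583 (202, true)),
    (773, .gen 583 (203, false)),
    (1885, .gen 583 (209, false)),
    (673, .gen 583 (209, true)),
    (3210, .gen 132 (202, false)),
    (1224, .gen 132 (202, true)),
    (618, .gen 132 (203, false)),
    (2912, .gen 132 (209, false)),
    (2436, .gen 132 (209, true))]

/-- Visits. -/
def v14_2 : List (ℕ × Src) :=
  [(2240, .gen 604 (202, false)),
    (2165, .gen 604 (202, true)),
    (3302, .gen 604 (203, false)),
    (3038, .gen 604 (209, false)),
    (2245, .gen 604 (209, true)),
    (1023, .gen 111 (202, false)),
    (3552, .gen 111 (202, true)),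
    (1742, .gen 111 (203, false)),
    (3014, .gen 111 (209, false)),
    (2855, .gen 111 (209, true)),
    (1386, .gen 2138 (202, false)),
    (2298, .gen 2138 (202, true)),
    (1392, .gen 2138 (203, false)),
    (775, .gen 2138 (209, false)),
    (1435, .gen 2138 (209, true)),
    (3612, .gen 660 (202, false)),
    (2144, .gen 660 (202, true)),
    (1505, .gen 660 (203, false)),
    (3428, .gen 660 (209, false)),
    (3182, .gen 660 (209, true)),
    (40, .gen 3498 (202, false)),
    (3749, .gen 3498 (202, true)),
    (3281, .gen 3498 (203, false)),
    (641, .gen 3498 (209, false)),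
    (2108, .gen 3498 (209, true)),
    (1181, .gen 1921 (202, false)),
    (3486, .gen 1921 (202, true)),
    (2324, .gen 1921 (203, false)),
    (894, .gen 1921 (209, false)),
    (16, .gen 1921 (209, true)),
    (1516, .gen 2559 (202, false)),
    (2929, .gen 2559 (202, true)),
    (2024, .gen 2559 (203, false)),
    (3551, .gen 2559 (209, false)),
    (2785, .gen 2559 (209, true)),
    (2737, .gen 261 (202, false)),
    (3629, .gen 261 (202, true)),
    (2224, .gen 261 (203, false)),
    (2621, .gen 261 (209, false)),
    (564, .gen 133 (202, false)),
    (603, .gen 133 (202, true)),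
    (113, .gen 133 (203, false)),
    (1053, .gen 133 (209, false)),
    (730, .gen 133 (209, true)),
    (990, .gen 1323 (202, false)),
    (3684, .gen 1323 (202, true)),
    (1777, .gen 1323 (203, false)),
    (2290, .gen 1323 (209, false)),
    (2805, .gen 1323 (209, true)),
    (3582, .gen 737 (202, false)),
    (1366, .gen 737 (202, true)),
    (3101, .gen 737 (203, false)),
    (2237, .gen 737 (209, false)),
    (826, .gen 737 (209, true)),
    (617, .gen 3044 (202, false)),
    (2577, .gen 3044 (202, true)),
    (3331, .gen 3044 (203, false)),
    (1350, .gen 3044 (209, false)),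
    (3458, .gen 3044 (209, true)),
    (1514, .gen 1946 (202, false)),
    (3610, .gen 1946 (202, true)),
    (568, .gen 1946 (203, false)),
    (3092, .gen 1946 (209, false)),
    (3362, .gen 1946 (209, true)),
    (685, .gen 285 (202, false)),
    (3368, .gen 285 (202, true)),
    (1951, .gen 285 (203, false)),
    (2583, .gen 285 (209, false)),
    (936, .gen 285 (209, true)),
    (3553, .gen 2260 (202, false)),
    (889, .gen 2260 (202, true)),
    (2396, .gen 2260 (203, false)),
    (3275, .gen 2260 (209, false)),
    (2844, .gen 2260 (209, true)),
    (2813, .gen 2946 (202, false)),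
    (719, .gen 2946 (202, true)),
    (2006, .gen 2946 (203, false)),
    (1936, .gen 2946 (209, false)),
    (3745, .gen 2946 (209, true)),
    (3685, .gen 1502 (202, false)),
    (881, .gen 1502 (202, true)),
    (317, .gen 1502 (203, false)),
    (2829, .gen 1502 (209, false)),
    (3028, .gen 1502 (209, true)),
    (2443, .gen 1931 (202, false)),
    (3593, .gen 1931 (202, true)),
    (82, .gen 1931 (203, false)),
    (2793, .gen 1931 (209, false)),
    (3425, .gen 1931 (209, true)),
    (2039, .gen 2668 (202, false)),
    (2743, .gen 2668 (202, true)),
    (1421, .gen 2668 (203, false)),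
    (3033, .gen 2668 (209, false)),
    (2678, .gen 2668 (209, true)),
    (1506, .gen 2536 (202, false)),
    (2022, .gen 2536 (202, true)),
    (2754, .gen 2536 (203, false)),
    (1012, .gen 2536 (209, false)),
    (1990, .gen 2536 (209, true)),
    (1248, .gen 741 (202, false)),
    (1568, .gen 741 (202, true)),
    (676, .gen 741 (203, false)),
    (3770, .gen 741 (209, false)),
    (2601, .gen 254 (203, false)),
    (1802, .gen 254 (209, false)),
    (950, .gen 254 (209, true)),
    (1411, .gen 1172 (203, false)),
    (2374, .gen 1172 (209, false)),
    (3535, .gen 2568 (202, true)),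
    (328, .gen 53 (209, true)),
    (920, .gen 3227 (203, false)),
    (3537, .gen 3227 (209, true)),
    (2327, .gen 602 (203, false)),
    (3340, .gen 602 (209, false)),
    (1541, .gen 602 (209, true)),
    (1704, .gen 454 (202, false)),
    (1035, .gen 454 (202, true)),
    (2816, .gen 454 (209, false)),
    (2213, .gen 454 (209, true)),
    (547, .gen 3317 (202, false)),
    (1977, .gen 3317 (209, false)),
    (3702, .gen 1607 (202, true)),
    (37, .gen 523 (203, false)),
    (2630, .gen 523 (209, true)),
    (2400, .gen 2175 (209, false)),
    (1640, .gen 12 (202, true)),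
    (1277, .gen 12 (209, false)),
    (2990, .gen 12 (209, true)),
    (1826, .gen 1498 (202, false)),
    (1055, .gen 1498 (209, false)),
    (1796, .gen 46 (209, true)),
    (207, .gen 648 (203, false)),
    (2376, .gen 648 (209, false)),
    (1927, .gen 648 (209, true)),
    (279, .gen 816 (202, true)),
    (1429, .gen 459 (202, false)),
    (1806, .gen 322 (203, false)),
    (125, .gen 322 (209, true)),
    (890, .gen 2806 (209, false)),
    (155, .gen 1551 (209, false)),
    (1909, .gen 1551 (209, true)),
    (663, .gen 2035 (209, false)),
    (2156, .gen 736 (203, false)),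
    (1910, .gen 736 (209, false)),
    (2211, .gen 736 (209, true)),
    (1893, .gen 171 (203, false)),
    (3605, .gen 3286 (202, false)),
    (828, .gen 3286 (202, true)),
    (3240, .gen 2845 (209, false)),
    (176, .gen 2976 (203, false)),
    (3746, .gen 2976 (209, false)),
    (1308, .gen 2707 (209, true)),
    (3722, .gen 3330 (209, true)),
    (949, .gen 3287 (203, false)),
    (780, .gen 3287 (209, true)),
    (2267, .gen 3170 (202, false)),
    (2988, .gen 3170 (209, false)),
    (3132, .gen 555 (203, false)),
    (3301, .gen 1511 (203, false)),
    (2059, .gen 1511 (209, false)),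
    (677, .gen 1511 (209, true)),
    (2076, .gen 2191 (202, true)),
    (3057, .gen 2191 (209, false)),
    (525, .gen 1571 (209, true)),
    (1751, .gen 1989 (203, false)),
    (908, .gen 1989 (209, false)),
    (2617, .gen 1989 (209, true)),
    (3433, .gen 3596 (202, true)),
    (3109, .gen 1852 (202, false)),
    (2051, .gen 2225 (203, false)),
    (2498, .gen 3417 (203, false)),
    (3001, .gen 3159 (203, false)),
    (3432, .gen 3159 (209, true)),
    (1402, .gen 804 (209, true)),
    (852, .gen 3790 (202, false)),
    (3023, .gen 3790 (209, false)),
    (1922, .gen 2625 (202, false)),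
    (162, .gen 2625 (209, false)),
    (3775, .gen 2555 (209, true)),
    (3167, .gen 1071 (209, true)),
    (2398, .gen 3356 (203, false)),
    (2147, .gen 3356 (209, true)),
    (2714, .gen 2542 (202, false)),
    (3172, .gen 2542 (209, false)),
    (1160, .gen 3726 (202, false)),
    (3031, .gen 2352 (202, false)),
    (807, .gen 71 (202, false)),
    (3112, .gen 1732 (209, true)),
    (2281, .gen 2758 (203, false)),
    (1815, .gen 2758 (209, true)),
    (2941, .gen 123 (202, false)),
    (1018, .gen 123 (209, false)),
    (3079, .gen 1978 (209, true)),
    (1734, .gen 3309 (202, false)),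
    (2769, .gen 3309 (209, false)),
    (1080, .gen 1979 (209, false)),
    (1442, .gen 1682 (209, true)),
    (2201, .gen 570 (203, false)),
    (3709, .gen 570 (209, false)),
    (1600, .gen 570 (209, true)),
    (1944, .gen 3064 (203, false)),
    (3586, .gen 3064 (209, false)),
    (2190, .gen 3064 (209, true)),
    (1924, .gen 2977 (209, true)),
    (822, .gen 1484 (202, false)),
    (3668, .gen 1134 (202, true)),
    (1168, .gen 657 (203, false)),
    (204, .gen 657 (209, true)),
    (1128, .gen 1627 (202, true)),
    (3788, .gen 1747 (202, false)),
    (399, .gen 2145 (203, false)),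
    (1005, .gen 2145 (209, false)),
    (507, .gen 2145 (209, true)),
    (588, .gen 3391 (203, false)),
    (2080, .gen 3391 (209, false)),
    (1844, .gen 2433 (202, false)),
    (3659, .gen 308 (202, true)),
    (527, .gen 8 (203, false)),
    (2973, .gen 8 (209, true)),
    (10, .gen 3339 (203, false)),
    (1730, .gen 3339 (209, false)),
    (801, .gen 2405 (202, true)),
    (2725, .gen 646 (203, false)),
    (2786, .gen 646 (209, false)),
    (3621, .gen 646 (209, true)),
    (1673, .gen 1652 (203, false)),
    (1749, .gen 1652 (209, false)),
    (709, .gen 1652 (209, true)),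
    (1622, .gen 1125 (202, false)),
    (955, .gen 1125 (202, true)),
    (528, .gen 1125 (209, false)),
    (1292, .gen 1125 (209, true)),
    (2101, .gen 3049 (202, false)),
    (1679, .gen 3049 (209, false)),
    (2470, .gen 192 (202, true)),
    (2795, .gen 2873 (209, false)),
    (2075, .gen 3650 (203, false)),
    (3490, .gen 3650 (209, false)),
    (154, .gen 471 (202, false)),
    (887, .gen 471 (202, true)),
    (905, .gen 471 (209, false)),
    (1565, .gen 1696 (202, true)),
    (783, .gen 1108 (203, false)),
    (799, .gen 1108 (209, true)),
    (1401, .gen 815 (203, false)),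
    (1698, .gen 815 (209, false)),
    (1717, .gen 815 (209, true)),
    (1555, .gen 2619 (202, false)),
    (995, .gen 2619 (202, true)),
    (3501, .gen 2619 (209, false)),
    (956, .gen 2619 (209, true)),
    (2717, .gen 250 (202, false)),
    (3201, .gen 250 (209, false)),
    (368, .gen 1227 (202, true)),
    (15, .gen 106 (203, false)),
    (3062, .gen 106 (209, true)),
    (3200, .gen 1208 (209, false)),
    (1155, .gen 23 (202, true)),
    (1605, .gen 23 (209, false)),
    (98, .gen 23 (209, true)),
    (2840, .gen 239 (202, false)),
    (651, .gen 239 (209, false)),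
    (2556, .gen 3649 (203, false)),
    (445, .gen 3649 (209, false)),
    (3076, .gen 3649 (209, true)),
    (178, .gen 592 (203, false)),
    (1536, .gen 592 (209, false)),
    (29, .gen 592 (209, true)),
    (2387, .gen 2713 (202, false)),
    (3288, .gen 2713 (202, true)),
    (3756, .gen 2713 (209, false)),
    (3048, .gen 2713 (209, true)),
    (1712, .gen 1569 (202, false)),
    (1629, .gen 1569 (209, false)),
    (2262, .gen 1159 (202, true)),
    (1235, .gen 1159 (209, true)),
    (1530, .gen 918 (203, false)),
    (3554, .gen 918 (209, false)),
    (2347, .gen 918 (209, true)),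
    (2637, .gen 276 (203, false)),
    (3312, .gen 276 (209, false)),
    (2258, .gen 276 (209, true)),
    (489, .gen 2402 (202, false)),
    (147, .gen 2402 (202, true)),
    (557, .gen 2402 (209, false)),
    (3296, .gen 2402 (209, true)),
    (1697, .gen 3184 (202, false)),
    (1521, .gen 3184 (209, false)),
    (679, .gen 2972 (202, true)),
    (1853, .gen 2972 (209, true)),
    (2676, .gen 2708 (203, false)),
    (2403, .gen 2708 (209, false)),
    (1162, .gen 2708 (209, true)),
    (1145, .gen 794 (203, false)),
    (503, .gen 794 (209, false)),
    (2471, .gen 794 (209, true)),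
    (1041, .gen 1750 (202, false)),
    (3217, .gen 1750 (202, true)),
    (374, .gen 1750 (209, true)),
    (1695, .gen 292 (202, false))]

/-- Visits. -/
def v14_3 : List (ℕ × Src) :=
  [(656, .gen 292 (209, false)),
    (1382, .gen 164 (202, true)),
    (1822, .gen 2549 (209, false)),
    (1663, .gen 2549 (209, true)),
    (1778, .gen 2706 (203, false)),
    (2704, .gen 2706 (209, false)),
    (2639, .gen 2706 (209, true)),
    (1077, .gen 3408 (202, true)),
    (2490, .gen 2316 (202, false)),
    (2783, .gen 52 (203, false)),
    (3384, .gen 52 (209, true)),
    (1091, .gen 3377 (202, false)),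
    (940, .gen 3547 (202, true)),
    (1585, .gen 1965 (209, false)),
    (497, .gen 1965 (209, true)),
    (1592, .gen 2968 (203, false)),
    (1534, .gen 2968 (209, false)),
    (2004, .gen 2968 (209, true)),
    (2682, .gen 3468 (202, false)),
    (2287, .gen 3468 (202, true)),
    (2952, .gen 3468 (209, false)),
    (1579, .gen 1671 (202, false)),
    (1084, .gen 1258 (202, true)),
    (2919, .gen 1258 (209, true)),
    (1039, .gen 2366 (203, false)),
    (50, .gen 2366 (209, false)),
    (423, .gen 2711 (203, false)),
    (3491, .gen 2711 (209, false)),
    (487, .gen 2711 (209, true)),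
    (509, .gen 3595 (209, false)),
    (3731, .gen 3595 (209, true)),
    (1438, .gen 485 (202, false)),
    (1864, .gen 485 (209, false)),
    (3678, .gen 1766 (209, true)),
    (1886, .gen 954 (203, false)),
    (369, .gen 954 (209, false)),
    (874, .gen 3002 (203, false)),
    (1847, .gen 3002 (209, false)),
    (1688, .gen 3002 (209, true)),
    (724, .gen 2180 (209, false)),
    (3769, .gen 2180 (209, true)),
    (2618, .gen 3625 (202, false)),
    (1641, .gen 3625 (209, false)),
    (2475, .gen 1780 (209, true)),
    (2653, .gen 3268 (203, false)),
    (3687, .gen 3268 (209, true)),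
    (2068, .gen 906 (209, true)),
    (3703, .gen 2431 (202, false)),
    (2229, .gen 2480 (202, false)),
    (1583, .gen 3276 (203, false)),
    (438, .gen 3276 (209, false)),
    (3053, .gen 3276 (209, true)),
    (1214, .gen 1537 (209, true)),
    (3177, .gen 860 (203, false)),
    (1573, .gen 860 (209, false)),
    (1452, .gen 2215 (203, false)),
    (1938, .gen 2215 (209, false)),
    (1252, .gen 2215 (209, true)),
    (2564, .gen 1722 (209, false)),
    (2432, .gen 1722 (209, true)),
    (172, .gen 3438 (202, false)),
    (2584, .gen 3438 (209, false)),
    (3518, .gen 2407 (209, true)),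
    (935, .gen 1269 (203, false)),
    (1970, .gen 1269 (209, false)),
    (3371, .gen 1269 (209, true)),
    (1665, .gen 3072 (203, false)),
    (2439, .gen 3072 (209, false)),
    (992, .gen 3072 (209, true)),
    (2303, .gen 3155 (202, false)),
    (2763, .gen 3155 (202, true)),
    (2315, .gen 3155 (209, false)),
    (2095, .gen 3155 (209, true)),
    (3020, .gen 2515 (202, false)),
    (769, .gen 2515 (209, false)),
    (1546, .gen 725 (202, true)),
    (1776, .gen 725 (209, true)),
    (2962, .gen 3174 (203, false)),
    (876, .gen 3174 (209, false)),
    (580, .gen 3174 (209, true)),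
    (1617, .gen 1955 (203, false)),
    (3783, .gen 1955 (209, false)),
    (469, .gen 1955 (209, true)),
    (2242, .gen 1835 (202, false)),
    (387, .gen 1835 (202, true)),
    (1255, .gen 1835 (209, false)),
    (1872, .gen 1835 (209, true)),
    (517, .gen 2649 (202, false)),
    (43, .gen 2649 (209, false)),
    (1412, .gen 3585 (202, true)),
    (2170, .gen 3585 (209, true)),
    (2876, .gen 3379 (203, false)),
    (2797, .gen 3379 (209, false)),
    (217, .gen 833 (203, false)),
    (2731, .gen 833 (209, false)),
    (3735, .gen 833 (209, true)),
    (2983, .gen 2823 (209, false)),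
    (1141, .gen 2823 (209, true)),
    (2655, .gen 3206 (202, false)),
    (1009, .gen 3206 (209, false)),
    (1741, .gen 2997 (209, true)),
    (2866, .gen 2860 (203, false)),
    (3398, .gen 2860 (209, false)),
    (2139, .gen 2860 (209, true)),
    (2835, .gen 1789 (209, true)),
    (888, .gen 3208 (202, false)),
    (245, .gen 3208 (209, false)),
    (1249, .gen 2457 (202, true)),
    (872, .gen 2457 (209, true)),
    (754, .gen 2615 (203, false)),
    (3478, .gen 2615 (209, false)),
    (1348, .gen 500 (203, false)),
    (3361, .gen 500 (209, false)),
    (1019, .gen 500 (209, true)),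
    (2459, .gen 2226 (209, false)),
    (3175, .gen 2226 (209, true)),
    (554, .gen 3414 (202, false)),
    (444, .gen 3414 (209, false)),
    (1710, .gen 3693 (209, true)),
    (280, .gen 117 (203, false)),
    (431, .gen 117 (209, false)),
    (960, .gen 117 (209, true)),
    (718, .gen 2489 (203, false)),
    (848, .gen 2489 (209, false)),
    (2687, .gen 2489 (209, true)),
    (2042, .gen 3599 (202, false)),
    (2364, .gen 3599 (202, true)),
    (3774, .gen 3599 (209, false)),
    (1315, .gen 3599 (209, true)),
    (131, .gen 142 (202, false)),
    (3653, .gen 142 (209, false)),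
    (2862, .gen 1874 (202, true)),
    (3278, .gen 1874 (209, true)),
    (339, .gen 2716 (203, false)),
    (1685, .gen 2716 (209, false)),
    (3631, .gen 2716 (209, true)),
    (1616, .gen 2259 (209, true)),
    (1195, .gen 3063 (202, false)),
    (138, .gen 3063 (209, false)),
    (3548, .gen 3533 (202, true)),
    (1876, .gen 3533 (209, true)),
    (3196, .gen 675 (203, false)),
    (781, .gen 675 (209, true)),
    (2421, .gen 1823 (203, false)),
    (2249, .gen 1823 (209, false)),
    (2573, .gen 2718 (202, false)),
    (1460, .gen 2718 (202, true)),
    (1819, .gen 2718 (209, true)),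
    (1508, .gen 1089 (202, false)),
    (3310, .gen 3202 (202, true)),
    (1399, .gen 392 (203, false)),
    (2642, .gen 392 (209, false)),
    (966, .gen 392 (209, true)),
    (3619, .gen 1414 (203, false)),
    (1154, .gen 1414 (209, true)),
    (2762, .gen 1372 (202, false)),
    (1581, .gen 1372 (202, true)),
    (3262, .gen 1827 (202, false)),
    (1862, .gen 1827 (209, false)),
    (2032, .gen 687 (203, false)),
    (2204, .gen 687 (209, false)),
    (406, .gen 687 (209, true)),
    (1996, .gen 3244 (203, false)),
    (2358, .gen 3244 (209, false)),
    (3737, .gen 3244 (209, true)),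
    (1561, .gen 1867 (202, false)),
    (28, .gen 1867 (202, true)),
    (3214, .gen 1867 (209, false)),
    (3436, .gen 1867 (209, true)),
    (2462, .gen 796 (202, false)),
    (2143, .gen 796 (209, false)),
    (3577, .gen 2923 (202, true)),
    (743, .gen 2923 (209, true)),
    (1261, .gen 181 (203, false)),
    (281, .gen 181 (209, false)),
    (128, .gen 2142 (203, false)),
    (1575, .gen 2142 (209, false)),
    (786, .gen 2142 (209, true)),
    (2033, .gen 723 (209, false)),
    (1008, .gen 723 (209, true)),
    (2486, .gen 3027 (202, false)),
    (1477, .gen 3027 (209, false)),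
    (1856, .gen 927 (209, true)),
    (1877, .gen 1118 (203, false)),
    (3229, .gen 1118 (209, false)),
    (2582, .gen 1118 (209, true)),
    (198, .gen 629 (203, false)),
    (1225, .gen 629 (209, false)),
    (1649, .gen 629 (209, true)),
    (3215, .gen 2579 (202, false)),
    (3768, .gen 2579 (202, true)),
    (2519, .gen 2579 (209, true)),
    (3265, .gen 373 (202, false)),
    (2915, .gen 373 (209, false)),
    (2102, .gen 2979 (202, true)),
    (3065, .gen 3681 (203, false)),
    (1283, .gen 3681 (209, false)),
    (3290, .gen 3681 (209, true)),
    (2385, .gen 1228 (203, false)),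
    (2831, .gen 1228 (209, false)),
    (1554, .gen 1228 (209, true)),
    (3450, .gen 1436 (202, false)),
    (3412, .gen 1436 (202, true)),
    (753, .gen 1436 (209, false)),
    (2420, .gen 1436 (209, true)),
    (824, .gen 3466 (202, false)),
    (2963, .gen 3466 (209, false)),
    (2361, .gen 2546 (202, true)),
    (3507, .gen 2546 (209, true)),
    (854, .gen 218 (203, false)),
    (396, .gen 218 (209, false)),
    (2943, .gen 218 (209, true)),
    (778, .gen 2814 (203, false)),
    (1483, .gen 2814 (209, false)),
    (1705, .gen 2814 (209, true)),
    (1540, .gen 3455 (202, false)),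
    (3661, .gen 3455 (202, true)),
    (1092, .gen 3455 (209, false)),
    (2481, .gen 3455 (209, true)),
    (1444, .gen 2472 (202, false)),
    (1188, .gen 2472 (209, false)),
    (2269, .gen 350 (202, true)),
    (413, .gen 350 (209, true)),
    (408, .gen 1122 (203, false)),
    (2659, .gen 1122 (209, false)),
    (1967, .gen 1122 (209, true)),
    (120, .gen 298 (203, false)),
    (77, .gen 298 (209, false)),
    (2817, .gen 298 (209, true)),
    (333, .gen 600 (202, false)),
    (681, .gen 600 (202, true)),
    (2690, .gen 600 (209, false)),
    (1491, .gen 600 (209, true)),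
    (2236, .gen 3524 (202, false)),
    (14, .gen 3524 (209, false)),
    (1843, .gen 2869 (202, true)),
    (1464, .gen 2869 (209, true)),
    (728, .gen 524 (203, false)),
    (3410, .gen 524 (209, false)),
    (1855, .gen 524 (209, true)),
    (2276, .gen 2442 (203, false)),
    (1986, .gen 2442 (209, false)),
    (2894, .gen 2442 (209, true)),
    (1547, .gen 3744 (202, false)),
    (2648, .gen 3744 (209, false)),
    (2723, .gen 978 (202, true)),
    (3, .gen 978 (209, true)),
    (11, .gen 499 (203, false)),
    (189, .gen 499 (209, false)),
    (1599, .gen 499 (209, true)),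
    (324, .gen 1636 (209, false)),
    (914, .gen 1636 (209, true)),
    (1097, .gen 929 (202, false)),
    (1829, .gen 929 (202, true)),
    (1653, .gen 929 (209, false)),
    (735, .gen 929 (209, true)),
    (970, .gen 1450 (202, true)),
    (3545, .gen 1450 (209, true)),
    (364, .gen 177 (203, false)),
    (1407, .gen 177 (209, false)),
    (3759, .gen 177 (209, true)),
    (3666, .gen 3617 (203, false)),
    (1200, .gen 3617 (209, false)),
    (1690, .gen 3617 (209, true)),
    (1369, .gen 3632 (202, false)),
    (1462, .gen 3632 (202, true)),
    (652, .gen 3632 (209, true)),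
    (805, .gen 586 (202, false)),
    (2185, .gen 586 (209, false)),
    (464, .gen 1928 (202, true)),
    (1962, .gen 1419 (203, false)),
    (2610, .gen 1419 (209, false)),
    (2735, .gen 2778 (203, false)),
    (2492, .gen 2778 (209, false)),
    (2238, .gen 2778 (209, true)),
    (2644, .gen 2930 (209, false)),
    (397, .gen 2930 (209, true)),
    (3512, .gen 323 (202, false)),
    (1729, .gen 323 (209, false)),
    (2908, .gen 875 (209, true)),
    (717, .gen 1286 (209, true)),
    (1215, .gen 2208 (203, false)),
    (901, .gen 2208 (209, true)),
    (3205, .gen 913 (202, false)),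
    (1198, .gen 913 (209, false)),
    (3352, .gen 3171 (202, false)),
    (1306, .gen 3171 (209, false)),
    (1720, .gen 2518 (202, true)),
    (1916, .gen 2518 (209, true)),
    (1857, .gen 1917 (203, false)),
    (3715, .gen 1917 (209, false)),
    (3071, .gen 1917 (209, true)),
    (3420, .gen 3074 (203, false)),
    (79, .gen 3074 (209, false)),
    (2094, .gen 3074 (209, true)),
    (3191, .gen 522 (202, false)),
    (519, .gen 522 (202, true)),
    (1888, .gen 522 (209, false)),
    (3150, .gen 522 (209, true)),
    (3342, .gen 1331 (202, false))]

/-- Visits. -/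
def v14_4 : List (ℕ × Src) :=
  [(572, .gen 1331 (209, false)),
    (427, .gen 2077 (202, true)),
    (2332, .gen 2077 (209, true)),
    (3773, .gen 1390 (203, false)),
    (1029, .gen 1390 (209, false)),
    (727, .gen 1390 (209, true)),
    (1049, .gen 1972 (203, false)),
    (3641, .gen 1972 (209, false)),
    (1614, .gen 1972 (209, true)),
    (1850, .gen 3021 (202, false)),
    (1949, .gen 3021 (202, true)),
    (1058, .gen 3021 (209, false)),
    (2344, .gen 3021 (209, true)),
    (3594, .gen 1123 (202, false)),
    (1440, .gen 1123 (209, false)),
    (1738, .gen 3467 (202, true)),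
    (589, .gen 3467 (209, true)),
    (3514, .gen 3422 (203, false)),
    (2660, .gen 3422 (209, false)),
    (983, .gen 3422 (209, true)),
    (286, .gen 3107 (203, false)),
    (942, .gen 3107 (209, false)),
    (3259, .gen 3107 (209, true)),
    (1218, .gen 1764 (202, false)),
    (1013, .gen 1764 (202, true)),
    (3277, .gen 1764 (209, false)),
    (536, .gen 1764 (209, true)),
    (2013, .gen 1189 (202, false)),
    (2231, .gen 1189 (209, false)),
    (2669, .gen 2602 (202, true)),
    (2232, .gen 2602 (209, true)),
    (257, .gen 1812 (209, true)),
    (784, .gen 3111 (203, false)),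
    (1256, .gen 3111 (209, true)),
    (1676, .gen 2885 (202, false)),
    (1957, .gen 2885 (209, false)),
    (230, .gen 1232 (202, false)),
    (318, .gen 1232 (209, false)),
    (2641, .gen 937 (202, true)),
    (1471, .gen 937 (209, true)),
    (1984, .gen 963 (203, false)),
    (195, .gen 963 (209, false)),
    (882, .gen 963 (209, true)),
    (455, .gen 293 (203, false)),
    (2572, .gen 293 (209, false)),
    (2307, .gen 293 (209, true)),
    (1114, .gen 3011 (202, false)),
    (635, .gen 3011 (202, true)),
    (2251, .gen 3011 (209, false)),
    (1702, .gen 3011 (209, true)),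
    (104, .gen 2881 (202, false)),
    (2356, .gen 2881 (209, false)),
    (3004, .gen 2753 (202, true)),
    (2066, .gen 2753 (209, true)),
    (1810, .gen 3158 (203, false)),
    (32, .gen 3158 (209, false)),
    (1157, .gen 3158 (209, true)),
    (3000, .gen 92 (203, false)),
    (2661, .gen 92 (209, false)),
    (551, .gen 92 (209, true)),
    (895, .gen 865 (202, false)),
    (2399, .gen 865 (202, true)),
    (779, .gen 865 (209, false)),
    (917, .gen 865 (209, true)),
    (627, .gen 2227 (202, false)),
    (180, .gen 2227 (209, false)),
    (1748, .gen 460 (202, true)),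
    (1021, .gen 460 (209, true)),
    (498, .gen 1302 (203, false)),
    (428, .gen 1302 (209, false)),
    (1387, .gen 1302 (209, true)),
    (2534, .gen 1137 (203, false)),
    (2635, .gen 1137 (209, false)),
    (274, .gen 1137 (209, true)),
    (2937, .gen 3025 (202, false)),
    (1768, .gen 3025 (202, true)),
    (2992, .gen 3025 (209, false)),
    (1529, .gen 3025 (209, true)),
    (3672, .gen 2752 (202, false)),
    (3409, .gen 2752 (209, false)),
    (2349, .gen 3035 (202, true)),
    (2574, .gen 3035 (209, true)),
    (3461, .gen 1394 (203, false)),
    (1517, .gen 1394 (209, false)),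
    (201, .gen 1394 (209, true)),
    (325, .gen 1028 (203, false)),
    (2250, .gen 1028 (209, false)),
    (2157, .gen 1028 (209, true)),
    (3673, .gen 2025 (202, false)),
    (2540, .gen 2025 (202, true)),
    (2561, .gen 2025 (209, false)),
    (1031, .gen 2025 (209, true)),
    (1923, .gen 2505 (202, false)),
    (2096, .gen 2505 (209, false)),
    (2918, .gen 2893 (202, true)),
    (1775, .gen 2893 (209, true)),
    (3176, .gen 2811 (203, false)),
    (3754, .gen 2811 (209, false)),
    (3070, .gen 2811 (209, true)),
    (3691, .gen 2115 (209, true)),
    (2575, .gen 3437 (202, false)),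
    (2148, .gen 3437 (209, false)),
    (1447, .gen 130 (202, true)),
    (1700, .gen 130 (209, true)),
    (691, .gen 706 (203, false)),
    (2135, .gen 706 (209, false)),
    (1896, .gen 706 (209, true)),
    (820, .gen 1230 (209, true)),
    (1434, .gen 979 (202, false)),
    (3046, .gen 979 (209, false)),
    (2043, .gen 2627 (202, true)),
    (2381, .gen 2627 (209, true)),
    (2733, .gen 938 (203, false)),
    (3382, .gen 938 (209, false)),
    (3411, .gen 938 (209, true)),
    (3789, .gen 3199 (203, false)),
    (2935, .gen 3199 (209, false)),
    (3549, .gen 3199 (209, true)),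
    (1997, .gen 1818 (202, false)),
    (26, .gen 1818 (202, true)),
    (241, .gen 1818 (209, false)),
    (1015, .gen 1818 (209, true)),
    (1136, .gen 2155 (202, false)),
    (2111, .gen 2155 (209, false)),
    (636, .gen 1395 (202, true)),
    (91, .gen 1395 (209, true)),
    (54, .gen 157 (203, false)),
    (2178, .gen 157 (209, false)),
    (2524, .gen 157 (209, true)),
    (710, .gen 1558 (203, false)),
    (2710, .gen 1558 (209, false)),
    (2821, .gen 1558 (209, true)),
    (855, .gen 1346 (202, false)),
    (3181, .gen 1346 (202, true)),
    (2750, .gen 1346 (209, false)),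
    (2533, .gen 1346 (209, true)),
    (654, .gen 1589 (202, false)),
    (144, .gen 1589 (209, false)),
    (1804, .gen 1549 (202, true)),
    (3451, .gen 1549 (209, true)),
    (2041, .gen 1320 (203, false)),
    (1650, .gen 1320 (209, false)),
    (3300, .gen 1094 (203, false)),
    (1143, .gen 1094 (209, false)),
    (3602, .gen 1094 (209, true)),
    (3154, .gen 1086 (209, false)),
    (3335, .gen 1086 (209, true)),
    (684, .gen 3083 (202, false)),
    (3347, .gen 3083 (209, false)),
    (3380, .gen 2874 (209, true)),
    (1504, .gen 259 (203, false)),
    (73, .gen 259 (209, false)),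
    (491, .gen 259 (209, true)),
    (1431, .gen 3626 (203, false)),
    (3252, .gen 3626 (209, false)),
    (1632, .gen 3626 (209, true)),
    (2589, .gen 2339 (202, false)),
    (1648, .gen 2339 (202, true)),
    (916, .gen 2339 (209, false)),
    (2198, .gen 2339 (209, true)),
    (382, .gen 313 (202, false)),
    (405, .gen 313 (209, false)),
    (3094, .gen 968 (202, true)),
    (1486, .gen 968 (209, true)),
    (2551, .gen 3029 (203, false)),
    (810, .gen 3029 (209, false)),
    (2966, .gen 3029 (209, true)),
    (3149, .gen 867 (203, false)),
    (1322, .gen 867 (209, false)),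
    (902, .gen 867 (209, true)),
    (3562, .gen 3696 (202, false)),
    (1533, .gen 3696 (202, true)),
    (520, .gen 3696 (209, false)),
    (1604, .gen 3696 (209, true)),
    (3740, .gen 2788 (202, false)),
    (3163, .gen 2788 (209, false)),
    (3452, .gen 3010 (202, true)),
    (3052, .gen 3010 (209, true)),
    (1349, .gen 3776 (203, false)),
    (904, .gen 3776 (209, false)),
    (3194, .gen 3776 (209, true)),
    (2509, .gen 3126 (203, false)),
    (1831, .gen 3126 (209, false)),
    (3156, .gen 3126 (209, true)),
    (1906, .gen 136 (202, false)),
    (1721, .gen 136 (202, true)),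
    (1610, .gen 136 (209, false)),
    (3306, .gen 136 (209, true)),
    (2416, .gen 3105 (202, false)),
    (607, .gen 3105 (209, false)),
    (2474, .gen 2841 (202, true)),
    (2311, .gen 2841 (209, true)),
    (933, .gen 3388 (203, false)),
    (3584, .gen 3388 (209, false)),
    (2091, .gen 3388 (209, true)),
    (1621, .gen 1865 (203, false)),
    (1524, .gen 1865 (209, false)),
    (2319, .gen 1865 (209, true)),
    (484, .gen 244 (202, false)),
    (110, .gen 244 (202, true)),
    (35, .gen 244 (209, false)),
    (126, .gen 244 (209, true)),
    (1968, .gen 3125 (202, false)),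
    (2105, .gen 3125 (209, false)),
    (1116, .gen 1735 (202, true)),
    (19, .gen 1735 (209, true)),
    (2580, .gen 3058 (203, false)),
    (3222, .gen 3058 (209, false)),
    (1656, .gen 3058 (209, true)),
    (196, .gen 3676 (203, false)),
    (1314, .gen 3676 (209, false)),
    (3211, .gen 3676 (209, true)),
    (2810, .gen 124 (202, false)),
    (2057, .gen 124 (202, true)),
    (2081, .gen 124 (209, false)),
    (2971, .gen 124 (209, true)),
    (3314, .gen 2499 (202, false)),
    (951, .gen 2499 (209, false)),
    (1480, .gen 1057 (202, true)),
    (593, .gen 1057 (209, true)),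
    (1639, .gen 3224 (203, false)),
    (1153, .gen 3224 (209, false)),
    (1805, .gen 3224 (209, true)),
    (1834, .gen 1467 (209, true)),
    (2838, .gen 2891 (202, false)),
    (94, .gen 2891 (209, false)),
    (1532, .gen 2698 (202, true)),
    (3608, .gen 2698 (209, true)),
    (614, .gen 2865 (203, false)),
    (3381, .gen 2865 (209, false)),
    (1783, .gen 2865 (209, true)),
    (331, .gen 1 (203, false)),
    (3316, .gen 1 (209, false)),
    (2751, .gen 1 (209, true)),
    (3030, .gen 3792 (202, false)),
    (2050, .gen 3792 (202, true)),
    (2228, .gen 3792 (209, false)),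
    (3186, .gen 3792 (209, true)),
    (3248, .gen 2321 (202, false)),
    (1126, .gen 2321 (209, false)),
    (3732, .gen 1196 (202, true)),
    (2933, .gen 1196 (209, true)),
    (926, .gen 2015 (203, false)),
    (3688, .gen 2015 (209, false)),
    (2877, .gen 2015 (209, true)),
    (209, .gen 3260 (203, false)),
    (2463, .gen 3260 (209, false)),
    (1096, .gen 3260 (209, true)),
    (3179, .gen 363 (202, false)),
    (1701, .gen 363 (202, true)),
    (1911, .gen 363 (209, false)),
    (2755, .gen 363 (209, true)),
    (2794, .gen 2422 (202, false)),
    (2647, .gen 2422 (209, false)),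
    (2342, .gen 2657 (202, true)),
    (1451, .gen 2657 (209, true)),
    (2473, .gen 698 (203, false)),
    (910, .gen 698 (209, false)),
    (3601, .gen 698 (209, true)),
    (3513, .gen 653 (203, false)),
    (2620, .gen 653 (209, false)),
    (3212, .gen 653 (209, true)),
    (1620, .gen 1441 (202, false)),
    (2085, .gen 1441 (202, true)),
    (1542, .gen 1441 (209, false)),
    (1519, .gen 1441 (209, true)),
    (537, .gen 3509 (202, false)),
    (1109, .gen 3509 (209, false)),
    (462, .gen 3711 (202, true)),
    (761, .gen 3711 (209, true)),
    (597, .gen 2807 (203, false)),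
    (1841, .gen 2807 (209, false)),
    (466, .gen 2807 (209, true)),
    (2606, .gen 508 (203, false)),
    (2223, .gen 508 (209, false)),
    (163, .gen 508 (209, true)),
    (2886, .gen 233 (202, false)),
    (1759, .gen 233 (202, true)),
    (545, .gen 233 (209, false)),
    (1929, .gen 233 (209, true)),
    (546, .gen 384 (202, false)),
    (571, .gen 384 (209, false)),
    (611, .gen 2899 (202, true)),
    (2089, .gen 2899 (209, true)),
    (502, .gen 3160 (203, false)),
    (2681, .gen 3160 (209, false)),
    (17, .gen 3160 (209, true)),
    (1509, .gen 2270 (203, false)),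
    (1842, .gen 2270 (209, false)),
    (934, .gen 2270 (209, true)),
    (1820, .gen 2867 (202, false)),
    (205, .gen 2867 (202, true)),
    (798, .gen 2867 (209, false)),
    (601, .gen 2867 (209, true)),
    (265, .gen 3494 (202, false)),
    (21, .gen 3494 (209, false)),
    (3152, .gen 2092 (202, true)),
    (2902, .gen 2092 (209, true)),
    (191, .gen 1364 (203, false)),
    (3055, .gen 1364 (209, false))]

/-- Visits. -/
def v14_5 : List (ℕ × Src) :=
  [(2023, .gen 1364 (209, true)),
    (3121, .gen 2189 (203, false)),
    (1781, .gen 2189 (209, false)),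
    (3689, .gen 2189 (209, true)),
    (2061, .gen 3504 (202, false)),
    (2809, .gen 3504 (202, true)),
    (2818, .gen 3504 (209, false)),
    (383, .gen 3504 (209, true)),
    (83, .gen 3315 (202, false)),
    (1740, .gen 3315 (209, false)),
    (116, .gen 109 (202, true)),
    (1378, .gen 109 (209, true)),
    (2523, .gen 1774 (203, false)),
    (896, .gen 1774 (209, false)),
    (3249, .gen 1774 (209, true)),
    (1618, .gen 65 (203, false)),
    (3056, .gen 65 (209, false)),
    (1966, .gen 65 (209, true)),
    (306, .gen 2942 (202, false)),
    (1171, .gen 2942 (202, true)),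
    (505, .gen 2942 (209, false)),
    (2607, .gen 2942 (209, true)),
    (2440, .gen 2828 (202, false)),
    (2587, .gen 2828 (209, false)),
    (87, .gen 745 (202, true)),
    (2901, .gen 745 (209, true)),
    (206, .gen 3701 (203, false)),
    (76, .gen 3701 (209, false)),
    (263, .gen 3701 (209, true)),
    (3695, .gen 750 (203, false)),
    (2880, .gen 750 (209, false)),
    (1513, .gen 750 (209, true)),
    (3383, .gen 2957 (202, false)),
    (2974, .gen 2957 (202, true)),
    (2466, .gen 2957 (209, false)),
    (139, .gen 2957 (209, true)),
    (1522, .gen 1270 (202, false)),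
    (2864, .gen 1270 (209, false)),
    (1105, .gen 1624 (202, true)),
    (1481, .gen 1624 (209, true)),
    (1884, .gen 2282 (203, false)),
    (2695, .gen 2282 (209, false)),
    (3717, .gen 2282 (209, true)),
    (3153, .gen 3519 (203, false)),
    (1352, .gen 3519 (209, false)),
    (2065, .gen 3519 (209, true)),
    (3628, .gen 348 (202, false)),
    (3017, .gen 348 (202, true)),
    (200, .gen 348 (209, false)),
    (486, .gen 348 (209, true)),
    (3778, .gen 615 (202, false)),
    (847, .gen 615 (209, false)),
    (3081, .gen 3245 (202, true)),
    (2603, .gen 3245 (209, true)),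
    (2638, .gen 3712 (203, false)),
    (1067, .gen 3712 (209, false)),
    (1915, .gen 3712 (209, true)),
    (878, .gen 3008 (203, false)),
    (3763, .gen 3008 (209, false)),
    (129, .gen 3008 (209, true)),
    (3730, .gen 2557 (202, false)),
    (1273, .gen 2557 (202, true)),
    (6, .gen 2557 (209, false)),
    (3400, .gen 2557 (209, true)),
    (1456, .gen 1385 (202, false)),
    (1033, .gen 1385 (209, false)),
    (3572, .gen 371 (202, true)),
    (3060, .gen 371 (209, true)),
    (102, .gen 2507 (203, false)),
    (2501, .gen 2507 (209, false)),
    (1945, .gen 2507 (209, true)),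
    (925, .gen 327 (203, false)),
    (1771, .gen 327 (209, false)),
    (2192, .gen 327 (209, true)),
    (2780, .gen 3261 (202, false)),
    (3571, .gen 3261 (202, true)),
    (1201, .gen 3261 (209, false)),
    (819, .gen 3261 (209, true)),
    (437, .gen 1895 (202, false)),
    (2609, .gen 1895 (209, false)),
    (2329, .gen 3531 (202, true)),
    (695, .gen 3531 (209, true)),
    (841, .gen 3338 (203, false)),
    (2029, .gen 3338 (209, false)),
    (1672, .gen 3338 (209, true)),
    (1762, .gen 1684 (203, false)),
    (688, .gen 1684 (209, false)),
    (3358, .gen 1684 (209, true)),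
    (2932, .gen 3483 (202, false)),
    (1305, .gen 3483 (202, true)),
    (2247, .gen 3483 (209, false)),
    (1693, .gen 3483 (209, true)),
    (2665, .gen 2453 (202, false)),
    (1054, .gen 2453 (209, false)),
    (1905, .gen 2991 (202, true)),
    (1664, .gen 2991 (209, true)),
    (3444, .gen 1310 (203, false)),
    (644, .gen 1310 (209, false)),
    (987, .gen 1310 (209, true)),
    (1707, .gen 2705 (203, false)),
    (3374, .gen 2705 (209, false)),
    (2483, .gen 2705 (209, true)),
    (2796, .gen 362 (202, false)),
    (343, .gen 362 (202, true)),
    (2685, .gen 362 (209, false)),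
    (3787, .gen 362 (209, true)),
    (2965, .gen 1635 (202, false)),
    (287, .gen 1635 (209, false)),
    (720, .gen 1633 (202, true)),
    (1699, .gen 1633 (209, true)),
    (344, .gen 2117 (203, false)),
    (3349, .gen 2117 (209, false)),
    (2674, .gen 2117 (209, true)),
    (2379, .gen 1539 (203, false)),
    (2012, .gen 1539 (209, false)),
    (89, .gen 1539 (209, true)),
    (2427, .gen 773 (202, false)),
    (1410, .gen 773 (202, true)),
    (3353, .gen 773 (209, false)),
    (1953, .gen 773 (209, true)),
    (1960, .gen 1885 (202, false)),
    (1220, .gen 1885 (209, false)),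
    (1112, .gen 673 (202, true)),
    (3378, .gen 673 (209, true)),
    (310, .gen 3210 (203, false)),
    (2071, .gen 3210 (209, false)),
    (3016, .gen 3210 (209, true)),
    (3475, .gen 1224 (203, false)),
    (1833, .gen 1224 (209, false)),
    (897, .gen 1224 (209, true)),
    (2087, .gen 618 (202, false)),
    (2596, .gen 618 (202, true)),
    (1294, .gen 618 (209, false)),
    (3454, .gen 618 (209, true)),
    (1559, .gen 2912 (202, false)),
    (671, .gen 2912 (209, false)),
    (752, .gen 2436 (202, true)),
    (2359, .gen 2436 (209, true)),
    (3728, .gen 2240 (203, false)),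
    (3124, .gen 2240 (209, false)),
    (3251, .gen 2240 (209, true)),
    (1904, .gen 2165 (203, false)),
    (1914, .gen 2165 (209, false)),
    (1264, .gen 2165 (209, true)),
    (3247, .gen 3302 (202, false)),
    (2168, .gen 3302 (202, true)),
    (1093, .gen 3302 (209, false)),
    (803, .gen 3302 (209, true)),
    (2295, .gen 3038 (202, false)),
    (3091, .gen 3038 (209, false)),
    (1175, .gen 2245 (202, true)),
    (2163, .gen 2245 (209, true)),
    (2903, .gen 1023 (203, false)),
    (1753, .gen 1023 (209, false)),
    (662, .gen 1023 (209, true)),
    (3142, .gen 3552 (203, false)),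
    (3476, .gen 3552 (209, false)),
    (1030, .gen 3552 (209, true)),
    (1326, .gen 1742 (202, false)),
    (114, .gen 1742 (202, true)),
    (187, .gen 1742 (209, false)),
    (1595, .gen 1742 (209, true)),
    (3570, .gen 3014 (202, false)),
    (3042, .gen 3014 (209, false)),
    (900, .gen 2855 (202, true)),
    (478, .gen 2855 (209, true)),
    (119, .gen 1386 (203, false)),
    (700, .gen 1386 (209, false)),
    (2256, .gen 1386 (209, true)),
    (1130, .gen 2298 (203, false)),
    (2640, .gen 2298 (209, false)),
    (235, .gen 2298 (209, true)),
    (3221, .gen 1392 (202, false)),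
    (959, .gen 1392 (202, true)),
    (2447, .gen 1392 (209, false)),
    (107, .gen 1392 (209, true)),
    (1178, .gen 775 (202, false)),
    (623, .gen 775 (209, false)),
    (2007, .gen 1435 (202, true)),
    (1056, .gen 1435 (209, true)),
    (1110, .gen 3612 (203, false)),
    (2131, .gen 3612 (209, false)),
    (683, .gen 3612 (209, true)),
    (2392, .gen 2144 (203, false)),
    (1459, .gen 2144 (209, false)),
    (993, .gen 2144 (209, true)),
    (1937, .gen 1505 (202, false)),
    (1446, .gen 1505 (202, true)),
    (1515, .gen 1505 (209, false)),
    (606, .gen 1505 (209, true)),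
    (2560, .gen 3428 (202, false)),
    (3267, .gen 3428 (209, false)),
    (1991, .gen 3182 (202, true)),
    (1739, .gen 3182 (209, true)),
    (582, .gen 40 (203, false)),
    (3220, .gen 40 (209, false)),
    (515, .gen 40 (209, true)),
    (1489, .gen 3749 (203, false)),
    (844, .gen 3749 (209, false)),
    (2980, .gen 3749 (209, true)),
    (1428, .gen 3281 (202, false)),
    (1101, .gen 3281 (202, true)),
    (3359, .gen 3281 (209, false)),
    (3682, .gen 3281 (209, true)),
    (595, .gen 641 (202, false)),
    (2045, .gen 641 (209, false)),
    (243, .gen 2108 (202, true)),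
    (3645, .gen 2108 (209, true)),
    (492, .gen 1181 (203, false)),
    (1765, .gen 1181 (209, false)),
    (2219, .gen 1181 (209, true)),
    (2768, .gen 3486 (203, false)),
    (2263, .gen 3486 (209, false)),
    (2456, .gen 3486 (209, true)),
    (2920, .gen 2324 (202, false)),
    (1470, .gen 2324 (202, true)),
    (2264, .gen 2324 (209, false)),
    (3566, .gen 2324 (209, true)),
    (2413, .gen 894 (202, false)),
    (3370, .gen 894 (209, false)),
    (930, .gen 16 (202, true)),
    (2265, .gen 16 (209, true)),
    (1799, .gen 1516 (203, false)),
    (3667, .gen 1516 (209, false)),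
    (3187, .gen 1516 (209, true)),
    (3098, .gen 2929 (203, false)),
    (2631, .gen 2929 (209, false)),
    (2455, .gen 2929 (209, true)),
    (3540, .gen 2024 (202, false)),
    (3274, .gen 2024 (202, true)),
    (2517, .gen 2024 (209, false)),
    (3059, .gen 2024 (209, true)),
    (2304, .gen 3551 (202, false)),
    (1727, .gen 3551 (209, false)),
    (2654, .gen 2785 (202, true)),
    (2002, .gen 2785 (209, true)),
    (3604, .gen 2737 (203, false)),
    (1637, .gen 2737 (209, false)),
    (252, .gen 2737 (209, true)),
    (319, .gen 3629 (203, false)),
    (3263, .gen 3629 (209, false)),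
    (1365, .gen 2224 (202, true)),
    (1494, .gen 2224 (209, false)),
    (533, .gen 564 (203, false)),
    (467, .gen 564 (209, false)),
    (1432, .gen 564 (209, true)),
    (1465, .gen 603 (203, false)),
    (66, .gen 603 (209, false)),
    (1642, .gen 603 (209, true)),
    (2363, .gen 113 (202, false)),
    (2772, .gen 113 (202, true)),
    (1526, .gen 113 (209, false)),
    (2954, .gen 113 (209, true)),
    (2429, .gen 1053 (202, false)),
    (998, .gen 1053 (209, false)),
    (357, .gen 730 (202, true)),
    (2624, .gen 730 (209, true)),
    (2675, .gen 990 (203, false)),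
    (772, .gen 990 (209, false)),
    (2465, .gen 990 (209, true)),
    (1873, .gen 3684 (203, false)),
    (388, .gen 3684 (209, false)),
    (1236, .gen 3684 (209, true)),
    (2310, .gen 1777 (202, false)),
    (1115, .gen 1777 (202, true)),
    (150, .gen 1777 (209, false)),
    (3115, .gen 1777 (209, true)),
    (3556, .gen 2290 (202, false)),
    (1150, .gen 2290 (209, false)),
    (899, .gen 2805 (202, true)),
    (1102, .gen 2805 (209, true)),
    (1584, .gen 3582 (203, false)),
    (2594, .gen 3582 (209, false)),
    (2428, .gen 3582 (209, true)),
    (1901, .gen 1366 (203, false)),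
    (2052, .gen 1366 (209, false)),
    (3390, .gen 1366 (209, true)),
    (2571, .gen 3101 (202, false)),
    (840, .gen 3101 (202, true)),
    (1473, .gen 3101 (209, false)),
    (1545, .gen 3101 (209, true)),
    (86, .gen 2237 (202, false)),
    (731, .gen 2237 (209, false)),
    (3729, .gen 826 (202, true)),
    (862, .gen 826 (209, true)),
    (3144, .gen 617 (203, false)),
    (996, .gen 617 (209, false)),
    (863, .gen 617 (209, true)),
    (2645, .gen 2577 (203, false)),
    (689, .gen 2577 (209, false)),
    (2284, .gen 2577 (209, true)),
    (2531, .gen 3331 (202, false)),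
    (3336, .gen 3331 (202, true)),
    (825, .gen 3331 (209, false)),
    (2773, .gen 3331 (209, true)),
    (227, .gen 1350 (202, false)),
    (2272, .gen 1350 (209, false)),
    (1455, .gen 3458 (202, true)),
    (2585, .gen 3458 (209, true)),
    (2859, .gen 1514 (203, false))]

/-- Visits. -/
def v14_6 : List (ℕ × Src) :=
  [(1241, .gen 1514 (209, false)),
    (3435, .gen 1514 (209, true)),
    (705, .gen 3610 (203, false)),
    (2109, .gen 3610 (209, false)),
    (3099, .gen 3610 (209, true)),
    (1594, .gen 568 (202, false)),
    (1043, .gen 568 (202, true)),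
    (760, .gen 568 (209, false)),
    (414, .gen 568 (209, true)),
    (3741, .gen 3092 (202, false)),
    (1887, .gen 3092 (209, false)),
    (1423, .gen 3362 (202, true)),
    (2488, .gen 3362 (209, true)),
    (3472, .gen 685 (203, false)),
    (220, .gen 685 (209, false)),
    (219, .gen 685 (209, true)),
    (436, .gen 3368 (203, false)),
    (1691, .gen 3368 (209, false)),
    (432, .gen 3368 (209, true)),
    (984, .gen 1951 (202, false)),
    (575, .gen 1951 (202, true)),
    (1731, .gen 1951 (209, false)),
    (1025, .gen 1951 (209, true)),
    (3232, .gen 2583 (202, false)),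
    (175, .gen 2583 (209, false)),
    (332, .gen 936 (202, true)),
    (542, .gen 936 (209, true)),
    (2261, .gen 3553 (203, false)),
    (834, .gen 3553 (209, false)),
    (3708, .gen 3553 (209, true)),
    (3419, .gen 889 (203, false)),
    (3291, .gen 889 (209, false)),
    (398, .gen 889 (209, true)),
    (690, .gen 2396 (202, false)),
    (838, .gen 2396 (202, true)),
    (3590, .gen 2396 (209, false)),
    (3488, .gen 2396 (209, true)),
    (2722, .gen 3275 (202, false)),
    (2616, .gen 3275 (209, false)),
    (1262, .gen 2844 (202, true)),
    (1088, .gen 2844 (209, true)),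
    (2343, .gen 2813 (203, false)),
    (1535, .gen 2813 (209, false)),
    (2595, .gen 2813 (209, true)),
    (1728, .gen 719 (203, false)),
    (3782, .gen 719 (209, false)),
    (739, .gen 719 (209, true)),
    (1040, .gen 2006 (202, false)),
    (3162, .gen 2006 (202, true)),
    (2699, .gen 2006 (209, false)),
    (1472, .gen 2006 (209, true)),
    (3073, .gen 1936 (202, false)),
    (2274, .gen 1936 (209, false)),
    (3264, .gen 3745 (202, true)),
    (1512, .gen 3745 (209, true)),
    (3561, .gen 3685 (203, false)),
    (2372, .gen 3685 (209, false)),
    (543, .gen 3685 (209, true)),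
    (158, .gen 881 (203, false)),
    (3674, .gen 881 (209, false)),
    (3012, .gen 881 (209, true)),
    (3366, .gen 317 (202, false)),
    (3786, .gen 317 (202, true)),
    (1245, .gen 317 (209, false)),
    (613, .gen 317 (209, true)),
    (3271, .gen 2829 (202, false)),
    (1703, .gen 2829 (209, false)),
    (1167, .gen 3028 (202, true)),
    (2510, .gen 3028 (209, true)),
    (3489, .gen 2443 (203, false)),
    (3603, .gen 2443 (209, false)),
    (1341, .gen 2443 (209, true)),
    (2598, .gen 3593 (203, false)),
    (2514, .gen 3593 (209, false)),
    (2516, .gen 3593 (209, true)),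
    (2907, .gen 82 (202, false)),
    (1293, .gen 82 (202, true)),
    (2767, .gen 82 (209, false)),
    (1384, .gen 82 (209, true)),
    (2375, .gen 2793 (202, false)),
    (2073, .gen 2793 (209, false)),
    (1016, .gen 3425 (202, true)),
    (1821, .gen 3425 (209, true)),
    (3237, .gen 2039 (203, false)),
    (1147, .gen 2039 (209, false)),
    (1047, .gen 2039 (209, true)),
    (1987, .gen 2743 (203, false)),
    (3441, .gen 2743 (209, false)),
    (3515, .gen 2743 (209, true)),
    (2495, .gen 1421 (202, false)),
    (2194, .gen 1421 (202, true)),
    (2761, .gen 1421 (209, false)),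
    (2604, .gen 1421 (209, true)),
    (1790, .gen 3033 (202, false)),
    (391, .gen 3033 (209, false)),
    (1961, .gen 2678 (202, true)),
    (3350, .gen 2678 (209, true)),
    (510, .gen 1506 (203, false)),
    (1630, .gen 1506 (209, false)),
    (1222, .gen 1506 (209, true)),
    (247, .gen 2022 (203, false)),
    (2626, .gen 2022 (209, false)),
    (3320, .gen 2022 (209, true)),
    (866, .gen 2754 (202, false)),
    (248, .gen 2754 (202, true)),
    (2062, .gen 2754 (209, false)),
    (3161, .gen 2754 (209, true)),
    (1677, .gen 1012 (202, false)),
    (67, .gen 1012 (209, false)),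
    (3077, .gen 1990 (202, true)),
    (1332, .gen 1990 (209, true)),
    (3069, .gen 1248 (203, false)),
    (3430, .gen 1248 (209, false)),
    (2134, .gen 1248 (209, true)),
    (2496, .gen 1568 (203, false)),
    (2760, .gen 1568 (209, false)),
    (2839, .gen 676 (202, true)),
    (3791, .gen 676 (209, false)),
    (1628, .gen 2601 (202, false)),
    (620, .gen 920 (202, false)),
    (36, .gen 920 (202, true)),
    (1999, .gen 920 (209, false)),
    (1336, .gen 2327 (209, false)),
    (440, .gen 2327 (209, true)),
    (1103, .gen 3340 (209, false)),
    (372, .gen 1541 (209, true)),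
    (3445, .gen 1704 (209, false)),
    (965, .gen 1704 (209, true)),
    (944, .gen 1035 (209, true)),
    (2107, .gen 547 (203, false)),
    (1253, .gen 547 (209, false)),
    (302, .gen 547 (209, true)),
    (2944, .gen 37 (202, false)),
    (740, .gen 37 (202, true)),
    (3256, .gen 37 (209, false)),
    (3097, .gen 2156 (202, false)),
    (2975, .gen 3240 (209, false)),
    (2701, .gen 949 (209, false)),
    (2257, .gen 780 (209, true)),
    (1430, .gen 3132 (202, false)),
    (2508, .gen 3001 (202, false)),
    (903, .gen 3001 (209, false)),
    (532, .gen 3432 (209, true)),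
    (2652, .gen 1402 (209, true)),
    (2757, .gen 852 (203, false)),
    (2882, .gen 852 (209, true)),
    (2151, .gen 3023 (209, false)),
    (451, .gen 1922 (203, false)),
    (2512, .gen 162 (209, false)),
    (3373, .gen 2398 (209, false)),
    (251, .gen 2147 (209, true)),
    (790, .gen 2281 (209, false)),
    (2662, .gen 1815 (209, true)),
    (237, .gen 3709 (209, false)),
    (7, .gen 399 (202, false)),
    (1359, .gen 1005 (209, false)),
    (1166, .gen 2725 (202, false)),
    (2388, .gen 2725 (202, true)),
    (3750, .gen 2725 (209, false)),
    (426, .gen 2725 (209, true)),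
    (3110, .gen 3621 (209, true)),
    (873, .gen 1673 (202, false)),
    (1958, .gen 1673 (209, false)),
    (2629, .gen 1673 (209, true)),
    (1626, .gen 1749 (209, false)),
    (2484, .gen 709 (209, true)),
    (1370, .gen 1622 (209, false)),
    (3087, .gen 1622 (209, true)),
    (38, .gen 955 (209, true)),
    (1242, .gen 528 (202, false)),
    (3242, .gen 2101 (203, false)),
    (594, .gen 2101 (209, false)),
    (2351, .gen 2101 (209, true)),
    (174, .gen 783 (202, false)),
    (1643, .gen 783 (202, true)),
    (3405, .gen 783 (209, false)),
    (1752, .gen 1401 (209, false)),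
    (1437, .gen 1401 (209, true)),
    (90, .gen 1698 (209, false)),
    (962, .gen 1717 (209, true)),
    (2348, .gen 1555 (209, false)),
    (561, .gen 1555 (209, true)),
    (299, .gen 995 (209, true)),
    (2756, .gen 2717 (203, false)),
    (991, .gen 2717 (209, false)),
    (877, .gen 2717 (209, true)),
    (314, .gen 15 (202, false)),
    (20, .gen 15 (202, true)),
    (3327, .gen 15 (209, false)),
    (1335, .gen 2556 (202, false)),
    (621, .gen 2556 (202, true)),
    (645, .gen 2556 (209, false)),
    (605, .gen 2556 (209, true)),
    (738, .gen 445 (202, false)),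
    (3369, .gen 445 (209, false)),
    (2765, .gen 3076 (209, true)),
    (747, .gen 178 (202, false)),
    (2205, .gen 178 (202, true)),
    (5, .gen 178 (209, false)),
    (334, .gen 178 (209, true)),
    (3565, .gen 1536 (209, false)),
    (2545, .gen 29 (209, true)),
    (3089, .gen 2387 (203, false)),
    (2072, .gen 2387 (209, false)),
    (1798, .gen 2387 (209, true)),
    (3130, .gen 3288 (209, true)),
    (2434, .gen 3756 (202, false)),
    (2086, .gen 3756 (209, false)),
    (2288, .gen 1712 (203, false)),
    (2121, .gen 1712 (209, false)),
    (1207, .gen 1712 (209, true)),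
    (1169, .gen 1629 (209, false)),
    (3114, .gen 1530 (202, false)),
    (1668, .gen 1530 (202, true)),
    (1596, .gen 1530 (209, false)),
    (3495, .gen 1530 (209, true)),
    (3473, .gen 3554 (202, false)),
    (1263, .gen 3554 (209, false)),
    (2938, .gen 2347 (209, true)),
    (2726, .gen 2637 (202, false)),
    (1183, .gen 2637 (202, true)),
    (3781, .gen 2637 (209, false)),
    (1580, .gen 2637 (209, true)),
    (3429, .gen 3312 (209, false)),
    (3670, .gen 2258 (209, true)),
    (488, .gen 489 (203, false)),
    (312, .gen 489 (209, false)),
    (1383, .gen 489 (209, true)),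
    (3591, .gen 147 (209, true)),
    (864, .gen 557 (202, false)),
    (1661, .gen 557 (209, false)),
    (680, .gen 1697 (203, false)),
    (1405, .gen 1697 (209, false)),
    (2833, .gen 1697 (209, true)),
    (758, .gen 1521 (209, false)),
    (2593, .gen 2676 (202, false)),
    (75, .gen 2676 (202, true)),
    (1959, .gen 2676 (209, true)),
    (49, .gen 2403 (202, false)),
    (321, .gen 1145 (202, false)),
    (2628, .gen 1145 (209, true)),
    (1466, .gen 2783 (209, false)),
    (1760, .gen 3384 (209, true)),
    (3015, .gen 1091 (209, false)),
    (356, .gen 1585 (202, false)),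
    (122, .gen 1585 (209, false)),
    (1355, .gen 497 (209, true)),
    (948, .gen 1592 (202, false)),
    (2129, .gen 2682 (203, false)),
    (95, .gen 2682 (209, true)),
    (3128, .gen 2952 (202, false)),
    (3180, .gen 1039 (209, true)),
    (893, .gen 50 (202, false)),
    (291, .gen 50 (209, false)),
    (2020, .gen 423 (202, false)),
    (1490, .gen 423 (202, true)),
    (748, .gen 423 (209, false)),
    (1711, .gen 423 (209, true)),
    (2064, .gen 1438 (209, true)),
    (3424, .gen 1886 (209, true)),
    (337, .gen 369 (202, false)),
    (3080, .gen 369 (209, false)),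
    (1135, .gen 874 (202, false)),
    (1409, .gen 874 (202, true)),
    (912, .gen 874 (209, false)),
    (3133, .gen 874 (209, true)),
    (1285, .gen 2618 (209, true)),
    (2837, .gen 2653 (202, false)),
    (2161, .gen 3177 (209, true)),
    (2770, .gen 1573 (202, false)),
    (2305, .gen 1573 (209, false)),
    (1274, .gen 1452 (202, false)),
    (3066, .gen 1452 (202, true)),
    (1552, .gen 1452 (209, false)),
    (2857, .gen 1452 (209, true)),
    (3497, .gen 172 (209, true)),
    (1723, .gen 935 (202, false)),
    (115, .gen 935 (202, true)),
    (3151, .gen 935 (209, false)),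
    (3032, .gen 935 (209, true)),
    (3228, .gen 1970 (202, false)),
    (1681, .gen 1970 (209, false)),
    (3618, .gen 3371 (209, true)),
    (1301, .gen 1665 (202, false)),
    (2019, .gen 1665 (202, true)),
    (418, .gen 1665 (209, false)),
    (3041, .gen 1665 (209, true)),
    (3285, .gen 2439 (209, false)),
    (2357, .gen 992 (209, true)),
    (1400, .gen 2303 (203, false)),
    (1461, .gen 2303 (209, false)),
    (1795, .gen 2303 (209, true)),
    (3677, .gen 2763 (209, true)),
    (2159, .gen 2315 (202, false)),
    (3683, .gen 2315 (209, false)),
    (1329, .gen 3020 (203, false)),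
    (2297, .gen 3020 (209, false)),
    (22, .gen 3020 (209, true)),
    (27, .gen 769 (209, false)),
    (2703, .gen 2962 (202, false))]

/-- Visits. -/
def v14_7 : List (ℕ × Src) :=
  [(506, .gen 2962 (202, true)),
    (1756, .gen 2962 (209, false)),
    (3363, .gen 2962 (209, true)),
    (2153, .gen 876 (202, false)),
    (2355, .gen 876 (209, false)),
    (2532, .gen 580 (209, true)),
    (3597, .gen 1617 (202, false)),
    (2409, .gen 1617 (202, true)),
    (2931, .gen 1617 (209, false)),
    (3639, .gen 1617 (209, true)),
    (267, .gen 3783 (209, false)),
    (802, .gen 469 (209, true)),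
    (2592, .gen 2242 (203, false)),
    (2450, .gen 2242 (209, false)),
    (853, .gen 2242 (209, true)),
    (3118, .gen 387 (209, true)),
    (647, .gen 1255 (202, false)),
    (1736, .gen 1255 (209, false)),
    (153, .gen 517 (203, false)),
    (208, .gen 517 (209, false)),
    (2199, .gen 517 (209, true)),
    (475, .gen 43 (209, false)),
    (2581, .gen 2876 (209, true)),
    (3292, .gen 2797 (202, false)),
    (622, .gen 2797 (209, false)),
    (1562, .gen 217 (202, false)),
    (1493, .gen 217 (202, true)),
    (3555, .gen 217 (209, false)),
    (1042, .gen 217 (209, true)),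
    (2317, .gen 2655 (209, true)),
    (777, .gen 2866 (209, false)),
    (2103, .gen 3398 (202, false)),
    (3147, .gen 3398 (209, false)),
    (1582, .gen 2139 (209, true)),
    (296, .gen 2835 (209, true)),
    (3765, .gen 888 (203, false)),
    (2383, .gen 888 (209, false)),
    (3239, .gen 888 (209, true)),
    (3470, .gen 245 (209, false)),
    (3257, .gen 754 (209, true)),
    (3679, .gen 3478 (202, false)),
    (3656, .gen 3478 (209, false)),
    (2846, .gen 1348 (202, false)),
    (2643, .gen 1348 (202, true)),
    (1070, .gen 1348 (209, false)),
    (2959, .gen 1348 (209, true)),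
    (2098, .gen 554 (209, true)),
    (1327, .gen 280 (202, false)),
    (2423, .gen 280 (202, true)),
    (2100, .gen 280 (209, false)),
    (868, .gen 280 (209, true)),
    (1476, .gen 431 (202, false)),
    (1883, .gen 431 (209, false)),
    (742, .gen 960 (209, true)),
    (1351, .gen 718 (202, false)),
    (791, .gen 718 (202, true)),
    (3469, .gen 718 (209, false)),
    (665, .gen 718 (209, true)),
    (3447, .gen 848 (209, false)),
    (1209, .gen 2687 (209, true)),
    (3164, .gen 2042 (203, false)),
    (1488, .gen 2042 (209, false)),
    (2822, .gen 2042 (209, true)),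
    (441, .gen 2364 (209, true)),
    (1422, .gen 3774 (202, false)),
    (560, .gen 3774 (209, false)),
    (96, .gen 131 (203, false)),
    (2078, .gen 131 (209, false)),
    (1356, .gen 131 (209, true)),
    (1318, .gen 3653 (209, false)),
    (3399, .gen 339 (209, false)),
    (188, .gen 1685 (202, false)),
    (3022, .gen 1685 (209, false)),
    (2801, .gen 3631 (209, true)),
    (3047, .gen 1616 (209, true)),
    (1343, .gen 1195 (203, false)),
    (3541, .gen 1195 (209, false)),
    (2016, .gen 1195 (209, true)),
    (924, .gen 138 (209, false)),
    (1879, .gen 3196 (202, false)),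
    (3727, .gen 3196 (202, true)),
    (2054, .gen 3196 (209, false)),
    (3321, .gen 781 (209, true)),
    (1858, .gen 2421 (202, true)),
    (3505, .gen 2249 (209, false)),
    (1234, .gen 2573 (209, false)),
    (3780, .gen 1460 (209, true)),
    (3313, .gen 1508 (209, false)),
    (859, .gen 1399 (202, false)),
    (3392, .gen 1399 (202, true)),
    (1377, .gen 2642 (202, false)),
    (2449, .gen 3619 (202, false)),
    (2365, .gen 3619 (202, true)),
    (3372, .gen 3619 (209, false)),
    (981, .gen 1154 (209, true)),
    (3647, .gen 3262 (203, false)),
    (1686, .gen 3262 (209, true)),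
    (818, .gen 2032 (202, false)),
    (3600, .gen 2032 (202, true)),
    (2691, .gen 2032 (209, false)),
    (1666, .gen 2032 (209, true)),
    (3323, .gen 2204 (202, false)),
    (1983, .gen 2204 (209, false)),
    (340, .gen 406 (209, true)),
    (1229, .gen 1996 (202, false)),
    (1675, .gen 1996 (202, true)),
    (2309, .gen 1996 (209, false)),
    (3351, .gen 1996 (209, true)),
    (1163, .gen 2358 (209, false)),
    (1570, .gen 3737 (209, true)),
    (639, .gen 1561 (203, false)),
    (1226, .gen 1561 (209, false)),
    (3341, .gen 1561 (209, true)),
    (1233, .gen 28 (209, true)),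
    (2275, .gen 3214 (202, false)),
    (837, .gen 3214 (209, false)),
    (42, .gen 2462 (203, false)),
    (3337, .gen 2462 (209, false)),
    (3569, .gen 2462 (209, true)),
    (2325, .gen 2143 (209, false)),
    (1237, .gen 1261 (209, true)),
    (1548, .gen 281 (202, false)),
    (2038, .gen 281 (209, false)),
    (1687, .gen 128 (202, false)),
    (2994, .gen 128 (202, true)),
    (1860, .gen 128 (209, false)),
    (1832, .gen 128 (209, true)),
    (3243, .gen 2486 (209, true)),
    (84, .gen 1877 (202, false)),
    (449, .gen 1877 (202, true)),
    (1598, .gen 1877 (209, true)),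
    (3354, .gen 3229 (202, false)),
    (1099, .gen 198 (202, false)),
    (3108, .gen 198 (209, true)),
    (2119, .gen 3065 (202, false)),
    (1518, .gen 3065 (202, true)),
    (2799, .gen 3065 (209, false)),
    (670, .gen 3065 (209, true)),
    (3308, .gen 1283 (202, false)),
    (1828, .gen 1283 (209, false)),
    (3637, .gen 3290 (209, true)),
    (2047, .gen 2385 (202, false)),
    (1037, .gen 2385 (202, true)),
    (2527, .gen 2385 (209, false)),
    (610, .gen 2385 (209, true)),
    (2296, .gen 2831 (209, false)),
    (1119, .gen 1554 (209, true)),
    (1381, .gen 3450 (203, false)),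
    (2154, .gen 3450 (209, false)),
    (3589, .gen 3450 (209, true)),
    (2727, .gen 3412 (209, true)),
    (1062, .gen 753 (202, false)),
    (2746, .gen 753 (209, false)),
    (1416, .gen 824 (203, false)),
    (3767, .gen 824 (209, false)),
    (1425, .gen 824 (209, true)),
    (1002, .gen 2963 (209, false)),
    (1353, .gen 854 (202, false)),
    (832, .gen 854 (202, true)),
    (898, .gen 854 (209, false)),
    (2667, .gen 854 (209, true)),
    (1934, .gen 396 (202, false)),
    (336, .gen 396 (209, false)),
    (836, .gen 2943 (209, true)),
    (892, .gen 778 (202, false)),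
    (2558, .gen 778 (202, true)),
    (2611, .gen 778 (209, false)),
    (2909, .gen 778 (209, true)),
    (1763, .gen 1483 (209, false)),
    (480, .gen 1705 (209, true)),
    (2804, .gen 1540 (203, false)),
    (1104, .gen 1540 (209, false)),
    (358, .gen 1540 (209, true)),
    (3448, .gen 3661 (209, true)),
    (2286, .gen 1092 (202, false)),
    (211, .gen 1092 (209, false)),
    (3225, .gen 1444 (203, false)),
    (2774, .gen 1444 (209, false)),
    (3546, .gen 1444 (209, true)),
    (450, .gen 1188 (209, false)),
    (1371, .gen 408 (202, false)),
    (222, .gen 408 (202, true)),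
    (2924, .gen 408 (209, false)),
    (3611, .gen 408 (209, true)),
    (3273, .gen 2659 (202, false)),
    (1197, .gen 2659 (209, false)),
    (945, .gen 1967 (209, true)),
    (1079, .gen 120 (202, false)),
    (2569, .gen 120 (202, true)),
    (443, .gen 120 (209, false)),
    (1148, .gen 120 (209, true)),
    (1164, .gen 77 (209, false)),
    (229, .gen 2817 (209, true)),
    (573, .gen 333 (203, false)),
    (952, .gen 333 (209, false)),
    (608, .gen 333 (209, true)),
    (1375, .gen 681 (209, true)),
    (3188, .gen 2690 (202, false)),
    (953, .gen 2690 (209, false)),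
    (1550, .gen 2236 (203, false)),
    (2808, .gen 2236 (209, false)),
    (947, .gen 2236 (209, true)),
    (2063, .gen 14 (209, false)),
    (295, .gen 728 (202, false)),
    (1623, .gen 728 (209, false)),
    (1645, .gen 1855 (209, true)),
    (999, .gen 2276 (202, true)),
    (3117, .gen 2276 (209, false)),
    (2345, .gen 2894 (209, true)),
    (3365, .gen 1547 (203, false)),
    (30, .gen 1547 (209, true)),
    (1694, .gen 2648 (209, false)),
    (666, .gen 11 (202, true)),
    (415, .gen 11 (209, false)),
    (2989, .gen 1599 (209, true)),
    (2789, .gen 324 (209, false)),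
    (1176, .gen 1097 (209, false)),
    (1063, .gen 1829 (209, true)),
    (2985, .gen 1653 (209, false)),
    (1597, .gen 364 (202, false)),
    (277, .gen 364 (209, true)),
    (2239, .gen 1407 (202, false)),
    (1038, .gen 3666 (202, false)),
    (1880, .gen 3666 (202, true)),
    (2330, .gen 3666 (209, true)),
    (2090, .gen 1962 (209, true)),
    (3459, .gen 2610 (202, false)),
    (939, .gen 2610 (209, false)),
    (2031, .gen 2735 (202, false)),
    (768, .gen 2735 (202, true)),
    (1024, .gen 2735 (209, false)),
    (3652, .gen 2735 (209, true)),
    (1179, .gen 3512 (209, true)),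
    (2563, .gen 717 (209, true)),
    (1156, .gen 1215 (209, false)),
    (1942, .gen 901 (209, true)),
    (2003, .gen 3205 (203, false)),
    (1376, .gen 3205 (209, false)),
    (3646, .gen 1198 (209, false)),
    (2955, .gen 3352 (203, false)),
    (2868, .gen 1306 (209, false)),
    (3705, .gen 1857 (202, false)),
    (2130, .gen 1857 (202, true)),
    (2435, .gen 1857 (209, false)),
    (442, .gen 1857 (209, true)),
    (1296, .gen 3715 (202, false)),
    (2017, .gen 3715 (209, false)),
    (2326, .gen 3071 (209, true)),
    (767, .gen 3420 (202, false)),
    (2412, .gen 3420 (202, true)),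
    (3075, .gen 3420 (209, false)),
    (159, .gen 3420 (209, true)),
    (2140, .gen 79 (209, false)),
    (2888, .gen 2094 (209, true)),
    (3068, .gen 3191 (203, false)),
    (3644, .gen 3191 (209, false)),
    (1313, .gen 3191 (209, true)),
    (1667, .gen 519 (209, true)),
    (2418, .gen 1888 (202, false)),
    (2936, .gen 1888 (209, false)),
    (765, .gen 3342 (203, false)),
    (1976, .gen 3342 (209, false)),
    (2241, .gen 3342 (209, true)),
    (2220, .gen 572 (209, false)),
    (1716, .gen 3773 (202, false)),
    (2747, .gen 3773 (202, true)),
    (766, .gen 3773 (209, false)),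
    (2982, .gen 3773 (209, true)),
    (915, .gen 1029 (202, false)),
    (2521, .gen 1029 (209, false)),
    (2411, .gen 727 (209, true)),
    (703, .gen 1049 (202, false)),
    (1601, .gen 1049 (202, true)),
    (2216, .gen 1049 (209, false)),
    (1260, .gen 1049 (209, true)),
    (1898, .gen 3641 (209, false)),
    (3453, .gen 1614 (209, true)),
    (3348, .gen 1850 (203, false)),
    (3193, .gen 1850 (209, false)),
    (2328, .gen 1850 (209, true)),
    (1801, .gen 1949 (209, true)),
    (1840, .gen 1058 (202, false)),
    (45, .gen 1058 (209, false)),
    (78, .gen 3594 (203, false)),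
    (2728, .gen 3594 (209, false)),
    (2166, .gen 3594 (209, true)),
    (1368, .gen 1440 (209, false)),
    (2850, .gen 3514 (202, false)),
    (1403, .gen 3514 (202, true)),
    (1120, .gen 3514 (209, false)),
    (2137, .gen 3514 (209, true)),
    (421, .gen 2660 (202, false)),
    (591, .gen 2660 (209, false)),
    (3648, .gen 983 (209, true)),
    (2848, .gen 286 (202, false)),
    (1785, .gen 286 (202, true)),
    (476, .gen 286 (209, false)),
    (3592, .gen 286 (209, true)),
    (2986, .gen 942 (209, false)),
    (1360, .gen 3259 (209, true))]

/-- Visits. -/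
def v14_8 : List (ℕ × Src) :=
  [(2887, .gen 1218 (203, false)),
    (733, .gen 1218 (209, false)),
    (812, .gen 1218 (209, true)),
    (2451, .gen 1013 (209, true)),
    (2721, .gen 3277 (202, false)),
    (2650, .gen 3277 (209, false)),
    (1146, .gen 2013 (203, false)),
    (1068, .gen 2013 (209, false)),
    (2815, .gen 2013 (209, true)),
    (1615, .gen 2231 (209, false)),
    (2993, .gen 257 (209, true)),
    (236, .gen 784 (209, false)),
    (463, .gen 1256 (209, true)),
    (3616, .gen 1676 (203, false)),
    (809, .gen 1676 (209, false)),
    (2467, .gen 1957 (209, false)),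
    (70, .gen 230 (203, false)),
    (2513, .gen 318 (209, false)),
    (1501, .gen 1984 (202, false)),
    (2055, .gen 1984 (202, true)),
    (3753, .gen 1984 (209, false)),
    (1358, .gen 1984 (209, true)),
    (1985, .gen 195 (202, false)),
    (2771, .gen 195 (209, false)),
    (3443, .gen 882 (209, true)),
    (541, .gen 455 (202, false)),
    (3223, .gen 455 (202, true)),
    (1846, .gen 455 (209, false)),
    (2058, .gen 455 (209, true)),
    (1010, .gen 2572 (209, false)),
    (2084, .gen 2307 (209, true)),
    (2172, .gen 1114 (203, false)),
    (886, .gen 1114 (209, false)),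
    (2202, .gen 1114 (209, true)),
    (3407, .gen 635 (209, true)),
    (1396, .gen 2251 (202, false)),
    (1572, .gen 2251 (209, false)),
    (2426, .gen 104 (203, false)),
    (2162, .gen 104 (209, false)),
    (1098, .gen 104 (209, true)),
    (3526, .gen 2356 (209, false)),
    (2125, .gen 1810 (202, false)),
    (1786, .gen 1810 (202, true)),
    (3148, .gen 1810 (209, false)),
    (2384, .gen 1810 (209, true)),
    (48, .gen 32 (202, false)),
    (643, .gen 32 (209, false)),
    (3508, .gen 1157 (209, true)),
    (1613, .gen 3000 (202, false)),
    (625, .gen 3000 (202, true)),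
    (565, .gen 3000 (209, false)),
    (558, .gen 3000 (209, true)),
    (1900, .gen 2661 (209, false)),
    (3633, .gen 551 (209, true)),
    (2097, .gen 895 (203, false)),
    (1158, .gen 895 (209, false)),
    (3127, .gen 895 (209, true)),
    (1523, .gen 2399 (209, true)),
    (3539, .gen 779 (202, false)),
    (792, .gen 779 (209, false)),
    (1065, .gen 627 (203, false)),
    (3544, .gen 627 (209, false)),
    (3298, .gen 627 (209, true)),
    (2588, .gen 180 (209, false)),
    (2461, .gen 498 (202, false)),
    (702, .gen 498 (202, true)),
    (2026, .gen 498 (209, false)),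
    (2529, .gen 498 (209, true)),
    (1510, .gen 428 (202, false)),
    (1956, .gen 428 (209, false)),
    (749, .gen 1387 (209, true)),
    (256, .gen 2534 (202, false)),
    (456, .gen 2534 (202, true)),
    (203, .gen 2534 (209, false)),
    (3189, .gen 2534 (209, true)),
    (190, .gen 2635 (209, false)),
    (3615, .gen 274 (209, true)),
    (353, .gen 2937 (203, false)),
    (3719, .gen 2937 (209, false)),
    (465, .gen 2937 (209, true)),
    (584, .gen 1768 (209, true)),
    (704, .gen 2992 (202, false)),
    (481, .gen 2992 (209, false)),
    (1192, .gen 3672 (203, false)),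
    (559, .gen 3672 (209, false)),
    (447, .gen 3672 (209, true)),
    (2764, .gen 3409 (209, false)),
    (1203, .gen 3461 (202, false)),
    (2934, .gen 3461 (202, true)),
    (2320, .gen 3461 (209, false)),
    (1794, .gen 3461 (209, true)),
    (817, .gen 1517 (202, false)),
    (1787, .gen 1517 (209, false)),
    (967, .gen 201 (209, true)),
    (1111, .gen 325 (202, false)),
    (479, .gen 325 (202, true)),
    (2960, .gen 325 (209, false)),
    (2093, .gen 325 (209, true)),
    (1612, .gen 2250 (209, false)),
    (3241, .gen 2157 (209, true)),
    (2246, .gen 3673 (203, false)),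
    (1950, .gen 3673 (209, false)),
    (552, .gen 3673 (209, true)),
    (2124, .gen 2540 (209, true)),
    (2646, .gen 2561 (202, false)),
    (3527, .gen 2561 (209, false)),
    (2113, .gen 1923 (203, false)),
    (1813, .gen 1923 (209, false)),
    (2394, .gen 1923 (209, true)),
    (2832, .gen 2096 (209, false)),
    (1045, .gen 3176 (209, false)),
    (1683, .gen 3754 (202, false)),
    (1974, .gen 3754 (209, false)),
    (1556, .gen 3070 (209, true)),
    (2187, .gen 3691 (209, true)),
    (2285, .gen 2575 (203, false)),
    (759, .gen 2575 (209, false)),
    (2368, .gen 2575 (209, true)),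
    (2671, .gen 2148 (209, false)),
    (1246, .gen 691 (209, false)),
    (2784, .gen 2135 (202, false)),
    (1930, .gen 2135 (209, false)),
    (2011, .gen 1896 (209, true)),
    (3367, .gen 820 (209, true)),
    (1194, .gen 1434 (203, false)),
    (81, .gen 1434 (209, false)),
    (1254, .gen 1434 (209, true)),
    (2730, .gen 3046 (209, false)),
    (842, .gen 2733 (202, false)),
    (3319, .gen 2733 (202, true)),
    (1380, .gen 2733 (209, false)),
    (3752, .gen 2733 (209, true)),
    (1563, .gen 3382 (202, false)),
    (1330, .gen 3382 (209, false)),
    (2600, .gen 3411 (209, true)),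
    (3538, .gen 3789 (202, false)),
    (446, .gen 3789 (202, true)),
    (2824, .gen 3789 (209, false)),
    (2500, .gen 3789 (209, true)),
    (3772, .gen 2935 (209, false)),
    (2689, .gen 3549 (209, true)),
    (140, .gen 1997 (203, false)),
    (1289, .gen 1997 (209, false)),
    (612, .gen 1997 (209, true)),
    (3758, .gen 26 (209, true)),
    (1606, .gen 241 (202, false)),
    (2253, .gen 241 (209, false)),
    (531, .gen 1136 (203, false)),
    (2612, .gen 1136 (209, false)),
    (1638, .gen 1136 (209, true)),
    (1398, .gen 2111 (209, false)),
    (2001, .gen 54 (202, false)),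
    (173, .gen 54 (202, true)),
    (2009, .gen 54 (209, false)),
    (2852, .gen 54 (209, true)),
    (3190, .gen 2178 (202, false)),
    (3093, .gen 2178 (209, false)),
    (3479, .gen 2524 (209, true)),
    (3511, .gen 710 (202, false)),
    (2460, .gen 710 (202, true)),
    (3145, .gen 710 (209, false)),
    (3724, .gen 710 (209, true)),
    (3714, .gen 2710 (209, false)),
    (1223, .gen 2821 (209, true)),
    (165, .gen 855 (203, false)),
    (2897, .gen 855 (209, false)),
    (3446, .gen 855 (209, true)),
    (3082, .gen 3181 (209, true)),
    (1527, .gen 2750 (202, false)),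
    (540, .gen 2750 (209, false)),
    (375, .gen 654 (203, false)),
    (3183, .gen 654 (209, false)),
    (2892, .gen 654 (209, true)),
    (2732, .gen 144 (209, false)),
    (1590, .gen 2041 (209, true)),
    (3738, .gen 1650 (202, false)),
    (3207, .gen 1650 (209, false)),
    (135, .gen 3300 (202, false)),
    (2591, .gen 3300 (202, true)),
    (58, .gen 3300 (209, false)),
    (3120, .gen 3300 (209, true)),
    (3426, .gen 684 (209, true)),
    (3084, .gen 1504 (202, false)),
    (2543, .gen 1504 (202, true)),
    (417, .gen 1504 (209, false)),
    (1773, .gen 1504 (209, true)),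
    (2308, .gen 73 (202, false)),
    (216, .gen 73 (209, false)),
    (3760, .gen 491 (209, true)),
    (2221, .gen 1431 (202, false)),
    (3283, .gen 1431 (202, true)),
    (1528, .gen 1431 (209, false)),
    (1272, .gen 1431 (209, true)),
    (2390, .gen 3252 (209, false)),
    (3771, .gen 1632 (209, true)),
    (3532, .gen 2589 (203, false)),
    (2268, .gen 2589 (209, false)),
    (782, .gen 2589 (209, true)),
    (619, .gen 1648 (209, true)),
    (151, .gen 916 (202, false)),
    (885, .gen 916 (209, false)),
    (2, .gen 382 (203, false)),
    (1770, .gen 382 (209, false)),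
    (51, .gen 382 (209, true)),
    (2917, .gen 405 (209, false)),
    (2482, .gen 2551 (202, false)),
    (1069, .gen 2551 (202, true)),
    (2235, .gen 2551 (209, false)),
    (3230, .gen 2551 (209, true)),
    (1726, .gen 810 (202, false)),
    (2605, .gen 810 (209, false)),
    (2939, .gen 2966 (209, true)),
    (1287, .gen 3149 (202, false)),
    (3574, .gen 3149 (202, true)),
    (34, .gen 3149 (209, false)),
    (2271, .gen 3149 (209, true)),
    (1275, .gen 1322 (209, false)),
    (550, .gen 902 (209, true)),
    (2836, .gen 3562 (203, false)),
    (1674, .gen 3562 (209, false)),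
    (977, .gen 3562 (209, true)),
    (370, .gen 1533 (209, true)),
    (1845, .gen 520 (202, false)),
    (3402, .gen 520 (209, false)),
    (1954, .gen 3740 (203, false)),
    (2476, .gen 3740 (209, false)),
    (1328, .gen 3740 (209, true)),
    (3086, .gen 3163 (209, false)),
    (1507, .gen 1349 (202, false)),
    (2547, .gen 1349 (202, true)),
    (2196, .gen 1349 (209, false)),
    (1074, .gen 1349 (209, true)),
    (1724, .gen 904 (202, false)),
    (1276, .gen 904 (209, false)),
    (3764, .gen 3194 (209, true)),
    (2729, .gen 2509 (202, false)),
    (224, .gen 2509 (202, true)),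
    (3499, .gen 2509 (209, false)),
    (2842, .gen 2509 (209, true)),
    (2128, .gen 1831 (209, false)),
    (170, .gen 3156 (209, true)),
    (3578, .gen 1906 (203, false)),
    (637, .gen 1906 (209, false)),
    (2538, .gen 1906 (209, true)),
    (3536, .gen 1721 (209, true)),
    (1933, .gen 1610 (202, false)),
    (699, .gen 1610 (209, false)),
    (1184, .gen 2416 (203, false)),
    (2863, .gen 2416 (209, false)),
    (1848, .gen 2416 (209, true)),
    (1265, .gen 607 (209, false)),
    (697, .gen 933 (202, false)),
    (3140, .gen 933 (202, true)),
    (2152, .gen 933 (209, false)),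
    (2354, .gen 933 (209, true)),
    (1706, .gen 3584 (202, false)),
    (1316, .gen 3584 (209, false)),
    (2336, .gen 2091 (209, true)),
    (1487, .gen 1621 (202, false)),
    (3523, .gen 1621 (202, true)),
    (2234, .gen 1621 (209, false)),
    (2126, .gen 1621 (209, true)),
    (2913, .gen 1524 (209, false)),
    (2120, .gen 2319 (209, true)),
    (1525, .gen 484 (203, false)),
    (576, .gen 484 (209, false)),
    (3197, .gen 484 (209, true)),
    (2683, .gen 110 (209, true)),
    (2056, .gen 35 (202, false)),
    (1947, .gen 35 (209, false)),
    (395, .gen 1968 (203, false)),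
    (2779, .gen 1968 (209, false)),
    (2485, .gen 1968 (209, true)),
    (609, .gen 2105 (209, false)),
    (1379, .gen 2580 (202, false)),
    (457, .gen 2580 (202, true)),
    (883, .gen 2580 (209, false)),
    (2586, .gen 2580 (209, true)),
    (1212, .gen 3222 (202, false)),
    (2541, .gen 3222 (209, false)),
    (1689, .gen 1656 (209, true)),
    (3465, .gen 196 (202, false)),
    (3103, .gen 196 (202, true)),
    (1475, .gen 196 (209, false)),
    (61, .gen 196 (209, true)),
    (707, .gen 1314 (209, false)),
    (393, .gen 3211 (209, true)),
    (923, .gen 2810 (203, false)),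
    (2401, .gen 2810 (209, false)),
    (303, .gen 2810 (209, true)),
    (2182, .gen 2057 (209, true)),
    (1543, .gen 2081 (202, false)),
    (2539, .gen 2081 (209, false)),
    (1907, .gen 3314 (203, false)),
    (3138, .gen 3314 (209, false)),
    (1424, .gen 3314 (209, true)),
    (1988, .gen 951 (209, false)),
    (1479, .gen 1639 (209, false)),
    (1340, .gen 1153 (202, false)),
    (2370, .gen 1153 (209, false))]

/-- Visits. -/
def v14_9 : List (ℕ × Src) :=
  [(3119, .gen 1805 (209, true)),
    (549, .gen 1834 (209, true)),
    (3333, .gen 2838 (203, false)),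
    (1064, .gen 2838 (209, false)),
    (3192, .gen 2838 (209, true)),
    (3284, .gen 94 (209, false)),
    (1076, .gen 614 (202, false)),
    (632, .gen 614 (202, true)),
    (3393, .gen 614 (209, false)),
    (3658, .gen 614 (209, true)),
    (1339, .gen 3381 (202, false)),
    (3517, .gen 3381 (209, false)),
    (678, .gen 1783 (209, true)),
    (1307, .gen 331 (202, false)),
    (2005, .gen 331 (202, true)),
    (2658, .gen 331 (209, false)),
    (3318, .gen 331 (209, true)),
    (851, .gen 3316 (209, false)),
    (1567, .gen 2751 (209, true)),
    (3113, .gen 3030 (203, false)),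
    (2116, .gen 3030 (209, false)),
    (919, .gen 3030 (209, true)),
    (2741, .gen 2050 (209, true)),
    (3793, .gen 2228 (202, false)),
    (2133, .gen 2228 (209, false)),
    (3550, .gen 3248 (203, false)),
    (166, .gen 3248 (209, false)),
    (112, .gen 3248 (209, true)),
    (2243, .gen 1126 (209, false)),
    (2614, .gen 926 (202, false)),
    (972, .gen 926 (202, true)),
    (3733, .gen 926 (209, false)),
    (1611, .gen 926 (209, true)),
    (3040, .gen 3688 (202, false)),
    (2212, .gen 3688 (209, false)),
    (2552, .gen 2877 (209, true)),
    (1362, .gen 209 (202, false)),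
    (2197, .gen 209 (202, true)),
    (3434, .gen 209 (209, false)),
    (326, .gen 209 (209, true)),
    (3542, .gen 2463 (209, false)),
    (169, .gen 1096 (209, true)),
    (341, .gen 3179 (203, false)),
    (1300, .gen 3179 (209, false)),
    (3543, .gen 3179 (209, true)),
    (539, .gen 1701 (209, true)),
    (1173, .gen 1911 (202, false)),
    (2181, .gen 1911 (209, false)),
    (3050, .gen 2794 (203, false)),
    (1913, .gen 2794 (209, false)),
    (694, .gen 2794 (209, true)),
    (2748, .gen 2647 (209, false)),
    (2680, .gen 2473 (202, false)),
    (1397, .gen 2473 (202, true)),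
    (2255, .gen 2473 (209, false)),
    (3423, .gen 2473 (209, true)),
    (1792, .gen 910 (202, false)),
    (2940, .gen 910 (209, false)),
    (495, .gen 3601 (209, true)),
    (2477, .gen 3513 (202, false)),
    (2118, .gen 3513 (202, true)),
    (2478, .gen 3513 (209, false)),
    (1319, .gen 3513 (209, true)),
    (1250, .gen 2620 (209, false)),
    (871, .gen 3212 (209, true)),
    (2493, .gen 1620 (203, false)),
    (1669, .gen 1620 (209, false)),
    (3581, .gen 1620 (209, true)),
    (410, .gen 2085 (209, true)),
    (2911, .gen 1542 (202, false)),
    (1266, .gen 1542 (209, false)),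
    (2046, .gen 537 (203, false)),
    (1004, .gen 537 (209, false)),
    (390, .gen 537 (209, true)),
    (2014, .gen 1109 (209, false)),
    (290, .gen 597 (202, false)),
    (1361, .gen 597 (202, true)),
    (2464, .gen 597 (209, false)),
    (2083, .gen 597 (209, true)),
    (907, .gen 1841 (202, false)),
    (1389, .gen 1841 (209, false)),
    (3304, .gen 466 (209, true)),
    (808, .gen 2606 (202, false)),
    (1418, .gen 2606 (202, true)),
    (1259, .gen 2606 (209, false)),
    (2380, .gen 2606 (209, true)),
    (3642, .gen 2223 (209, false)),
    (988, .gen 163 (209, true)),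
    (1824, .gen 2886 (203, false)),
    (1106, .gen 2886 (209, false)),
    (2870, .gen 2886 (209, true)),
    (3680, .gen 1759 (209, true)),
    (474, .gen 545 (202, false)),
    (1279, .gen 545 (209, false)),
    (2445, .gen 546 (203, false)),
    (2998, .gen 546 (209, false)),
    (379, .gen 546 (209, true)),
    (1591, .gen 571 (209, false)),
    (238, .gen 502 (202, false)),
    (2193, .gen 502 (202, true)),
    (1072, .gen 502 (209, false)),
    (1866, .gen 502 (209, true)),
    (879, .gen 2681 (202, false)),
    (1963, .gen 2681 (209, false)),
    (2106, .gen 17 (209, true)),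
    (185, .gen 1509 (202, false)),
    (1213, .gen 1509 (202, true)),
    (744, .gen 1509 (209, false)),
    (1593, .gen 1509 (209, true)),
    (2067, .gen 1842 (209, false)),
    (2961, .gen 934 (209, true)),
    (2670, .gen 1820 (203, false)),
    (3026, .gen 1820 (209, false)),
    (3723, .gen 1820 (209, true)),
    (2996, .gen 205 (209, true)),
    (2636, .gen 798 (202, false)),
    (3654, .gen 798 (209, false)),
    (3235, .gen 265 (203, false)),
    (452, .gen 265 (209, false)),
    (2195, .gen 265 (209, true)),
    (3643, .gen 21 (209, false)),
    (411, .gen 191 (202, false)),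
    (1298, .gen 191 (202, true)),
    (2082, .gen 191 (209, false)),
    (278, .gen 191 (209, true)),
    (2554, .gen 3055 (202, false)),
    (1830, .gen 3055 (209, false)),
    (1000, .gen 2023 (209, true)),
    (490, .gen 3121 (202, false)),
    (1482, .gen 3121 (202, true)),
    (1415, .gen 3121 (209, false)),
    (1919, .gen 3121 (209, true)),
    (797, .gen 1781 (209, false)),
    (2656, .gen 3689 (209, true)),
    (468, .gen 2061 (203, false)),
    (1791, .gen 2061 (209, false)),
    (1050, .gen 2061 (209, true)),
    (389, .gen 2809 (209, true)),
    (2567, .gen 2818 (202, false)),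
    (3106, .gen 2818 (209, false)),
    (2526, .gen 83 (203, false)),
    (1859, .gen 83 (209, false)),
    (3663, .gen 83 (209, true)),
    (827, .gen 1740 (209, false)),
    (1903, .gen 2523 (202, false)),
    (1994, .gen 2523 (202, true)),
    (2956, .gen 2523 (209, false)),
    (3254, .gen 2523 (209, true)),
    (212, .gen 896 (202, false)),
    (2535, .gen 896 (209, false)),
    (2856, .gen 3249 (209, true)),
    (378, .gen 1618 (202, false)),
    (1219, .gen 1618 (202, true)),
    (400, .gen 1618 (209, false)),
    (297, .gen 1618 (209, true)),
    (2576, .gen 3056 (209, false)),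
    (1492, .gen 1966 (209, true)),
    (2171, .gen 306 (203, false)),
    (973, .gen 306 (209, false)),
    (1772, .gen 306 (209, true)),
    (1032, .gen 1171 (209, true)),
    (631, .gen 505 (202, false)),
    (957, .gen 505 (209, false)),
    (3573, .gen 2440 (203, false)),
    (3403, .gen 2440 (209, false)),
    (1725, .gen 2440 (209, true)),
    (2417, .gen 2587 (209, false)),
    (1918, .gen 206 (202, false)),
    (1969, .gen 206 (202, true)),
    (3660, .gen 206 (209, false)),
    (2858, .gen 206 (209, true)),
    (194, .gen 76 (202, false)),
    (3777, .gen 76 (209, false)),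
    (1587, .gen 263 (209, true)),
    (1304, .gen 3695 (202, false)),
    (359, .gen 3695 (202, true)),
    (1367, .gen 3695 (209, false)),
    (1113, .gen 3695 (209, true)),
    (429, .gen 2880 (209, false)),
    (2350, .gen 1513 (209, true)),
    (943, .gen 3383 (203, false)),
    (1619, .gen 3383 (209, false)),
    (3460, .gen 3383 (209, true)),
    (3401, .gen 2974 (209, true)),
    (1825, .gen 2466 (202, false)),
    (1090, .gen 2466 (209, false)),
    (2184, .gen 1522 (203, false)),
    (3299, .gen 1522 (209, false)),
    (3699, .gen 1522 (209, true)),
    (3329, .gen 2864 (209, false)),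
    (2112, .gen 1884 (202, false)),
    (1311, .gen 1884 (202, true)),
    (2069, .gen 1884 (209, false)),
    (1443, .gen 1884 (209, true)),
    (1342, .gen 2695 (202, false)),
    (31, .gen 2695 (209, false)),
    (1324, .gen 3717 (209, true)),
    (1282, .gen 3153 (202, false)),
    (1321, .gen 3153 (202, true)),
    (1303, .gen 3153 (209, false)),
    (3692, .gen 3153 (209, true)),
    (3135, .gen 1352 (209, false)),
    (1718, .gen 2065 (209, true)),
    (2230, .gen 3628 (203, false)),
    (856, .gen 3628 (209, false)),
    (13, .gen 3628 (209, true)),
    (1085, .gen 3017 (209, true)),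
    (2883, .gen 200 (202, false)),
    (3457, .gen 200 (209, false)),
    (1185, .gen 3778 (203, false)),
    (3463, .gen 3778 (209, false)),
    (1644, .gen 3778 (209, true)),
    (3502, .gen 847 (209, false)),
    (3716, .gen 2638 (202, false)),
    (1993, .gen 2638 (202, true)),
    (2834, .gen 2638 (209, false)),
    (3303, .gen 2638 (209, true)),
    (2849, .gen 1067 (202, false)),
    (367, .gen 1067 (209, false)),
    (2700, .gen 1915 (209, true)),
    (3165, .gen 878 (202, false)),
    (1345, .gen 878 (202, true)),
    (567, .gen 878 (209, false)),
    (2437, .gen 878 (209, true)),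
    (3442, .gen 3763 (209, false)),
    (1003, .gen 129 (209, true)),
    (941, .gen 3730 (203, false)),
    (1026, .gen 3730 (209, false)),
    (763, .gen 3730 (209, true)),
    (1231, .gen 1273 (209, true)),
    (1808, .gen 6 (202, false)),
    (861, .gen 6 (209, false)),
    (1297, .gen 1456 (203, false)),
    (2389, .gen 1456 (209, false)),
    (249, .gen 1456 (209, true)),
    (3503, .gen 1033 (209, false)),
    (108, .gen 102 (202, false)),
    (127, .gen 102 (202, true)),
    (2819, .gen 102 (209, false)),
    (2720, .gen 102 (209, true)),
    (25, .gen 2501 (202, false)),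
    (1503, .gen 2501 (209, false)),
    (59, .gen 1945 (209, true)),
    (448, .gen 925 (202, false)),
    (521, .gen 925 (202, true)),
    (1393, .gen 925 (209, false)),
    (693, .gen 925 (209, true)),
    (686, .gen 1771 (209, false)),
    (2244, .gen 2192 (209, true)),
    (884, .gen 2780 (203, false)),
    (3045, .gen 2780 (209, false)),
    (3169, .gen 2780 (209, true)),
    (3146, .gen 3571 (209, true)),
    (41, .gen 1201 (202, false)),
    (1952, .gen 1201 (209, false)),
    (1001, .gen 437 (203, false)),
    (843, .gen 437 (209, false)),
    (974, .gen 437 (209, true)),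
    (3530, .gen 2609 (209, false)),
    (1692, .gen 841 (202, false)),
    (330, .gen 841 (202, true)),
    (831, .gen 841 (209, false)),
    (3657, .gen 841 (209, true)),
    (1531, .gen 2029 (202, false)),
    (2898, .gen 2029 (209, false)),
    (3439, .gen 1672 (209, true)),
    (3755, .gen 1762 (202, false)),
    (3638, .gen 1762 (202, true)),
    (1758, .gen 1762 (209, false)),
    (496, .gen 1762 (209, true)),
    (435, .gen 688 (209, false)),
    (3609, .gen 3358 (209, true)),
    (2353, .gen 2932 (203, false)),
    (2820, .gen 2932 (209, false)),
    (1981, .gen 2932 (209, true)),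
    (982, .gen 1305 (209, true)),
    (2969, .gen 2247 (202, false)),
    (2967, .gen 2247 (209, false)),
    (2149, .gen 2665 (203, false)),
    (1767, .gen 2665 (209, false)),
    (2070, .gen 2665 (209, true)),
    (3482, .gen 1054 (209, false)),
    (1800, .gen 3444 (202, false)),
    (2203, .gen 3444 (202, true)),
    (2987, .gen 3444 (209, false)),
    (989, .gen 3444 (209, true)),
    (964, .gen 644 (202, false)),
    (511, .gen 644 (209, false)),
    (3669, .gen 987 (209, true)),
    (3627, .gen 1707 (202, false)),
    (186, .gen 1707 (202, true)),
    (3529, .gen 1707 (209, false)),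
    (1044, .gen 1707 (209, true)),
    (1809, .gen 3374 (209, false)),
    (1417, .gen 2483 (209, true)),
    (161, .gen 2796 (203, false)),
    (562, .gen 2796 (209, false)),
    (366, .gen 2796 (209, true)),
    (667, .gen 343 (209, true)),
    (3360, .gen 2685 (202, false))]

/-- Visits. -/
def v14_10 : List (ℕ × Src) :=
  [(3324, .gen 2685 (209, false)),
    (2900, .gen 2965 (203, false)),
    (1186, .gen 2965 (209, false)),
    (1659, .gen 2965 (209, true)),
    (2851, .gen 287 (209, false)),
    (3558, .gen 344 (202, false)),
    (146, .gen 344 (202, true)),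
    (624, .gen 344 (209, false)),
    (300, .gen 344 (209, true)),
    (2468, .gen 3349 (202, false)),
    (921, .gen 3349 (209, false)),
    (88, .gen 2674 (209, true)),
    (1059, .gen 2379 (202, false)),
    (3568, .gen 2379 (202, true)),
    (202, .gen 2379 (209, false)),
    (569, .gen 2379 (209, true)),
    (578, .gen 2012 (209, false)),
    (2497, .gen 89 (209, true)),
    (3534, .gen 2427 (203, false)),
    (1670, .gen 2427 (209, false)),
    (311, .gen 2427 (209, true)),
    (649, .gen 1410 (209, true)),
    (3785, .gen 3353 (202, false)),
    (501, .gen 3353 (209, false)),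
    (1912, .gen 1960 (203, false)),
    (3662, .gen 1960 (209, false)),
    (472, .gen 1960 (209, true)),
    (1095, .gen 1220 (209, false)),
    (3269, .gen 310 (202, false)),
    (598, .gen 310 (202, true)),
    (2410, .gen 310 (209, false)),
    (574, .gen 310 (209, true)),
    (2028, .gen 2071 (202, false)),
    (422, .gen 2071 (209, false)),
    (869, .gen 3016 (209, true)),
    (1217, .gen 3475 (202, false)),
    (1925, .gen 3475 (202, true)),
    (2530, .gen 3475 (209, false)),
    (3293, .gen 3475 (209, true)),
    (345, .gen 1833 (209, false)),
    (2853, .gen 897 (209, true)),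
    (2766, .gen 2087 (203, false)),
    (985, .gen 2087 (209, false)),
    (785, .gen 2087 (209, true)),
    (315, .gen 2596 (209, true)),
    (3481, .gen 1294 (202, false)),
    (2692, .gen 1294 (209, false)),
    (1890, .gen 1559 (203, false)),
    (3427, .gen 1559 (209, false)),
    (2999, .gen 1559 (209, true)),
    (2179, .gen 671 (209, false)),
    (3102, .gen 3728 (202, false)),
    (3587, .gen 3728 (202, true)),
    (2494, .gen 3728 (209, false)),
    (2174, .gen 3728 (209, true)),
    (9, .gen 3124 (202, false)),
    (1202, .gen 3124 (209, false)),
    (1078, .gen 3251 (209, true)),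
    (2522, .gen 1904 (202, false)),
    (305, .gen 1904 (202, true)),
    (2910, .gen 1904 (209, false)),
    (1746, .gen 1904 (209, true)),
    (1655, .gen 1914 (209, false)),
    (2341, .gen 1264 (209, true)),
    (453, .gen 3247 (203, false)),
    (493, .gen 3247 (209, false)),
    (674, .gen 3247 (209, true)),
    (1257, .gen 2168 (209, true)),
    (361, .gen 1093 (202, false)),
    (830, .gen 1093 (209, false)),
    (2301, .gen 2295 (203, false)),
    (3520, .gen 2295 (209, false)),
    (3635, .gen 2295 (209, true)),
    (1973, .gen 3091 (209, false)),
    (1882, .gen 2903 (202, false)),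
    (1251, .gen 2903 (202, true)),
    (1027, .gen 2903 (209, false)),
    (2775, .gen 2903 (209, true)),
    (234, .gen 1753 (202, false)),
    (714, .gen 1753 (209, false)),
    (3226, .gen 662 (209, true)),
    (346, .gen 3142 (202, false)),
    (68, .gen 3142 (202, true)),
    (2377, .gen 3142 (209, false)),
    (2158, .gen 3142 (209, true)),
    (2010, .gen 3476 (209, false)),
    (3742, .gen 1030 (209, true)),
    (1468, .gen 1326 (203, false)),
    (2945, .gen 1326 (209, false)),
    (839, .gen 1326 (209, true)),
    (3462, .gen 114 (209, true)),
    (1338, .gen 187 (202, false)),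
    (3743, .gen 187 (209, false)),
    (2419, .gen 3570 (203, false)),
    (1538, .gen 3570 (209, false)),
    (2782, .gen 3570 (209, true)),
    (518, .gen 3042 (209, false)),
    (3580, .gen 119 (202, false)),
    (141, .gen 119 (202, true)),
    (2312, .gen 119 (209, false)),
    (2173, .gen 119 (209, true)),
    (2206, .gen 700 (202, false)),
    (1117, .gen 700 (209, false)),
    (3397, .gen 2256 (209, true)),
    (260, .gen 1130 (202, false)),
    (2132, .gen 1130 (202, true)),
    (304, .gen 1130 (209, false)),
    (3598, .gen 1130 (209, true)),
    (1312, .gen 2640 (209, false)),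
    (1631, .gen 235 (209, true)),
    (1374, .gen 3221 (203, false)),
    (2970, .gen 3221 (209, false)),
    (182, .gen 3221 (209, true)),
    (255, .gen 959 (209, true)),
    (3387, .gen 2447 (202, false)),
    (722, .gen 2447 (209, false)),
    (386, .gen 1178 (203, false)),
    (1334, .gen 1178 (209, false)),
    (69, .gen 1178 (209, true)),
    (270, .gen 623 (209, false)),
    (2792, .gen 1110 (202, false)),
    (596, .gen 1110 (202, true)),
    (349, .gen 1110 (209, false)),
    (100, .gen 1110 (209, true)),
    (1221, .gen 2131 (202, false)),
    (294, .gen 2131 (209, false)),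
    (1121, .gen 683 (209, true)),
    (2871, .gen 2392 (202, false)),
    (1439, .gen 2392 (202, true)),
    (814, .gen 2392 (209, false)),
    (2136, .gen 2392 (209, true)),
    (2406, .gen 1459 (209, false)),
    (2664, .gen 993 (209, true)),
    (3718, .gen 1937 (203, false)),
    (3394, .gen 1937 (209, false)),
    (1404, .gen 1937 (209, true)),
    (56, .gen 1446 (209, true)),
    (2702, .gen 1515 (202, false)),
    (2739, .gen 1515 (209, false)),
    (538, .gen 2560 (203, false)),
    (800, .gen 2560 (209, false)),
    (1849, .gen 2560 (209, true)),
    (2666, .gen 3267 (209, false)),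
    (2318, .gen 582 (202, false)),
    (342, .gen 582 (202, true)),
    (757, .gen 582 (209, false)),
    (1406, .gen 582 (209, true)),
    (424, .gen 3220 (202, false)),
    (3613, .gen 3220 (209, false)),
    (2266, .gen 515 (209, true)),
    (197, .gen 1489 (202, false)),
    (2122, .gen 1489 (202, true)),
    (3395, .gen 1489 (209, false)),
    (402, .gen 1489 (209, true)),
    (1625, .gen 844 (209, false)),
    (2382, .gen 2980 (209, true)),
    (1998, .gen 1428 (203, false)),
    (891, .gen 1428 (209, false)),
    (3258, .gen 1428 (209, true)),
    (1854, .gen 1101 (209, true)),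
    (3623, .gen 3359 (202, false)),
    (1244, .gen 3359 (209, false)),
    (1216, .gen 595 (203, false)),
    (726, .gen 595 (209, false)),
    (2313, .gen 595 (209, true)),
    (1046, .gen 2045 (209, false)),
    (774, .gen 492 (202, false)),
    (3141, .gen 492 (202, true)),
    (2884, .gen 492 (209, false)),
    (2715, .gen 492 (209, true)),
    (2904, .gen 1765 (202, false)),
    (2300, .gen 1765 (209, false)),
    (1281, .gen 2219 (209, true)),
    (1081, .gen 2768 (202, false)),
    (329, .gen 2768 (202, true)),
    (1586, .gen 2768 (209, false)),
    (226, .gen 2768 (209, true)),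
    (1902, .gen 2263 (209, false)),
    (2027, .gen 2456 (209, true)),
    (2040, .gen 2920 (203, false)),
    (152, .gen 2920 (209, false)),
    (548, .gen 2920 (209, true)),
    (2088, .gen 1470 (209, true)),
    (3294, .gen 2264 (202, false)),
    (3706, .gen 2264 (209, false)),
    (3137, .gen 2413 (203, false)),
    (3471, .gen 2413 (209, false)),
    (3034, .gen 2413 (209, true)),
    (1247, .gen 3370 (209, false)),
    (3575, .gen 1799 (202, false)),
    (3325, .gen 1799 (202, true)),
    (253, .gen 1799 (209, false)),
    (1048, .gen 1799 (209, true)),
    (2424, .gen 3667 (202, false)),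
    (3464, .gen 3667 (209, false)),
    (1433, .gen 3187 (209, true)),
    (2386, .gen 3098 (202, false)),
    (1939, .gen 3098 (202, true)),
    (2207, .gen 3098 (209, false)),
    (3487, .gen 3098 (209, true)),
    (3496, .gen 2631 (209, false)),
    (3762, .gen 2455 (209, true)),
    (2528, .gen 3540 (203, false)),
    (1838, .gen 3540 (209, false)),
    (3510, .gen 3540 (209, true)),
    (3563, .gen 3274 (209, true)),
    (1761, .gen 2517 (202, false)),
    (1588, .gen 2517 (209, false)),
    (2696, .gen 2304 (203, false)),
    (821, .gen 2304 (209, false)),
    (338, .gen 2304 (209, true)),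
    (3485, .gen 1727 (209, false)),
    (577, .gen 3604 (209, false)),
    (1891, .gen 3604 (209, true)),
    (2734, .gen 252 (209, true)),
    (2872, .gen 319 (209, true)),
    (2371, .gen 533 (202, false)),
    (958, .gen 533 (202, true)),
    (1333, .gen 533 (209, false)),
    (922, .gen 533 (209, true)),
    (1206, .gen 467 (202, false)),
    (3375, .gen 467 (209, false)),
    (2896, .gen 1432 (209, true)),
    (143, .gen 1465 (202, false)),
    (664, .gen 1465 (202, true)),
    (2738, .gen 1465 (209, false)),
    (1935, .gen 1465 (209, true)),
    (3606, .gen 66 (209, false)),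
    (2430, .gen 1642 (209, true)),
    (215, .gen 2363 (203, false)),
    (2487, .gen 2363 (209, false)),
    (3588, .gen 2363 (209, true)),
    (271, .gen 2772 (209, true)),
    (1485, .gen 1526 (202, false)),
    (823, .gen 1526 (209, false)),
    (137, .gen 2429 (203, false)),
    (3139, .gen 2429 (209, false)),
    (2369, .gen 2429 (209, true)),
    (788, .gen 998 (209, false)),
    (2776, .gen 2675 (202, false)),
    (980, .gen 2675 (202, true)),
    (1892, .gen 2675 (209, false)),
    (1499, .gen 2675 (209, true)),
    (1177, .gen 772 (202, false)),
    (2978, .gen 772 (209, false)),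
    (2373, .gen 2465 (209, true)),
    (1100, .gen 1873 (202, false)),
    (2444, .gen 1873 (202, true)),
    (376, .gen 1873 (209, false)),
    (1083, .gen 1873 (209, true)),
    (2719, .gen 388 (209, false)),
    (1426, .gen 1236 (209, true)),
    (2177, .gen 2310 (203, false)),
    (659, .gen 2310 (209, false)),
    (1139, .gen 2310 (209, true)),
    (1132, .gen 1115 (209, true)),
    (2414, .gen 150 (202, false)),
    (3671, .gen 150 (209, false)),
    (262, .gen 3556 (203, false)),
    (3415, .gen 3556 (209, false)),
    (3061, .gen 3556 (209, true)),
    (3346, .gen 1150 (209, false)),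
    (2686, .gen 1584 (202, false)),
    (101, .gen 1584 (202, true)),
    (2830, .gen 1584 (209, false)),
    (3413, .gen 1584 (209, true)),
    (969, .gen 2594 (202, false)),
    (63, .gen 2594 (209, false)),
    (284, .gen 2428 (209, true)),
    (1478, .gen 1901 (202, false)),
    (1191, .gen 1901 (202, true)),
    (2861, .gen 1901 (209, false)),
    (661, .gen 1901 (209, true)),
    (3739, .gen 2052 (209, false)),
    (946, .gen 3390 (209, true)),
    (3493, .gen 2571 (203, false)),
    (3203, .gen 2571 (209, false)),
    (2570, .gen 2571 (209, true)),
    (658, .gen 840 (209, true)),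
    (3431, .gen 1473 (202, false)),
    (2914, .gen 1473 (209, false)),
    (316, .gen 86 (203, false)),
    (544, .gen 86 (209, false)),
    (3231, .gen 86 (209, true)),
    (3195, .gen 731 (209, false)),
    (2338, .gen 3144 (202, false)),
    (813, .gen 3144 (202, true)),
    (1932, .gen 3144 (209, false)),
    (360, .gen 3144 (209, true)),
    (273, .gen 996 (202, false)),
    (2323, .gen 996 (209, false)),
    (1713, .gen 863 (209, true)),
    (2634, .gen 2645 (202, false)),
    (2037, .gen 2645 (202, true)),
    (2847, .gen 2645 (209, false)),
    (1463, .gen 2645 (209, true)),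
    (858, .gen 689 (209, false)),
    (1052, .gen 2284 (209, true)),
    (1719, .gen 2531 (203, false)),
    (1863, .gen 2531 (209, false))]

/-- Visits. -/
def v14_11 : List (ℕ × Src) :=
  [(2218, .gen 2531 (209, true)),
    (57, .gen 3336 (209, true)),
    (1757, .gen 825 (202, false)),
    (1566, .gen 825 (209, false)),
    (2562, .gen 227 (203, false)),
    (394, .gen 227 (209, false)),
    (1889, .gen 227 (209, true)),
    (3725, .gen 2272 (209, false)),
    (3266, .gen 2859 (202, false)),
    (2079, .gen 2859 (202, true)),
    (1271, .gen 2859 (209, false)),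
    (2742, .gen 2859 (209, true)),
    (1577, .gen 1241 (202, false)),
    (1204, .gen 1241 (209, false)),
    (3236, .gen 3435 (209, true)),
    (2749, .gen 705 (202, false)),
    (1144, .gen 705 (202, true)),
    (3748, .gen 705 (209, false)),
    (3747, .gen 705 (209, true)),
    (2021, .gen 2109 (209, false)),
    (3051, .gen 3099 (209, true)),
    (2550, .gen 1594 (203, false)),
    (1211, .gen 1594 (209, false)),
    (3794, .gen 1594 (209, true)),
    (1869, .gen 1043 (209, true)),
    (2337, .gen 760 (202, false)),
    (1445, .gen 760 (209, false)),
    (2110, .gen 3741 (203, false)),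
    (3131, .gen 3741 (209, false)),
    (3404, .gen 3741 (209, true)),
    (1971, .gen 1887 (209, false)),
    (2791, .gen 3472 (202, false)),
    (3238, .gen 3472 (202, true)),
    (526, .gen 3472 (209, false)),
    (1803, .gen 3472 (209, true)),
    (630, .gen 220 (202, false)),
    (482, .gen 220 (209, false)),
    (3096, .gen 219 (209, true)),
    (3779, .gen 436 (202, false)),
    (3328, .gen 436 (202, true)),
    (210, .gen 436 (209, false)),
    (616, .gen 436 (209, true)),
    (732, .gen 1691 (209, false)),
    (556, .gen 432 (209, true)),
    (240, .gen 984 (203, false)),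
    (2951, .gen 984 (209, false)),
    (1061, .gen 984 (209, true)),
    (3279, .gen 575 (209, true)),
    (97, .gen 1731 (202, false)),
    (213, .gen 1731 (209, false)),
    (2248, .gen 3232 (203, false)),
    (3484, .gen 3232 (209, false)),
    (3246, .gen 3232 (209, true)),
    (288, .gen 175 (209, false)),
    (1290, .gen 2261 (202, false)),
    (354, .gen 2261 (202, true)),
    (1544, .gen 2261 (209, false)),
    (1839, .gen 2261 (209, true)),
    (3421, .gen 834 (202, false)),
    (3560, .gen 834 (209, false)),
    (1325, .gen 3708 (209, true)),
    (2925, .gen 3419 (202, false)),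
    (2030, .gen 3419 (202, true)),
    (1881, .gen 3419 (209, false)),
    (430, .gen 3419 (209, true)),
    (2306, .gen 3291 (209, false)),
    (404, .gen 398 (209, true)),
    (1680, .gen 690 (203, false)),
    (1654, .gen 690 (209, false)),
    (347, .gen 690 (209, true)),
    (2843, .gen 838 (209, true)),
    (931, .gen 3590 (202, false)),
    (55, .gen 3590 (209, false)),
    (2335, .gen 2722 (203, false)),
    (3129, .gen 2722 (209, false)),
    (581, .gen 2722 (209, true)),
    (2878, .gen 2616 (209, false)),
    (214, .gen 2343 (202, false)),
    (911, .gen 2343 (202, true)),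
    (2759, .gen 2343 (209, false)),
    (2745, .gen 2343 (209, true)),
    (721, .gen 1535 (202, false)),
    (2599, .gen 1535 (209, false)),
    (434, .gen 2595 (209, true)),
    (3784, .gen 1728 (202, false)),
    (1678, .gen 1728 (202, true)),
    (3440, .gen 1728 (209, false)),
    (1388, .gen 1728 (209, true)),
    (2826, .gen 3782 (209, false)),
    (1811, .gen 739 (209, true)),
    (2222, .gen 1040 (203, false)),
    (789, .gen 1040 (209, false)),
    (2803, .gen 1040 (209, true)),
    (3521, .gen 3162 (209, true)),
    (3344, .gen 2699 (202, false)),
    (377, .gen 2699 (209, false)),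
    (2279, .gen 3073 (203, false)),
    (3005, .gen 3073 (209, false)),
    (1066, .gen 3073 (209, true)),
    (2150, .gen 2274 (209, false)),
    (1278, .gen 3561 (202, false)),
    (1870, .gen 3561 (202, true)),
    (3500, .gen 3561 (209, false)),
    (1243, .gen 3561 (209, true)),
    (335, .gen 2372 (202, false)),
    (1448, .gen 2372 (209, false)),
    (2469, .gen 543 (209, true)),
    (1142, .gen 158 (202, false)),
    (1182, .gen 158 (202, true)),
    (494, .gen 158 (209, false)),
    (2697, .gen 158 (209, true)),
    (1007, .gen 3674 (209, false)),
    (2146, .gen 3012 (209, true)),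
    (1817, .gen 3366 (203, false)),
    (795, .gen 3366 (209, false)),
    (1816, .gen 3366 (209, true)),
    (199, .gen 3786 (209, true)),
    (1899, .gen 1245 (202, false)),
    (3686, .gen 1245 (209, false)),
    (1715, .gen 3271 (203, false)),
    (2452, .gen 3271 (209, false)),
    (3406, .gen 3271 (209, true)),
    (1457, .gen 1703 (209, false)),
    (1497, .gen 3489 (202, false)),
    (1205, .gen 3489 (202, true)),
    (3559, .gen 3489 (209, false)),
    (553, .gen 3489 (209, true)),
    (3305, .gen 3603 (202, false)),
    (3209, .gen 3603 (209, false)),
    (1051, .gen 1341 (209, true)),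
    (1036, .gen 2598 (202, false)),
    (2200, .gen 2598 (202, true)),
    (433, .gen 2598 (209, false)),
    (3664, .gen 2598 (209, true)),
    (351, .gen 2514 (209, false)),
    (3255, .gen 2516 (209, true)),
    (2927, .gen 2907 (203, false)),
    (3272, .gen 2907 (209, false)),
    (1788, .gen 2907 (209, true)),
    (3474, .gen 1293 (209, true)),
    (2331, .gen 2767 (202, false)),
    (2322, .gen 2767 (209, false)),
    (103, .gen 2375 (203, false)),
    (696, .gen 2375 (209, false)),
    (2502, .gen 2375 (209, true)),
    (1017, .gen 2073 (209, false)),
    (3576, .gen 3237 (202, false)),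
    (2176, .gen 3237 (202, true)),
    (829, .gen 3237 (209, false)),
    (2787, .gen 3237 (209, true)),
    (47, .gen 1147 (202, false)),
    (1020, .gen 1147 (209, false)),
    (3564, .gen 1047 (209, true)),
    (2491, .gen 1987 (202, false)),
    (2049, .gen 1987 (202, true)),
    (2953, .gen 1987 (209, false)),
    (3634, .gen 1987 (209, true)),
    (1871, .gen 3441 (209, false)),
    (1337, .gen 3515 (209, true)),
    (3168, .gen 2495 (203, false)),
    (3710, .gen 2495 (209, false)),
    (269, .gen 2495 (209, true)),
    (1733, .gen 2194 (209, true)),
    (1608, .gen 2761 (202, false)),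
    (2214, .gen 2761 (209, false)),
    (2210, .gen 1790 (203, false)),
    (2034, .gen 1790 (209, false)),
    (1714, .gen 1790 (209, true)),
    (3019, .gen 391 (209, false)),
    (1453, .gen 510 (202, false)),
    (409, .gen 510 (202, true)),
    (1140, .gen 510 (209, false)),
    (3250, .gen 510 (209, true)),
    (2693, .gen 1630 (202, false)),
    (3216, .gen 1630 (209, false)),
    (2712, .gen 1222 (209, true)),
    (1926, .gen 247 (202, false)),
    (835, .gen 247 (202, true)),
    (2273, .gen 247 (209, false)),
    (3282, .gen 247 (209, true)),
    (1022, .gen 2626 (209, false)),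
    (2278, .gen 3320 (209, true)),
    (776, .gen 866 (203, false)),
    (1980, .gen 866 (209, false)),
    (2188, .gen 866 (209, true)),
    (2160, .gen 248 (209, true)),
    (3219, .gen 2062 (202, false)),
    (1609, .gen 2062 (209, false)),
    (3583, .gen 1677 (203, false)),
    (1174, .gen 1677 (209, false)),
    (2651, .gen 1677 (209, true)),
    (1495, .gen 67 (209, false)),
    (909, .gen 3069 (209, false)),
    (1662, .gen 3069 (209, true)),
    (3675, .gen 2134 (209, true)),
    (2537, .gen 2496 (209, true)),
    (2441, .gen 903 (209, false)),
    (231, .gen 621 (209, true)),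
    (1943, .gen 645 (209, false)),
    (3525, .gen 3369 (209, false)),
    (3700, .gen 5 (209, false)),
    (355, .gen 3565 (209, false)),
    (1190, .gen 1668 (209, true)),
    (3289, .gen 1596 (209, false)),
    (3067, .gen 1263 (209, false)),
    (1127, .gen 3781 (209, false)),
    (3396, .gen 3429 (209, false)),
    (439, .gen 115 (209, true)),
    (2018, .gen 3151 (209, false)),
    (2597, .gen 1681 (209, false)),
    (1560, .gen 418 (209, false)),
    (2044, .gen 3285 (209, false)),
    (3757, .gen 506 (209, true)),
    (3233, .gen 1756 (209, false)),
    (2677, .gen 2355 (209, false)),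
    (148, .gen 2931 (209, false)),
    (2183, .gen 267 (209, false)),
    (1743, .gen 777 (209, false)),
    (1908, .gen 3147 (209, false)),
    (516, .gen 2423 (209, true)),
    (1769, .gen 2100 (209, false)),
    (3736, .gen 1883 (209, false)),
    (1138, .gen 3469 (209, false)),
    (1861, .gen 3447 (209, false)),
    (2906, .gen 3399 (209, false)),
    (514, .gen 3022 (209, false)),
    (2127, .gen 3392 (209, true)),
    (2525, .gen 3600 (209, true)),
    (24, .gen 2691 (209, false)),
    (1291, .gen 1983 (209, false)),
    (2048, .gen 2309 (209, false)),
    (640, .gen 1163 (209, false)),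
    (3213, .gen 1518 (209, true)),
    (2186, .gen 2799 (209, false)),
    (1782, .gen 1828 (209, false)),
    (3456, .gen 2527 (209, false)),
    (1295, .gen 2296 (209, false)),
    (642, .gen 832 (209, true)),
    (755, .gen 898 (209, false)),
    (93, .gen 336 (209, false)),
    (44, .gen 2611 (209, false)),
    (599, .gen 1763 (209, false)),
    (1754, .gen 222 (209, true)),
    (145, .gen 2924 (209, false)),
    (1284, .gen 1197 (209, false)),
    (320, .gen 443 (209, false)),
    (806, .gen 1164 (209, false)),
    (1299, .gen 1156 (209, false)),
    (3343, .gen 2130 (209, true)),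
    (1992, .gen 2435 (209, false)),
    (2404, .gen 2017 (209, false)),
    (712, .gen 3075 (209, false)),
    (668, .gen 2140 (209, false)),
    (1496, .gen 2747 (209, true)),
    (183, .gen 766 (209, false)),
    (3651, .gen 2521 (209, false)),
    (2958, .gen 2216 (209, false)),
    (403, .gen 1898 (209, false)),
    (381, .gen 1403 (209, true)),
    (309, .gen 1120 (209, false)),
    (2280, .gen 591 (209, false)),
    (1469, .gen 476 (209, false)),
    (3449, .gen 2986 (209, false)),
    (1124, .gen 236 (209, false)),
    (1603, .gen 2055 (209, true)),
    (2854, .gen 3753 (209, false)),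
    (2333, .gen 2771 (209, false)),
    (3311, .gen 1846 (209, false)),
    (2724, .gen 1010 (209, false)),
    (2299, .gen 1786 (209, true)),
    (2503, .gen 3148 (209, false)),
    (275, .gen 643 (209, false)),
    (2504, .gen 565 (209, false)),
    (105, .gen 1900 (209, false)),
    (118, .gen 702 (209, true)),
    (264, .gen 2026 (209, false)),
    (2393, .gen 1956 (209, false)),
    (60, .gen 203 (209, false)),
    (121, .gen 190 (209, false)),
    (2252, .gen 2934 (209, true)),
    (771, .gen 2320 (209, false)),
    (3636, .gen 1787 (209, false)),
    (2415, .gen 2960 (209, false)),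
    (715, .gen 1612 (209, false)),
    (3385, .gen 1045 (209, false)),
    (1964, .gen 1974 (209, false)),
    (3516, .gen 1246 (209, false)),
    (3522, .gen 1930 (209, false)),
    (638, .gen 3319 (209, true)),
    (846, .gen 1380 (209, false)),
    (1107, .gen 1330 (209, false)),
    (2334, .gen 2824 (209, false)),
    (1634, .gen 3772 (209, false)),
    (669, .gen 173 (209, true)),
    (1347, .gen 2009 (209, false)),
    (2802, .gen 3093 (209, false)),
    (2679, .gen 3145 (209, false)),
    (2590, .gen 3714 (209, false)),
    (232, .gen 2543 (209, true)),
    (1708, .gen 417 (209, false))]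

/-- Visits. -/
def v14_12 : List (ℕ × Src) :=
  [(880, .gen 216 (209, false)),
    (2578, .gen 1528 (209, false)),
    (3185, .gen 2390 (209, false)),
    (2995, .gen 1069 (209, true)),
    (1344, .gen 2235 (209, false)),
    (2340, .gen 2605 (209, false)),
    (258, .gen 34 (209, false)),
    (365, .gen 1275 (209, false)),
    (534, .gen 2547 (209, true)),
    (2922, .gen 2196 (209, false)),
    (770, .gen 1276 (209, false)),
    (3326, .gen 3499 (209, false)),
    (179, .gen 2128 (209, false)),
    (1797, .gen 3140 (209, true)),
    (3557, .gen 2152 (209, false)),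
    (33, .gen 1316 (209, false)),
    (1449, .gen 2234 (209, false)),
    (473, .gen 2913 (209, false)),
    (3297, .gen 457 (209, true)),
    (1180, .gen 883 (209, false)),
    (407, .gen 2541 (209, false)),
    (3013, .gen 1475 (209, false)),
    (1779, .gen 707 (209, false)),
    (3704, .gen 1479 (209, false)),
    (3054, .gen 2370 (209, false)),
    (1500, .gen 632 (209, true)),
    (2827, .gen 3393 (209, false)),
    (764, .gen 3517 (209, false)),
    (2167, .gen 2658 (209, false)),
    (512, .gen 851 (209, false)),
    (713, .gen 972 (209, true)),
    (2036, .gen 3733 (209, false)),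
    (2289, .gen 2212 (209, false)),
    (3095, .gen 3434 (209, false)),
    (2233, .gen 3542 (209, false)),
    (2293, .gen 1397 (209, true)),
    (2781, .gen 2255 (209, false)),
    (1210, .gen 2940 (209, false)),
    (2367, .gen 2478 (209, false)),
    (729, .gen 1250 (209, false)),
    (633, .gen 1361 (209, true)),
    (1391, .gen 2464 (209, false)),
    (3090, .gen 1389 (209, false)),
    (2623, .gen 1259 (209, false)),
    (2777, .gen 3642 (209, false)),
    (2663, .gen 2193 (209, true)),
    (2438, .gen 1072 (209, false)),
    (3332, .gen 1963 (209, false)),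
    (3295, .gen 744 (209, false)),
    (3123, .gen 2067 (209, false)),
    (870, .gen 1298 (209, true)),
    (18, .gen 2082 (209, false)),
    (692, .gen 1830 (209, false)),
    (3355, .gen 1415 (209, false)),
    (650, .gen 797 (209, false)),
    (2798, .gen 1994 (209, true)),
    (1602, .gen 2956 (209, false)),
    (2169, .gen 2535 (209, false)),
    (1745, .gen 400 (209, false)),
    (420, .gen 2576 (209, false)),
    (2425, .gen 1969 (209, true)),
    (193, .gen 3660 (209, false)),
    (1082, .gen 3777 (209, false)),
    (1011, .gen 1367 (209, false)),
    (1006, .gen 429 (209, false)),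
    (3134, .gen 1311 (209, true)),
    (3713, .gen 2069 (209, false)),
    (1149, .gen 31 (209, false)),
    (2520, .gen 1303 (209, false)),
    (3122, .gen 3135 (209, false)),
    (3218, .gen 1993 (209, true)),
    (3334, .gen 2834 (209, false)),
    (2104, .gen 367 (209, false)),
    (716, .gen 567 (209, false)),
    (2709, .gen 3442 (209, false)),
    (2921, .gen 127 (209, true)),
    (85, .gen 2819 (209, false)),
    (1354, .gen 1503 (209, false)),
    (1129, .gen 1393 (209, false)),
    (1553, .gen 686 (209, false)),
    (682, .gen 330 (209, true)),
    (535, .gen 831 (209, false)),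
    (2566, .gen 2898 (209, false)),
    (3418, .gen 1758 (209, false)),
    (975, .gen 435 (209, false)),
    (1574, .gen 2203 (209, true)),
    (1868, .gen 2987 (209, false)),
    (3157, .gen 511 (209, false)),
    (1420, .gen 3529 (209, false)),
    (3003, .gen 1809 (209, false)),
    (634, .gen 146 (209, true)),
    (3006, .gen 624 (209, false)),
    (1657, .gen 921 (209, false)),
    (2879, .gen 202 (209, false)),
    (74, .gen 578 (209, false)),
    (2395, .gen 598 (209, true)),
    (3104, .gen 2410 (209, false)),
    (3345, .gen 422 (209, false)),
    (1075, .gen 2530 (209, false)),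
    (1793, .gen 345 (209, false)),
    (3307, .gen 3587 (209, true)),
    (228, .gen 2494 (209, false)),
    (1576, .gen 1202 (209, false)),
    (2294, .gen 2910 (209, false)),
    (2950, .gen 1655 (209, false)),
    (2825, .gen 1251 (209, true)),
    (563, .gen 1027 (209, false)),
    (3376, .gen 714 (209, false)),
    (1709, .gen 2377 (209, false)),
    (168, .gen 2010 (209, false)),
    (167, .gen 141 (209, true)),
    (1309, .gen 2312 (209, false)),
    (3116, .gen 1117 (209, false)),
    (504, .gen 304 (209, false)),
    (246, .gen 1312 (209, false)),
    (1784, .gen 596 (209, true)),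
    (1152, .gen 349 (209, false)),
    (2544, .gen 294 (209, false)),
    (401, .gen 814 (209, false)),
    (3198, .gen 2406 (209, false)),
    (1014, .gen 342 (209, true)),
    (3143, .gen 757 (209, false)),
    (1087, .gen 3613 (209, false)),
    (2694, .gen 3395 (209, false)),
    (2292, .gen 1625 (209, false)),
    (1280, .gen 3141 (209, true)),
    (1454, .gen 2884 (209, false)),
    (1238, .gen 2300 (209, false)),
    (3480, .gen 1586 (209, false)),
    (566, .gen 1902 (209, false)),
    (2916, .gen 3325 (209, true)),
    (2302, .gen 253 (209, false)),
    (2553, .gen 3464 (209, false)),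
    (80, .gen 2207 (209, false)),
    (2511, .gen 3496 (209, false)),
    (3665, .gen 958 (209, true)),
    (1288, .gen 1333 (209, false)),
    (1658, .gen 3375 (209, false)),
    (2458, .gen 2738 (209, false)),
    (2397, .gen 3606 (209, false)),
    (2506, .gen 980 (209, true)),
    (242, .gen 1892 (209, false)),
    (2209, .gen 2978 (209, false)),
    (2981, .gen 376 (209, false)),
    (289, .gen 2719 (209, false)),
    (2895, .gen 101 (209, true)),
    (62, .gen 2830 (209, false)),
    (3166, .gen 63 (209, false)),
    (2613, .gen 2861 (209, false)),
    (160, .gen 3739 (209, false)),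
    (3009, .gen 813 (209, true)),
    (3751, .gen 1932 (209, false)),
    (1851, .gen 2323 (209, false)),
    (1894, .gen 2847 (209, false)),
    (2060, .gen 858 (209, false)),
    (1193, .gen 2079 (209, true)),
    (1557, .gen 1271 (209, false)),
    (352, .gen 1204 (209, false)),
    (3528, .gen 3748 (209, false)),
    (39, .gen 2021 (209, false)),
    (1151, .gen 3238 (209, true)),
    (3280, .gen 526 (209, false)),
    (928, .gen 482 (209, false)),
    (3039, .gen 210 (209, false)),
    (2360, .gen 732 (209, false)),
    (3614, .gen 354 (209, true)),
    (2684, .gen 1544 (209, false)),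
    (72, .gen 3560 (209, false)),
    (2672, .gen 1881 (209, false)),
    (3085, .gen 2306 (209, false)),
    (3698, .gen 911 (209, true)),
    (2283, .gen 2759 (209, false)),
    (587, .gen 2599 (209, false)),
    (2964, .gen 3440 (209, false)),
    (1373, .gen 2826 (209, false)),
    (2744, .gen 1870 (209, true)),
    (461, .gen 3500 (209, false)),
    (2141, .gen 1448 (209, false)),
    (3766, .gen 494 (209, false)),
    (2928, .gen 1007 (209, false)),
    (1161, .gen 1205 (209, true)),
    (149, .gen 3559 (209, false)),
    (2632, .gen 3209 (209, false)),
    (2926, .gen 433 (209, false)),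
    (2254, .gen 351 (209, false)),
    (2736, .gen 2176 (209, true)),
    (272, .gen 829 (209, false)),
    (1837, .gen 1020 (209, false)),
    (2548, .gen 2953 (209, false)),
    (2454, .gen 1871 (209, false)),
    (1807, .gen 409 (209, true)),
    (590, .gen 1140 (209, false)),
    (2889, .gen 3216 (209, false)),
    (2800, .gen 2273 (209, false)),
    (2608, .gen 1022 (209, false))]

/-- The visits of node 14. -/
def visits14 : List (ℕ × Src) :=
  v14_0 ++ v14_1 ++ v14_2 ++ v14_3 ++ v14_4 ++ v14_5 ++ v14_6 ++ v14_7 ++ v14_8 ++ v14_9 ++ v14_10 ++ v14_11 ++ v14_12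

/-- Visits. -/
def v15_0 : List (ℕ × Src) :=
  [(56, .edge 249 true),
    (1412, .edge 253 true),
    (649, .edge 256 false),
    (2275, .edge 257 false),
    (315, .edge 258 false),
    (540, .edge 259 false),
    (1748, .edge 260 true),
    (3723, .edge 261 false),
    (1083, .edge 261 true),
    (520, .edge 262 false),
    (345, .edge 263 false),
    (895, .edge 264 true),
    (2108, .edge 265 false),
    (2241, .edge 265 true),
    (2853, .edge 266 false),
    (248, .edge 266 true),
    (48, .edge 267 false),
    (119, .edge 268 false),
    (245, .edge 269 false),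
    (2256, .edge 270 true),
    (1613, .edge 271 false),
    (2522, .edge 272 false),
    (2777, .edge 272 true),
    (214, .edge 273 true),
    (2005, .edge 274 true),
    (1400, .edge 275 false),
    (272, .edge 276 true),
    (723, .edge 277 false),
    (1936, .edge 277 true),
    (314, .edge 278 false),
    (2056, .edge 279 false),
    (1918, .edge 280 false),
    (683, .edge 281 false),
    (365, .edge 282 false),
    (1018, .edge 283 false),
    (1794, .edge 284 true),
    (334, .edge 285 false),
    (771, .edge 286 false),
    (2182, .edge 287 true),
    (2881, .edge 288 true),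
    (2679, .edge 289 false),
    (2307, .edge 290 false),
    (3356, .edge 291 false),
    (1329, .edge 292 false),
    (2125, .edge 293 true),
    (238, .edge 294 false),
    (1651, .edge 295 false),
    (1891, .edge 295 true),
    (1110, .edge 296 false),
    (2738, .edge 297 false),
    (291, .edge 297 true),
    (376, .edge 298 false),
    (3505, .edge 299 false),
    (1394, .edge 299 true),
    (498, .edge 300 false),
    (1642, .edge 301 false),
    (360, .edge 301 true),
    (3422, .edge 302 false),
    (3495, .edge 302 true),
    (3486, .edge 303 false),
    (3066, .edge 303 true),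
    (3445, .edge 304 false),
    (1913, .edge 305 true),
    (961, .edge 306 true),
    (1223, .edge 307 true),
    (2181, .edge 308 false),
    (2837, .edge 309 false),
    (534, .edge 309 true),
    (1514, .edge 310 false),
    (34, .edge 311 false),
    (1963, .edge 311 true),
    (2610, .edge 312 false),
    (1031, .edge 347 false),
    (3138, .edge 348 false),
    (2160, .edge 355 false),
    (1971, .edge 356 true),
    (545, .edge 358 true),
    (659, .edge 359 true),
    (3537, .edge 360 false),
    (3142, .edge 361 true),
    (2986, .edge 362 false),
    (3294, .edge 363 true),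
    (3604, .edge 364 true),
    (2945, .edge 366 false),
    (467, .edge 403 false),
    (138, .edge 409 false),
    (1297, .edge 430 false),
    (435, .edge 431 false),
    (2659, .edge 433 false),
    (636, .edge 444 true),
    (2975, .edge 459 false),
    (626, .edge 471 true),
    (203, .edge 473 true),
    (2269, .edge 477 false),
    (2635, .edge 577 true),
    (1459, .edge 609 false),
    (2301, .edge 610 false),
    (3272, .edge 623 false),
    (1057, .edge 635 false),
    (697, .edge 661 true),
    (484, .edge 662 true),
    (3276, .edge 665 false),
    (3343, .edge 681 false),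
    (1552, .edge 684 true),
    (3779, .edge 697 true),
    (2420, .edge 699 true),
    (1272, .edge 714 true),
    (1888, .edge 726 true),
    (3201, .edge 731 true),
    (2646, .edge 733 true),
    (2732, .edge 735 true),
    (130, .edge 744 true),
    (3037, .edge 750 false),
    (1718, .edge 751 false),
    (737, .edge 754 false),
    (134, .edge 760 true),
    (3011, .edge 780 true),
    (457, .edge 781 true),
    (1702, .edge 784 true),
    (60, .edge 801 true),
    (1336, .edge 1086 true),
    (2278, .edge 1120 true),
    (2630, .edge 1198 true),
    (1424, .edge 1216 true),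
    (2990, .edge 1233 true),
    (1429, .edge 1274 true),
    (3497, .edge 1312 false),
    (3401, .edge 1313 false),
    (1749, .edge 1314 false),
    (2294, .edge 1315 true),
    (2265, .edge 1358 true),
    (2334, .edge 1373 true),
    (2371, .edge 1375 true),
    (1709, .edge 1381 true),
    (2956, .edge 1383 true),
    (590, .edge 1388 true),
    (1116, .edge 1391 true),
    (2290, .edge 1392 true),
    (2775, .edge 1409 true),
    (641, .edge 1410 true),
    (1284, .edge 1413 false),
    (3152, .edge 1414 false),
    (1091, .edge 1415 false),
    (833, .edge 1416 false),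
    (2438, .edge 1417 false),
    (408, .edge 1418 false),
    (1105, .edge 1419 false),
    (770, .edge 1482 true),
    (1777, .edge 1483 true),
    (1758, .edge 1484 true),
    (352, .edge 1491 true),
    (497, .edge 1501 true),
    (2223, .edge 1503 false),
    (2060, .edge 1508 true),
    (1533, .edge 1517 true),
    (204, .edge 1524 false),
    (1518, .edge 1525 false),
    (2698, .edge 1574 true),
    (2239, .edge 1575 true),
    (2412, .edge 1607 true),
    (3261, .edge 1623 true),
    (223, .edge 1636 true),
    (2937, .edge 1641 true),
    (2882, .edge 1647 false),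
    (1829, .edge 1662 true),
    (3465, .edge 1668 true),
    (3689, .edge 1676 true),
    (3315, .edge 1679 true),
    (3121, .edge 1681 true),
    (1994, .edge 1694 true),
    (986, .edge 1709 true),
    (1003, .edge 1738 true),
    (2210, .edge 1751 false),
    (3044, .edge 1752 false),
    (3342, .edge 1756 true),
    (2617, .edge 1792 true),
    (469, .edge 1812 true),
    (630, .edge 1818 true),
    (817, .gen 56 (254, false)),
    (679, .gen 56 (255, false)),
    (1364, .gen 1412 (250, false)),
    (9, .gen 1412 (251, false)),
    (584, .gen 1412 (252, false)),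
    (234, .gen 1412 (255, false)),
    (547, .gen 1412 (255, true)),
    (423, .gen 540 (250, false)),
    (712, .gen 540 (254, false)),
    (960, .gen 540 (255, false)),
    (3052, .gen 1748 (250, false)),
    (2537, .gen 1748 (251, false)),
    (3008, .gen 1748 (252, false)),
    (852, .gen 1748 (254, false)),
    (906, .gen 1748 (255, false)),
    (2816, .gen 1748 (255, true)),
    (3287, .gen 3723 (250, false)),
    (54, .gen 3723 (251, false)),
    (2840, .gen 3723 (252, false)),
    (1960, .gen 3723 (254, false)),
    (413, .gen 3723 (255, false)),
    (216, .gen 3723 (255, true)),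
    (1198, .gen 1083 (250, false)),
    (1790, .gen 1083 (251, false)),
    (2272, .gen 1083 (252, false)),
    (3051, .gen 1083 (254, false)),
    (1285, .gen 1083 (255, false)),
    (459, .gen 1083 (255, true)),
    (1046, .gen 520 (250, false)),
    (444, .gen 520 (251, false)),
    (1837, .gen 520 (252, false)),
    (2242, .gen 520 (254, false)),
    (31, .gen 520 (255, false)),
    (1927, .gen 520 (255, true)),
    (1024, .gen 345 (250, false)),
    (1064, .gen 345 (251, false)),
    (940, .gen 345 (255, false)),
    (700, .gen 345 (255, true)),
    (872, .gen 895 (251, false)),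
    (2623, .gen 895 (252, false)),
    (1244, .gen 895 (254, false)),
    (1311, .gen 895 (255, false)),
    (2626, .gen 895 (255, true)),
    (145, .gen 2108 (250, false)),
    (615, .gen 2108 (255, true)),
    (1042, .gen 2853 (250, false)),
    (765, .gen 2853 (255, false)),
    (58, .gen 48 (255, false)),
    (149, .gen 119 (255, false)),
    (3082, .gen 245 (250, false)),
    (1568, .gen 245 (251, false)),
    (2437, .gen 245 (252, false)),
    (2441, .gen 245 (254, false)),
    (99, .gen 245 (255, false)),
    (3106, .gen 245 (255, true)),
    (759, .gen 2256 (250, false)),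
    (3234, .gen 2256 (251, false)),
    (3159, .gen 2256 (252, false)),
    (939, .gen 2256 (254, false)),
    (2225, .gen 2256 (255, false)),
    (2931, .gen 2256 (255, true)),
    (2890, .gen 1613 (250, false)),
    (3734, .gen 1613 (251, false)),
    (3207, .gen 1613 (252, false)),
    (3389, .gen 1613 (254, false)),
    (52, .gen 1613 (255, false)),
    (2987, .gen 1613 (255, true)),
    (2714, .gen 2522 (250, false)),
    (2859, .gen 2522 (251, false)),
    (1290, .gen 2522 (252, false)),
    (3714, .gen 2522 (254, false)),
    (3749, .gen 2522 (255, false)),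
    (631, .gen 2522 (255, true)),
    (2229, .gen 2777 (255, false)),
    (3781, .gen 2777 (255, true)),
    (2597, .gen 214 (250, false)),
    (2098, .gen 214 (251, false)),
    (2856, .gen 214 (255, false)),
    (1634, .gen 214 (255, true)),
    (1073, .gen 2005 (250, false)),
    (451, .gen 2005 (251, false)),
    (1814, .gen 2005 (255, false)),
    (17, .gen 2005 (255, true)),
    (2545, .gen 1400 (250, false)),
    (809, .gen 1400 (252, false)),
    (881, .gen 1400 (254, false)),
    (1081, .gen 272 (250, false)),
    (109, .gen 272 (255, false)),
    (1560, .gen 723 (251, false)),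
    (511, .gen 723 (254, false)),
    (1785, .gen 723 (255, false)),
    (1314, .gen 723 (255, true)),
    (1525, .gen 1936 (250, false)),
    (2868, .gen 1936 (252, false)),
    (581, .gen 1936 (255, false)),
    (735, .gen 1936 (255, true)),
    (1126, .gen 314 (250, false)),
    (1279, .gen 314 (251, false)),
    (2823, .gen 314 (252, false)),
    (3626, .gen 314 (254, false)),
    (1263, .gen 314 (255, false)),
    (111, .gen 314 (255, true)),
    (3381, .gen 1918 (255, false)),
    (81, .gen 683 (250, false)),
    (2642, .gen 683 (255, false)),
    (3346, .gen 683 (255, true)),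
    (776, .gen 365 (254, false)),
    (1177, .gen 365 (255, false)),
    (1426, .gen 1018 (250, false)),
    (1243, .gen 1018 (255, false)),
    (229, .gen 1018 (255, true)),
    (891, .gen 1794 (250, false)),
    (1128, .gen 1794 (251, false)),
    (2220, .gen 1794 (254, false)),
    (1414, .gen 1794 (255, false)),
    (2414, .gen 1794 (255, true)),
    (812, .gen 334 (254, false)),
    (1673, .gen 771 (251, false)),
    (391, .gen 771 (252, false)),
    (1310, .gen 771 (255, false)),
    (1023, .gen 771 (255, true)),
    (2066, .gen 2182 (250, false))]

/-- Visits. -/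
def v15_1 : List (ℕ × Src) :=
  [(276, .gen 2182 (255, false)),
    (2835, .gen 2881 (250, false)),
    (295, .gen 2881 (251, false)),
    (304, .gen 2881 (252, false)),
    (1564, .gen 2881 (254, false)),
    (3204, .gen 2881 (255, false)),
    (2038, .gen 2881 (255, true)),
    (361, .gen 2679 (250, false)),
    (432, .gen 2679 (251, false)),
    (720, .gen 2679 (252, false)),
    (3301, .gen 2679 (254, false)),
    (2963, .gen 2679 (255, false)),
    (3502, .gen 2679 (255, true)),
    (719, .gen 2307 (250, false)),
    (313, .gen 2307 (251, false)),
    (450, .gen 2307 (252, false)),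
    (70, .gen 2307 (254, false)),
    (2757, .gen 2307 (255, false)),
    (1461, .gen 2307 (255, true)),
    (1472, .gen 3356 (250, false)),
    (3337, .gen 3356 (251, false)),
    (1940, .gen 3356 (252, false)),
    (949, .gen 3356 (254, false)),
    (2877, .gen 3356 (255, false)),
    (2350, .gen 3356 (255, true)),
    (941, .gen 1329 (252, false)),
    (763, .gen 1329 (254, false)),
    (879, .gen 1329 (255, false)),
    (1213, .gen 2125 (250, false)),
    (263, .gen 2125 (251, false)),
    (2109, .gen 2125 (255, false)),
    (153, .gen 2125 (255, true)),
    (647, .gen 1651 (250, false)),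
    (953, .gen 1651 (251, false)),
    (3012, .gen 1651 (255, false)),
    (1315, .gen 1651 (255, true)),
    (2430, .gen 1891 (251, false)),
    (912, .gen 1891 (252, false)),
    (835, .gen 1891 (255, false)),
    (102, .gen 1891 (255, true)),
    (910, .gen 1110 (255, false)),
    (2305, .gen 2738 (251, false)),
    (2995, .gen 2738 (255, false)),
    (936, .gen 2738 (255, true)),
    (2737, .gen 291 (251, false)),
    (1112, .gen 291 (255, false)),
    (2153, .gen 291 (255, true)),
    (218, .gen 3505 (250, false)),
    (273, .gen 3505 (252, false)),
    (310, .gen 3505 (255, false)),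
    (2240, .gen 3505 (255, true)),
    (470, .gen 1394 (250, false)),
    (461, .gen 1394 (255, true)),
    (1603, .gen 3422 (250, false)),
    (1540, .gen 3422 (251, false)),
    (1291, .gen 3422 (252, false)),
    (1010, .gen 3422 (254, false)),
    (2207, .gen 3422 (255, false)),
    (518, .gen 3422 (255, true)),
    (3461, .gen 3495 (250, false)),
    (1406, .gen 3495 (251, false)),
    (2070, .gen 3495 (252, false)),
    (3760, .gen 3495 (255, false)),
    (3161, .gen 3495 (255, true)),
    (2818, .gen 3486 (250, false)),
    (2824, .gen 3486 (252, false)),
    (1450, .gen 3066 (250, false)),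
    (2901, .gen 3066 (252, false)),
    (3390, .gen 3445 (250, false)),
    (3410, .gen 3445 (252, false)),
    (1910, .gen 3445 (255, false)),
    (1701, .gen 3445 (255, true)),
    (449, .gen 1913 (250, false)),
    (2825, .gen 1913 (251, false)),
    (1841, .gen 1913 (252, false)),
    (241, .gen 1913 (255, false)),
    (2445, .gen 1913 (255, true)),
    (904, .gen 961 (250, false)),
    (2614, .gen 961 (252, false)),
    (2, .gen 961 (255, false)),
    (557, .gen 1223 (250, false)),
    (1825, .gen 1223 (251, false)),
    (2064, .gen 1223 (252, false)),
    (922, .gen 1223 (254, false)),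
    (3618, .gen 1223 (255, false)),
    (832, .gen 1223 (255, true)),
    (1802, .gen 2181 (250, false)),
    (1226, .gen 2181 (251, false)),
    (1779, .gen 2181 (255, false)),
    (2768, .gen 2181 (255, true)),
    (1433, .gen 2837 (250, false)),
    (1212, .gen 2837 (251, false)),
    (2167, .gen 2837 (252, false)),
    (1067, .gen 2837 (254, false)),
    (3059, .gen 2837 (255, false)),
    (3759, .gen 2837 (255, true)),
    (2932, .gen 534 (250, false)),
    (3768, .gen 534 (254, false)),
    (2996, .gen 534 (255, false)),
    (506, .gen 534 (255, true)),
    (1012, .gen 1514 (251, false)),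
    (1708, .gen 1514 (254, false)),
    (3248, .gen 1514 (255, false)),
    (2665, .gen 1514 (255, true)),
    (563, .gen 34 (250, false)),
    (2339, .gen 34 (251, false)),
    (3385, .gen 34 (252, false)),
    (2333, .gen 34 (254, false)),
    (2459, .gen 34 (255, false)),
    (733, .gen 34 (255, true)),
    (937, .gen 1963 (250, false)),
    (541, .gen 1963 (251, false)),
    (2688, .gen 1963 (252, false)),
    (447, .gen 1963 (254, false)),
    (2958, .gen 1963 (255, false)),
    (583, .gen 1963 (255, true)),
    (4, .gen 2610 (250, false)),
    (1379, .gen 2610 (251, false)),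
    (2616, .gen 2610 (252, false)),
    (699, .gen 2610 (254, false)),
    (3542, .gen 2610 (255, false)),
    (1323, .gen 2610 (255, true)),
    (2277, .gen 1031 (250, false)),
    (573, .gen 1031 (251, false)),
    (2553, .gen 1031 (252, false)),
    (286, .gen 1031 (254, false)),
    (2547, .gen 1031 (255, false)),
    (1690, .gen 1031 (255, true)),
    (3347, .gen 3138 (250, false)),
    (655, .gen 3138 (251, false)),
    (2112, .gen 3138 (252, false)),
    (1537, .gen 3138 (254, false)),
    (918, .gen 3138 (255, false)),
    (2407, .gen 3138 (255, true)),
    (967, .gen 2160 (250, false)),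
    (3715, .gen 2160 (251, false)),
    (1262, .gen 2160 (252, false)),
    (3552, .gen 2160 (254, false)),
    (3487, .gen 2160 (255, false)),
    (3256, .gen 2160 (255, true)),
    (2703, .gen 1971 (250, false)),
    (2778, .gen 1971 (251, false)),
    (404, .gen 1971 (252, false)),
    (3293, .gen 1971 (254, false)),
    (473, .gen 1971 (255, false)),
    (2710, .gen 1971 (255, true)),
    (3404, .gen 545 (250, false)),
    (676, .gen 545 (251, false)),
    (3094, .gen 545 (252, false)),
    (2583, .gen 545 (255, false)),
    (2164, .gen 545 (255, true)),
    (308, .gen 659 (250, false)),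
    (566, .gen 659 (251, false)),
    (1090, .gen 659 (252, false)),
    (582, .gen 659 (254, false)),
    (1597, .gen 659 (255, false)),
    (3488, .gen 659 (255, true)),
    (2284, .gen 3537 (250, false)),
    (2721, .gen 3537 (251, false)),
    (2971, .gen 3537 (252, false)),
    (3132, .gen 3537 (254, false)),
    (981, .gen 3537 (255, false)),
    (2607, .gen 3537 (255, true)),
    (1958, .gen 3142 (250, false)),
    (2107, .gen 3142 (251, false)),
    (350, .gen 3142 (252, false)),
    (1510, .gen 3142 (254, false)),
    (1467, .gen 3142 (255, false)),
    (288, .gen 3142 (255, true)),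
    (3399, .gen 2986 (250, false)),
    (2513, .gen 2986 (251, false)),
    (3219, .gen 2986 (252, false)),
    (2179, .gen 2986 (254, false)),
    (3460, .gen 2986 (255, false)),
    (1125, .gen 2986 (255, true)),
    (3021, .gen 3294 (250, false)),
    (3316, .gen 3294 (251, false)),
    (1401, .gen 3294 (252, false)),
    (1686, .gen 3294 (254, false)),
    (3398, .gen 3294 (255, false)),
    (3679, .gen 3294 (255, true)),
    (1188, .gen 3604 (250, false)),
    (3602, .gen 3604 (251, false)),
    (2321, .gen 3604 (252, false)),
    (1656, .gen 3604 (254, false)),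
    (3501, .gen 3604 (255, false)),
    (3560, .gen 3604 (255, true)),
    (3431, .gen 2945 (250, false)),
    (3181, .gen 2945 (251, false)),
    (59, .gen 2945 (252, false)),
    (3322, .gen 2945 (255, false)),
    (2276, .gen 2945 (255, true)),
    (1577, .gen 467 (250, false)),
    (369, .gen 467 (251, false)),
    (607, .gen 467 (252, false)),
    (1266, .gen 467 (254, false)),
    (2695, .gen 467 (255, false)),
    (1305, .gen 467 (255, true)),
    (885, .gen 138 (250, false)),
    (635, .gen 138 (252, false)),
    (420, .gen 138 (254, false)),
    (1713, .gen 1297 (250, false)),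
    (1376, .gen 1297 (252, false)),
    (2981, .gen 1297 (254, false)),
    (3223, .gen 1297 (255, false)),
    (1573, .gen 435 (250, false)),
    (3033, .gen 435 (251, false)),
    (3027, .gen 435 (252, false)),
    (1204, .gen 435 (254, false)),
    (468, .gen 435 (255, false)),
    (827, .gen 435 (255, true)),
    (300, .gen 2659 (250, false)),
    (3683, .gen 2659 (251, false)),
    (3647, .gen 2659 (252, false)),
    (2315, .gen 2659 (254, false)),
    (2898, .gen 2659 (255, false)),
    (2788, .gen 2659 (255, true)),
    (2043, .gen 636 (250, false)),
    (284, .gen 636 (254, false)),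
    (1637, .gen 636 (255, false)),
    (416, .gen 2975 (250, false)),
    (2252, .gen 2975 (251, false)),
    (3580, .gen 2975 (252, false)),
    (3765, .gen 2975 (254, false)),
    (3550, .gen 2975 (255, false)),
    (952, .gen 2975 (255, true)),
    (2517, .gen 626 (250, false)),
    (3721, .gen 626 (251, false)),
    (706, .gen 626 (252, false)),
    (3424, .gen 626 (254, false)),
    (1821, .gen 626 (255, false)),
    (2982, .gen 626 (255, true)),
    (3048, .gen 203 (250, false)),
    (3162, .gen 203 (251, false)),
    (605, .gen 203 (252, false)),
    (3456, .gen 203 (254, false)),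
    (3506, .gen 203 (255, false)),
    (3565, .gen 203 (255, true)),
    (1129, .gen 2269 (250, false)),
    (2552, .gen 2269 (251, false)),
    (718, .gen 2269 (252, false)),
    (1876, .gen 2269 (254, false)),
    (2930, .gen 2269 (255, false)),
    (873, .gen 2269 (255, true)),
    (2510, .gen 2635 (250, false)),
    (1997, .gen 2635 (251, false)),
    (425, .gen 2635 (252, false)),
    (2613, .gen 2635 (254, false)),
    (2601, .gen 2635 (255, false)),
    (2222, .gen 2635 (255, true)),
    (3685, .gen 1459 (250, false)),
    (258, .gen 1459 (251, false)),
    (443, .gen 1459 (252, false)),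
    (495, .gen 1459 (255, false)),
    (1359, .gen 1459 (255, true)),
    (2936, .gen 2301 (250, false)),
    (726, .gen 2301 (251, false)),
    (822, .gen 2301 (252, false)),
    (2493, .gen 2301 (255, false)),
    (788, .gen 2301 (255, true)),
    (3625, .gen 3272 (250, false)),
    (750, .gen 3272 (251, false)),
    (128, .gen 3272 (252, false)),
    (1902, .gen 3272 (254, false)),
    (2393, .gen 3272 (255, false)),
    (1068, .gen 3272 (255, true)),
    (3473, .gen 1057 (250, false)),
    (3009, .gen 1057 (251, false)),
    (1914, .gen 1057 (252, false)),
    (3610, .gen 1057 (254, false)),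
    (996, .gen 1057 (255, false)),
    (3549, .gen 1057 (255, true)),
    (1033, .gen 697 (250, false)),
    (1103, .gen 697 (251, false)),
    (1224, .gen 697 (252, false)),
    (481, .gen 697 (254, false)),
    (593, .gen 697 (255, false)),
    (235, .gen 697 (255, true)),
    (3031, .gen 484 (250, false)),
    (2527, .gen 484 (251, false)),
    (3139, .gen 484 (252, false)),
    (509, .gen 484 (254, false)),
    (1503, .gen 484 (255, false)),
    (1620, .gen 484 (255, true)),
    (599, .gen 3276 (250, false)),
    (3190, .gen 3276 (251, false)),
    (78, .gen 3276 (252, false)),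
    (3592, .gen 3276 (254, false)),
    (2385, .gen 3276 (255, false)),
    (3108, .gen 3276 (255, true)),
    (2645, .gen 3343 (250, false)),
    (1787, .gen 3343 (251, false)),
    (684, .gen 3343 (254, false)),
    (475, .gen 3343 (255, false)),
    (3571, .gen 3343 (255, true)),
    (3163, .gen 1552 (250, false)),
    (643, .gen 1552 (251, false)),
    (1487, .gen 1552 (252, false)),
    (819, .gen 1552 (254, false)),
    (394, .gen 1552 (255, false))]

/-- Visits. -/
def v15_2 : List (ℕ × Src) :=
  [(1877, .gen 1552 (255, true)),
    (329, .gen 3779 (250, false)),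
    (1555, .gen 3779 (251, false)),
    (2014, .gen 3779 (252, false)),
    (2785, .gen 3779 (254, false)),
    (219, .gen 3779 (255, false)),
    (293, .gen 3779 (255, true)),
    (1640, .gen 2420 (250, false)),
    (247, .gen 2420 (251, false)),
    (3430, .gen 2420 (252, false)),
    (1095, .gen 2420 (255, false)),
    (3696, .gen 2420 (255, true)),
    (3793, .gen 1272 (250, false)),
    (3724, .gen 1272 (251, false)),
    (2576, .gen 1272 (252, false)),
    (3702, .gen 1272 (254, false)),
    (1653, .gen 1272 (255, false)),
    (2075, .gen 1272 (255, true)),
    (184, .gen 1888 (250, false)),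
    (2110, .gen 1888 (251, false)),
    (1141, .gen 1888 (252, false)),
    (894, .gen 1888 (254, false)),
    (1137, .gen 1888 (255, false)),
    (1115, .gen 1888 (255, true)),
    (2976, .gen 3201 (250, false)),
    (3484, .gen 3201 (251, false)),
    (1998, .gen 3201 (252, false)),
    (1541, .gen 3201 (254, false)),
    (1030, .gen 3201 (255, false)),
    (702, .gen 3201 (255, true)),
    (920, .gen 2646 (250, false)),
    (101, .gen 2646 (251, false)),
    (3176, .gen 2646 (252, false)),
    (1006, .gen 2646 (254, false)),
    (3306, .gen 2646 (255, false)),
    (1140, .gen 2646 (255, true)),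
    (254, .gen 2732 (250, false)),
    (1570, .gen 2732 (251, false)),
    (2668, .gen 2732 (252, false)),
    (2622, .gen 2732 (254, false)),
    (2067, .gen 2732 (255, false)),
    (472, .gen 2732 (255, true)),
    (648, .gen 130 (250, false)),
    (97, .gen 130 (251, false)),
    (3631, .gen 130 (252, false)),
    (3259, .gen 130 (255, false)),
    (41, .gen 130 (255, true)),
    (2944, .gen 3037 (250, false)),
    (390, .gen 3037 (251, false)),
    (1398, .gen 3037 (252, false)),
    (3092, .gen 3037 (254, false)),
    (2046, .gen 3037 (255, false)),
    (387, .gen 3037 (255, true)),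
    (279, .gen 1718 (250, false)),
    (1251, .gen 1718 (251, false)),
    (1362, .gen 1718 (252, false)),
    (1096, .gen 1718 (254, false)),
    (2523, .gen 1718 (255, false)),
    (2487, .gen 1718 (255, true)),
    (772, .gen 737 (250, false)),
    (3, .gen 737 (251, false)),
    (2627, .gen 737 (252, false)),
    (1627, .gen 737 (254, false)),
    (1447, .gen 737 (255, false)),
    (3114, .gen 737 (255, true)),
    (1241, .gen 134 (250, false)),
    (3590, .gen 134 (251, false)),
    (665, .gen 134 (252, false)),
    (2341, .gen 134 (254, false)),
    (1301, .gen 134 (255, false)),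
    (814, .gen 134 (255, true)),
    (453, .gen 3011 (250, false)),
    (1366, .gen 3011 (251, false)),
    (2691, .gen 3011 (252, false)),
    (1516, .gen 3011 (254, false)),
    (1049, .gen 3011 (255, false)),
    (861, .gen 3011 (255, true)),
    (926, .gen 457 (250, false)),
    (2106, .gen 457 (251, false)),
    (1099, .gen 457 (252, false)),
    (44, .gen 457 (254, false)),
    (532, .gen 457 (255, false)),
    (2854, .gen 457 (255, true)),
    (1693, .gen 1702 (250, false)),
    (3125, .gen 1702 (251, false)),
    (3588, .gen 1702 (252, false)),
    (1499, .gen 1702 (254, false)),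
    (2864, .gen 1702 (255, false)),
    (1444, .gen 1702 (255, true)),
    (2942, .gen 60 (250, false)),
    (1176, .gen 60 (251, false)),
    (3297, .gen 60 (252, false)),
    (364, .gen 60 (254, false)),
    (1873, .gen 60 (255, false)),
    (1728, .gen 60 (255, true)),
    (1215, .gen 1336 (250, false)),
    (3729, .gen 1336 (251, false)),
    (984, .gen 1336 (252, false)),
    (1909, .gen 1336 (254, false)),
    (1377, .gen 1336 (255, false)),
    (3447, .gen 1336 (255, true)),
    (1288, .gen 2278 (250, false)),
    (36, .gen 2278 (251, false)),
    (242, .gen 2278 (252, false)),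
    (165, .gen 2278 (254, false)),
    (1911, .gen 2278 (255, false)),
    (3136, .gen 2278 (255, true)),
    (902, .gen 2630 (250, false)),
    (1857, .gen 2630 (251, false)),
    (3302, .gen 2630 (252, false)),
    (2705, .gen 2630 (254, false)),
    (2059, .gen 2630 (255, false)),
    (3591, .gen 2630 (255, true)),
    (281, .gen 1424 (250, false)),
    (1996, .gen 1424 (251, false)),
    (2144, .gen 1424 (252, false)),
    (325, .gen 1424 (254, false)),
    (3056, .gen 1424 (255, false)),
    (243, .gen 1424 (255, true)),
    (1563, .gen 2990 (250, false)),
    (536, .gen 2990 (251, false)),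
    (3477, .gen 2990 (252, false)),
    (2528, .gen 2990 (254, false)),
    (3313, .gen 2990 (255, false)),
    (1774, .gen 2990 (255, true)),
    (1894, .gen 1429 (250, false)),
    (1727, .gen 1429 (251, false)),
    (1481, .gen 1429 (252, false)),
    (1852, .gen 1429 (254, false)),
    (3417, .gen 1429 (255, false)),
    (1281, .gen 1429 (255, true)),
    (1237, .gen 3497 (250, false)),
    (3084, .gen 3497 (251, false)),
    (3750, .gen 3497 (252, false)),
    (13, .gen 3497 (254, false)),
    (3608, .gen 3497 (255, false)),
    (1820, .gen 3497 (255, true)),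
    (2357, .gen 3401 (250, false)),
    (343, .gen 3401 (251, false)),
    (2593, .gen 3401 (252, false)),
    (1984, .gen 3401 (254, false)),
    (3040, .gen 3401 (255, false)),
    (3532, .gen 3401 (255, true)),
    (3521, .gen 1749 (250, false)),
    (438, .gen 1749 (251, false)),
    (3103, .gen 1749 (252, false)),
    (437, .gen 1749 (254, false)),
    (3120, .gen 1749 (255, false)),
    (2389, .gen 1749 (255, true)),
    (1988, .gen 2294 (250, false)),
    (217, .gen 2294 (251, false)),
    (1542, .gen 2294 (252, false)),
    (197, .gen 2294 (254, false)),
    (2753, .gen 2294 (255, false)),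
    (650, .gen 2294 (255, true)),
    (2784, .gen 2265 (250, false)),
    (2927, .gen 2265 (251, false)),
    (1080, .gen 2265 (252, false)),
    (2792, .gen 2265 (254, false)),
    (62, .gen 2265 (255, false)),
    (1298, .gen 2265 (255, true)),
    (2731, .gen 2334 (250, false)),
    (2171, .gen 2334 (251, false)),
    (3775, .gen 2334 (252, false)),
    (3153, .gen 2334 (254, false)),
    (2316, .gen 2334 (255, false)),
    (3224, .gen 2334 (255, true)),
    (1047, .gen 2371 (250, false)),
    (1921, .gen 2371 (251, false)),
    (3722, .gen 2371 (252, false)),
    (2907, .gen 2371 (254, false)),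
    (1077, .gen 2371 (255, false)),
    (1339, .gen 2371 (255, true)),
    (3237, .gen 1709 (250, false)),
    (3498, .gen 1709 (251, false)),
    (2845, .gen 1709 (252, false)),
    (1294, .gen 1709 (254, false)),
    (3607, .gen 1709 (255, false)),
    (43, .gen 1709 (255, true)),
    (1070, .gen 2956 (250, false)),
    (2197, .gen 2956 (251, false)),
    (1071, .gen 2956 (252, false)),
    (510, .gen 2956 (254, false)),
    (2639, .gen 2956 (255, false)),
    (418, .gen 2956 (255, true)),
    (3678, .gen 590 (250, false)),
    (741, .gen 590 (251, false)),
    (905, .gen 590 (252, false)),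
    (1143, .gen 590 (254, false)),
    (1606, .gen 590 (255, false)),
    (307, .gen 590 (255, true)),
    (514, .gen 1116 (250, false)),
    (2997, .gen 1116 (251, false)),
    (2264, .gen 1116 (252, false)),
    (3748, .gen 1116 (254, false)),
    (864, .gen 1116 (255, false)),
    (2374, .gen 1116 (255, true)),
    (2585, .gen 2290 (250, false)),
    (305, .gen 2290 (251, false)),
    (761, .gen 2290 (252, false)),
    (1546, .gen 2290 (254, false)),
    (3338, .gen 2290 (255, false)),
    (950, .gen 2290 (255, true)),
    (363, .gen 2775 (250, false)),
    (1517, .gen 2775 (251, false)),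
    (1405, .gen 2775 (252, false)),
    (1275, .gen 2775 (254, false)),
    (3202, .gen 2775 (255, false)),
    (565, .gen 2775 (255, true)),
    (231, .gen 641 (250, false)),
    (1299, .gen 641 (251, false)),
    (2719, .gen 641 (252, false)),
    (2314, .gen 641 (254, false)),
    (777, .gen 641 (255, false)),
    (1025, .gen 641 (255, true)),
    (2893, .gen 1284 (250, false)),
    (2876, .gen 1284 (251, false)),
    (1269, .gen 1284 (252, false)),
    (734, .gen 1284 (254, false)),
    (1975, .gen 1284 (255, false)),
    (796, .gen 1284 (255, true)),
    (3558, .gen 3152 (250, false)),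
    (1442, .gen 3152 (251, false)),
    (1959, .gen 3152 (252, false)),
    (2671, .gen 3152 (254, false)),
    (1697, .gen 3152 (255, false)),
    (2974, .gen 3152 (255, true)),
    (767, .gen 1091 (250, false)),
    (2194, .gen 1091 (251, false)),
    (3792, .gen 1091 (252, false)),
    (2625, .gen 1091 (254, false)),
    (2653, .gen 1091 (255, false)),
    (1585, .gen 1091 (255, true)),
    (2025, .gen 833 (250, false)),
    (2383, .gen 833 (251, false)),
    (3363, .gen 833 (252, false)),
    (1133, .gen 833 (254, false)),
    (3377, .gen 833 (255, false)),
    (2131, .gen 833 (255, true)),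
    (980, .gen 2438 (250, false)),
    (2950, .gen 2438 (251, false)),
    (2486, .gen 2438 (252, false)),
    (3733, .gen 2438 (254, false)),
    (3717, .gen 2438 (255, false)),
    (1202, .gen 2438 (255, true)),
    (1924, .gen 408 (250, false)),
    (3441, .gen 408 (251, false)),
    (3123, .gen 408 (252, false)),
    (1402, .gen 408 (254, false)),
    (225, .gen 408 (255, false)),
    (2494, .gen 408 (255, true)),
    (213, .gen 1105 (250, false)),
    (3735, .gen 1105 (251, false)),
    (1443, .gen 1105 (252, false)),
    (1247, .gen 1105 (254, false)),
    (1799, .gen 1105 (255, false)),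
    (2841, .gen 1105 (255, true)),
    (3002, .gen 770 (250, false)),
    (3791, .gen 770 (251, false)),
    (3692, .gen 770 (252, false)),
    (2041, .gen 770 (254, false)),
    (1791, .gen 770 (255, false)),
    (2428, .gen 770 (255, true)),
    (2834, .gen 1777 (250, false)),
    (3183, .gen 1777 (251, false)),
    (1759, .gen 1777 (252, false)),
    (1120, .gen 1777 (254, false)),
    (3126, .gen 1777 (255, false)),
    (965, .gen 1777 (255, true)),
    (2356, .gen 1758 (250, false)),
    (2716, .gen 1758 (251, false)),
    (1850, .gen 1758 (252, false)),
    (2677, .gen 1758 (254, false)),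
    (2172, .gen 1758 (255, false)),
    (2551, .gen 1758 (255, true)),
    (3525, .gen 352 (250, false)),
    (3576, .gen 352 (251, false)),
    (2628, .gen 352 (252, false)),
    (2709, .gen 352 (254, false)),
    (2257, .gen 352 (255, false)),
    (1584, .gen 352 (255, true)),
    (742, .gen 497 (250, false)),
    (3451, .gen 497 (251, false)),
    (2657, .gen 497 (252, false)),
    (2546, .gen 497 (254, false)),
    (1823, .gen 497 (255, false)),
    (1079, .gen 497 (255, true)),
    (57, .gen 2223 (250, false)),
    (161, .gen 2223 (251, false)),
    (2781, .gen 2223 (252, false)),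
    (512, .gen 2223 (254, false)),
    (1373, .gen 2223 (255, false)),
    (289, .gen 2223 (255, true)),
    (2000, .gen 2060 (250, false)),
    (83, .gen 2060 (251, false)),
    (3668, .gen 2060 (252, false)),
    (12, .gen 2060 (254, false)),
    (1548, .gen 2060 (255, false)),
    (660, .gen 2060 (255, true)),
    (901, .gen 1533 (250, false))]

/-- Visits. -/
def v15_3 : List (ℕ × Src) :=
  [(3437, .gen 1533 (251, false)),
    (3538, .gen 1533 (252, false)),
    (3704, .gen 1533 (254, false)),
    (609, .gen 1533 (255, false)),
    (2588, .gen 1533 (255, true)),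
    (228, .gen 204 (250, false)),
    (3518, .gen 204 (251, false)),
    (2760, .gen 204 (252, false)),
    (2297, .gen 204 (254, false)),
    (2152, .gen 204 (255, false)),
    (951, .gen 204 (255, true)),
    (1127, .gen 1518 (250, false)),
    (3677, .gen 1518 (251, false)),
    (1088, .gen 1518 (252, false)),
    (3130, .gen 1518 (254, false)),
    (1970, .gen 1518 (255, false)),
    (3140, .gen 1518 (255, true)),
    (2327, .gen 2698 (250, false)),
    (2007, .gen 2698 (251, false)),
    (569, .gen 2698 (252, false)),
    (299, .gen 2698 (254, false)),
    (2292, .gen 2698 (255, false)),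
    (577, .gen 2698 (255, true)),
    (602, .gen 2239 (250, false)),
    (1108, .gen 2239 (251, false)),
    (2274, .gen 2239 (252, false)),
    (2279, .gen 2239 (254, false)),
    (1300, .gen 2239 (255, false)),
    (261, .gen 2239 (255, true)),
    (1977, .gen 2412 (250, false)),
    (2909, .gen 2412 (251, false)),
    (264, .gen 2412 (252, false)),
    (113, .gen 2412 (254, false)),
    (3516, .gen 2412 (255, false)),
    (971, .gen 2412 (255, true)),
    (1669, .gen 3261 (250, false)),
    (3166, .gen 3261 (251, false)),
    (2422, .gen 3261 (252, false)),
    (2568, .gen 3261 (254, false)),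
    (3514, .gen 3261 (255, false)),
    (3212, .gen 3261 (255, true)),
    (1172, .gen 223 (250, false)),
    (1483, .gen 223 (251, false)),
    (633, .gen 223 (252, false)),
    (1445, .gen 223 (254, false)),
    (3657, .gen 223 (255, false)),
    (146, .gen 223 (255, true)),
    (2820, .gen 2937 (250, false)),
    (2163, .gen 2937 (251, false)),
    (1194, .gen 2937 (252, false)),
    (1948, .gen 2937 (254, false)),
    (2354, .gen 2937 (255, false)),
    (883, .gen 2937 (255, true)),
    (3227, .gen 2882 (250, false)),
    (3515, .gen 2882 (251, false)),
    (914, .gen 2882 (252, false)),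
    (3213, .gen 2882 (254, false)),
    (1451, .gen 2882 (255, false)),
    (2399, .gen 2882 (255, true)),
    (596, .gen 1829 (250, false)),
    (0, .gen 1829 (251, false)),
    (3482, .gen 1829 (252, false)),
    (3408, .gen 1829 (254, false)),
    (28, .gen 1829 (255, false)),
    (1641, .gen 1829 (255, true)),
    (2897, .gen 3465 (250, false)),
    (672, .gen 3465 (251, false)),
    (688, .gen 3465 (252, false)),
    (3264, .gen 3465 (254, false)),
    (2648, .gen 3465 (255, false)),
    (1370, .gen 3465 (255, true)),
    (3563, .gen 3689 (250, false)),
    (1093, .gen 3689 (251, false)),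
    (603, .gen 3689 (252, false)),
    (585, .gen 3689 (254, false)),
    (3774, .gen 3689 (255, false)),
    (2319, .gen 3689 (255, true)),
    (821, .gen 3315 (250, false)),
    (866, .gen 3315 (251, false)),
    (381, .gen 3315 (252, false)),
    (1957, .gen 3315 (254, false)),
    (2036, .gen 3315 (255, false)),
    (3003, .gen 3315 (255, true)),
    (3065, .gen 3121 (250, false)),
    (1869, .gen 3121 (251, false)),
    (15, .gen 3121 (252, false)),
    (1897, .gen 3121 (254, false)),
    (2381, .gen 3121 (255, false)),
    (2003, .gen 3121 (255, true)),
    (824, .gen 1994 (250, false)),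
    (2951, .gen 1994 (251, false)),
    (597, .gen 1994 (252, false)),
    (463, .gen 1994 (254, false)),
    (1853, .gen 1994 (255, false)),
    (754, .gen 1994 (255, true)),
    (2960, .gen 986 (250, false)),
    (2884, .gen 986 (251, false)),
    (1889, .gen 986 (252, false)),
    (21, .gen 986 (254, false)),
    (2786, .gen 986 (255, false)),
    (1803, .gen 986 (255, true)),
    (2217, .gen 1003 (250, false)),
    (762, .gen 1003 (251, false)),
    (2216, .gen 1003 (252, false)),
    (2166, .gen 1003 (254, false)),
    (458, .gen 1003 (255, false)),
    (968, .gen 1003 (255, true)),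
    (1463, .gen 2210 (250, false)),
    (686, .gen 2210 (251, false)),
    (1002, .gen 2210 (252, false)),
    (2328, .gen 2210 (254, false)),
    (804, .gen 2210 (255, false)),
    (855, .gen 2210 (255, true)),
    (624, .gen 3044 (250, false)),
    (588, .gen 3044 (251, false)),
    (142, .gen 3044 (252, false)),
    (629, .gen 3044 (254, false)),
    (2238, .gen 3044 (255, false)),
    (1780, .gen 3044 (255, true)),
    (752, .gen 3342 (250, false)),
    (1515, .gen 3342 (251, false)),
    (3231, .gen 3342 (252, false)),
    (1350, .gen 3342 (254, false)),
    (645, .gen 3342 (255, false)),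
    (2232, .gen 3342 (255, true)),
    (857, .gen 2617 (250, false)),
    (1750, .gen 2617 (251, false)),
    (3010, .gen 2617 (252, false)),
    (1484, .gen 2617 (254, false)),
    (262, .gen 2617 (255, false)),
    (1173, .gen 2617 (255, true)),
    (1278, .gen 469 (250, false)),
    (2387, .gen 469 (251, false)),
    (2231, .gen 469 (252, false)),
    (3215, .gen 469 (254, false)),
    (1455, .gen 469 (255, false)),
    (270, .gen 469 (255, true)),
    (3118, .gen 630 (250, false)),
    (2935, .gen 630 (251, false)),
    (2745, .gen 630 (252, false)),
    (828, .gen 630 (254, false)),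
    (3150, .gen 630 (255, false)),
    (3358, .gen 630 (255, true)),
    (964, .gen 817 (255, false)),
    (356, .gen 1364 (255, false)),
    (255, .gen 1364 (255, true)),
    (301, .gen 423 (254, false)),
    (337, .gen 423 (255, false)),
    (1430, .gen 712 (255, false)),
    (1947, .gen 960 (254, false)),
    (3073, .gen 3052 (251, false)),
    (707, .gen 3052 (252, false)),
    (278, .gen 3052 (254, false)),
    (75, .gen 3052 (255, false)),
    (608, .gen 3052 (255, true)),
    (1097, .gen 3008 (255, false)),
    (2028, .gen 3008 (255, true)),
    (994, .gen 852 (255, false)),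
    (1807, .gen 852 (255, true)),
    (3143, .gen 3287 (254, false)),
    (1257, .gen 3287 (255, false)),
    (3708, .gen 3287 (255, true)),
    (72, .gen 54 (254, false)),
    (124, .gen 2840 (254, false)),
    (1562, .gen 2840 (255, false)),
    (464, .gen 2840 (255, true)),
    (200, .gen 1960 (255, false)),
    (1240, .gen 1960 (255, true)),
    (2789, .gen 413 (254, false)),
    (618, .gen 216 (254, false)),
    (3100, .gen 1198 (254, false)),
    (946, .gen 1790 (254, false)),
    (133, .gen 2272 (254, false)),
    (66, .gen 3051 (255, false)),
    (3102, .gen 3051 (255, true)),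
    (1190, .gen 1285 (254, false)),
    (1621, .gen 459 (254, false)),
    (2722, .gen 1046 (251, false)),
    (3435, .gen 1046 (252, false)),
    (1408, .gen 1046 (254, false)),
    (266, .gen 1046 (255, false)),
    (2071, .gen 1046 (255, true)),
    (3096, .gen 1837 (255, false)),
    (3462, .gen 1837 (255, true)),
    (2464, .gen 2242 (255, false)),
    (436, .gen 2242 (255, true)),
    (2632, .gen 1024 (251, false)),
    (163, .gen 1024 (255, false)),
    (1967, .gen 1024 (255, true)),
    (277, .gen 2623 (255, false)),
    (177, .gen 2623 (255, true)),
    (1969, .gen 3082 (251, false)),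
    (2904, .gen 3082 (252, false)),
    (190, .gen 3082 (254, false)),
    (2192, .gen 3082 (255, false)),
    (2924, .gen 3082 (255, true)),
    (26, .gen 2437 (255, false)),
    (3395, .gen 2437 (255, true)),
    (368, .gen 2441 (255, false)),
    (1393, .gen 2441 (255, true)),
    (1522, .gen 759 (251, false)),
    (1387, .gen 759 (252, false)),
    (1983, .gen 759 (254, false)),
    (1687, .gen 759 (255, false)),
    (3273, .gen 759 (255, true)),
    (143, .gen 3159 (255, false)),
    (3633, .gen 3159 (255, true)),
    (616, .gen 939 (255, false)),
    (1862, .gen 939 (255, true)),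
    (1316, .gen 2890 (251, false)),
    (2118, .gen 2890 (252, false)),
    (578, .gen 2890 (254, false)),
    (367, .gen 2890 (255, false)),
    (1520, .gen 2890 (255, true)),
    (196, .gen 3207 (255, false)),
    (282, .gen 3207 (255, true)),
    (591, .gen 3389 (255, false)),
    (2008, .gen 3389 (255, true)),
    (2251, .gen 2714 (251, false)),
    (2018, .gen 2714 (252, false)),
    (1386, .gen 2714 (255, false)),
    (2117, .gen 2714 (255, true)),
    (2471, .gen 3714 (255, false)),
    (1170, .gen 3714 (255, true)),
    (1270, .gen 2597 (251, false)),
    (2348, .gen 2597 (255, false)),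
    (1259, .gen 2597 (255, true)),
    (265, .gen 1073 (251, false)),
    (194, .gen 1073 (255, false)),
    (1157, .gen 1073 (255, true)),
    (882, .gen 2545 (252, false)),
    (808, .gen 2545 (254, false)),
    (285, .gen 809 (254, false)),
    (344, .gen 1081 (255, false)),
    (1017, .gen 1560 (254, false)),
    (2429, .gen 511 (255, false)),
    (168, .gen 511 (255, true)),
    (2685, .gen 1525 (252, false)),
    (2774, .gen 2868 (255, false)),
    (1691, .gen 2868 (255, true)),
    (2560, .gen 1126 (251, false)),
    (3043, .gen 1126 (252, false)),
    (1119, .gen 1126 (254, false)),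
    (419, .gen 1126 (255, false)),
    (656, .gen 1126 (255, true)),
    (3551, .gen 1279 (252, false)),
    (3761, .gen 1279 (254, false)),
    (2248, .gen 2823 (254, false)),
    (1039, .gen 2823 (255, false)),
    (2567, .gen 2823 (255, true)),
    (2433, .gen 3626 (255, false)),
    (3470, .gen 3626 (255, true)),
    (886, .gen 1263 (254, false)),
    (863, .gen 111 (254, false)),
    (1372, .gen 776 (255, false)),
    (1901, .gen 891 (251, false)),
    (999, .gen 891 (254, false)),
    (2941, .gen 891 (255, false)),
    (3671, .gen 891 (255, true)),
    (3016, .gen 1128 (254, false)),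
    (2365, .gen 2220 (255, false)),
    (1268, .gen 2220 (255, true)),
    (2978, .gen 1414 (254, false)),
    (1100, .gen 2414 (254, false)),
    (1915, .gen 1673 (252, false)),
    (1955, .gen 391 (255, false)),
    (1867, .gen 391 (255, true)),
    (1965, .gen 2066 (255, false)),
    (756, .gen 2835 (251, false)),
    (93, .gen 2835 (252, false)),
    (600, .gen 2835 (254, false)),
    (2812, .gen 2835 (255, false)),
    (3597, .gen 2835 (255, true)),
    (1044, .gen 295 (252, false)),
    (623, .gen 295 (254, false)),
    (237, .gen 304 (254, false)),
    (3007, .gen 304 (255, false)),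
    (1945, .gen 304 (255, true)),
    (1630, .gen 1564 (255, false)),
    (2769, .gen 1564 (255, true)),
    (3629, .gen 3204 (254, false)),
    (2063, .gen 2038 (254, false)),
    (1751, .gen 361 (251, false)),
    (131, .gen 361 (252, false)),
    (105, .gen 361 (254, false)),
    (2664, .gen 361 (255, false)),
    (2891, .gen 361 (255, true)),
    (2880, .gen 432 (252, false)),
    (1163, .gen 432 (254, false)),
    (1134, .gen 720 (254, false)),
    (1979, .gen 720 (255, false)),
    (2497, .gen 720 (255, true)),
    (2165, .gen 3301 (255, false)),
    (3247, .gen 3301 (255, true)),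
    (1094, .gen 2963 (254, false)),
    (3239, .gen 3502 (254, false)),
    (2483, .gen 719 (251, false)),
    (290, .gen 719 (252, false)),
    (410, .gen 719 (254, false)),
    (2772, .gen 719 (255, false))]

/-- Visits. -/
def v15_4 : List (ℕ × Src) :=
  [(1539, .gen 719 (255, true)),
    (2093, .gen 313 (252, false)),
    (546, .gen 313 (254, false)),
    (1813, .gen 450 (254, false)),
    (2123, .gen 450 (255, false)),
    (236, .gen 450 (255, true)),
    (2395, .gen 70 (255, false)),
    (296, .gen 70 (255, true)),
    (3061, .gen 2757 (254, false)),
    (1754, .gen 1461 (254, false)),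
    (442, .gen 1472 (251, false)),
    (3085, .gen 1472 (252, false)),
    (516, .gen 1472 (254, false)),
    (388, .gen 1472 (255, false)),
    (687, .gen 1472 (255, true)),
    (3296, .gen 3337 (252, false)),
    (2672, .gen 3337 (254, false)),
    (1917, .gen 1940 (254, false)),
    (268, .gen 1940 (255, false)),
    (6, .gen 1940 (255, true)),
    (132, .gen 949 (255, false)),
    (64, .gen 949 (255, true)),
    (3426, .gen 2877 (254, false)),
    (513, .gen 2350 (254, false)),
    (2199, .gen 941 (254, false)),
    (780, .gen 941 (255, false)),
    (625, .gen 763 (255, false)),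
    (2542, .gen 1213 (251, false)),
    (22, .gen 1213 (255, false)),
    (1043, .gen 1213 (255, true)),
    (1319, .gen 647 (251, false)),
    (3539, .gen 647 (255, false)),
    (1061, .gen 647 (255, true)),
    (1860, .gen 2430 (252, false)),
    (1706, .gen 912 (255, false)),
    (848, .gen 912 (255, true)),
    (2408, .gen 1603 (251, false)),
    (505, .gen 1603 (252, false)),
    (3666, .gen 1603 (255, false)),
    (1382, .gen 1603 (255, true)),
    (3039, .gen 1540 (252, false)),
    (1378, .gen 1540 (254, false)),
    (3371, .gen 1291 (254, false)),
    (2715, .gen 1291 (255, false)),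
    (2652, .gen 1291 (255, true)),
    (3210, .gen 1010 (255, false)),
    (1166, .gen 3461 (252, false)),
    (1981, .gen 1406 (252, false)),
    (3397, .gen 2070 (255, false)),
    (3279, .gen 2070 (255, true)),
    (3650, .gen 2818 (252, false)),
    (3612, .gen 1450 (252, false)),
    (3635, .gen 3390 (252, false)),
    (1840, .gen 3410 (255, false)),
    (537, .gen 3410 (255, true)),
    (2033, .gen 449 (251, false)),
    (1757, .gen 449 (252, false)),
    (445, .gen 449 (255, false)),
    (2965, .gen 449 (255, true)),
    (3252, .gen 2825 (252, false)),
    (3046, .gen 1841 (255, false)),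
    (3058, .gen 1841 (255, true)),
    (1991, .gen 241 (254, false)),
    (3026, .gen 2445 (254, false)),
    (85, .gen 904 (252, false)),
    (8, .gen 904 (255, false)),
    (2946, .gen 2614 (255, false)),
    (3165, .gen 557 (251, false)),
    (1333, .gen 557 (255, false)),
    (2694, .gen 557 (255, true)),
    (2848, .gen 1825 (252, false)),
    (3598, .gen 1825 (254, false)),
    (3122, .gen 2064 (255, false)),
    (527, .gen 2064 (255, true)),
    (3182, .gen 922 (255, false)),
    (1368, .gen 922 (255, true)),
    (2029, .gen 1802 (251, false)),
    (556, .gen 1802 (255, false)),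
    (2009, .gen 1802 (255, true)),
    (2700, .gen 1433 (251, false)),
    (576, .gen 1433 (252, false)),
    (3412, .gen 1433 (254, false)),
    (876, .gen 1433 (255, false)),
    (3568, .gen 1433 (255, true)),
    (2050, .gen 1212 (254, false)),
    (1179, .gen 2167 (254, false)),
    (1114, .gen 1067 (255, false)),
    (972, .gen 1067 (255, true)),
    (801, .gen 3059 (254, false)),
    (3540, .gen 3759 (254, false)),
    (1145, .gen 2932 (254, false)),
    (3005, .gen 2932 (255, false)),
    (3074, .gen 2932 (255, true)),
    (1335, .gen 3768 (255, false)),
    (2154, .gen 3768 (255, true)),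
    (104, .gen 2996 (254, false)),
    (3339, .gen 506 (254, false)),
    (1724, .gen 1012 (254, false)),
    (3240, .gen 1708 (255, false)),
    (3193, .gen 1708 (255, true)),
    (711, .gen 563 (251, false)),
    (1502, .gen 563 (255, false)),
    (3687, .gen 563 (255, true)),
    (2740, .gen 2339 (252, false)),
    (1254, .gen 2339 (254, false)),
    (3030, .gen 3385 (255, false)),
    (2712, .gen 3385 (255, true)),
    (2989, .gen 2333 (255, false)),
    (1665, .gen 2333 (255, true)),
    (2991, .gen 2459 (254, false)),
    (1992, .gen 733 (254, false)),
    (1685, .gen 937 (251, false)),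
    (2345, .gen 937 (255, false)),
    (1479, .gen 937 (255, true)),
    (1868, .gen 541 (252, false)),
    (798, .gen 541 (254, false)),
    (2273, .gen 447 (255, false)),
    (1875, .gen 447 (255, true)),
    (2443, .gen 4 (251, false)),
    (856, .gen 4 (252, false)),
    (1421, .gen 4 (254, false)),
    (1615, .gen 4 (255, false)),
    (1566, .gen 4 (255, true)),
    (2655, .gen 1379 (252, false)),
    (3507, .gen 1379 (254, false)),
    (2912, .gen 2616 (254, false)),
    (1052, .gen 2616 (255, false)),
    (2499, .gen 2616 (255, true)),
    (3544, .gen 699 (255, false)),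
    (491, .gen 699 (255, true)),
    (2518, .gen 3542 (254, false)),
    (316, .gen 1323 (254, false)),
    (1667, .gen 2277 (251, false)),
    (462, .gen 2277 (252, false)),
    (2780, .gen 2277 (254, false)),
    (3673, .gen 2277 (255, false)),
    (3063, .gen 2277 (255, true)),
    (136, .gen 573 (252, false)),
    (1211, .gen 573 (254, false)),
    (2735, .gen 2553 (254, false)),
    (3208, .gen 2553 (255, false)),
    (340, .gen 2553 (255, true)),
    (2843, .gen 286 (255, false)),
    (3615, .gen 286 (255, true)),
    (1341, .gen 2547 (254, false)),
    (1663, .gen 1690 (254, false)),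
    (837, .gen 3347 (251, false)),
    (2832, .gen 3347 (252, false)),
    (112, .gen 3347 (254, false)),
    (95, .gen 3347 (255, false)),
    (877, .gen 3347 (255, true)),
    (3104, .gen 655 (252, false)),
    (1739, .gen 655 (254, false)),
    (2104, .gen 2112 (254, false)),
    (2656, .gen 2112 (255, false)),
    (3756, .gen 2112 (255, true)),
    (3236, .gen 1537 (255, false)),
    (1267, .gen 1537 (255, true)),
    (749, .gen 918 (254, false)),
    (3028, .gen 2407 (254, false)),
    (3554, .gen 967 (251, false)),
    (3129, .gen 967 (252, false)),
    (764, .gen 967 (254, false)),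
    (3476, .gen 967 (255, false)),
    (3137, .gen 967 (255, true)),
    (115, .gen 3715 (252, false)),
    (259, .gen 3715 (254, false)),
    (1004, .gen 1262 (254, false)),
    (446, .gen 1262 (255, false)),
    (3260, .gen 1262 (255, true)),
    (1762, .gen 3552 (255, false)),
    (2156, .gen 3552 (255, true)),
    (2920, .gen 3487 (254, false)),
    (3654, .gen 3256 (254, false)),
    (2910, .gen 2703 (251, false)),
    (63, .gen 2703 (255, false)),
    (993, .gen 2703 (255, true)),
    (2082, .gen 2778 (252, false)),
    (2343, .gen 2778 (254, false)),
    (382, .gen 404 (255, false)),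
    (2455, .gen 404 (255, true)),
    (1062, .gen 3293 (255, false)),
    (150, .gen 3293 (255, true)),
    (2073, .gen 3404 (251, false)),
    (1626, .gen 3404 (252, false)),
    (3386, .gen 3404 (255, false)),
    (3164, .gen 3404 (255, true)),
    (657, .gen 676 (252, false)),
    (175, .gen 3094 (255, false)),
    (1040, .gen 3094 (255, true)),
    (2378, .gen 308 (251, false)),
    (2051, .gen 308 (252, false)),
    (769, .gen 308 (254, false)),
    (1628, .gen 308 (255, false)),
    (2492, .gen 308 (255, true)),
    (595, .gen 566 (252, false)),
    (913, .gen 566 (254, false)),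
    (2544, .gen 1090 (254, false)),
    (185, .gen 1090 (255, false)),
    (1248, .gen 1090 (255, true)),
    (1662, .gen 582 (255, false)),
    (76, .gen 582 (255, true)),
    (2335, .gen 1597 (254, false)),
    (3653, .gen 3488 (254, false)),
    (2113, .gen 2284 (251, false)),
    (3070, .gen 2284 (252, false)),
    (2640, .gen 2284 (254, false)),
    (2072, .gen 2284 (255, false)),
    (1308, .gen 2284 (255, true)),
    (959, .gen 2721 (252, false)),
    (3579, .gen 2721 (254, false)),
    (2596, .gen 2971 (254, false)),
    (2423, .gen 2971 (255, false)),
    (689, .gen 2971 (255, true)),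
    (1854, .gen 3132 (255, false)),
    (380, .gen 3132 (255, true)),
    (3439, .gen 981 (254, false)),
    (634, .gen 2607 (254, false)),
    (40, .gen 1958 (251, false)),
    (2802, .gen 1958 (252, false)),
    (2126, .gen 1958 (254, false)),
    (2311, .gen 1958 (255, false)),
    (2570, .gen 1958 (255, true)),
    (667, .gen 2107 (252, false)),
    (2933, .gen 2107 (254, false)),
    (1607, .gen 350 (254, false)),
    (3663, .gen 350 (255, false)),
    (1816, .gen 350 (255, true)),
    (2572, .gen 1510 (255, false)),
    (2526, .gen 1510 (255, true)),
    (24, .gen 1467 (254, false)),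
    (3393, .gen 288 (254, false)),
    (2666, .gen 3399 (251, false)),
    (178, .gen 3399 (252, false)),
    (997, .gen 3399 (254, false)),
    (2885, .gen 3399 (255, false)),
    (1954, .gen 3399 (255, true)),
    (2706, .gen 2513 (252, false)),
    (3319, .gen 2513 (254, false)),
    (651, .gen 3219 (254, false)),
    (2291, .gen 3219 (255, false)),
    (1066, .gen 3219 (255, true)),
    (2862, .gen 2179 (255, false)),
    (3731, .gen 2179 (255, true)),
    (3458, .gen 3460 (254, false)),
    (2863, .gen 1125 (254, false)),
    (2024, .gen 3021 (252, false)),
    (3314, .gen 3021 (255, false)),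
    (3054, .gen 3021 (255, true)),
    (2779, .gen 3316 (252, false)),
    (969, .gen 1401 (254, false)),
    (144, .gen 1401 (255, false)),
    (1346, .gen 1401 (255, true)),
    (2083, .gen 1188 (251, false)),
    (3112, .gen 1188 (252, false)),
    (3180, .gen 1188 (254, false)),
    (349, .gen 1188 (255, false)),
    (1688, .gen 1188 (255, true)),
    (2650, .gen 3602 (252, false)),
    (2491, .gen 3602 (254, false)),
    (3772, .gen 2321 (254, false)),
    (1236, .gen 2321 (255, false)),
    (1490, .gen 2321 (255, true)),
    (3409, .gen 1656 (255, false)),
    (2146, .gen 1656 (255, true)),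
    (3533, .gen 3501 (254, false)),
    (2980, .gen 3560 (254, false)),
    (181, .gen 3431 (251, false)),
    (1828, .gen 3431 (252, false)),
    (1255, .gen 3431 (255, false)),
    (2508, .gen 3431 (255, true)),
    (3098, .gen 3181 (252, false)),
    (342, .gen 59 (255, false)),
    (35, .gen 59 (255, true)),
    (10, .gen 3322 (254, false)),
    (1830, .gen 2276 (254, false)),
    (2908, .gen 1577 (254, false)),
    (1769, .gen 1577 (255, false)),
    (3001, .gen 1577 (255, true)),
    (878, .gen 369 (254, false)),
    (2831, .gen 607 (254, false)),
    (2813, .gen 1266 (255, false)),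
    (1776, .gen 1266 (255, true)),
    (2631, .gen 2695 (254, false)),
    (1469, .gen 1305 (254, false)),
    (791, .gen 885 (252, false)),
    (1817, .gen 885 (254, false)),
    (2594, .gen 635 (254, false)),
    (398, .gen 420 (255, false)),
    (1130, .gen 1713 (254, false)),
    (3222, .gen 1376 (254, false)),
    (786, .gen 3223 (254, false)),
    (3695, .gen 1573 (251, false)),
    (2539, .gen 1573 (252, false)),
    (227, .gen 1573 (254, false)),
    (3648, .gen 1573 (255, false)),
    (1075, .gen 1573 (255, true)),
    (1610, .gen 3033 (252, false)),
    (639, .gen 3033 (254, false)),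
    (1513, .gen 3027 (254, false))]

/-- Visits. -/
def v15_5 : List (ℕ × Src) :=
  [(3274, .gen 3027 (255, false)),
    (3095, .gen 3027 (255, true)),
    (1752, .gen 1204 (255, false)),
    (1321, .gen 1204 (255, true)),
    (2300, .gen 468 (254, false)),
    (1905, .gen 827 (254, false)),
    (3753, .gen 300 (251, false)),
    (2092, .gen 300 (252, false)),
    (1138, .gen 300 (254, false)),
    (955, .gen 300 (255, false)),
    (1009, .gen 300 (255, true)),
    (743, .gen 3683 (252, false)),
    (2147, .gen 3683 (254, false)),
    (916, .gen 3647 (254, false)),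
    (1561, .gen 3647 (255, false)),
    (406, .gen 3647 (255, true)),
    (2643, .gen 2315 (255, false)),
    (1980, .gen 2315 (255, true)),
    (1973, .gen 2898 (254, false)),
    (562, .gen 2788 (254, false)),
    (3255, .gen 2043 (254, false)),
    (220, .gen 2043 (255, false)),
    (2939, .gen 284 (255, false)),
    (1879, .gen 1637 (254, false)),
    (3693, .gen 416 (251, false)),
    (1026, .gen 416 (252, false)),
    (1871, .gen 416 (254, false)),
    (642, .gen 416 (255, false)),
    (1167, .gen 416 (255, true)),
    (637, .gen 2252 (252, false)),
    (2283, .gen 2252 (254, false)),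
    (2358, .gen 3580 (254, false)),
    (2289, .gen 3580 (255, false)),
    (3727, .gen 3580 (255, true)),
    (2045, .gen 3765 (255, false)),
    (2263, .gen 3765 (255, true)),
    (3329, .gen 3550 (254, false)),
    (1587, .gen 952 (254, false)),
    (2411, .gen 2517 (251, false)),
    (3198, .gen 2517 (252, false)),
    (2475, .gen 2517 (254, false)),
    (3107, .gen 2517 (255, false)),
    (3067, .gen 2517 (255, true)),
    (3288, .gen 3721 (252, false)),
    (685, .gen 3721 (254, false)),
    (68, .gen 706 (254, false)),
    (2326, .gen 706 (255, false)),
    (2268, .gen 706 (255, true)),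
    (2686, .gen 3424 (255, false)),
    (3134, .gen 3424 (255, true)),
    (3454, .gen 1821 (254, false)),
    (456, .gen 2982 (254, false)),
    (1670, .gen 3048 (251, false)),
    (1741, .gen 3048 (252, false)),
    (2228, .gen 3048 (254, false)),
    (2133, .gen 3048 (255, false)),
    (2921, .gen 3048 (255, true)),
    (1347, .gen 3162 (252, false)),
    (3481, .gen 3162 (254, false)),
    (2452, .gen 605 (254, false)),
    (1232, .gen 605 (255, false)),
    (1440, .gen 605 (255, true)),
    (2855, .gen 3456 (255, false)),
    (80, .gen 3456 (255, true)),
    (2170, .gen 3506 (254, false)),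
    (2103, .gen 3565 (254, false)),
    (2189, .gen 1129 (251, false)),
    (2503, .gen 1129 (252, false)),
    (982, .gen 1129 (254, false)),
    (666, .gen 1129 (255, false)),
    (3583, .gen 1129 (255, true)),
    (1228, .gen 2552 (252, false)),
    (275, .gen 2552 (254, false)),
    (825, .gen 718 (254, false)),
    (1256, .gen 718 (255, false)),
    (1327, .gen 718 (255, true)),
    (1233, .gen 1876 (255, false)),
    (2304, .gen 1876 (255, true)),
    (2444, .gen 2930 (254, false)),
    (1389, .gen 873 (254, false)),
    (3535, .gen 2510 (251, false)),
    (2394, .gen 2510 (252, false)),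
    (3340, .gen 2510 (254, false)),
    (3690, .gen 2510 (255, false)),
    (781, .gen 2510 (255, true)),
    (2604, .gen 1997 (252, false)),
    (1833, .gen 1997 (254, false)),
    (1639, .gen 425 (254, false)),
    (1041, .gen 425 (255, false)),
    (2800, .gen 425 (255, true)),
    (3105, .gen 2613 (255, false)),
    (2353, .gen 2613 (255, true)),
    (2249, .gen 2601 (254, false)),
    (2938, .gen 2222 (254, false)),
    (1578, .gen 3685 (251, false)),
    (1446, .gen 3685 (252, false)),
    (2266, .gen 3685 (255, false)),
    (1165, .gen 3685 (255, true)),
    (3024, .gen 258 (252, false)),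
    (2870, .gen 443 (255, false)),
    (1245, .gen 443 (255, true)),
    (2213, .gen 2936 (251, false)),
    (1253, .gen 2936 (252, false)),
    (1488, .gen 2936 (255, false)),
    (932, .gen 2936 (255, true)),
    (2174, .gen 726 (252, false)),
    (843, .gen 822 (255, false)),
    (3262, .gen 822 (255, true)),
    (1589, .gen 3625 (251, false)),
    (1250, .gen 3625 (252, false)),
    (2615, .gen 3625 (254, false)),
    (3099, .gen 3625 (255, false)),
    (1783, .gen 3625 (255, true)),
    (3257, .gen 750 (252, false)),
    (1028, .gen 750 (254, false)),
    (1069, .gen 128 (254, false)),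
    (1219, .gen 128 (255, false)),
    (2023, .gen 128 (255, true)),
    (3619, .gen 1902 (255, false)),
    (3513, .gen 1902 (255, true)),
    (460, .gen 2393 (254, false)),
    (1428, .gen 1068 (254, false)),
    (2647, .gen 3473 (251, false)),
    (621, .gen 3473 (255, false)),
    (215, .gen 3473 (255, true)),
    (2285, .gen 3009 (252, false)),
    (1999, .gen 3009 (254, false)),
    (957, .gen 1914 (255, false)),
    (1572, .gen 1914 (255, true)),
    (2605, .gen 3610 (255, false)),
    (990, .gen 3610 (255, true)),
    (2479, .gen 1033 (251, false)),
    (1811, .gen 1033 (252, false)),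
    (3555, .gen 1033 (254, false)),
    (110, .gen 1033 (255, false)),
    (3577, .gen 1033 (255, true)),
    (1575, .gen 1103 (252, false)),
    (2162, .gen 1103 (254, false)),
    (549, .gen 1224 (254, false)),
    (1778, .gen 1224 (255, false)),
    (543, .gen 1224 (255, true)),
    (654, .gen 481 (255, false)),
    (2150, .gen 481 (255, true)),
    (1906, .gen 593 (254, false)),
    (1065, .gen 235 (254, false)),
    (2168, .gen 3031 (251, false)),
    (794, .gen 3031 (252, false)),
    (2440, .gen 3031 (254, false)),
    (3418, .gen 3031 (255, false)),
    (3744, .gen 3031 (255, true)),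
    (1874, .gen 2527 (252, false)),
    (1949, .gen 2527 (254, false)),
    (2368, .gen 3139 (254, false)),
    (519, .gen 3139 (255, false)),
    (503, .gen 3139 (255, true)),
    (652, .gen 509 (255, false)),
    (1363, .gen 509 (255, true)),
    (746, .gen 1503 (254, false)),
    (2883, .gen 1620 (254, false)),
    (198, .gen 599 (251, false)),
    (1458, .gen 599 (252, false)),
    (998, .gen 599 (254, false)),
    (2308, .gen 599 (255, false)),
    (2101, .gen 599 (255, true)),
    (778, .gen 3190 (252, false)),
    (3109, .gen 3190 (254, false)),
    (3226, .gen 78 (254, false)),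
    (154, .gen 78 (255, false)),
    (3041, .gen 78 (255, true)),
    (1941, .gen 3592 (255, false)),
    (3464, .gen 3592 (255, true)),
    (11, .gen 2385 (254, false)),
    (995, .gen 3108 (254, false)),
    (160, .gen 2645 (251, false)),
    (2198, .gen 2645 (254, false)),
    (1274, .gen 2645 (255, false)),
    (2224, .gen 2645 (255, true)),
    (2069, .gen 1787 (254, false)),
    (2054, .gen 684 (255, false)),
    (2191, .gen 684 (255, true)),
    (1990, .gen 475 (254, false)),
    (3006, .gen 3571 (254, false)),
    (850, .gen 3163 (251, false)),
    (2872, .gen 3163 (252, false)),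
    (2758, .gen 3163 (254, false)),
    (3206, .gen 3163 (255, false)),
    (2571, .gen 3163 (255, true)),
    (2948, .gen 643 (252, false)),
    (1485, .gen 643 (254, false)),
    (3694, .gen 1487 (254, false)),
    (598, .gen 1487 (255, false)),
    (3510, .gen 1487 (255, true)),
    (46, .gen 819 (255, false)),
    (553, .gen 819 (255, true)),
    (3071, .gen 394 (254, false)),
    (2089, .gen 1877 (254, false)),
    (2727, .gen 329 (251, false)),
    (1861, .gen 329 (252, false)),
    (2947, .gen 329 (254, false)),
    (2579, .gen 329 (255, false)),
    (341, .gen 329 (255, true)),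
    (2587, .gen 1555 (252, false)),
    (3214, .gen 1555 (254, false)),
    (486, .gen 2014 (254, false)),
    (3557, .gen 2014 (255, false)),
    (3499, .gen 2014 (255, true)),
    (1851, .gen 2785 (255, false)),
    (1464, .gen 2785 (255, true)),
    (172, .gen 219 (254, false)),
    (1022, .gen 293 (254, false)),
    (2039, .gen 1640 (251, false)),
    (1462, .gen 1640 (252, false)),
    (125, .gen 1640 (255, false)),
    (2914, .gen 1640 (255, true)),
    (1631, .gen 247 (252, false)),
    (2810, .gen 3430 (255, false)),
    (1218, .gen 3430 (255, true)),
    (2377, .gen 3793 (251, false)),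
    (3199, .gen 3793 (255, false)),
    (954, .gen 3793 (255, true)),
    (797, .gen 3724 (252, false)),
    (2538, .gen 3724 (254, false)),
    (1302, .gen 2576 (255, false)),
    (2637, .gen 2576 (255, true)),
    (1356, .gen 3702 (255, false)),
    (1230, .gen 3702 (255, true)),
    (2055, .gen 184 (251, false)),
    (1559, .gen 184 (252, false)),
    (755, .gen 184 (254, false)),
    (1420, .gen 184 (255, false)),
    (1014, .gen 184 (255, true)),
    (167, .gen 2110 (252, false)),
    (1322, .gen 2110 (254, false)),
    (3158, .gen 1141 (254, false)),
    (1705, .gen 1141 (255, false)),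
    (1392, .gen 1141 (255, true)),
    (77, .gen 894 (255, false)),
    (3665, .gen 894 (255, true)),
    (3047, .gen 1137 (254, false)),
    (2017, .gen 1115 (254, false)),
    (2564, .gen 2976 (251, false)),
    (3697, .gen 2976 (252, false)),
    (117, .gen 2976 (254, false)),
    (1155, .gen 2976 (255, false)),
    (528, .gen 2976 (255, true)),
    (3184, .gen 3484 (252, false)),
    (2490, .gen 3484 (254, false)),
    (2116, .gen 1998 (254, false)),
    (854, .gen 1998 (255, false)),
    (3220, .gen 1998 (255, true)),
    (1843, .gen 1541 (255, false)),
    (1554, .gen 1541 (255, true)),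
    (1460, .gen 1030 (254, false)),
    (694, .gen 702 (254, false)),
    (3211, .gen 920 (251, false)),
    (433, .gen 920 (252, false)),
    (2421, .gen 920 (254, false)),
    (1755, .gen 920 (255, false)),
    (3382, .gen 920 (255, true)),
    (757, .gen 101 (252, false)),
    (1434, .gen 101 (254, false)),
    (917, .gen 3176 (254, false)),
    (2454, .gen 3176 (255, false)),
    (1797, .gen 3176 (255, true)),
    (208, .gen 1006 (255, false)),
    (690, .gen 1006 (255, true)),
    (1781, .gen 3306 (254, false)),
    (658, .gen 1140 (254, false)),
    (2255, .gen 254 (251, false)),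
    (1324, .gen 254 (252, false)),
    (1808, .gen 254 (254, false)),
    (186, .gen 254 (255, false)),
    (1726, .gen 254 (255, true)),
    (1474, .gen 1570 (252, false)),
    (572, .gen 1570 (254, false)),
    (1824, .gen 2668 (254, false)),
    (3242, .gen 2668 (255, false)),
    (662, .gen 2668 (255, true)),
    (1209, .gen 2622 (255, false)),
    (2262, .gen 2622 (255, true)),
    (191, .gen 2067 (254, false)),
    (983, .gen 472 (254, false)),
    (1863, .gen 648 (251, false)),
    (1332, .gen 648 (252, false)),
    (3575, .gen 648 (255, false)),
    (3402, .gen 648 (255, true)),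
    (947, .gen 97 (252, false)),
    (2561, .gen 3631 (255, false)),
    (3411, .gen 3631 (255, true)),
    (3072, .gen 2944 (251, false)),
    (2886, .gen 2944 (252, false)),
    (317, .gen 2944 (254, false)),
    (931, .gen 2944 (255, false)),
    (1273, .gen 2944 (255, true)),
    (338, .gen 390 (252, false)),
    (3362, .gen 390 (254, false)),
    (3787, .gen 1398 (254, false)),
    (921, .gen 1398 (255, false)),
    (3567, .gen 1398 (255, true)),
    (3642, .gen 3092 (255, false))]

/-- Visits. -/
def v15_6 : List (ℕ × Src) :=
  [(674, .gen 3092 (255, true)),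
    (2763, .gen 2046 (254, false)),
    (1181, .gen 387 (254, false)),
    (3617, .gen 279 (251, false)),
    (2903, .gen 279 (252, false)),
    (3728, .gen 279 (254, false)),
    (3076, .gen 279 (255, false)),
    (1943, .gen 279 (255, true)),
    (2115, .gen 1251 (252, false)),
    (3469, .gen 1251 (254, false)),
    (1085, .gen 1362 (254, false)),
    (2861, .gen 1362 (255, false)),
    (2723, .gen 1362 (255, true)),
    (3299, .gen 1096 (255, false)),
    (2524, .gen 1096 (255, true)),
    (2988, .gen 2523 (254, false)),
    (389, .gen 2487 (254, false)),
    (16, .gen 772 (254, false)),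
    (348, .gen 772 (255, false)),
    (2302, .gen 772 (255, true)),
    (1674, .gen 3 (254, false)),
    (335, .gen 2627 (254, false)),
    (3187, .gen 1627 (255, false)),
    (1313, .gen 1627 (255, true)),
    (2796, .gen 1447 (254, false)),
    (1019, .gen 3114 (254, false)),
    (2578, .gen 1241 (251, false)),
    (1261, .gen 1241 (252, false)),
    (1742, .gen 1241 (254, false)),
    (2507, .gen 1241 (255, false)),
    (2915, .gen 1241 (255, true)),
    (1496, .gen 3590 (252, false)),
    (622, .gen 3590 (254, false)),
    (1132, .gen 665 (254, false)),
    (1848, .gen 665 (255, false)),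
    (1681, .gen 665 (255, true)),
    (222, .gen 2341 (255, false)),
    (271, .gen 2341 (255, true)),
    (1576, .gen 1301 (254, false)),
    (375, .gen 814 (254, false)),
    (3200, .gen 453 (251, false)),
    (2558, .gen 453 (252, false)),
    (785, .gen 453 (254, false)),
    (252, .gen 453 (255, false)),
    (3020, .gen 453 (255, true)),
    (3782, .gen 1366 (252, false)),
    (3267, .gen 1366 (254, false)),
    (715, .gen 2691 (254, false)),
    (2281, .gen 2691 (255, false)),
    (1770, .gen 2691 (255, true)),
    (86, .gen 1516 (255, false)),
    (3019, .gen 1516 (255, true)),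
    (1152, .gen 1049 (254, false)),
    (3427, .gen 861 (254, false)),
    (2157, .gen 926 (251, false)),
    (384, .gen 926 (252, false)),
    (1614, .gen 926 (254, false)),
    (1189, .gen 926 (255, false)),
    (3524, .gen 926 (255, true)),
    (3075, .gen 2106 (252, false)),
    (1760, .gen 2106 (254, false)),
    (3370, .gen 1099 (254, false)),
    (2467, .gen 1099 (255, false)),
    (156, .gen 1099 (255, true)),
    (1258, .gen 44 (255, false)),
    (682, .gen 44 (255, true)),
    (693, .gen 532 (254, false)),
    (14, .gen 2854 (254, false)),
    (766, .gen 1693 (251, false)),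
    (2711, .gen 1693 (252, false)),
    (1139, .gen 1693 (254, false)),
    (2401, .gen 1693 (255, false)),
    (3522, .gen 1693 (255, true)),
    (2879, .gen 3125 (252, false)),
    (2612, .gen 3125 (254, false)),
    (1753, .gen 3588 (254, false)),
    (1036, .gen 3588 (255, false)),
    (2397, .gen 3588 (255, true)),
    (2580, .gen 1499 (255, false)),
    (2994, .gen 1499 (255, true)),
    (2418, .gen 2864 (254, false)),
    (3179, .gen 1444 (254, false)),
    (1195, .gen 2942 (251, false)),
    (1792, .gen 2942 (252, false)),
    (888, .gen 2942 (254, false)),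
    (3050, .gen 2942 (255, false)),
    (3448, .gen 2942 (255, true)),
    (3676, .gen 1176 (252, false)),
    (730, .gen 1176 (254, false)),
    (3739, .gen 3297 (254, false)),
    (795, .gen 3297 (255, false)),
    (385, .gen 3297 (255, true)),
    (2416, .gen 364 (255, false)),
    (3662, .gen 364 (255, true)),
    (2253, .gen 1873 (254, false)),
    (2026, .gen 1728 (254, false)),
    (2900, .gen 1215 (251, false)),
    (3036, .gen 1215 (252, false)),
    (1482, .gen 1215 (254, false)),
    (2534, .gen 1215 (255, false)),
    (2032, .gen 1215 (255, true)),
    (1410, .gen 3729 (252, false)),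
    (328, .gen 3729 (254, false)),
    (2592, .gen 984 (254, false)),
    (211, .gen 984 (255, false)),
    (2743, .gen 984 (255, true)),
    (2088, .gen 1909 (255, false)),
    (2074, .gen 1909 (255, true)),
    (3773, .gen 1377 (254, false)),
    (108, .gen 3447 (254, false)),
    (1650, .gen 1288 (251, false)),
    (3251, .gen 1288 (252, false)),
    (358, .gen 1288 (254, false)),
    (2432, .gen 1288 (255, false)),
    (3289, .gen 1288 (255, true)),
    (1452, .gen 36 (252, false)),
    (2811, .gen 36 (254, false)),
    (1696, .gen 242 (254, false)),
    (2068, .gen 242 (255, false)),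
    (846, .gen 242 (255, true)),
    (731, .gen 165 (255, false)),
    (2446, .gen 165 (255, true)),
    (439, .gen 1911 (254, false)),
    (3660, .gen 3136 (254, false)),
    (2419, .gen 902 (251, false)),
    (2496, .gen 902 (252, false)),
    (853, .gen 902 (254, false)),
    (1680, .gen 902 (255, false)),
    (1229, .gen 902 (255, true)),
    (1659, .gen 1857 (252, false)),
    (2400, .gen 1857 (254, false)),
    (1675, .gen 3302 (254, false)),
    (3022, .gen 3302 (255, false)),
    (492, .gen 3302 (255, true)),
    (2342, .gen 2705 (255, false)),
    (3624, .gen 2705 (255, true)),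
    (2755, .gen 2059 (254, false)),
    (205, .gen 3591 (254, false)),
    (123, .gen 281 (251, false)),
    (1367, .gen 281 (252, false)),
    (1608, .gen 281 (254, false)),
    (1468, .gen 281 (255, false)),
    (2158, .gen 281 (255, true)),
    (1365, .gen 1996 (252, false)),
    (1527, .gen 1996 (254, false)),
    (47, .gen 2144 (254, false)),
    (1672, .gen 2144 (255, false)),
    (2654, .gen 2144 (255, true)),
    (159, .gen 325 (255, false)),
    (2850, .gen 325 (255, true)),
    (2759, .gen 3056 (254, false)),
    (3701, .gen 243 (254, false)),
    (2204, .gen 1563 (251, false)),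
    (2866, .gen 1563 (252, false)),
    (1534, .gen 1563 (254, false)),
    (417, .gen 1563 (255, false)),
    (678, .gen 1563 (255, true)),
    (488, .gen 536 (252, false)),
    (3270, .gen 536 (254, false)),
    (2782, .gen 3477 (254, false)),
    (2687, .gen 3477 (255, false)),
    (2176, .gen 3477 (255, true)),
    (1556, .gen 2528 (255, false)),
    (966, .gen 2528 (255, true)),
    (3434, .gen 3313 (254, false)),
    (2218, .gen 1774 (254, false)),
    (2012, .gen 1894 (251, false)),
    (2846, .gen 1894 (252, false)),
    (1383, .gen 1894 (254, false)),
    (476, .gen 1894 (255, false)),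
    (703, .gen 1894 (255, true)),
    (2287, .gen 1727 (252, false)),
    (283, .gen 1727 (254, false)),
    (3055, .gen 1481 (254, false)),
    (3453, .gen 1481 (255, false)),
    (1907, .gen 1481 (255, true)),
    (2011, .gen 1852 (255, false)),
    (171, .gen 1852 (255, true)),
    (3113, .gen 3417 (254, false)),
    (815, .gen 1281 (254, false)),
    (1449, .gen 1237 (251, false)),
    (2230, .gen 1237 (252, false)),
    (3110, .gen 1237 (254, false)),
    (2922, .gen 1237 (255, false)),
    (2501, .gen 1237 (255, true)),
    (3664, .gen 3084 (252, false)),
    (321, .gen 3084 (254, false)),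
    (2392, .gen 3750 (254, false)),
    (1916, .gen 3750 (255, false)),
    (1812, .gen 3750 (255, true)),
    (1591, .gen 13 (255, false)),
    (1087, .gen 13 (255, true)),
    (3523, .gen 3608 (254, false)),
    (3599, .gen 1820 (254, false)),
    (2001, .gen 2357 (251, false)),
    (2992, .gen 2357 (252, false)),
    (183, .gen 2357 (254, false)),
    (2450, .gen 2357 (255, false)),
    (2827, .gen 2357 (255, true)),
    (1185, .gen 343 (252, false)),
    (2574, .gen 343 (254, false)),
    (3561, .gen 2593 (254, false)),
    (2565, .gen 2593 (255, false)),
    (1501, .gen 2593 (255, true)),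
    (2409, .gen 1984 (255, false)),
    (1895, .gen 1984 (255, true)),
    (869, .gen 3040 (254, false)),
    (1371, .gen 3532 (254, false)),
    (2502, .gen 3521 (251, false)),
    (3651, .gen 3521 (252, false)),
    (2495, .gen 3521 (254, false)),
    (3698, .gen 3521 (255, false)),
    (3405, .gen 3521 (255, true)),
    (1961, .gen 438 (252, false)),
    (1644, .gen 438 (254, false)),
    (3475, .gen 3103 (254, false)),
    (1286, .gen 3103 (255, false)),
    (53, .gen 3103 (255, true)),
    (3384, .gen 437 (255, false)),
    (775, .gen 437 (255, true)),
    (2693, .gen 3120 (254, false)),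
    (550, .gen 2389 (254, false)),
    (1677, .gen 1988 (251, false)),
    (431, .gen 1988 (252, false)),
    (892, .gen 1988 (254, false)),
    (1835, .gen 1988 (255, false)),
    (1495, .gen 1988 (255, true)),
    (1234, .gen 217 (252, false)),
    (1745, .gen 217 (254, false)),
    (3156, .gen 1542 (254, false)),
    (1344, .gen 1542 (255, false)),
    (1625, .gen 1542 (255, true)),
    (3336, .gen 197 (255, false)),
    (1611, .gen 197 (255, true)),
    (1720, .gen 2753 (254, false)),
    (50, .gen 650 (254, false)),
    (2726, .gen 2784 (251, false)),
    (3091, .gen 2784 (252, false)),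
    (94, .gen 2784 (254, false)),
    (309, .gen 2784 (255, false)),
    (170, .gen 2784 (255, true)),
    (500, .gen 2927 (252, false)),
    (1623, .gen 2927 (254, false)),
    (713, .gen 1080 (254, false)),
    (2809, .gen 1080 (255, false)),
    (745, .gen 1080 (255, true)),
    (1397, .gen 2792 (255, false)),
    (3392, .gen 2792 (255, true)),
    (1171, .gen 62 (254, false)),
    (530, .gen 1298 (254, false)),
    (2681, .gen 2731 (251, false)),
    (98, .gen 2731 (252, false)),
    (2728, .gen 2731 (254, false)),
    (935, .gen 2731 (255, false)),
    (1786, .gen 2731 (255, true)),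
    (1692, .gen 2171 (252, false)),
    (2794, .gen 2171 (254, false)),
    (412, .gen 3775 (254, false)),
    (1553, .gen 3775 (255, false)),
    (2961, .gen 3775 (255, true)),
    (73, .gen 3153 (255, false)),
    (1952, .gen 3153 (255, true)),
    (1593, .gen 2316 (254, false)),
    (2509, .gen 3224 (254, false)),
    (1060, .gen 1047 (251, false)),
    (1465, .gen 1047 (252, false)),
    (2463, .gen 1047 (254, false)),
    (3603, .gen 1047 (255, false)),
    (611, .gen 1047 (255, true)),
    (2680, .gen 1921 (252, false)),
    (617, .gen 1921 (254, false)),
    (1304, .gen 3722 (254, false)),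
    (2577, .gen 3722 (255, false)),
    (3373, .gen 3722 (255, true)),
    (1609, .gen 2907 (255, false)),
    (2271, .gen 2907 (255, true)),
    (2299, .gen 1077 (254, false)),
    (2752, .gen 1339 (254, false)),
    (1810, .gen 3237 (251, false)),
    (592, .gen 3237 (252, false)),
    (2521, .gen 3237 (254, false)),
    (2439, .gen 3237 (255, false)),
    (574, .gen 3237 (255, true)),
    (3097, .gen 3498 (252, false)),
    (2887, .gen 3498 (254, false)),
    (502, .gen 2845 (254, false)),
    (88, .gen 2845 (255, false)),
    (558, .gen 2845 (255, true)),
    (840, .gen 1294 (255, false)),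
    (1318, .gen 1294 (255, true)),
    (1131, .gen 3607 (254, false)),
    (3088, .gen 43 (254, false)),
    (627, .gen 1070 (251, false)),
    (224, .gen 1070 (252, false)),
    (3746, .gen 1070 (254, false)),
    (395, .gen 1070 (255, false)),
    (2317, .gen 1070 (255, true)),
    (1076, .gen 2197 (252, false)),
    (1354, .gen 2197 (254, false)),
    (206, .gen 1071 (254, false))]

/-- Visits. -/
def v15_7 : List (ℕ × Src) :=
  [(405, .gen 1071 (255, false)),
    (1113, .gen 1071 (255, true)),
    (493, .gen 510 (255, false)),
    (3232, .gen 510 (255, true)),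
    (3416, .gen 2639 (254, false)),
    (1388, .gen 418 (254, false)),
    (507, .gen 3678 (251, false)),
    (3578, .gen 3678 (252, false)),
    (3573, .gen 3678 (254, false)),
    (192, .gen 3678 (255, false)),
    (3148, .gen 3678 (255, true)),
    (963, .gen 741 (252, false)),
    (1704, .gen 741 (254, false)),
    (773, .gen 905 (254, false)),
    (3606, .gen 905 (255, false)),
    (2124, .gen 905 (255, true)),
    (1403, .gen 1143 (255, false)),
    (1184, .gen 1143 (255, true)),
    (1221, .gen 1606 (254, false)),
    (2828, .gen 307 (254, false)),
    (1013, .gen 514 (251, false)),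
    (524, .gen 514 (252, false)),
    (1725, .gen 514 (254, false)),
    (1647, .gen 514 (255, false)),
    (298, .gen 514 (255, true)),
    (1358, .gen 2997 (252, false)),
    (1619, .gen 2997 (254, false)),
    (747, .gen 2264 (254, false)),
    (1643, .gen 2264 (255, false)),
    (2206, .gen 2264 (255, true)),
    (2243, .gen 3748 (255, false)),
    (2027, .gen 3748 (255, true)),
    (2468, .gen 864 (254, false)),
    (1391, .gen 2374 (254, false)),
    (744, .gen 2585 (251, false)),
    (100, .gen 2585 (252, false)),
    (3254, .gen 2585 (254, false)),
    (1565, .gen 2585 (255, false)),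
    (1056, .gen 2585 (255, true)),
    (2426, .gen 305 (252, false)),
    (226, .gen 305 (254, false)),
    (3283, .gen 761 (254, false)),
    (1638, .gen 761 (255, false)),
    (3355, .gen 761 (255, true)),
    (928, .gen 1546 (255, false)),
    (661, .gen 1546 (255, true)),
    (3757, .gen 3338 (254, false)),
    (1689, .gen 950 (254, false)),
    (2729, .gen 363 (251, false)),
    (3504, .gen 363 (252, false)),
    (2456, .gen 363 (254, false)),
    (2621, .gen 363 (255, false)),
    (3282, .gen 363 (255, true)),
    (210, .gen 1517 (252, false)),
    (2674, .gen 1517 (254, false)),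
    (409, .gen 1405 (254, false)),
    (319, .gen 1405 (255, false)),
    (2120, .gen 1405 (255, true)),
    (2234, .gen 1275 (255, false)),
    (1508, .gen 1275 (255, true)),
    (2078, .gen 3202 (254, false)),
    (1896, .gen 565 (254, false)),
    (2701, .gen 231 (251, false)),
    (3285, .gen 231 (252, false)),
    (1059, .gen 231 (254, false)),
    (1207, .gen 231 (255, false)),
    (3589, .gen 231 (255, true)),
    (1180, .gen 1299 (252, false)),
    (3790, .gen 1299 (254, false)),
    (179, .gen 2719 (254, false)),
    (232, .gen 2719 (255, false)),
    (2004, .gen 2719 (255, true)),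
    (696, .gen 2314 (255, false)),
    (2791, .gen 2314 (255, true)),
    (740, .gen 777 (254, false)),
    (897, .gen 1025 (254, false)),
    (911, .gen 2893 (251, false)),
    (2638, .gen 2893 (252, false)),
    (346, .gen 2893 (254, false)),
    (1361, .gen 2893 (255, false)),
    (1649, .gen 2893 (255, true)),
    (948, .gen 2876 (252, false)),
    (709, .gen 2876 (254, false)),
    (3646, .gen 1269 (254, false)),
    (508, .gen 1269 (255, false)),
    (1374, .gen 1269 (255, true)),
    (137, .gen 734 (255, false)),
    (1109, .gen 734 (255, true)),
    (2970, .gen 1975 (254, false)),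
    (1208, .gen 796 (254, false)),
    (1557, .gen 3558 (251, false)),
    (3517, .gen 3558 (252, false)),
    (1473, .gen 3558 (254, false)),
    (589, .gen 3558 (255, false)),
    (2762, .gen 3558 (255, true)),
    (2906, .gen 1442 (252, false)),
    (3742, .gen 1442 (254, false)),
    (3379, .gen 1959 (254, false)),
    (3621, .gen 1959 (255, false)),
    (67, .gen 1959 (255, true)),
    (970, .gen 2671 (255, false)),
    (2651, .gen 2671 (255, true)),
    (79, .gen 1697 (254, false)),
    (3128, .gen 2974 (254, false)),
    (927, .gen 767 (251, false)),
    (2141, .gen 767 (252, false)),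
    (1111, .gen 767 (254, false)),
    (127, .gen 767 (255, false)),
    (2080, .gen 767 (255, true)),
    (2406, .gen 2194 (252, false)),
    (2667, .gen 2194 (254, false)),
    (2322, .gen 3792 (254, false)),
    (114, .gen 3792 (255, false)),
    (1523, .gen 3792 (255, true)),
    (1602, .gen 2625 (255, false)),
    (1883, .gen 2625 (255, true)),
    (2690, .gen 2653 (254, false)),
    (2280, .gen 1585 (254, false)),
    (1699, .gen 2025 (251, false)),
    (3636, .gen 2025 (252, false)),
    (620, .gen 2025 (254, false)),
    (3175, .gen 2025 (255, false)),
    (1986, .gen 2025 (255, true)),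
    (1312, .gen 2383 (252, false)),
    (2736, .gen 2383 (254, false)),
    (3197, .gen 3363 (254, false)),
    (347, .gen 3363 (255, false)),
    (2087, .gen 3363 (255, true)),
    (3658, .gen 1133 (255, false)),
    (2675, .gen 1133 (255, true)),
    (2807, .gen 3377 (254, false)),
    (3225, .gen 2131 (254, false)),
    (3609, .gen 980 (251, false)),
    (2137, .gen 980 (252, false)),
    (3493, .gen 980 (254, false)),
    (1993, .gen 980 (255, false)),
    (1703, .gen 980 (255, true)),
    (938, .gen 2950 (252, false)),
    (732, .gen 2950 (254, false)),
    (3485, .gen 2486 (254, false)),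
    (2795, .gen 2486 (255, false)),
    (522, .gen 2486 (255, true)),
    (2873, .gen 3733 (255, false)),
    (1086, .gen 3733 (255, true)),
    (1153, .gen 3717 (254, false)),
    (3217, .gen 1202 (254, false)),
    (2044, .gen 1924 (251, false)),
    (3780, .gen 1924 (252, false)),
    (3627, .gen 1924 (254, false)),
    (1716, .gen 1924 (255, false)),
    (1747, .gen 1924 (255, true)),
    (489, .gen 3441 (252, false)),
    (2634, .gen 3441 (254, false)),
    (3360, .gen 3123 (254, false)),
    (614, .gen 3123 (255, false)),
    (1493, .gen 3123 (255, true)),
    (2925, .gen 1402 (255, false)),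
    (2790, .gen 1402 (255, true)),
    (1249, .gen 225 (254, false)),
    (2336, .gen 2494 (254, false)),
    (3784, .gen 213 (251, false)),
    (2689, .gen 213 (252, false)),
    (2836, .gen 213 (254, false)),
    (371, .gen 213 (255, false)),
    (501, .gen 213 (255, true)),
    (1719, .gen 3735 (252, false)),
    (929, .gen 3735 (254, false)),
    (3018, .gen 1443 (254, false)),
    (1671, .gen 1443 (255, false)),
    (1925, .gen 1443 (255, true)),
    (207, .gen 1247 (255, false)),
    (1384, .gen 1247 (255, true)),
    (875, .gen 1799 (254, false)),
    (3087, .gen 2841 (254, false)),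
    (3000, .gen 3002 (251, false)),
    (1055, .gen 3002 (252, false)),
    (738, .gen 3002 (254, false)),
    (1881, .gen 3002 (255, false)),
    (3015, .gen 3002 (255, true)),
    (942, .gen 3791 (252, false)),
    (3747, .gen 3791 (254, false)),
    (934, .gen 3692 (254, false)),
    (3396, .gen 3692 (255, false)),
    (1930, .gen 3692 (255, true)),
    (1920, .gen 2041 (255, false)),
    (3414, .gen 2041 (255, true)),
    (1586, .gen 1791 (254, false)),
    (860, .gen 2428 (254, false)),
    (2512, .gen 2834 (251, false)),
    (357, .gen 2834 (252, false)),
    (1309, .gen 2834 (254, false)),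
    (3374, .gen 2834 (255, false)),
    (2040, .gen 2834 (255, true)),
    (27, .gen 3183 (252, false)),
    (2202, .gen 3183 (254, false)),
    (267, .gen 1759 (254, false)),
    (2424, .gen 1759 (255, false)),
    (2911, .gen 1759 (255, true)),
    (2618, .gen 1120 (255, false)),
    (2969, .gen 1120 (255, true)),
    (1831, .gen 3126 (254, false)),
    (311, .gen 965 (254, false)),
    (2227, .gen 2356 (251, false)),
    (2917, .gen 2356 (252, false)),
    (884, .gen 2356 (254, false)),
    (1486, .gen 2356 (255, false)),
    (2173, .gen 2356 (255, true)),
    (169, .gen 2716 (252, false)),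
    (1191, .gen 2716 (254, false)),
    (3494, .gen 1850 (254, false)),
    (147, .gen 1850 (255, false)),
    (2822, .gen 1850 (255, true)),
    (1571, .gen 2677 (255, false)),
    (1801, .gen 2677 (255, true)),
    (2798, .gen 2172 (254, false)),
    (1409, .gen 2551 (254, false)),
    (551, .gen 3525 (251, false)),
    (3307, .gen 3525 (252, false)),
    (673, .gen 3525 (254, false)),
    (2764, .gen 3525 (255, false)),
    (3359, .gen 3525 (255, true)),
    (399, .gen 3576 (252, false)),
    (1645, .gen 3576 (254, false)),
    (1509, .gen 2628 (254, false)),
    (2511, .gen 2628 (255, false)),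
    (2489, .gen 2628 (255, true)),
    (3433, .gen 2709 (255, false)),
    (257, .gen 2709 (255, true)),
    (3613, .gen 2257 (254, false)),
    (187, .gen 1584 (254, false)),
    (3479, .gen 742 (251, false)),
    (3639, .gen 742 (252, false)),
    (880, .gen 742 (254, false)),
    (2770, .gen 742 (255, false)),
    (2482, .gen 742 (255, true)),
    (2742, .gen 3451 (252, false)),
    (989, .gen 3451 (254, false)),
    (3013, .gen 2657 (254, false)),
    (1135, .gen 2657 (255, false)),
    (3378, .gen 2657 (255, true)),
    (3353, .gen 2546 (255, false)),
    (1511, .gen 2546 (255, true)),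
    (3045, .gen 1823 (254, false)),
    (135, .gen 1079 (254, false)),
    (3726, .gen 57 (251, false)),
    (2749, .gen 57 (252, false)),
    (3238, .gen 57 (254, false)),
    (2470, .gen 57 (255, false)),
    (1664, .gen 57 (255, true)),
    (1151, .gen 161 (252, false)),
    (2644, .gen 161 (254, false)),
    (925, .gen 2781 (254, false)),
    (139, .gen 2781 (255, false)),
    (1950, .gen 2781 (255, true)),
    (1707, .gen 512 (255, false)),
    (3365, .gen 512 (255, true)),
    (548, .gen 1373 (254, false)),
    (18, .gen 289 (254, false)),
    (753, .gen 2000 (251, false)),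
    (2061, .gen 2000 (252, false)),
    (3512, .gen 2000 (254, false)),
    (1197, .gen 2000 (255, false)),
    (2754, .gen 2000 (255, true)),
    (2332, .gen 83 (252, false)),
    (2466, .gen 83 (254, false)),
    (3463, .gen 3668 (254, false)),
    (3711, .gen 3668 (255, false)),
    (2235, .gen 3668 (255, true)),
    (3328, .gen 12 (255, false)),
    (1441, .gen 12 (255, true)),
    (3605, .gen 1548 (254, false)),
    (859, .gen 660 (254, false)),
    (1343, .gen 901 (251, false)),
    (768, .gen 901 (252, false)),
    (710, .gen 901 (254, false)),
    (691, .gen 901 (255, false)),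
    (2020, .gen 901 (255, true)),
    (3149, .gen 3437 (252, false)),
    (3632, .gen 3437 (254, false)),
    (2245, .gen 3538 (254, false)),
    (3394, .gen 3538 (255, false)),
    (1206, .gen 3538 (255, true)),
    (2127, .gen 3704 (255, false)),
    (2718, .gen 3704 (255, true)),
    (3188, .gen 609 (254, false)),
    (1736, .gen 2588 (254, false)),
    (1038, .gen 228 (251, false)),
    (1987, .gen 228 (252, false)),
    (2968, .gen 228 (254, false)),
    (155, .gen 228 (255, false)),
    (1338, .gen 228 (255, true)),
    (1201, .gen 3518 (252, false)),
    (1700, .gen 3518 (254, false)),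
    (1162, .gen 2760 (254, false)),
    (3643, .gen 2760 (255, false)),
    (2858, .gen 2760 (255, true)),
    (1966, .gen 2297 (255, false)),
    (1624, .gen 2297 (255, true)),
    (330, .gen 2152 (254, false)),
    (3057, .gen 951 (254, false))]

/-- Visits. -/
def v15_8 : List (ℕ × Src) :=
  [(324, .gen 1127 (251, false)),
    (3218, .gen 1127 (252, false)),
    (2403, .gen 1127 (254, false)),
    (2002, .gen 1127 (255, false)),
    (1282, .gen 1127 (255, true)),
    (3017, .gen 3677 (252, false)),
    (1419, .gen 3677 (254, false)),
    (1972, .gen 1088 (254, false)),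
    (3380, .gen 1088 (255, false)),
    (3776, .gen 1088 (255, true)),
    (2624, .gen 3130 (255, false)),
    (3745, .gen 3130 (255, true)),
    (2215, .gen 1970 (254, false)),
    (3277, .gen 3140 (254, false)),
    (3191, .gen 2327 (251, false)),
    (3376, .gen 2327 (252, false)),
    (2295, .gen 2327 (254, false)),
    (2030, .gen 2327 (255, false)),
    (1648, .gen 2327 (255, true)),
    (2261, .gen 2007 (252, false)),
    (1616, .gen 2007 (254, false)),
    (3216, .gen 569 (254, false)),
    (188, .gen 569 (255, false)),
    (1937, .gen 569 (255, true)),
    (452, .gen 299 (255, false)),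
    (1886, .gen 299 (255, true)),
    (1124, .gen 2292 (254, false)),
    (1864, .gen 577 (254, false)),
    (2603, .gen 602 (251, false)),
    (638, .gen 602 (252, false)),
    (354, .gen 602 (254, false)),
    (2619, .gen 602 (255, false)),
    (2896, .gen 602 (255, true)),
    (2801, .gen 1108 (252, false)),
    (3265, .gen 1108 (254, false)),
    (1369, .gen 2274 (254, false)),
    (2208, .gen 2274 (255, false)),
    (3145, .gen 2274 (255, true)),
    (3777, .gen 2279 (255, false)),
    (2633, .gen 2279 (255, true)),
    (230, .gen 1300 (254, false)),
    (91, .gen 261 (254, false)),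
    (2330, .gen 1977 (251, false)),
    (2559, .gen 1977 (252, false)),
    (1710, .gen 1977 (254, false)),
    (3391, .gen 1977 (255, false)),
    (465, .gen 1977 (255, true)),
    (3119, .gen 2909 (252, false)),
    (1712, .gen 2909 (254, false)),
    (3135, .gen 264 (254, false)),
    (2847, .gen 264 (255, false)),
    (42, .gen 264 (255, true)),
    (1072, .gen 113 (255, false)),
    (1504, .gen 113 (255, true)),
    (1551, .gen 3516 (254, false)),
    (2562, .gen 971 (254, false)),
    (2431, .gen 1669 (251, false)),
    (3317, .gen 1669 (252, false)),
    (400, .gen 1669 (254, false)),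
    (2985, .gen 1669 (255, false)),
    (1252, .gen 1669 (255, true)),
    (1912, .gen 3166 (252, false)),
    (2361, .gen 3166 (254, false)),
    (3594, .gen 2422 (254, false)),
    (1051, .gen 2422 (255, false)),
    (2135, .gen 2422 (255, true)),
    (3686, .gen 2568 (255, false)),
    (3788, .gen 2568 (255, true)),
    (3034, .gen 3514 (254, false)),
    (2169, .gen 3212 (254, false)),
    (1477, .gen 1172 (251, false)),
    (3616, .gen 1172 (252, false)),
    (480, .gen 1172 (254, false)),
    (106, .gen 1172 (255, false)),
    (3049, .gen 1172 (255, true)),
    (2967, .gen 1483 (252, false)),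
    (1822, .gen 1483 (254, false)),
    (1595, .gen 633 (254, false)),
    (1235, .gen 633 (255, false)),
    (2773, .gen 633 (255, true)),
    (3611, .gen 1445 (255, false)),
    (1271, .gen 1445 (255, true)),
    (3425, .gen 3657 (254, false)),
    (1933, .gen 146 (254, false)),
    (1939, .gen 2820 (251, false)),
    (440, .gen 2820 (252, false)),
    (903, .gen 2820 (254, false)),
    (3387, .gen 2820 (255, false)),
    (157, .gen 2820 (255, true)),
    (1890, .gen 2163 (252, false)),
    (2699, .gen 2163 (254, false)),
    (1029, .gen 1194 (254, false)),
    (3564, .gen 1194 (255, false)),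
    (1489, .gen 1194 (255, true)),
    (2913, .gen 1948 (255, false)),
    (2918, .gen 1948 (255, true)),
    (3423, .gen 2354 (254, false)),
    (1351, .gen 883 (254, false)),
    (943, .gen 3227 (251, false)),
    (1601, .gen 3227 (252, false)),
    (303, .gen 3227 (254, false)),
    (632, .gen 3227 (255, false)),
    (2573, .gen 3227 (255, true)),
    (1743, .gen 3515 (252, false)),
    (3667, .gen 3515 (254, false)),
    (803, .gen 914 (254, false)),
    (3035, .gen 914 (255, false)),
    (2293, .gen 914 (255, true)),
    (2380, .gen 3213 (255, false)),
    (728, .gen 3213 (255, true)),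
    (1574, .gen 1451 (254, false)),
    (2325, .gen 2399 (254, false)),
    (1684, .gen 596 (251, false)),
    (1604, .gen 596 (252, false)),
    (20, .gen 596 (254, false)),
    (477, .gen 596 (255, false)),
    (783, .gen 596 (255, true)),
    (3623, .gen 0 (252, false)),
    (2894, .gen 0 (254, false)),
    (374, .gen 3482 (254, false)),
    (1306, .gen 3482 (255, false)),
    (3290, .gen 3482 (255, true)),
    (2196, .gen 3408 (255, false)),
    (1878, .gen 3408 (255, true)),
    (29, .gen 28 (254, false)),
    (923, .gen 1641 (254, false)),
    (2296, .gen 2897 (251, false)),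
    (1210, .gen 2897 (252, false)),
    (962, .gen 2897 (254, false)),
    (570, .gen 2897 (255, false)),
    (355, .gen 2897 (255, true)),
    (2233, .gen 672 (252, false)),
    (1946, .gen 672 (254, false)),
    (3078, .gen 688 (254, false)),
    (789, .gen 688 (255, false)),
    (841, .gen 688 (255, true)),
    (2013, .gen 3264 (255, false)),
    (2145, .gen 3264 (255, true)),
    (992, .gen 2648 (254, false)),
    (1995, .gen 1370 (254, false)),
    (890, .gen 3563 (251, false)),
    (542, .gen 3563 (252, false)),
    (1756, .gen 3563 (254, false)),
    (2702, .gen 3563 (255, false)),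
    (1203, .gen 3563 (255, true)),
    (1178, .gen 1093 (252, false)),
    (2815, .gen 1093 (254, false)),
    (1416, .gen 603 (254, false)),
    (1682, .gen 603 (255, false)),
    (466, .gen 603 (255, true)),
    (1497, .gen 585 (255, false)),
    (1175, .gen 585 (255, true)),
    (2506, .gen 3774 (254, false)),
    (2519, .gen 2319 (254, false)),
    (1457, .gen 821 (251, false)),
    (714, .gen 821 (252, false)),
    (899, .gen 821 (254, false)),
    (3263, .gen 821 (255, false)),
    (1882, .gen 821 (255, true)),
    (3672, .gen 866 (252, false)),
    (2658, .gen 866 (254, false)),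
    (820, .gen 381 (254, false)),
    (1815, .gen 381 (255, false)),
    (847, .gen 381 (255, true)),
    (2435, .gen 1957 (255, false)),
    (2214, .gen 1957 (255, true)),
    (2369, .gen 2036 (254, false)),
    (1855, .gen 3003 (254, false)),
    (544, .gen 3065 (251, false)),
    (1330, .gen 3065 (252, false)),
    (695, .gen 3065 (254, false)),
    (1847, .gen 3065 (255, false)),
    (2298, .gen 3065 (255, true)),
    (1579, .gen 1869 (252, false)),
    (189, .gen 1869 (254, false)),
    (2190, .gen 15 (254, false)),
    (790, .gen 15 (255, false)),
    (45, .gen 15 (255, true)),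
    (2520, .gen 1897 (255, false)),
    (2396, .gen 1897 (255, true)),
    (1494, .gen 2381 (254, false)),
    (373, .gen 2003 (254, false)),
    (3157, .gen 824 (251, false)),
    (1146, .gen 824 (252, false)),
    (202, .gen 824 (254, false)),
    (3177, .gen 824 (255, false)),
    (1800, .gen 824 (255, true)),
    (1746, .gen 2951 (252, false)),
    (1731, .gen 2951 (254, false)),
    (1964, .gen 597 (254, false)),
    (1732, .gen 597 (255, false)),
    (1418, .gen 597 (255, true)),
    (1590, .gen 463 (255, false)),
    (834, .gen 463 (255, true)),
    (2662, .gen 1853 (254, false)),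
    (2973, .gen 754 (254, false)),
    (1723, .gen 2960 (251, false)),
    (559, .gen 2960 (252, false)),
    (2895, .gen 2960 (254, false)),
    (1711, .gen 2960 (255, false)),
    (1845, .gen 2960 (255, true)),
    (1107, .gen 2884 (252, false)),
    (3189, .gen 2884 (254, false)),
    (3529, .gen 1889 (254, false)),
    (3755, .gen 1889 (255, false)),
    (1074, .gen 1889 (255, true)),
    (1526, .gen 21 (255, false)),
    (2286, .gen 21 (255, true)),
    (1531, .gen 2786 (254, false)),
    (2006, .gen 1803 (254, false)),
    (985, .gen 2217 (251, false)),
    (1435, .gen 2217 (252, false)),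
    (3737, .gen 2217 (254, false)),
    (1092, .gen 2217 (255, false)),
    (3278, .gen 2217 (255, true)),
    (2201, .gen 762 (252, false)),
    (681, .gen 762 (254, false)),
    (1231, .gen 2216 (254, false)),
    (2035, .gen 2216 (255, false)),
    (3229, .gen 2216 (255, true)),
    (1633, .gen 2166 (255, false)),
    (1425, .gen 2166 (255, true)),
    (1021, .gen 458 (254, false)),
    (69, .gen 968 (254, false)),
    (3585, .gen 1463 (251, false)),
    (422, .gen 1463 (252, false)),
    (2741, .gen 1463 (254, false)),
    (1865, .gen 1463 (255, false)),
    (871, .gen 1463 (255, true)),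
    (1804, .gen 686 (252, false)),
    (2983, .gen 686 (254, false)),
    (3311, .gen 1002 (254, false)),
    (3171, .gen 1002 (255, false)),
    (396, .gen 1002 (255, true)),
    (1784, .gen 2328 (255, false)),
    (3266, .gen 2328 (255, true)),
    (3173, .gen 804 (254, false)),
    (92, .gen 855 (254, false)),
    (2972, .gen 624 (251, false)),
    (333, .gen 624 (252, false)),
    (2015, .gen 624 (254, false)),
    (3304, .gen 624 (255, false)),
    (3786, .gen 624 (255, true)),
    (2340, .gen 588 (252, false)),
    (2122, .gen 588 (254, false)),
    (1519, .gen 142 (254, false)),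
    (1806, .gen 142 (255, false)),
    (1058, .gen 142 (255, true)),
    (2347, .gen 629 (255, false)),
    (670, .gen 629 (255, true)),
    (1142, .gen 2238 (254, false)),
    (474, .gen 1780 (254, false)),
    (3572, .gen 752 (251, false)),
    (2602, .gen 752 (252, false)),
    (515, .gen 752 (254, false)),
    (2857, .gen 752 (255, false)),
    (1317, .gen 752 (255, true)),
    (2751, .gen 1515 (252, false)),
    (3570, .gen 1515 (254, false)),
    (3323, .gen 3231 (254, false)),
    (3789, .gen 3231 (255, false)),
    (74, .gen 3231 (255, true)),
    (2177, .gen 1350 (255, false)),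
    (1569, .gen 1350 (255, true)),
    (2258, .gen 645 (254, false)),
    (1536, .gen 2232 (254, false)),
    (483, .gen 857 (251, false)),
    (2949, .gen 857 (252, false)),
    (2557, .gen 857 (254, false)),
    (2111, .gen 857 (255, false)),
    (811, .gen 857 (255, true)),
    (535, .gen 1750 (252, false)),
    (975, .gen 1750 (254, false)),
    (2203, .gen 3010 (254, false)),
    (1944, .gen 3010 (255, false)),
    (2563, .gen 3010 (255, true)),
    (708, .gen 1484 (255, false)),
    (3203, .gen 1484 (255, true)),
    (87, .gen 262 (254, false)),
    (868, .gen 1173 (254, false)),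
    (1773, .gen 1278 (251, false)),
    (1953, .gen 1278 (252, false)),
    (2460, .gen 1278 (254, false)),
    (1048, .gen 1278 (255, false)),
    (717, .gen 1278 (255, true)),
    (2838, .gen 2387 (252, false)),
    (613, .gen 2387 (254, false)),
    (1654, .gen 2231 (254, false)),
    (2221, .gen 2231 (255, false)),
    (3743, .gen 2231 (255, true)),
    (2952, .gen 3215 (255, false)),
    (3101, .gen 3215 (255, true)),
    (1676, .gen 1455 (254, false)),
    (2094, .gen 270 (254, false)),
    (253, .gen 3118 (251, false)),
    (3312, .gen 3118 (252, false)),
    (2398, .gen 3118 (254, false)),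
    (3472, .gen 3118 (255, false)),
    (2591, .gen 3118 (255, true)),
    (2867, .gen 2935 (252, false))]

/-- Visits. -/
def v15_9 : List (ℕ × Src) :=
  [(1898, .gen 2935 (254, false)),
    (1225, .gen 2745 (254, false)),
    (1532, .gen 2745 (255, false)),
    (2310, .gen 2745 (255, true)),
    (2461, .gen 828 (255, false)),
    (2178, .gen 828 (255, true)),
    (705, .gen 3150 (254, false)),
    (3421, .gen 3358 (254, false)),
    (1186, .gen 882 (254, false)),
    (1558, .gen 2560 (252, false)),
    (2878, .gen 2560 (254, false)),
    (1646, .gen 3043 (254, false)),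
    (3645, .gen 3043 (255, false)),
    (3440, .gen 3043 (255, true)),
    (716, .gen 3551 (254, false)),
    (3243, .gen 2248 (255, false)),
    (529, .gen 2248 (255, true)),
    (1352, .gen 1039 (254, false)),
    (1974, .gen 2567 (254, false)),
    (152, .gen 1901 (254, false)),
    (320, .gen 756 (252, false)),
    (2787, .gen 756 (254, false)),
    (2053, .gen 93 (254, false)),
    (2355, .gen 93 (255, false)),
    (3375, .gen 93 (255, true)),
    (704, .gen 1044 (254, false)),
    (3080, .gen 237 (255, false)),
    (158, .gen 237 (255, true)),
    (2427, .gen 3007 (254, false)),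
    (1734, .gen 1945 (254, false)),
    (3086, .gen 1751 (252, false)),
    (2575, .gen 1751 (254, false)),
    (526, .gen 131 (254, false)),
    (3333, .gen 131 (255, false)),
    (1535, .gen 131 (255, true)),
    (2183, .gen 2880 (254, false)),
    (1767, .gen 1134 (255, false)),
    (1976, .gen 1134 (255, true)),
    (2682, .gen 1979 (254, false)),
    (3069, .gen 2497 (254, false)),
    (907, .gen 2483 (252, false)),
    (1819, .gen 2483 (254, false)),
    (3534, .gen 290 (254, false)),
    (2554, .gen 290 (255, false)),
    (212, .gen 290 (255, true)),
    (2379, .gen 2093 (254, false)),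
    (3155, .gen 1813 (255, false)),
    (2598, .gen 1813 (255, true)),
    (1431, .gen 2123 (254, false)),
    (1655, .gen 236 (254, false)),
    (32, .gen 442 (252, false)),
    (1104, .gen 442 (254, false)),
    (2748, .gen 3085 (254, false)),
    (287, .gen 3085 (255, false)),
    (233, .gen 3085 (255, true)),
    (3659, .gen 3296 (254, false)),
    (3093, .gen 1917 (255, false)),
    (729, .gen 1917 (255, true)),
    (2663, .gen 268 (254, false)),
    (430, .gen 6 (254, false)),
    (359, .gen 2199 (255, false)),
    (3407, .gen 2408 (252, false)),
    (3444, .gen 505 (255, false)),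
    (454, .gen 505 (255, true)),
    (2390, .gen 3039 (254, false)),
    (2919, .gen 3371 (255, false)),
    (1320, .gen 2033 (252, false)),
    (2260, .gen 85 (255, false)),
    (3330, .gen 2700 (254, false)),
    (3244, .gen 576 (254, false)),
    (3320, .gen 2443 (252, false)),
    (372, .gen 2443 (254, false)),
    (669, .gen 856 (254, false)),
    (898, .gen 856 (255, false)),
    (2984, .gen 856 (255, true)),
    (2139, .gen 2655 (254, false)),
    (1437, .gen 2912 (255, false)),
    (2767, .gen 2912 (255, true)),
    (3310, .gen 1052 (254, false)),
    (2366, .gen 2499 (254, false)),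
    (1775, .gen 1667 (252, false)),
    (3068, .gen 1667 (254, false)),
    (523, .gen 462 (254, false)),
    (2200, .gen 462 (255, false)),
    (2079, .gen 462 (255, true)),
    (2744, .gen 136 (254, false)),
    (2149, .gen 2735 (255, false)),
    (2608, .gen 2735 (255, true)),
    (1326, .gen 3208 (254, false)),
    (829, .gen 340 (254, false)),
    (2806, .gen 837 (252, false)),
    (915, .gen 837 (254, false)),
    (3769, .gen 2832 (254, false)),
    (2696, .gen 2832 (255, false)),
    (1766, .gen 2832 (255, true)),
    (2899, .gen 3104 (254, false)),
    (2484, .gen 2104 (255, false)),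
    (987, .gen 2104 (255, true)),
    (2852, .gen 2656 (254, false)),
    (3146, .gen 3756 (254, false)),
    (3766, .gen 3554 (252, false)),
    (2548, .gen 3554 (254, false)),
    (1652, .gen 3129 (254, false)),
    (2957, .gen 3129 (255, false)),
    (434, .gen 3129 (255, true)),
    (3064, .gen 115 (254, false)),
    (3794, .gen 1004 (255, false)),
    (2376, .gen 1004 (255, true)),
    (2250, .gen 446 (254, false)),
    (1422, .gen 3260 (254, false)),
    (37, .gen 2073 (252, false)),
    (1818, .gen 1626 (255, false)),
    (525, .gen 1626 (255, true)),
    (331, .gen 2378 (252, false)),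
    (2352, .gen 2378 (254, false)),
    (2425, .gen 2051 (254, false)),
    (3622, .gen 2051 (255, false)),
    (575, .gen 2051 (255, true)),
    (199, .gen 595 (254, false)),
    (51, .gen 2544 (255, false)),
    (805, .gen 2544 (255, true)),
    (1962, .gen 185 (254, false)),
    (3638, .gen 1248 (254, false)),
    (1598, .gen 2113 (252, false)),
    (487, .gen 2113 (254, false)),
    (1491, .gen 3070 (254, false)),
    (1476, .gen 3070 (255, false)),
    (2641, .gen 3070 (255, true)),
    (3718, .gen 959 (254, false)),
    (256, .gen 2596 (255, false)),
    (3649, .gen 2596 (255, true)),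
    (3628, .gen 2423 (254, false)),
    (3783, .gen 689 (254, false)),
    (1660, .gen 40 (252, false)),
    (1121, .gen 40 (254, false)),
    (180, .gen 2802 (254, false)),
    (3716, .gen 2802 (255, false)),
    (2536, .gen 2802 (255, true)),
    (1722, .gen 667 (254, false)),
    (3601, .gen 1607 (255, false)),
    (1789, .gen 1607 (255, true)),
    (3752, .gen 3663 (254, false)),
    (2338, .gen 1816 (254, false)),
    (1636, .gen 2666 (252, false)),
    (427, .gen 2666 (254, false)),
    (1054, .gen 178 (254, false)),
    (1733, .gen 178 (255, false)),
    (1935, .gen 178 (255, true)),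
    (3275, .gen 2706 (254, false)),
    (612, .gen 651 (255, false)),
    (604, .gen 651 (255, true)),
    (90, .gen 2291 (254, false)),
    (1413, .gen 1066 (254, false)),
    (1956, .gen 2024 (255, false)),
    (816, .gen 2024 (255, true)),
    (2458, .gen 2083 (252, false)),
    (1101, .gen 2083 (254, false)),
    (3241, .gen 3112 (254, false)),
    (2683, .gen 3112 (255, false)),
    (900, .gen 3112 (255, true)),
    (3413, .gen 2650 (254, false)),
    (1740, .gen 3772 (255, false)),
    (3230, .gen 3772 (255, true)),
    (2478, .gen 1236 (254, false)),
    (3455, .gen 1490 (254, false)),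
    (2584, .gen 181 (252, false)),
    (2270, .gen 3695 (252, false)),
    (3712, .gen 3695 (254, false)),
    (1045, .gen 2539 (254, false)),
    (1345, .gen 2539 (255, false)),
    (1717, .gen 2539 (255, true)),
    (1242, .gen 1610 (254, false)),
    (945, .gen 1513 (255, false)),
    (858, .gen 1513 (255, true)),
    (2966, .gen 3274 (254, false)),
    (1396, .gen 3095 (254, false)),
    (3432, .gen 3753 (252, false)),
    (1478, .gen 3753 (254, false)),
    (3116, .gen 2092 (254, false)),
    (1795, .gen 2092 (255, false)),
    (830, .gen 2092 (255, true)),
    (2535, .gen 743 (254, false)),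
    (173, .gen 916 (255, false)),
    (2386, .gen 916 (255, true)),
    (1594, .gen 1561 (254, false)),
    (1506, .gen 406 (254, false)),
    (3192, .gen 3693 (252, false)),
    (2532, .gen 3693 (254, false)),
    (1168, .gen 1026 (254, false)),
    (2413, .gen 1026 (255, false)),
    (1982, .gen 1026 (255, true)),
    (2436, .gen 637 (254, false)),
    (1360, .gen 2358 (255, false)),
    (3345, .gen 2358 (255, true)),
    (3546, .gen 2289 (254, false)),
    (3582, .gen 3727 (254, false)),
    (3545, .gen 2411 (252, false)),
    (2529, .gen 2411 (254, false)),
    (2019, .gen 3198 (254, false)),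
    (2442, .gen 3198 (255, false)),
    (3060, .gen 3198 (255, true)),
    (974, .gen 3288 (254, false)),
    (919, .gen 68 (255, false)),
    (539, .gen 68 (255, true)),
    (3324, .gen 2326 (254, false)),
    (1798, .gen 2268 (254, false)),
    (1698, .gen 1670 (252, false)),
    (3372, .gen 1670 (254, false)),
    (2766, .gen 1741 (254, false)),
    (3491, .gen 1741 (255, false)),
    (1922, .gen 1741 (255, true)),
    (2962, .gen 1347 (254, false)),
    (1887, .gen 2452 (255, false)),
    (2370, .gen 2452 (255, true)),
    (2161, .gen 1232 (254, false)),
    (260, .gen 1440 (254, false)),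
    (3419, .gen 2189 (252, false)),
    (1399, .gen 2189 (254, false)),
    (1661, .gen 2503 (254, false)),
    (1136, .gen 2503 (255, false)),
    (2324, .gen 2503 (255, true)),
    (3530, .gen 1228 (254, false)),
    (2874, .gen 825 (255, false)),
    (1407, .gen 825 (255, true)),
    (2725, .gen 1256 (254, false)),
    (1217, .gen 1327 (254, false)),
    (3253, .gen 3535 (252, false)),
    (3669, .gen 3535 (254, false)),
    (2830, .gen 2394 (254, false)),
    (1763, .gen 2394 (255, false)),
    (3308, .gen 2394 (255, true)),
    (1005, .gen 2604 (254, false)),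
    (1885, .gen 1639 (255, false)),
    (2998, .gen 1639 (255, true)),
    (2746, .gen 1041 (254, false)),
    (1205, .gen 2800 (254, false)),
    (2188, .gen 1578 (252, false)),
    (675, .gen 1446 (255, false)),
    (1118, .gen 1446 (255, true)),
    (3471, .gen 2213 (252, false)),
    (1870, .gen 1253 (255, false)),
    (893, .gen 1253 (255, true)),
    (3634, .gen 1589 (252, false)),
    (249, .gen 1589 (254, false)),
    (3520, .gen 1250 (254, false)),
    (1156, .gen 1250 (255, false)),
    (3170, .gen 1250 (255, true)),
    (2940, .gen 3257 (254, false)),
    (3117, .gen 1069 (255, false)),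
    (2488, .gen 1069 (255, true)),
    (126, .gen 1219 (254, false)),
    (2514, .gen 2023 (254, false)),
    (3403, .gen 2479 (252, false)),
    (2595, .gen 2479 (254, false)),
    (1148, .gen 1811 (254, false)),
    (455, .gen 1811 (255, false)),
    (1721, .gen 1811 (255, true)),
    (2090, .gen 1575 (254, false)),
    (2955, .gen 549 (255, false)),
    (2081, .gen 549 (255, true)),
    (1174, .gen 1778 (254, false)),
    (274, .gen 543 (254, false)),
    (1015, .gen 2168 (252, false)),
    (174, .gen 2168 (254, false)),
    (3325, .gen 794 (254, false)),
    (1357, .gen 794 (255, false)),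
    (1931, .gen 794 (255, true)),
    (2267, .gen 1874 (254, false)),
    (3131, .gen 2368 (255, false)),
    (2733, .gen 2368 (255, true)),
    (2476, .gen 519 (254, false)),
    (2344, .gen 503 (254, false)),
    (3089, .gen 198 (252, false)),
    (1, .gen 198 (254, false)),
    (3705, .gen 1458 (254, false)),
    (1295, .gen 1458 (255, false)),
    (3348, .gen 1458 (255, true)),
    (107, .gen 778 (254, false)),
    (2600, .gen 3226 (255, false)),
    (2943, .gen 3226 (255, true)),
    (3762, .gen 154 (254, false)),
    (826, .gen 3041 (254, false)),
    (1404, .gen 160 (254, false)),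
    (653, .gen 850 (252, false)),
    (2364, .gen 850 (254, false)),
    (240, .gen 2872 (254, false)),
    (38, .gen 2872 (255, false)),
    (807, .gen 2872 (255, true)),
    (1951, .gen 2948 (254, false)),
    (2916, .gen 3694 (255, false)),
    (1550, .gen 3694 (255, true)),
    (7, .gen 598 (254, false)),
    (2678, .gen 3510 (254, false)),
    (3467, .gen 2727 (252, false)),
    (664, .gen 2727 (254, false)),
    (2382, .gen 1861 (254, false)),
    (3691, .gen 1861 (255, false)),
    (2814, .gen 1861 (255, true)),
    (2805, .gen 2587 (254, false)),
    (1658, .gen 486 (255, false))]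

/-- Visits. -/
def v15_10 : List (ℕ × Src) :=
  [(1839, .gen 486 (255, true)),
    (2453, .gen 3557 (254, false)),
    (644, .gen 3499 (254, false)),
    (1265, .gen 2039 (252, false)),
    (3681, .gen 1462 (255, false)),
    (392, .gen 1462 (255, true)),
    (482, .gen 2055 (252, false)),
    (221, .gen 2055 (254, false)),
    (2589, .gen 1559 (254, false)),
    (1123, .gen 1559 (255, false)),
    (1744, .gen 1559 (255, true)),
    (1544, .gen 167 (254, false)),
    (889, .gen 3158 (255, false)),
    (3719, .gen 3158 (255, true)),
    (1089, .gen 1705 (254, false)),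
    (1159, .gen 1392 (254, false)),
    (2186, .gen 2564 (252, false)),
    (386, .gen 2564 (254, false)),
    (2434, .gen 3697 (254, false)),
    (3562, .gen 3697 (255, false)),
    (2047, .gen 3697 (255, true)),
    (1149, .gen 3184 (254, false)),
    (933, .gen 2116 (255, false)),
    (701, .gen 2116 (255, true)),
    (3680, .gen 854 (254, false)),
    (2415, .gen 3220 (254, false)),
    (1011, .gen 3211 (252, false)),
    (1411, .gen 3211 (254, false)),
    (978, .gen 433 (254, false)),
    (3548, .gen 433 (255, false)),
    (1827, .gen 433 (255, true)),
    (3710, .gen 757 (254, false)),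
    (415, .gen 917 (255, false)),
    (2761, .gen 917 (255, true)),
    (2211, .gen 2454 (254, false)),
    (2799, .gen 1797 (254, false)),
    (2237, .gen 2255 (252, false)),
    (1035, .gen 2255 (254, false)),
    (2309, .gen 1324 (254, false)),
    (2086, .gen 1324 (255, false)),
    (1154, .gen 1324 (255, true)),
    (1805, .gen 1474 (254, false)),
    (1492, .gen 1824 (255, false)),
    (3004, .gen 1824 (255, true)),
    (555, .gen 3242 (254, false)),
    (2979, .gen 662 (254, false)),
    (3141, .gen 1863 (252, false)),
    (784, .gen 1332 (255, false)),
    (677, .gen 1332 (255, true)),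
    (3489, .gen 3072 (252, false)),
    (2048, .gen 3072 (254, false)),
    (2130, .gen 2886 (254, false)),
    (201, .gen 2886 (255, false)),
    (1583, .gen 2886 (255, true)),
    (2447, .gen 338 (254, false)),
    (2121, .gen 3787 (255, false)),
    (1331, .gen 3787 (255, true)),
    (2388, .gen 921 (254, false)),
    (870, .gen 3567 (254, false)),
    (1617, .gen 3617 (252, false)),
    (1836, .gen 3617 (254, false)),
    (594, .gen 2903 (254, false)),
    (1032, .gen 2903 (255, false)),
    (1160, .gen 2903 (255, true)),
    (2929, .gen 2115 (254, false)),
    (2717, .gen 1085 (255, false)),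
    (3584, .gen 1085 (255, true)),
    (426, .gen 2861 (254, false)),
    (3133, .gen 2723 (254, false)),
    (517, .gen 2578 (252, false)),
    (908, .gen 2578 (254, false)),
    (2525, .gen 1261 (254, false)),
    (1605, .gen 1261 (255, false)),
    (3079, .gen 1261 (255, true)),
    (3090, .gen 1496 (254, false)),
    (2134, .gen 1132 (255, false)),
    (3221, .gen 1132 (255, true)),
    (362, .gen 1848 (254, false)),
    (3496, .gen 1681 (254, false)),
    (2372, .gen 3200 (252, false)),
    (2306, .gen 3200 (254, false)),
    (531, .gen 2558 (254, false)),
    (3442, .gen 2558 (255, false)),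
    (601, .gen 2558 (255, true)),
    (3785, .gen 3782 (254, false)),
    (3429, .gen 715 (255, false)),
    (2888, .gen 715 (255, true)),
    (1417, .gen 2281 (254, false)),
    (2953, .gen 1770 (254, false)),
    (2138, .gen 2157 (252, false)),
    (2076, .gen 2157 (254, false)),
    (3569, .gen 384 (254, false)),
    (490, .gen 384 (255, false)),
    (2212, .gen 384 (255, true)),
    (2367, .gen 3075 (254, false)),
    (2902, .gen 3370 (255, false)),
    (2999, .gen 3370 (255, true)),
    (2159, .gen 2467 (254, false)),
    (1612, .gen 156 (254, false)),
    (2417, .gen 766 (252, false)),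
    (2037, .gen 766 (254, false)),
    (3771, .gen 2711 (254, false)),
    (2219, .gen 2711 (255, false)),
    (2747, .gen 2711 (255, true)),
    (1342, .gen 2879 (254, false)),
    (1334, .gen 1753 (255, false)),
    (3480, .gen 1753 (255, true)),
    (2331, .gen 1036 (254, false)),
    (1438, .gen 2397 (254, false)),
    (3767, .gen 1195 (252, false)),
    (1543, .gen 1195 (254, false)),
    (2481, .gen 1792 (254, false)),
    (3595, .gen 1792 (255, false)),
    (640, .gen 1792 (255, true)),
    (3509, .gen 3676 (254, false)),
    (3205, .gen 3739 (255, false)),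
    (494, .gen 3739 (255, true)),
    (1596, .gen 795 (254, false)),
    (3452, .gen 385 (254, false)),
    (806, .gen 2900 (252, false)),
    (411, .gen 2900 (254, false)),
    (1844, .gen 3036 (254, false)),
    (448, .gen 3036 (255, false)),
    (1695, .gen 3036 (255, true)),
    (3528, .gen 1410 (254, false)),
    (1622, .gen 2592 (255, false)),
    (2288, .gen 2592 (255, true)),
    (3478, .gen 211 (254, false)),
    (1524, .gen 2743 (254, false)),
    (782, .gen 1650 (252, false)),
    (121, .gen 1650 (254, false)),
    (3450, .gen 3251 (254, false)),
    (774, .gen 3251 (255, false)),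
    (2318, .gen 3251 (255, true)),
    (2058, .gen 1452 (254, false)),
    (1832, .gen 1696 (255, false)),
    (3474, .gen 1696 (255, true)),
    (2851, .gen 2068 (254, false)),
    (1989, .gen 846 (254, false)),
    (2869, .gen 2419 (252, false)),
    (2016, .gen 2419 (254, false)),
    (787, .gen 2496 (254, false)),
    (2661, .gen 2496 (255, false)),
    (2142, .gen 2496 (255, true)),
    (2821, .gen 1659 (254, false)),
    (3503, .gen 1675 (255, false)),
    (3354, .gen 1675 (255, true)),
    (3730, .gen 3022 (254, false)),
    (2465, .gen 492 (254, false)),
    (1280, .gen 123 (252, false)),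
    (813, .gen 123 (254, false)),
    (1600, .gen 1367 (254, false)),
    (1618, .gen 1367 (255, false)),
    (930, .gen 1367 (255, true)),
    (3305, .gen 1365 (254, false)),
    (1942, .gen 47 (255, false)),
    (1735, .gen 47 (255, true)),
    (2928, .gen 1672 (254, false)),
    (3271, .gen 2654 (254, false)),
    (1796, .gen 2204 (252, false)),
    (1216, .gen 2204 (254, false)),
    (1547, .gen 2866 (254, false)),
    (977, .gen 2866 (255, false)),
    (3169, .gen 2866 (255, true)),
    (2462, .gen 488 (254, false)),
    (1098, .gen 2782 (255, false)),
    (1934, .gen 2782 (255, true)),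
    (1456, .gen 2687 (254, false)),
    (2360, .gen 2176 (254, false)),
    (3709, .gen 2012 (252, false)),
    (116, .gen 2012 (254, false)),
    (2582, .gen 2846 (254, false)),
    (3115, .gen 2846 (255, false)),
    (1390, .gen 2846 (255, true)),
    (3536, .gen 2287 (254, false)),
    (2934, .gen 3055 (255, false)),
    (2993, .gen 3055 (255, true)),
    (3778, .gen 3453 (254, false)),
    (2808, .gen 1907 (254, false)),
    (49, .gen 1449 (252, false)),
    (3593, .gen 1449 (254, false)),
    (1102, .gen 2230 (254, false)),
    (1903, .gen 2230 (255, false)),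
    (3249, .gen 2230 (255, true)),
    (1538, .gen 3664 (254, false)),
    (1082, .gen 2392 (255, false)),
    (2959, .gen 2392 (255, true)),
    (2889, .gen 1916 (254, false)),
    (3194, .gen 1812 (254, false)),
    (2697, .gen 2001 (252, false)),
    (727, .gen 2001 (254, false)),
    (2833, .gen 2992 (254, false)),
    (322, .gen 2992 (255, false)),
    (1471, .gen 2992 (255, true)),
    (2817, .gen 1185 (254, false)),
    (3446, .gen 3561 (255, false)),
    (3436, .gen 3561 (255, true)),
    (2515, .gen 2565 (254, false)),
    (2105, .gen 1501 (254, false)),
    (25, .gen 2502 (252, false)),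
    (1932, .gen 2502 (254, false)),
    (2485, .gen 3651 (254, false)),
    (1985, .gen 3651 (255, false)),
    (3357, .gen 3651 (255, true)),
    (2175, .gen 1961 (254, false)),
    (587, .gen 3475 (255, false)),
    (1678, .gen 3475 (255, true)),
    (2739, .gen 1286 (254, false)),
    (1454, .gen 53 (254, false)),
    (424, .gen 1677 (252, false)),
    (2246, .gen 1677 (254, false)),
    (1147, .gen 431 (254, false)),
    (118, .gen 431 (255, false)),
    (739, .gen 431 (255, true)),
    (3341, .gen 1234 (254, false)),
    (3280, .gen 3156 (255, false)),
    (2776, .gen 3156 (255, true)),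
    (251, .gen 1344 (254, false)),
    (2724, .gen 1625 (254, false)),
    (3246, .gen 2726 (252, false)),
    (909, .gen 2726 (254, false)),
    (1679, .gen 3091 (254, false)),
    (865, .gen 3091 (255, false)),
    (244, .gen 3091 (255, true)),
    (1683, .gen 500 (254, false)),
    (1866, .gen 713 (255, false)),
    (2405, .gen 713 (255, true)),
    (3751, .gen 2809 (254, false)),
    (810, .gen 745 (254, false)),
    (2065, .gen 2681 (252, false)),
    (1199, .gen 2681 (254, false)),
    (3688, .gen 98 (254, false)),
    (1453, .gen 98 (255, false)),
    (2337, .gen 98 (255, true)),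
    (3707, .gen 1692 (254, false)),
    (2860, .gen 412 (255, false)),
    (721, .gen 412 (255, true)),
    (2193, .gen 1553 (254, false)),
    (849, .gen 2961 (254, false)),
    (1016, .gen 1060 (252, false)),
    (3459, .gen 1060 (254, false)),
    (3682, .gen 1465 (254, false)),
    (2091, .gen 1465 (255, false)),
    (302, .gen 1465 (255, true)),
    (1904, .gen 2680 (254, false)),
    (722, .gen 1304 (255, false)),
    (82, .gen 1304 (255, true)),
    (568, .gen 2577 (254, false)),
    (2549, .gen 3373 (254, false)),
    (2359, .gen 1810 (252, false)),
    (2031, .gen 1810 (254, false)),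
    (3566, .gen 592 (254, false)),
    (580, .gen 592 (255, false)),
    (1507, .gen 592 (255, true)),
    (1264, .gen 3097 (254, false)),
    (246, .gen 502 (255, false)),
    (3388, .gen 502 (255, true)),
    (162, .gen 88 (254, false)),
    (3053, .gen 558 (254, false)),
    (1222, .gen 627 (252, false)),
    (3023, .gen 627 (254, false)),
    (1772, .gen 224 (254, false)),
    (89, .gen 224 (255, false)),
    (30, .gen 224 (255, true)),
    (3178, .gen 1076 (254, false)),
    (120, .gen 206 (255, false)),
    (377, .gen 206 (255, true)),
    (1423, .gen 405 (254, false)),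
    (1214, .gen 1113 (254, false)),
    (3284, .gen 507 (252, false)),
    (1788, .gen 507 (254, false)),
    (1978, .gen 3578 (254, false)),
    (3699, .gen 3578 (255, false)),
    (3327, .gen 3578 (255, true)),
    (2346, .gen 963 (254, false)),
    (2783, .gen 773 (255, false)),
    (499, .gen 773 (255, true)),
    (1277, .gen 3606 (254, false)),
    (140, .gen 2124 (254, false)),
    (2670, .gen 1013 (252, false)),
    (269, .gen 1013 (254, false)),
    (55, .gen 524 (254, false)),
    (1144, .gen 524 (255, false)),
    (407, .gen 524 (255, true)),
    (862, .gen 1358 (254, false)),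
    (1187, .gen 747 (255, false)),
    (71, .gen 747 (255, true)),
    (944, .gen 1643 (254, false)),
    (496, .gen 2206 (254, false)),
    (2303, .gen 744 (252, false)),
    (552, .gen 744 (254, false)),
    (2259, .gen 100 (254, false)),
    (1475, .gen 100 (255, false)),
    (504, .gen 100 (255, true)),
    (1919, .gen 2426 (254, false)),
    (1106, .gen 3283 (255, false)),
    (586, .gen 3283 (255, true)),
    (1826, .gen 1638 (254, false)),
    (1761, .gen 3355 (254, false)),
    (370, .gen 2729 (252, false))]

/-- Visits. -/
def v15_11 : List (ℕ × Src) :=
  [(2100, .gen 2729 (254, false)),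
    (1436, .gen 3504 (254, false)),
    (3630, .gen 3504 (255, false)),
    (2829, .gen 3504 (255, true)),
    (65, .gen 210 (254, false)),
    (3368, .gen 409 (255, false)),
    (800, .gen 409 (255, true)),
    (3740, .gen 319 (254, false)),
    (3321, .gen 2120 (254, false)),
    (3167, .gen 2701 (252, false)),
    (3185, .gen 2701 (254, false)),
    (1239, .gen 3285 (254, false)),
    (103, .gen 3285 (255, false)),
    (2842, .gen 3285 (255, true)),
    (1859, .gen 1180 (254, false)),
    (5, .gen 179 (255, false)),
    (1582, .gen 179 (255, true)),
    (2247, .gen 232 (254, false)),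
    (2449, .gen 2004 (254, false)),
    (2448, .gen 911 (252, false)),
    (3174, .gen 911 (254, false)),
    (3541, .gen 2638 (254, false)),
    (3415, .gen 2638 (255, false)),
    (1353, .gen 2638 (255, true)),
    (1283, .gen 948 (254, false)),
    (3586, .gen 3646 (255, false)),
    (318, .gen 3646 (255, true)),
    (1027, .gen 508 (254, false)),
    (1466, .gen 1374 (254, false)),
    (2730, .gen 1557 (252, false)),
    (3519, .gen 1557 (254, false)),
    (3675, .gen 3517 (254, false)),
    (1834, .gen 3517 (255, false)),
    (628, .gen 3517 (255, true)),
    (3684, .gen 2906 (254, false)),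
    (2504, .gen 3379 (255, false)),
    (1348, .gen 3379 (255, true)),
    (3195, .gen 3621 (254, false)),
    (1530, .gen 67 (254, false)),
    (2673, .gen 927 (252, false)),
    (1196, .gen 927 (254, false)),
    (3587, .gen 2141 (254, false)),
    (3574, .gen 2141 (255, false)),
    (33, .gen 2141 (255, true)),
    (3364, .gen 2406 (254, false)),
    (2102, .gen 2322 (255, false)),
    (403, .gen 2322 (255, true)),
    (3349, .gen 114 (254, false)),
    (579, .gen 1523 (254, false)),
    (397, .gen 1699 (252, false)),
    (3032, .gen 1699 (254, false)),
    (3656, .gen 3636 (254, false)),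
    (3366, .gen 3636 (255, false)),
    (3758, .gen 3636 (255, true)),
    (1037, .gen 1312 (254, false)),
    (1730, .gen 3197 (255, false)),
    (567, .gen 3197 (255, true)),
    (428, .gen 347 (254, false)),
    (793, .gen 2087 (254, false)),
    (758, .gen 3609 (252, false)),
    (3303, .gen 3609 (254, false)),
    (3291, .gen 2137 (254, false)),
    (2114, .gen 2137 (255, false)),
    (122, .gen 2137 (255, true)),
    (1448, .gen 938 (254, false)),
    (148, .gen 3485 (255, false)),
    (164, .gen 3485 (255, true)),
    (2533, .gen 2795 (254, false)),
    (2180, .gen 522 (254, false)),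
    (176, .gen 2044 (252, false)),
    (3295, .gen 2044 (254, false)),
    (3038, .gen 3780 (254, false)),
    (3620, .gen 3780 (255, false)),
    (61, .gen 3780 (255, true)),
    (1296, .gen 489 (254, false)),
    (1694, .gen 3360 (255, false)),
    (1303, .gen 3360 (255, true)),
    (2320, .gen 614 (254, false)),
    (3655, .gen 1493 (254, false)),
    (3706, .gen 3784 (252, false)),
    (1738, .gen 3784 (254, false)),
    (2049, .gen 2689 (254, false)),
    (2077, .gen 2689 (255, false)),
    (1880, .gen 2689 (255, true)),
    (2473, .gen 1719 (254, false)),
    (2329, .gen 3018 (255, false)),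
    (3245, .gen 3018 (255, true)),
    (1480, .gen 1671 (254, false)),
    (2566, .gen 1925 (254, false)),
    (1340, .gen 3000 (252, false)),
    (2708, .gen 3000 (254, false)),
    (1737, .gen 1055 (254, false)),
    (2609, .gen 1055 (255, false)),
    (250, .gen 1055 (255, true)),
    (2556, .gen 942 (254, false)),
    (3127, .gen 934 (255, false)),
    (1629, .gen 934 (255, true)),
    (3352, .gen 3396 (254, false)),
    (1000, .gen 1930 (254, false)),
    (2771, .gen 2512 (252, false)),
    (2926, .gen 2512 (254, false)),
    (2469, .gen 357 (254, false)),
    (2543, .gen 357 (255, false)),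
    (2474, .gen 357 (255, true)),
    (1729, .gen 27 (254, false)),
    (2826, .gen 267 (255, false)),
    (1498, .gen 267 (255, true)),
    (538, .gen 2424 (254, false)),
    (680, .gen 2911 (254, false)),
    (3233, .gen 2227 (252, false)),
    (2282, .gen 2227 (254, false)),
    (3124, .gen 2917 (254, false)),
    (129, .gen 2917 (255, false)),
    (956, .gen 2917 (255, true)),
    (619, .gen 169 (254, false)),
    (1793, .gen 3494 (255, false)),
    (2363, .gen 3494 (255, true)),
    (402, .gen 147 (254, false)),
    (3443, .gen 2822 (254, false)),
    (1500, .gen 551 (252, false)),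
    (3641, .gen 551 (254, false)),
    (2684, .gen 3307 (254, false)),
    (571, .gen 3307 (255, false)),
    (239, .gen 3307 (255, true)),
    (646, .gen 399 (254, false)),
    (2097, .gen 1509 (255, false)),
    (3326, .gen 1509 (255, true)),
    (3144, .gen 2511 (254, false)),
    (973, .gen 2489 (254, false)),
    (479, .gen 3479 (252, false)),
    (297, .gen 3479 (254, false)),
    (2750, .gen 3639 (254, false)),
    (736, .gen 3639 (255, false)),
    (3581, .gen 3639 (255, true)),
    (312, .gen 2742 (254, false)),
    (802, .gen 3013 (255, false)),
    (606, .gen 3013 (255, true)),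
    (2022, .gen 1135 (254, false)),
    (2391, .gen 3378 (254, false)),
    (2707, .gen 3726 (252, false)),
    (414, .gen 3726 (254, false)),
    (2569, .gen 2749 (254, false)),
    (429, .gen 2749 (255, false)),
    (1849, .gen 2749 (255, true)),
    (1050, .gen 1151 (254, false)),
    (195, .gen 925 (255, false)),
    (2964, .gen 925 (255, true)),
    (1381, .gen 139 (254, false)),
    (441, .gen 1950 (254, false)),
    (2313, .gen 753 (252, false)),
    (1161, .gen 753 (254, false)),
    (332, .gen 2061 (254, false)),
    (823, .gen 2061 (255, false)),
    (3738, .gen 2061 (255, true)),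
    (1200, .gen 2332 (254, false)),
    (1858, .gen 3463 (255, false)),
    (2498, .gen 3463 (255, true)),
    (1771, .gen 3711 (254, false)),
    (3406, .gen 2235 (254, false)),
    (1549, .gen 1343 (252, false)),
    (818, .gen 1343 (254, false)),
    (2062, .gen 768 (254, false)),
    (1657, .gen 768 (255, false)),
    (1715, .gen 768 (255, true)),
    (39, .gen 3149 (254, false)),
    (792, .gen 2245 (255, false)),
    (280, .gen 2245 (255, true)),
    (3640, .gen 3394 (254, false)),
    (1893, .gen 1206 (254, false)),
    (725, .gen 1038 (252, false)),
    (294, .gen 1038 (254, false)),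
    (166, .gen 1987 (254, false)),
    (1287, .gen 1987 (255, false)),
    (3543, .gen 1987 (255, true)),
    (3309, .gen 1201 (254, false)),
    (2541, .gen 1162 (255, false)),
    (1872, .gen 1162 (255, true)),
    (1567, .gen 3643 (254, false)),
    (2236, .gen 2858 (254, false)),
    (1193, .gen 324 (252, false)),
    (2143, .gen 324 (254, false)),
    (2555, .gen 3218 (254, false)),
    (2373, .gen 3218 (255, false)),
    (3720, .gen 3218 (255, true)),
    (554, .gen 3017 (254, false)),
    (1528, .gen 1972 (255, false)),
    (2095, .gen 1972 (255, true)),
    (2875, .gen 3380 (254, false)),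
    (1001, .gen 3776 (254, false)),
    (1328, .gen 3191 (252, false)),
    (1632, .gen 3191 (254, false)),
    (3228, .gen 3376 (254, false)),
    (421, .gen 3376 (255, false)),
    (3703, .gen 3376 (255, true)),
    (1782, .gen 2261 (254, false)),
    (1227, .gen 3216 (255, false)),
    (3151, .gen 3216 (255, true)),
    (2323, .gen 188 (254, false)),
    (751, .gen 1937 (254, false)),
    (2042, .gen 2603 (252, false)),
    (1238, .gen 2603 (254, false)),
    (2892, .gen 638 (254, false)),
    (379, .gen 638 (255, false)),
    (3268, .gen 638 (255, true)),
    (1512, .gen 2801 (254, false)),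
    (2362, .gen 1369 (255, false)),
    (1856, .gen 1369 (255, true)),
    (2472, .gen 2208 (254, false)),
    (2734, .gen 3145 (254, false)),
    (2477, .gen 2330 (252, false)),
    (760, .gen 2330 (254, false)),
    (3438, .gen 2559 (254, false)),
    (958, .gen 2559 (255, false)),
    (2480, .gen 2559 (255, true)),
    (2550, .gen 3119 (254, false)),
    (3596, .gen 3135 (255, false)),
    (3209, .gen 3135 (255, true)),
    (1529, .gen 2847 (254, false)),
    (1439, .gen 42 (254, false)),
    (3483, .gen 2431 (252, false)),
    (2649, .gen 2431 (254, false)),
    (976, .gen 3317 (254, false)),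
    (1900, .gen 3317 (255, false)),
    (2540, .gen 3317 (255, true)),
    (1183, .gen 1912 (254, false)),
    (896, .gen 3594 (255, false)),
    (1169, .gen 3594 (255, true)),
    (2804, .gen 1051 (254, false)),
    (3492, .gen 2135 (254, false)),
    (3652, .gen 1477 (252, false)),
    (478, .gen 1477 (254, false)),
    (3466, .gen 3616 (254, false)),
    (2531, .gen 3616 (255, false)),
    (2704, .gen 3616 (255, true)),
    (1929, .gen 2967 (254, false)),
    (2803, .gen 1595 (255, false)),
    (2185, .gen 1595 (255, true)),
    (3763, .gen 1235 (254, false)),
    (3029, .gen 2773 (254, false)),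
    (3292, .gen 1939 (252, false)),
    (1192, .gen 1939 (254, false)),
    (1432, .gen 440 (254, false)),
    (1220, .gen 440 (255, false)),
    (3420, .gen 440 (255, true)),
    (3457, .gen 1890 (254, false)),
    (393, .gen 1029 (255, false)),
    (1034, .gen 1029 (255, true)),
    (2756, .gen 3564 (254, false)),
    (1714, .gen 1489 (254, false)),
    (3644, .gen 943 (252, false)),
    (2692, .gen 943 (254, false)),
    (2148, .gen 1601 (254, false)),
    (3334, .gen 1601 (255, false)),
    (845, .gen 1601 (255, true)),
    (3508, .gen 1743 (254, false)),
    (1842, .gen 803 (255, false)),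
    (351, .gen 803 (255, true)),
    (3725, .gen 3035 (254, false)),
    (844, .gen 2293 (254, false)),
    (3111, .gen 1684 (252, false)),
    (2611, .gen 1684 (254, false)),
    (3367, .gen 1604 (254, false)),
    (1908, .gen 1604 (255, false)),
    (2155, .gen 1604 (255, true)),
    (1968, .gen 3623 (254, false)),
    (1063, .gen 374 (255, false)),
    (2226, .gen 374 (255, true)),
    (2119, .gen 1306 (254, false)),
    (1008, .gen 3290 (254, false)),
    (3400, .gen 2296 (252, false)),
    (3449, .gen 2296 (254, false)),
    (3670, .gen 1210 (254, false)),
    (3350, .gen 1210 (255, false)),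
    (3732, .gen 1210 (255, true)),
    (3500, .gen 2233 (254, false)),
    (3014, .gen 3078 (255, false)),
    (1078, .gen 3078 (255, true)),
    (1838, .gen 789 (254, false)),
    (3559, .gen 841 (254, false)),
    (3147, .gen 890 (252, false)),
    (3331, .gen 890 (254, false)),
    (533, .gen 542 (254, false)),
    (3468, .gen 542 (255, false)),
    (2451, .gen 542 (255, true)),
    (2720, .gen 1178 (254, false)),
    (151, .gen 1416 (255, false)),
    (887, .gen 1416 (255, true)),
    (3062, .gen 1682 (254, false)),
    (2839, .gen 466 (254, false)),
    (2410, .gen 1457 (252, false)),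
    (1846, .gen 1457 (254, false)),
    (3531, .gen 714 (254, false)),
    (3025, .gen 714 (255, false)),
    (182, .gen 714 (255, true)),
    (3700, .gen 3672 (254, false)),
    (2713, .gen 820 (255, false)),
    (1470, .gen 820 (255, true)),
    (1764, .gen 1815 (254, false)),
    (1020, .gen 847 (254, false)),
    (141, .gen 544 (252, false))]

/-- Visits. -/
def v15_12 : List (ℕ × Src) :=
  [(1923, .gen 544 (254, false)),
    (2349, .gen 1330 (254, false)),
    (3042, .gen 1330 (255, false)),
    (23, .gen 1330 (255, true)),
    (3764, .gen 1579 (254, false)),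
    (2099, .gen 2190 (255, false)),
    (2586, .gen 2190 (255, true)),
    (564, .gen 790 (254, false)),
    (924, .gen 45 (254, false)),
    (671, .gen 3157 (252, false)),
    (2375, .gen 3157 (254, false)),
    (3369, .gen 1146 (254, false)),
    (1505, .gen 1146 (255, false)),
    (2844, .gen 1146 (255, true)),
    (799, .gen 1746 (254, false)),
    (1938, .gen 1964 (255, false)),
    (2849, .gen 1964 (255, true)),
    (2205, .gen 1732 (254, false)),
    (3361, .gen 1418 (254, false)),
    (1666, .gen 1723 (252, false)),
    (1053, .gen 1723 (254, false)),
    (2505, .gen 559 (254, false)),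
    (3154, .gen 559 (255, false)),
    (336, .gen 559 (255, true)),
    (3300, .gen 1107 (254, false)),
    (401, .gen 3529 (255, false)),
    (2500, .gen 3529 (255, true)),
    (3526, .gen 3755 (254, false)),
    (1289, .gen 1074 (254, false)),
    (3318, .gen 985 (252, false)),
    (3286, .gen 985 (254, false)),
    (353, .gen 1435 (254, false)),
    (3258, .gen 1435 (255, false)),
    (306, .gen 1435 (255, true)),
    (1007, .gen 2201 (254, false)),
    (2636, .gen 1231 (255, false)),
    (1926, .gen 1231 (255, true)),
    (3490, .gen 2035 (254, false)),
    (1521, .gen 3229 (254, false)),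
    (1599, .gen 3585 (252, false)),
    (3196, .gen 3585 (254, false)),
    (2129, .gen 422 (254, false)),
    (2052, .gen 422 (255, false)),
    (2402, .gen 422 (255, true)),
    (867, .gen 1804 (254, false)),
    (851, .gen 3311 (255, false)),
    (2793, .gen 3311 (255, true)),
    (874, .gen 3171 (254, false)),
    (1809, .gen 396 (254, false)),
    (1380, .gen 2972 (252, false)),
    (1581, .gen 2972 (254, false)),
    (1415, .gen 333 (254, false)),
    (842, .gen 333 (255, false)),
    (979, .gen 333 (255, true)),
    (560, .gen 2340 (254, false)),
    (1385, .gen 1519 (255, false)),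
    (2140, .gen 1519 (255, true)),
    (2590, .gen 1806 (254, false)),
    (2010, .gen 1058 (254, false)),
    (2136, .gen 3572 (252, false)),
    (836, .gen 3572 (254, false)),
    (3527, .gen 2602 (254, false)),
    (724, .gen 2602 (255, false)),
    (96, .gen 2602 (255, true)),
    (2865, .gen 2751 (254, false)),
    (1892, .gen 3323 (255, false)),
    (383, .gen 3323 (255, true)),
    (2765, .gen 3789 (254, false)),
    (3186, .gen 74 (254, false)),
    (1545, .gen 483 (252, false)),
    (2669, .gen 483 (254, false)),
    (1884, .gen 2949 (254, false)),
    (1668, .gen 2949 (255, false)),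
    (779, .gen 2949 (255, true)),
    (292, .gen 535 (254, false)),
    (327, .gen 2203 (255, false)),
    (378, .gen 2203 (255, true)),
    (2905, .gen 1944 (254, false)),
    (84, .gen 2563 (254, false)),
    (1355, .gen 1773 (252, false)),
    (2084, .gen 1773 (254, false)),
    (2351, .gen 1953 (254, false)),
    (698, .gen 1953 (255, false)),
    (831, .gen 1953 (255, true)),
    (839, .gen 2838 (254, false)),
    (1307, .gen 1654 (255, false)),
    (1276, .gen 1654 (255, true)),
    (3741, .gen 2221 (254, false)),
    (1182, .gen 3743 (254, false)),
    (1395, .gen 253 (252, false)),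
    (3736, .gen 253 (254, false)),
    (2244, .gen 3312 (254, false)),
    (2797, .gen 3312 (255, false)),
    (1293, .gen 3312 (255, true)),
    (2151, .gen 2867 (254, false)),
    (326, .gen 1225 (255, false)),
    (3637, .gen 1225 (255, true)),
    (471, .gen 1532 (254, false)),
    (3553, .gen 2310 (254, false)),
    (2954, .gen 1558 (254, false)),
    (2384, .gen 320 (254, false)),
    (3674, .gen 3086 (254, false)),
    (3298, .gen 907 (254, false)),
    (3172, .gen 32 (254, false)),
    (1928, .gen 3320 (254, false)),
    (1635, .gen 1775 (254, false)),
    (485, .gen 2806 (254, false)),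
    (3754, .gen 3766 (254, false)),
    (561, .gen 331 (254, false)),
    (2034, .gen 1598 (254, false)),
    (1292, .gen 1660 (254, false)),
    (1150, .gen 1636 (254, false)),
    (1337, .gen 2458 (254, false)),
    (610, .gen 2270 (254, false)),
    (366, .gen 3432 (254, false)),
    (3713, .gen 3192 (254, false)),
    (3344, .gen 3545 (254, false)),
    (2457, .gen 1698 (254, false)),
    (2312, .gen 3419 (254, false)),
    (1768, .gen 3253 (254, false)),
    (1592, .gen 3634 (254, false)),
    (3428, .gen 3403 (254, false)),
    (1375, .gen 1015 (254, false)),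
    (663, .gen 3089 (254, false)),
    (748, .gen 653 (254, false)),
    (2620, .gen 3467 (254, false)),
    (323, .gen 482 (254, false)),
    (2871, .gen 2186 (254, false)),
    (3083, .gen 1011 (254, false)),
    (668, .gen 2237 (254, false)),
    (3081, .gen 3489 (254, false)),
    (1427, .gen 1617 (254, false)),
    (2187, .gen 517 (254, false)),
    (3556, .gen 2372 (254, false)),
    (1158, .gen 2138 (254, false)),
    (2599, .gen 2417 (254, false)),
    (2209, .gen 3767 (254, false)),
    (3614, .gen 806 (254, false)),
    (2404, .gen 782 (254, false)),
    (3770, .gen 2869 (254, false)),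
    (1246, .gen 1280 (254, false)),
    (1325, .gen 1796 (254, false)),
    (339, .gen 3709 (254, false)),
    (2819, .gen 49 (254, false)),
    (692, .gen 2697 (254, false)),
    (3250, .gen 25 (254, false)),
    (838, .gen 424 (254, false)),
    (3168, .gen 3246 (254, false)),
    (988, .gen 2065 (254, false)),
    (2057, .gen 1016 (254, false)),
    (2660, .gen 2359 (254, false)),
    (991, .gen 1222 (254, false)),
    (521, .gen 3284 (254, false)),
    (1164, .gen 2670 (254, false)),
    (1899, .gen 2303 (254, false)),
    (2923, .gen 370 (254, false)),
    (19, .gen 3167 (254, false)),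
    (3281, .gen 2448 (254, false)),
    (193, .gen 2730 (254, false)),
    (2606, .gen 2673 (254, false)),
    (2530, .gen 397 (254, false)),
    (3383, .gen 758 (254, false)),
    (2132, .gen 176 (254, false)),
    (3332, .gen 3706 (254, false)),
    (1349, .gen 1340 (254, false)),
    (1765, .gen 2771 (254, false)),
    (1588, .gen 3233 (254, false)),
    (2581, .gen 1500 (254, false)),
    (1580, .gen 479 (254, false)),
    (2254, .gen 2707 (254, false)),
    (2128, .gen 2313 (254, false)),
    (3269, .gen 1549 (254, false)),
    (2096, .gen 725 (254, false)),
    (3661, .gen 1193 (254, false)),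
    (1084, .gen 1328 (254, false)),
    (2676, .gen 2042 (254, false)),
    (2629, .gen 2477 (254, false)),
    (3077, .gen 3483 (254, false)),
    (3335, .gen 3652 (254, false)),
    (2021, .gen 3292 (254, false)),
    (2516, .gen 3644 (254, false)),
    (1260, .gen 3111 (254, false)),
    (3351, .gen 3400 (254, false)),
    (3235, .gen 3147 (254, false)),
    (3160, .gen 2410 (254, false)),
    (2195, .gen 141 (254, false)),
    (2184, .gen 671 (254, false)),
    (3600, .gen 1666 (254, false)),
    (3547, .gen 3318 (254, false)),
    (1117, .gen 1599 (254, false)),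
    (1122, .gen 1380 (254, false)),
    (3511, .gen 2136 (254, false)),
    (2977, .gen 1545 (254, false)),
    (209, .gen 1355 (254, false)),
    (2085, .gen 1395 (254, false))]

/-- The visits of node 15. -/
def visits15 : List (ℕ × Src) :=
  v15_0 ++ v15_1 ++ v15_2 ++ v15_3 ++ v15_4 ++ v15_5 ++ v15_6 ++ v15_7 ++ v15_8 ++ v15_9 ++ v15_10 ++ v15_11 ++ v15_12


end Cfsg.Agent.J4Bound.Data
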