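import Cfsg.Agent.Lib.J4Pres.Bound.Cover

/-! Data of the double coset enumeration for the presented fourth Janko group (tools/j4/bound/emitb.py). -/

set_option autoImplicit false
set_option maxRecDepth 100000
set_option maxHeartbeats 0

namespace Cfsg.Agent.J4Bound.Data

/-- Visits. -/
def v16_0 : List (ℕ × Src) :=
  [(2, .edge 313 true),
    (2260, .edge 314 false),
    (1370, .edge 314 true),
    (85, .edge 315 false),
    (747, .edge 316 false),
    (3400, .edge 318 false),
    (3620, .edge 320 false),
    (1022, .edge 320 true),
    (2351, .edge 321 false),
    (2946, .edge 321 true),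
    (3441, .edge 322 false),
    (3015, .edge 322 true),
    (1622, .edge 323 false),
    (597, .edge 323 true),
    (2073, .edge 324 false),
    (2007, .edge 324 true),
    (2046, .edge 325 false),
    (2383, .edge 325 true),
    (3465, .edge 326 false),
    (2766, .edge 326 true),
    (644, .edge 327 false),
    (1078, .edge 327 true),
    (395, .edge 328 false),
    (10, .edge 328 true),
    (2676, .edge 329 false),
    (1084, .edge 329 true),
    (256, .edge 330 false),
    (1991, .edge 331 false),
    (1112, .edge 331 true),
    (2349, .edge 332 false),
    (557, .edge 333 false),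
    (3529, .edge 333 true),
    (2188, .edge 334 false),
    (274, .edge 334 true),
    (2377, .edge 335 false),
    (948, .edge 336 false),
    (1811, .edge 336 true),
    (935, .edge 337 false),
    (1120, .edge 337 true),
    (3706, .edge 338 false),
    (3310, .edge 339 false),
    (1790, .edge 339 true),
    (933, .edge 340 false),
    (1220, .edge 340 true),
    (2036, .edge 341 false),
    (55, .edge 342 false),
    (1534, .edge 343 false),
    (101, .edge 344 false),
    (2854, .edge 345 false),
    (1477, .edge 346 true),
    (3134, .edge 347 true),
    (1020, .edge 348 true),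
    (2251, .edge 349 true),
    (1846, .edge 350 false),
    (240, .edge 350 true),
    (17, .edge 351 false),
    (3072, .edge 351 true),
    (2375, .edge 352 false),
    (258, .edge 352 true),
    (2382, .edge 353 false),
    (2884, .edge 354 true),
    (1187, .edge 355 true),
    (2189, .edge 356 false),
    (1038, .edge 357 false),
    (2387, .edge 358 false),
    (1497, .edge 359 false),
    (206, .edge 360 true),
    (1922, .edge 361 false),
    (1369, .edge 362 true),
    (2148, .edge 363 false),
    (1980, .edge 364 false),
    (1839, .edge 365 true),
    (1118, .edge 366 true),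
    (823, .edge 367 false),
    (2591, .edge 367 true),
    (306, .edge 368 false),
    (1696, .edge 369 false),
    (3720, .edge 370 false),
    (2121, .edge 370 true),
    (1481, .edge 371 true),
    (2581, .edge 372 false),
    (2124, .edge 373 false),
    (522, .edge 374 true),
    (1113, .edge 389 false),
    (1626, .edge 390 false),
    (238, .edge 391 false),
    (1070, .edge 395 false),
    (1821, .edge 396 false),
    (3154, .edge 397 false),
    (303, .edge 421 true),
    (356, .edge 423 true),
    (2460, .edge 437 false),
    (2463, .edge 446 false),
    (1384, .edge 447 false),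
    (269, .edge 448 false),
    (2317, .edge 449 false),
    (435, .edge 456 true),
    (3626, .edge 458 false),
    (1334, .edge 463 false),
    (2617, .edge 487 true),
    (814, .edge 512 false),
    (144, .edge 513 false),
    (1641, .edge 514 false),
    (1995, .edge 515 false),
    (498, .edge 516 false),
    (8, .edge 517 false),
    (3654, .edge 519 true),
    (3041, .edge 520 true),
    (3111, .edge 526 true),
    (2510, .edge 528 true),
    (1480, .edge 537 true),
    (3090, .edge 540 true),
    (1423, .edge 549 true),
    (649, .edge 551 true),
    (1391, .edge 552 false),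
    (3712, .edge 553 false),
    (1261, .edge 554 false),
    (778, .edge 555 false),
    (1686, .edge 564 true),
    (2429, .edge 578 true),
    (2826, .edge 581 true),
    (1061, .edge 597 false),
    (384, .edge 598 false),
    (3358, .edge 604 false),
    (1715, .edge 615 true),
    (1574, .edge 616 true),
    (2267, .edge 642 true),
    (1506, .edge 648 true),
    (358, .edge 649 true),
    (3166, .edge 691 true),
    (1045, .edge 694 true),
    (2340, .edge 702 true),
    (779, .edge 707 true),
    (1625, .edge 709 true),
    (3600, .edge 716 false),
    (3254, .edge 717 false),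
    (3216, .edge 718 false),
    (553, .edge 724 true),
    (2466, .edge 741 true),
    (2203, .edge 743 true),
    (2597, .edge 746 false),
    (2736, .edge 747 false),
    (875, .edge 749 false),
    (3574, .edge 752 true),
    (3023, .edge 762 true),
    (1780, .edge 789 true),
    (1912, .edge 795 false),
    (3476, .edge 796 false),
    (701, .edge 800 true),
    (2074, .edge 803 false),
    (405, .edge 835 false),
    (360, .edge 836 false),
    (3078, .edge 848 true),
    (2847, .edge 849 true),
    (3021, .edge 877 false),
    (2079, .edge 878 false),
    (3581, .edge 879 false),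
    (1354, .edge 880 false),
    (1647, .edge 881 false),
    (3780, .edge 882 false),
    (3690, .edge 883 false),
    (2300, .edge 884 false),
    (3721, .edge 885 false),
    (559, .edge 886 false),
    (374, .edge 887 false),
    (2050, .edge 888 false),
    (3741, .edge 889 false),
    (2648, .edge 923 true),
    (2468, .edge 944 true),
    (172, .edge 969 true),
    (3500, .edge 970 true),
    (1358, .edge 973 true),
    (1642, .edge 974 true),
    (744, .edge 981 true),
    (961, .edge 988 true),
    (2583, .edge 990 true),
    (293, .edge 1004 true),
    (1132, .edge 1005 true),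
    (1214, .edge 1009 true),
    (2614, .edge 1012 true),
    (2722, .edge 1013 true),
    (812, .edge 1014 true),
    (510, .edge 1020 false),
    (486, .edge 1021 false),
    (904, .edge 1022 false),
    (334, .edge 1023 false),
    (1601, .edge 1028 true),
    (1301, .edge 1034 true),
    (2507, .edge 1102 true),
    (1107, .edge 1119 true),
    (44, .edge 1126 true),
    (922, .edge 1141 true),
    (3509, .edge 1144 true),
    (366, .edge 1170 true),
    (741, .edge 1187 false),
    (2013, .edge 1189 false),
    (2438, .edge 1206 true),
    (2198, .edge 1209 true),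
    (3179, .edge 1222 true),
    (877, .edge 1243 true),
    (1233, .edge 1260 false),
    (2137, .edge 1261 false),
    (3571, .edge 1262 false),
    (253, .edge 1292 true),
    (1068, .edge 1293 true),
    (2520, .edge 1377 true),
    (590, .edge 1378 true),
    (212, .edge 1393 true),
    (654, .edge 1430 true),
    (116, .edge 1453 true),
    (2857, .edge 1492 true),
    (864, .edge 1562 true),
    (1902, .edge 1564 true),
    (797, .edge 1567 true),
    (2233, .edge 1571 true),
    (757, .edge 1579 false),
    (1914, .edge 1580 false),
    (3771, .edge 1581 false),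
    (2232, .edge 1582 false),
    (13, .edge 1608 true),
    (709, .edge 1629 false),
    (1254, .edge 1632 false),
    (3583, .edge 1633 false),
    (3164, .edge 1645 true),
    (3504, .edge 1664 true),
    (988, .edge 1706 true),
    (873, .edge 1773 true),
    (189, .edge 1796 true),
    (452, .edge 1806 true),
    (3517, .edge 1808 true),
    (1179, .edge 1814 false),
    (2849, .edge 1815 false),
    (2709, .edge 1825 true),
    (2681, .edge 1839 true),
    (502, .edge 1848 false),
    (236, .edge 1850 true),
    (977, .gen 2 (317, false)),
    (1604, .gen 2 (317, true)),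
    (2112, .gen 2 (319, false)),
    (2585, .gen 2260 (317, false)),
    (1306, .gen 2260 (317, true)),
    (2155, .gen 2260 (319, false)),
    (3115, .gen 1370 (317, false)),
    (1944, .gen 1370 (317, true)),
    (2330, .gen 1370 (319, false)),
    (862, .gen 85 (317, false)),
    (2567, .gen 85 (317, true)),
    (3325, .gen 85 (319, false)),
    (3262, .gen 747 (317, false)),
    (3290, .gen 747 (317, true)),
    (3119, .gen 747 (319, false)),
    (3433, .gen 3400 (317, false)),
    (1704, .gen 3400 (317, true)),
    (3073, .gen 3400 (319, false)),
    (250, .gen 3620 (317, false)),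
    (1628, .gen 3620 (317, true)),
    (2840, .gen 3620 (319, false)),
    (3064, .gen 1022 (317, false)),
    (627, .gen 1022 (317, true)),
    (2643, .gen 1022 (319, false)),
    (427, .gen 2351 (317, false)),
    (2360, .gen 2351 (317, true)),
    (1969, .gen 2351 (319, false)),
    (514, .gen 2946 (317, false)),
    (339, .gen 2946 (317, true)),
    (3319, .gen 2946 (319, false)),
    (2758, .gen 3441 (317, false)),
    (3385, .gen 3441 (317, true)),
    (2278, .gen 3441 (319, false)),
    (1033, .gen 3015 (317, false)),
    (1298, .gen 3015 (317, true)),
    (391, .gen 3015 (319, false)),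
    (2603, .gen 1622 (317, false)),
    (1030, .gen 1622 (317, true)),
    (3341, .gen 1622 (319, false)),
    (549, .gen 597 (317, false)),
    (2307, .gen 597 (317, true)),
    (3218, .gen 597 (319, false)),
    (493, .gen 2073 (317, false)),
    (2846, .gen 2073 (317, true)),
    (1255, .gen 2007 (317, false)),
    (3121, .gen 2007 (317, true)),
    (840, .gen 2046 (317, false)),
    (186, .gen 2046 (317, true)),
    (2314, .gen 2383 (317, false)),
    (2828, .gen 2383 (317, true)),
    (1494, .gen 3465 (317, false)),
    (2135, .gen 3465 (317, true)),
    (1143, .gen 3465 (319, false)),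
    (1971, .gen 2766 (317, false)),
    (1618, .gen 2766 (317, true)),
    (3661, .gen 2766 (319, false)),
    (2174, .gen 644 (317, true)),
    (1379, .gen 644 (319, false)),
    (1280, .gen 1078 (317, false)),
    (826, .gen 1078 (319, false)),
    (2657, .gen 395 (317, false)),
    (2806, .gen 395 (317, true)),
    (1242, .gen 10 (317, false)),
    (3329, .gen 10 (317, true))]

/-- Visits. -/
def v16_1 : List (ℕ × Src) :=
  [(1231, .gen 10 (319, false)),
    (1928, .gen 2676 (317, false)),
    (1749, .gen 2676 (317, true)),
    (2883, .gen 256 (317, false)),
    (363, .gen 256 (319, false)),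
    (3323, .gen 1991 (317, true)),
    (668, .gen 1991 (319, false)),
    (2960, .gen 1112 (317, false)),
    (1324, .gen 1112 (319, false)),
    (2910, .gen 2349 (317, false)),
    (856, .gen 2349 (319, false)),
    (310, .gen 557 (319, false)),
    (2936, .gen 3529 (319, false)),
    (3763, .gen 2188 (317, true)),
    (752, .gen 2188 (319, false)),
    (393, .gen 274 (317, false)),
    (1559, .gen 2377 (319, false)),
    (3593, .gen 948 (317, false)),
    (2100, .gen 948 (319, false)),
    (1573, .gen 1811 (317, false)),
    (3170, .gen 1811 (317, true)),
    (647, .gen 1811 (319, false)),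
    (3471, .gen 935 (317, false)),
    (1842, .gen 1120 (317, true)),
    (3204, .gen 3706 (317, false)),
    (349, .gen 3706 (317, true)),
    (653, .gen 3310 (317, false)),
    (1586, .gen 3310 (317, true)),
    (2996, .gen 933 (317, false)),
    (3410, .gen 1220 (317, true)),
    (699, .gen 2036 (317, false)),
    (3105, .gen 2036 (317, true)),
    (2301, .gen 2036 (319, false)),
    (2798, .gen 55 (317, false)),
    (1054, .gen 55 (317, true)),
    (3781, .gen 55 (319, false)),
    (691, .gen 1534 (317, false)),
    (633, .gen 1534 (317, true)),
    (2321, .gen 1534 (319, false)),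
    (1585, .gen 101 (317, false)),
    (2757, .gen 101 (317, true)),
    (1317, .gen 101 (319, false)),
    (2699, .gen 2854 (317, false)),
    (820, .gen 2854 (317, true)),
    (3714, .gen 2854 (319, false)),
    (1226, .gen 1477 (317, false)),
    (762, .gen 1477 (317, true)),
    (2516, .gen 3134 (317, false)),
    (2545, .gen 3134 (317, true)),
    (102, .gen 3134 (319, false)),
    (321, .gen 1020 (317, false)),
    (3750, .gen 1020 (317, true)),
    (74, .gen 1020 (319, false)),
    (3685, .gen 2251 (317, false)),
    (300, .gen 2251 (317, true)),
    (151, .gen 1846 (317, false)),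
    (295, .gen 1846 (319, false)),
    (2907, .gen 240 (317, true)),
    (3666, .gen 240 (319, false)),
    (3364, .gen 17 (317, false)),
    (608, .gen 17 (317, true)),
    (610, .gen 17 (319, false)),
    (1057, .gen 3072 (317, false)),
    (3576, .gen 3072 (317, true)),
    (2222, .gen 3072 (319, false)),
    (67, .gen 2375 (317, false)),
    (1426, .gen 2375 (317, true)),
    (1366, .gen 2375 (319, false)),
    (1397, .gen 258 (317, false)),
    (3725, .gen 258 (317, true)),
    (1185, .gen 258 (319, false)),
    (182, .gen 2382 (317, false)),
    (3536, .gen 2382 (319, false)),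
    (1458, .gen 2884 (317, false)),
    (3074, .gen 2884 (317, true)),
    (3475, .gen 2884 (319, false)),
    (3426, .gen 1187 (317, false)),
    (957, .gen 1187 (317, true)),
    (294, .gen 1187 (319, false)),
    (2288, .gen 2189 (317, false)),
    (2693, .gen 2189 (317, true)),
    (313, .gen 2189 (319, false)),
    (1178, .gen 1038 (317, false)),
    (124, .gen 1038 (317, true)),
    (1110, .gen 2387 (317, false)),
    (1931, .gen 2387 (317, true)),
    (1872, .gen 1497 (317, false)),
    (1951, .gen 1497 (317, true)),
    (2435, .gen 1497 (319, false)),
    (634, .gen 206 (317, false)),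
    (1096, .gen 206 (317, true)),
    (748, .gen 206 (319, false)),
    (3604, .gen 1922 (317, false)),
    (1864, .gen 1922 (317, true)),
    (2043, .gen 1922 (319, false)),
    (3664, .gen 1369 (317, false)),
    (1860, .gen 1369 (317, true)),
    (2711, .gen 1369 (319, false)),
    (3059, .gen 2148 (317, false)),
    (443, .gen 2148 (319, false)),
    (3104, .gen 1980 (317, false)),
    (2031, .gen 1980 (317, true)),
    (158, .gen 1980 (319, false)),
    (3173, .gen 1839 (317, false)),
    (1116, .gen 1839 (317, true)),
    (1766, .gen 1839 (319, false)),
    (1409, .gen 1118 (317, false)),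
    (938, .gen 1118 (317, true)),
    (1274, .gen 1118 (319, false)),
    (1155, .gen 823 (317, false)),
    (3477, .gen 823 (317, true)),
    (1934, .gen 823 (319, false)),
    (984, .gen 2591 (317, false)),
    (2458, .gen 306 (317, false)),
    (1416, .gen 306 (317, true)),
    (3066, .gen 306 (319, false)),
    (459, .gen 1696 (317, false)),
    (807, .gen 1696 (317, true)),
    (3528, .gen 3720 (317, false)),
    (2985, .gen 3720 (317, true)),
    (3199, .gen 2121 (317, false)),
    (2462, .gen 2121 (317, true)),
    (1005, .gen 1481 (317, false)),
    (2962, .gen 1481 (317, true)),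
    (1900, .gen 1481 (319, false)),
    (3538, .gen 2581 (317, false)),
    (879, .gen 2581 (319, false)),
    (2333, .gen 2124 (317, false)),
    (1529, .gen 2124 (317, true)),
    (1180, .gen 2124 (319, false)),
    (2439, .gen 522 (317, false)),
    (1320, .gen 522 (317, true)),
    (865, .gen 522 (319, false)),
    (2047, .gen 1113 (317, false)),
    (1861, .gen 1113 (317, true)),
    (884, .gen 1113 (319, false)),
    (2661, .gen 1626 (317, false)),
    (1558, .gen 1626 (317, true)),
    (2114, .gen 1626 (319, false)),
    (3052, .gen 238 (317, false)),
    (2476, .gen 238 (317, true)),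
    (3551, .gen 238 (319, false)),
    (1633, .gen 1070 (317, false)),
    (687, .gen 1070 (317, true)),
    (2527, .gen 1070 (319, false)),
    (2094, .gen 1821 (317, false)),
    (2536, .gen 1821 (317, true)),
    (1316, .gen 1821 (319, false)),
    (1199, .gen 3154 (317, false)),
    (1977, .gen 3154 (317, true)),
    (773, .gen 3154 (319, false)),
    (3792, .gen 303 (317, false)),
    (1936, .gen 303 (317, true)),
    (2929, .gen 303 (319, false)),
    (1804, .gen 356 (317, false)),
    (107, .gen 356 (317, true)),
    (2133, .gen 356 (319, false)),
    (1855, .gen 2460 (317, false)),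
    (229, .gen 2460 (317, true)),
    (2315, .gen 2460 (319, false)),
    (3552, .gen 2463 (317, false)),
    (2830, .gen 2463 (317, true)),
    (3387, .gen 2463 (319, false)),
    (2871, .gen 1384 (317, false)),
    (1612, .gen 1384 (317, true)),
    (2443, .gen 1384 (319, false)),
    (3272, .gen 269 (317, false)),
    (3559, .gen 269 (317, true)),
    (2733, .gen 269 (319, false)),
    (2539, .gen 2317 (317, false)),
    (789, .gen 2317 (317, true)),
    (2571, .gen 2317 (319, false)),
    (365, .gen 435 (317, false)),
    (3149, .gen 435 (317, true)),
    (359, .gen 435 (319, false)),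
    (2039, .gen 3626 (317, false)),
    (404, .gen 3626 (317, true)),
    (3002, .gen 3626 (319, false)),
    (1464, .gen 1334 (317, false)),
    (3718, .gen 1334 (319, false)),
    (301, .gen 2617 (317, false)),
    (3238, .gen 2617 (317, true)),
    (2249, .gen 2617 (319, false)),
    (2918, .gen 814 (317, false)),
    (517, .gen 814 (317, true)),
    (3081, .gen 814 (319, false)),
    (3783, .gen 144 (317, false)),
    (2381, .gen 144 (317, true)),
    (2410, .gen 144 (319, false)),
    (537, .gen 1641 (317, false)),
    (2934, .gen 1641 (317, true)),
    (3347, .gen 1641 (319, false)),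
    (2009, .gen 1995 (317, false)),
    (1968, .gen 1995 (317, true)),
    (3045, .gen 1995 (319, false)),
    (3143, .gen 498 (317, false)),
    (3731, .gen 498 (317, true)),
    (3268, .gen 498 (319, false)),
    (1919, .gen 8 (317, false)),
    (638, .gen 8 (317, true)),
    (1027, .gen 8 (319, false)),
    (1752, .gen 3654 (317, false)),
    (1055, .gen 3654 (317, true)),
    (2338, .gen 3654 (319, false)),
    (1717, .gen 3041 (317, false)),
    (2327, .gen 3041 (317, true)),
    (3169, .gen 3041 (319, false)),
    (1013, .gen 3111 (317, false)),
    (1137, .gen 3111 (317, true)),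
    (3784, .gen 3111 (319, false)),
    (2914, .gen 2510 (317, false)),
    (707, .gen 2510 (317, true)),
    (3360, .gen 2510 (319, false)),
    (2900, .gen 1480 (317, false)),
    (3578, .gen 1480 (317, true)),
    (3197, .gen 1480 (319, false)),
    (3582, .gen 3090 (317, false)),
    (2968, .gen 3090 (317, true)),
    (982, .gen 3090 (319, false)),
    (3788, .gen 1423 (317, false)),
    (298, .gen 1423 (317, true)),
    (1676, .gen 1423 (319, false)),
    (2570, .gen 649 (317, false)),
    (2600, .gen 649 (317, true)),
    (2967, .gen 649 (319, false)),
    (3667, .gen 1391 (317, false)),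
    (2726, .gen 1391 (317, true)),
    (2922, .gen 1391 (319, false)),
    (1170, .gen 3712 (317, false)),
    (279, .gen 3712 (317, true)),
    (507, .gen 3712 (319, false)),
    (1167, .gen 1261 (317, false)),
    (3597, .gen 1261 (317, true)),
    (3485, .gen 1261 (319, false)),
    (1048, .gen 778 (317, false)),
    (946, .gen 778 (317, true)),
    (2322, .gen 778 (319, false)),
    (28, .gen 1686 (317, false)),
    (2856, .gen 1686 (317, true)),
    (555, .gen 1686 (319, false)),
    (583, .gen 2429 (317, false)),
    (1701, .gen 2429 (317, true)),
    (2729, .gen 2429 (319, false)),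
    (1207, .gen 2826 (317, false)),
    (2072, .gen 2826 (317, true)),
    (210, .gen 2826 (319, false)),
    (2602, .gen 1061 (317, false)),
    (831, .gen 1061 (317, true)),
    (2207, .gen 1061 (319, false)),
    (2947, .gen 384 (317, false)),
    (2416, .gen 384 (317, true)),
    (1718, .gen 384 (319, false)),
    (3765, .gen 3358 (317, false)),
    (3445, .gen 3358 (319, false)),
    (1940, .gen 1715 (317, false)),
    (1783, .gen 1715 (317, true)),
    (1845, .gen 1715 (319, false)),
    (811, .gen 1574 (317, false)),
    (2450, .gen 1574 (317, true)),
    (2003, .gen 1574 (319, false)),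
    (1605, .gen 2267 (317, false)),
    (1813, .gen 2267 (317, true)),
    (3371, .gen 2267 (319, false)),
    (1307, .gen 1506 (317, false)),
    (1816, .gen 1506 (317, true)),
    (2107, .gen 358 (317, false)),
    (0, .gen 358 (317, true)),
    (1404, .gen 3166 (317, false)),
    (697, .gen 3166 (317, true)),
    (2060, .gen 3166 (319, false)),
    (1135, .gen 1045 (317, false)),
    (3324, .gen 1045 (317, true)),
    (1197, .gen 1045 (319, false)),
    (1498, .gen 2340 (317, false)),
    (2789, .gen 2340 (317, true)),
    (327, .gen 2340 (319, false)),
    (1796, .gen 779 (317, false)),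
    (2791, .gen 779 (317, true)),
    (2480, .gen 1625 (317, false)),
    (3274, .gen 1625 (317, true)),
    (3397, .gen 1625 (319, false)),
    (540, .gen 3600 (317, false)),
    (3150, .gen 3600 (317, true)),
    (1186, .gen 3600 (319, false)),
    (839, .gen 3254 (317, false)),
    (3109, .gen 3254 (317, true)),
    (3642, .gen 3254 (319, false)),
    (882, .gen 3216 (317, false)),
    (1282, .gen 3216 (317, true)),
    (2392, .gen 3216 (319, false)),
    (3264, .gen 553 (317, false)),
    (3468, .gen 553 (317, true)),
    (1004, .gen 553 (319, false)),
    (1547, .gen 2466 (317, false)),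
    (1007, .gen 2466 (317, true)),
    (998, .gen 2203 (317, false)),
    (3267, .gen 2203 (317, true)),
    (966, .gen 2203 (319, false)),
    (1421, .gen 2597 (317, false)),
    (481, .gen 2597 (317, true))]

/-- Visits. -/
def v16_2 : List (ℕ × Src) :=
  [(849, .gen 2597 (319, false)),
    (2721, .gen 2736 (317, false)),
    (2173, .gen 2736 (317, true)),
    (2141, .gen 2736 (319, false)),
    (1486, .gen 875 (317, false)),
    (835, .gen 875 (317, true)),
    (244, .gen 875 (319, false)),
    (465, .gen 3574 (317, false)),
    (166, .gen 3574 (317, true)),
    (2672, .gen 3574 (319, false)),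
    (3246, .gen 3023 (317, false)),
    (785, .gen 3023 (317, true)),
    (2863, .gen 3023 (319, false)),
    (3794, .gen 1780 (317, false)),
    (2151, .gen 1780 (317, true)),
    (639, .gen 1780 (319, false)),
    (1548, .gen 1912 (317, false)),
    (1145, .gen 1912 (317, true)),
    (3560, .gen 1912 (319, false)),
    (1177, .gen 3476 (317, false)),
    (2921, .gen 3476 (317, true)),
    (3222, .gen 3476 (319, false)),
    (2208, .gen 701 (317, false)),
    (3344, .gen 701 (317, true)),
    (629, .gen 701 (319, false)),
    (3303, .gen 2074 (317, false)),
    (3219, .gen 2074 (317, true)),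
    (2140, .gen 2074 (319, false)),
    (2808, .gen 405 (317, false)),
    (3586, .gen 405 (317, true)),
    (2888, .gen 405 (319, false)),
    (1198, .gen 360 (317, false)),
    (2773, .gen 360 (317, true)),
    (1668, .gen 360 (319, false)),
    (3012, .gen 3078 (317, false)),
    (1539, .gen 3078 (317, true)),
    (3194, .gen 3078 (319, false)),
    (2986, .gen 2847 (317, false)),
    (417, .gen 2847 (317, true)),
    (1522, .gen 2847 (319, false)),
    (2511, .gen 3021 (317, false)),
    (1882, .gen 3021 (317, true)),
    (3609, .gen 3021 (319, false)),
    (368, .gen 2079 (317, false)),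
    (740, .gen 2079 (317, true)),
    (3434, .gen 2079 (319, false)),
    (1584, .gen 3581 (317, false)),
    (226, .gen 3581 (317, true)),
    (2044, .gen 3581 (319, false)),
    (2076, .gen 1354 (317, false)),
    (3102, .gen 1354 (317, true)),
    (3435, .gen 1354 (319, false)),
    (3075, .gen 1647 (317, false)),
    (2298, .gen 1647 (317, true)),
    (1557, .gen 1647 (319, false)),
    (1909, .gen 3780 (317, false)),
    (100, .gen 3780 (317, true)),
    (2632, .gen 3780 (319, false)),
    (2348, .gen 3690 (317, false)),
    (602, .gen 3690 (317, true)),
    (133, .gen 3690 (319, false)),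
    (677, .gen 2300 (317, false)),
    (9, .gen 2300 (317, true)),
    (444, .gen 2300 (319, false)),
    (529, .gen 3721 (317, false)),
    (46, .gen 3721 (317, true)),
    (3283, .gen 3721 (319, false)),
    (494, .gen 559 (317, false)),
    (524, .gen 559 (317, true)),
    (927, .gen 559 (319, false)),
    (2965, .gen 374 (317, false)),
    (1800, .gen 374 (317, true)),
    (1228, .gen 374 (319, false)),
    (419, .gen 2050 (317, false)),
    (1240, .gen 2050 (317, true)),
    (584, .gen 2050 (319, false)),
    (239, .gen 3741 (317, false)),
    (1875, .gen 3741 (317, true)),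
    (2311, .gen 3741 (319, false)),
    (1230, .gen 2648 (317, false)),
    (2805, .gen 2648 (317, true)),
    (3716, .gen 2648 (319, false)),
    (1346, .gen 2468 (317, false)),
    (468, .gen 2468 (317, true)),
    (1189, .gen 2468 (319, false)),
    (2800, .gen 172 (317, false)),
    (3652, .gen 172 (317, true)),
    (3427, .gen 172 (319, false)),
    (2264, .gen 3500 (317, false)),
    (973, .gen 3500 (317, true)),
    (1852, .gen 3500 (319, false)),
    (1524, .gen 1358 (317, false)),
    (3705, .gen 1358 (317, true)),
    (3717, .gen 1358 (319, false)),
    (1046, .gen 1642 (317, false)),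
    (3281, .gen 1642 (317, true)),
    (3184, .gen 1642 (319, false)),
    (1209, .gen 744 (317, false)),
    (1039, .gen 744 (317, true)),
    (3332, .gen 744 (319, false)),
    (3678, .gen 961 (317, false)),
    (3220, .gen 961 (317, true)),
    (1847, .gen 961 (319, false)),
    (1576, .gen 2583 (317, false)),
    (1396, .gen 2583 (317, true)),
    (3540, .gen 2583 (319, false)),
    (448, .gen 293 (317, false)),
    (3145, .gen 293 (317, true)),
    (866, .gen 293 (319, false)),
    (37, .gen 1132 (317, false)),
    (2171, .gen 1132 (317, true)),
    (3203, .gen 1132 (319, false)),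
    (1476, .gen 1214 (317, false)),
    (2186, .gen 1214 (317, true)),
    (1017, .gen 1214 (319, false)),
    (2346, .gen 2614 (317, false)),
    (2656, .gen 2614 (317, true)),
    (3482, .gen 2614 (319, false)),
    (1323, .gen 2722 (317, false)),
    (2862, .gen 2722 (317, true)),
    (3639, .gen 2722 (319, false)),
    (1364, .gen 812 (317, false)),
    (1545, .gen 812 (317, true)),
    (3226, .gen 812 (319, false)),
    (923, .gen 510 (317, false)),
    (886, .gen 510 (317, true)),
    (1917, .gen 510 (319, false)),
    (3644, .gen 486 (317, false)),
    (1224, .gen 486 (317, true)),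
    (3379, .gen 486 (319, false)),
    (2218, .gen 904 (317, false)),
    (394, .gen 904 (317, true)),
    (1552, .gen 904 (319, false)),
    (3752, .gen 334 (317, false)),
    (544, .gen 334 (317, true)),
    (3778, .gen 334 (319, false)),
    (1862, .gen 1601 (317, false)),
    (2119, .gen 1601 (317, true)),
    (2678, .gen 1601 (319, false)),
    (2465, .gen 1301 (317, false)),
    (3163, .gen 1301 (317, true)),
    (3343, .gen 1301 (319, false)),
    (2565, .gen 2507 (317, false)),
    (3687, .gen 2507 (317, true)),
    (2816, .gen 2507 (319, false)),
    (796, .gen 1107 (317, false)),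
    (804, .gen 1107 (317, true)),
    (1492, .gen 1107 (319, false)),
    (2481, .gen 44 (317, false)),
    (3147, .gen 44 (317, true)),
    (954, .gen 44 (319, false)),
    (2580, .gen 922 (317, false)),
    (3326, .gen 922 (317, true)),
    (1085, .gen 922 (319, false)),
    (3092, .gen 3509 (317, false)),
    (1445, .gen 3509 (317, true)),
    (2113, .gen 3509 (319, false)),
    (1258, .gen 366 (317, false)),
    (2827, .gen 366 (317, true)),
    (924, .gen 366 (319, false)),
    (3095, .gen 741 (317, false)),
    (1126, .gen 741 (317, true)),
    (1974, .gen 741 (319, false)),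
    (1660, .gen 2013 (317, false)),
    (2247, .gen 2013 (317, true)),
    (3106, .gen 2013 (319, false)),
    (299, .gen 2438 (317, false)),
    (2534, .gen 2438 (317, true)),
    (2742, .gen 2438 (319, false)),
    (216, .gen 2198 (317, false)),
    (476, .gen 2198 (317, true)),
    (999, .gen 2198 (319, false)),
    (2553, .gen 3179 (317, false)),
    (1799, .gen 3179 (317, true)),
    (1833, .gen 3179 (319, false)),
    (121, .gen 877 (317, false)),
    (815, .gen 877 (317, true)),
    (3013, .gen 877 (319, false)),
    (1678, .gen 1233 (317, false)),
    (2595, .gen 1233 (317, true)),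
    (853, .gen 1233 (319, false)),
    (25, .gen 2137 (317, false)),
    (108, .gen 2137 (317, true)),
    (683, .gen 2137 (319, false)),
    (2335, .gen 3571 (317, false)),
    (1680, .gen 3571 (317, true)),
    (3479, .gen 3571 (319, false)),
    (1200, .gen 253 (317, false)),
    (3120, .gen 253 (317, true)),
    (2292, .gen 253 (319, false)),
    (3759, .gen 1068 (317, false)),
    (1400, .gen 1068 (317, true)),
    (2694, .gen 1068 (319, false)),
    (1579, .gen 2520 (317, false)),
    (421, .gen 2520 (317, true)),
    (2017, .gen 2520 (319, false)),
    (3672, .gen 590 (317, false)),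
    (775, .gen 590 (317, true)),
    (132, .gen 590 (319, false)),
    (1490, .gen 212 (317, false)),
    (665, .gen 212 (317, true)),
    (1688, .gen 212 (319, false)),
    (1602, .gen 654 (317, false)),
    (3126, .gen 654 (317, true)),
    (1765, .gen 654 (319, false)),
    (2342, .gen 116 (317, false)),
    (1287, .gen 116 (317, true)),
    (3133, .gen 116 (319, false)),
    (204, .gen 2857 (317, false)),
    (1128, .gen 2857 (317, true)),
    (1501, .gen 2857 (319, false)),
    (23, .gen 864 (317, false)),
    (95, .gen 864 (317, true)),
    (3440, .gen 864 (319, false)),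
    (489, .gen 1902 (317, false)),
    (3627, .gen 1902 (317, true)),
    (2380, .gen 1902 (319, false)),
    (3671, .gen 797 (317, false)),
    (2244, .gen 797 (317, true)),
    (2901, .gen 797 (319, false)),
    (233, .gen 2233 (317, false)),
    (311, .gen 2233 (317, true)),
    (535, .gen 2233 (319, false)),
    (1997, .gen 757 (317, false)),
    (1551, .gen 757 (317, true)),
    (2045, .gen 757 (319, false)),
    (337, .gen 1914 (317, false)),
    (2695, .gen 1914 (317, true)),
    (1130, .gen 1914 (319, false)),
    (1142, .gen 3771 (317, false)),
    (1412, .gen 3771 (317, true)),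
    (2486, .gen 3771 (319, false)),
    (693, .gen 2232 (317, false)),
    (2290, .gen 2232 (317, true)),
    (980, .gen 2232 (319, false)),
    (2303, .gen 13 (317, false)),
    (1036, .gen 13 (317, true)),
    (344, .gen 13 (319, false)),
    (2528, .gen 709 (317, false)),
    (2258, .gen 709 (317, true)),
    (2904, .gen 709 (319, false)),
    (1887, .gen 1254 (317, false)),
    (1711, .gen 1254 (317, true)),
    (141, .gen 1254 (319, false)),
    (2475, .gen 3583 (317, false)),
    (2326, .gen 3583 (317, true)),
    (2776, .gen 3583 (319, false)),
    (111, .gen 3164 (317, false)),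
    (168, .gen 3164 (317, true)),
    (2696, .gen 3164 (319, false)),
    (3003, .gen 3504 (317, false)),
    (1424, .gen 3504 (317, true)),
    (174, .gen 3504 (319, false)),
    (1192, .gen 988 (317, false)),
    (1657, .gen 988 (317, true)),
    (554, .gen 988 (319, false)),
    (2361, .gen 873 (317, false)),
    (718, .gen 873 (317, true)),
    (2248, .gen 873 (319, false)),
    (3777, .gen 189 (317, false)),
    (2095, .gen 189 (317, true)),
    (1883, .gen 189 (319, false)),
    (1886, .gen 452 (317, false)),
    (1606, .gen 452 (317, true)),
    (1787, .gen 452 (319, false)),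
    (2675, .gen 3517 (317, false)),
    (1954, .gen 3517 (317, true)),
    (1794, .gen 3517 (319, false)),
    (2621, .gen 1179 (317, false)),
    (2033, .gen 1179 (317, true)),
    (960, .gen 1179 (319, false)),
    (2041, .gen 2849 (317, false)),
    (2562, .gen 2849 (317, true)),
    (1533, .gen 2849 (319, false)),
    (1479, .gen 2709 (317, false)),
    (2586, .gen 2709 (317, true)),
    (2178, .gen 2709 (319, false)),
    (1499, .gen 2681 (317, false)),
    (2652, .gen 2681 (317, true)),
    (140, .gen 2681 (319, false)),
    (3118, .gen 502 (317, false)),
    (2715, .gen 502 (317, true)),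
    (612, .gen 502 (319, false)),
    (1077, .gen 236 (317, false)),
    (2051, .gen 236 (317, true)),
    (661, .gen 236 (319, false)),
    (3443, .gen 977 (317, false)),
    (824, .gen 977 (319, false)),
    (3561, .gen 1604 (319, false)),
    (467, .gen 2112 (317, false)),
    (221, .gen 2112 (317, true)),
    (2034, .gen 2585 (317, false)),
    (1444, .gen 2585 (319, false)),
    (2485, .gen 1306 (319, false)),
    (1288, .gen 2155 (317, false)),
    (3697, .gen 2155 (317, true)),
    (2763, .gen 3115 (317, false)),
    (2835, .gen 3115 (319, false)),
    (3237, .gen 1944 (319, false)),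
    (576, .gen 2330 (317, false))]

/-- Visits. -/
def v16_3 : List (ℕ × Src) :=
  [(648, .gen 2330 (317, true)),
    (2540, .gen 862 (317, false)),
    (2982, .gen 862 (319, false)),
    (2817, .gen 2567 (319, false)),
    (2627, .gen 3325 (317, false)),
    (1256, .gen 3325 (317, true)),
    (2262, .gen 3262 (317, false)),
    (3563, .gen 3262 (319, false)),
    (1455, .gen 3290 (319, false)),
    (98, .gen 3119 (317, false)),
    (4, .gen 3119 (317, true)),
    (506, .gen 3433 (317, false)),
    (736, .gen 3433 (319, false)),
    (3659, .gen 1704 (319, false)),
    (3696, .gen 3073 (317, false)),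
    (2344, .gen 3073 (317, true)),
    (3029, .gen 250 (317, false)),
    (2845, .gen 250 (319, false)),
    (704, .gen 1628 (319, false)),
    (3544, .gen 2840 (317, false)),
    (1235, .gen 2840 (317, true)),
    (631, .gen 3064 (317, false)),
    (715, .gen 3064 (319, false)),
    (2861, .gen 627 (319, false)),
    (605, .gen 2643 (317, false)),
    (1957, .gen 2643 (317, true)),
    (992, .gen 427 (317, false)),
    (1823, .gen 427 (319, false)),
    (1472, .gen 2360 (319, false)),
    (3689, .gen 1969 (317, false)),
    (512, .gen 1969 (317, true)),
    (3202, .gen 514 (317, false)),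
    (2801, .gen 514 (319, false)),
    (3298, .gen 339 (319, false)),
    (772, .gen 3319 (317, false)),
    (3646, .gen 3319 (317, true)),
    (1915, .gen 2758 (317, false)),
    (2266, .gen 2758 (319, false)),
    (2731, .gen 3385 (319, false)),
    (989, .gen 2278 (317, false)),
    (1355, .gen 2278 (317, true)),
    (3156, .gen 1033 (317, false)),
    (3739, .gen 1033 (319, false)),
    (387, .gen 1298 (319, false)),
    (566, .gen 391 (317, false)),
    (2740, .gen 391 (317, true)),
    (1205, .gen 2603 (317, false)),
    (3060, .gen 2603 (319, false)),
    (2357, .gen 1030 (319, false)),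
    (1175, .gen 549 (319, false)),
    (3585, .gen 2307 (319, false)),
    (1609, .gen 3218 (317, false)),
    (1047, .gen 493 (317, false)),
    (2531, .gen 493 (319, false)),
    (3680, .gen 2846 (319, false)),
    (1999, .gen 1255 (317, false)),
    (1332, .gen 1255 (319, false)),
    (3054, .gen 3121 (319, false)),
    (3085, .gen 840 (317, false)),
    (1001, .gen 840 (319, false)),
    (3549, .gen 186 (319, false)),
    (1081, .gen 2314 (317, false)),
    (2088, .gen 2314 (319, false)),
    (1193, .gen 2828 (319, false)),
    (2555, .gen 1494 (317, false)),
    (1550, .gen 1494 (319, false)),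
    (1904, .gen 2135 (319, false)),
    (2019, .gen 1143 (317, false)),
    (1695, .gen 1143 (317, true)),
    (885, .gen 1971 (317, false)),
    (2032, .gen 1971 (319, false)),
    (30, .gen 3661 (317, false)),
    (33, .gen 3661 (317, true)),
    (2312, .gen 2174 (319, false)),
    (624, .gen 1379 (317, false)),
    (3645, .gen 1379 (317, true)),
    (3710, .gen 1280 (319, false)),
    (3573, .gen 826 (317, false)),
    (3317, .gen 826 (317, true)),
    (2010, .gen 2657 (319, false)),
    (2255, .gen 1242 (317, false)),
    (2004, .gen 1928 (317, false)),
    (1808, .gen 2883 (319, false)),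
    (1003, .gen 363 (317, false)),
    (64, .gen 363 (317, true)),
    (3083, .gen 3323 (319, false)),
    (153, .gen 668 (317, false)),
    (503, .gen 668 (317, true)),
    (433, .gen 2960 (319, false)),
    (562, .gen 1324 (317, false)),
    (3348, .gen 1324 (317, true)),
    (323, .gen 2910 (319, false)),
    (89, .gen 856 (317, false)),
    (1260, .gen 856 (317, true)),
    (235, .gen 310 (317, false)),
    (2885, .gen 310 (317, true)),
    (993, .gen 2936 (317, false)),
    (2638, .gen 2936 (317, true)),
    (680, .gen 1559 (317, false)),
    (1352, .gen 1559 (317, true)),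
    (3211, .gen 3593 (319, false)),
    (3618, .gen 2100 (317, false)),
    (1687, .gen 2100 (317, true)),
    (2421, .gen 1573 (317, false)),
    (655, .gen 3170 (319, false)),
    (312, .gen 647 (317, true)),
    (1217, .gen 3471 (319, false)),
    (894, .gen 3204 (317, false)),
    (1805, .gen 3204 (319, false)),
    (3474, .gen 653 (319, false)),
    (2797, .gen 3410 (319, false)),
    (3214, .gen 699 (317, false)),
    (2026, .gen 699 (319, false)),
    (2221, .gen 3105 (319, false)),
    (3176, .gen 2301 (317, false)),
    (2616, .gen 2301 (317, true)),
    (3386, .gen 2798 (317, false)),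
    (2259, .gen 2798 (319, false)),
    (2759, .gen 1054 (319, false)),
    (1154, .gen 3781 (317, false)),
    (2842, .gen 691 (317, false)),
    (3453, .gen 691 (319, false)),
    (833, .gen 2321 (317, false)),
    (685, .gen 1585 (317, false)),
    (3094, .gen 1585 (319, false)),
    (3430, .gen 2757 (319, false)),
    (3351, .gen 1317 (317, false)),
    (2543, .gen 2699 (317, false)),
    (2091, .gen 2699 (319, false)),
    (3185, .gen 820 (319, false)),
    (2434, .gen 3714 (317, false)),
    (1157, .gen 3714 (317, true)),
    (2224, .gen 1226 (317, false)),
    (636, .gen 1226 (319, false)),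
    (520, .gen 762 (319, false)),
    (2483, .gen 2516 (317, false)),
    (1697, .gen 2516 (319, false)),
    (985, .gen 2545 (319, false)),
    (1667, .gen 102 (317, false)),
    (3497, .gen 102 (317, true)),
    (3284, .gen 321 (317, false)),
    (3336, .gen 321 (319, false)),
    (2793, .gen 3750 (319, false)),
    (2825, .gen 74 (317, false)),
    (3142, .gen 74 (317, true)),
    (2880, .gen 3685 (317, false)),
    (2077, .gen 3685 (319, false)),
    (632, .gen 300 (319, false)),
    (951, .gen 151 (319, false)),
    (2388, .gen 295 (317, false)),
    (2282, .gen 3666 (317, false)),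
    (2753, .gen 3364 (317, false)),
    (148, .gen 608 (319, false)),
    (2313, .gen 610 (317, false)),
    (1901, .gen 610 (317, true)),
    (1739, .gen 1057 (317, false)),
    (1831, .gen 2222 (317, false)),
    (407, .gen 2222 (317, true)),
    (1010, .gen 67 (317, false)),
    (2130, .gen 1426 (319, false)),
    (2821, .gen 182 (319, false)),
    (3760, .gen 3536 (317, false)),
    (2961, .gen 3536 (317, true)),
    (2741, .gen 1458 (317, false)),
    (2870, .gen 1458 (319, false)),
    (3707, .gen 3074 (319, false)),
    (1105, .gen 3475 (317, false)),
    (2291, .gen 3475 (317, true)),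
    (3522, .gen 3426 (317, false)),
    (3108, .gen 3426 (319, false)),
    (213, .gen 957 (319, false)),
    (3432, .gen 294 (317, false)),
    (2142, .gen 294 (317, true)),
    (2994, .gen 2288 (317, false)),
    (3394, .gen 2288 (319, false)),
    (2530, .gen 2693 (319, false)),
    (2403, .gen 313 (317, false)),
    (3137, .gen 1178 (317, false)),
    (2431, .gen 1178 (319, false)),
    (400, .gen 124 (319, false)),
    (671, .gen 1110 (317, false)),
    (2002, .gen 1110 (319, false)),
    (990, .gen 1931 (319, false)),
    (2576, .gen 1872 (317, false)),
    (1762, .gen 1872 (319, false)),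
    (1194, .gen 1951 (319, false)),
    (2809, .gen 2435 (317, false)),
    (331, .gen 2435 (317, true)),
    (3391, .gen 634 (317, false)),
    (1795, .gen 634 (319, false)),
    (1889, .gen 1096 (319, false)),
    (1595, .gen 748 (317, false)),
    (2202, .gen 748 (317, true)),
    (1247, .gen 3604 (317, false)),
    (2402, .gen 3604 (319, false)),
    (1617, .gen 1864 (319, false)),
    (1661, .gen 2043 (317, false)),
    (1611, .gen 2043 (317, true)),
    (2484, .gen 3664 (317, false)),
    (1495, .gen 3664 (319, false)),
    (2052, .gen 1860 (319, false)),
    (3252, .gen 2711 (317, false)),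
    (2192, .gen 2711 (317, true)),
    (3390, .gen 3059 (319, false)),
    (2913, .gen 443 (317, false)),
    (2988, .gen 443 (317, true)),
    (586, .gen 3104 (317, false)),
    (643, .gen 3104 (319, false)),
    (819, .gen 2031 (319, false)),
    (716, .gen 158 (317, false)),
    (1768, .gen 158 (317, true)),
    (3036, .gen 3173 (317, false)),
    (1251, .gen 1116 (319, false)),
    (1802, .gen 1766 (317, true)),
    (1754, .gen 1409 (317, false)),
    (1159, .gen 938 (319, false)),
    (386, .gen 1274 (317, true)),
    (878, .gen 1155 (317, false)),
    (1719, .gen 1155 (319, false)),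
    (2083, .gen 3477 (319, false)),
    (1091, .gen 984 (319, false)),
    (3733, .gen 2458 (317, false)),
    (1318, .gen 2458 (319, false)),
    (414, .gen 1416 (319, false)),
    (1874, .gen 3066 (317, false)),
    (2989, .gen 459 (317, false)),
    (2708, .gen 459 (319, false)),
    (2629, .gen 807 (319, false)),
    (1360, .gen 3528 (317, false)),
    (888, .gen 3528 (319, false)),
    (876, .gen 3199 (317, false)),
    (3304, .gen 2462 (319, false)),
    (556, .gen 1005 (317, false)),
    (1262, .gen 1005 (319, false)),
    (1491, .gen 1900 (317, false)),
    (2990, .gen 3538 (319, false)),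
    (1296, .gen 879 (317, false)),
    (1449, .gen 879 (317, true)),
    (2323, .gen 2333 (317, false)),
    (426, .gen 2333 (319, false)),
    (1733, .gen 1180 (317, false)),
    (81, .gen 2439 (317, false)),
    (57, .gen 1320 (319, false)),
    (1394, .gen 865 (317, true)),
    (2172, .gen 2047 (317, false)),
    (2187, .gen 2047 (319, false)),
    (2280, .gen 1861 (319, false)),
    (3339, .gen 884 (317, false)),
    (949, .gen 884 (317, true)),
    (916, .gen 2661 (317, false)),
    (821, .gen 2661 (319, false)),
    (2356, .gen 1558 (319, false)),
    (260, .gen 2114 (317, false)),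
    (184, .gen 2114 (317, true)),
    (2725, .gen 3052 (317, false)),
    (832, .gen 3052 (319, false)),
    (1102, .gen 2476 (319, false)),
    (423, .gen 3551 (317, false)),
    (901, .gen 3551 (317, true)),
    (447, .gen 1633 (317, false)),
    (764, .gen 1633 (319, false)),
    (801, .gen 687 (319, false)),
    (1031, .gen 2527 (317, false)),
    (1993, .gen 2527 (317, true)),
    (135, .gen 2094 (317, false)),
    (1414, .gen 2094 (319, false)),
    (578, .gen 2536 (319, false)),
    (3331, .gen 1316 (317, false)),
    (3711, .gen 1316 (317, true)),
    (2310, .gen 1199 (317, false)),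
    (1911, .gen 1199 (319, false)),
    (3723, .gen 1977 (319, false)),
    (495, .gen 773 (317, false)),
    (854, .gen 773 (317, true)),
    (2048, .gen 3792 (317, false)),
    (1138, .gen 3792 (319, false)),
    (2549, .gen 1936 (319, false)),
    (332, .gen 2929 (317, false)),
    (3431, .gen 1804 (317, false)),
    (794, .gen 1804 (319, false)),
    (1682, .gen 2133 (317, false)),
    (2624, .gen 1855 (317, false)),
    (3027, .gen 1855 (319, false)),
    (3769, .gen 229 (319, false)),
    (1623, .gen 2315 (317, false)),
    (600, .gen 2315 (317, true)),
    (2228, .gen 3552 (317, false)),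
    (1437, .gen 3552 (319, false)),
    (402, .gen 2830 (319, false)),
    (1271, .gen 3387 (317, false)),
    (1086, .gen 2871 (317, false)),
    (891, .gen 2871 (319, false)),
    (759, .gen 1612 (319, false)),
    (2957, .gen 2443 (317, false)),
    (646, .gen 2443 (317, true)),
    (3614, .gen 3272 (317, false)),
    (1108, .gen 3559 (319, false)),
    (3270, .gen 2733 (317, true)),
    (1325, .gen 2539 (317, false)),
    (2724, .gen 2539 (319, false))]

/-- Visits. -/
def v16_4 : List (ℕ × Src) :=
  [(3030, .gen 789 (319, false)),
    (2909, .gen 2571 (317, false)),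
    (440, .gen 2571 (317, true)),
    (1588, .gen 365 (317, false)),
    (2021, .gen 365 (319, false)),
    (3484, .gen 3149 (319, false)),
    (1024, .gen 359 (317, false)),
    (2626, .gen 359 (317, true)),
    (3643, .gen 2039 (317, false)),
    (2930, .gen 2039 (319, false)),
    (532, .gen 404 (319, false)),
    (1956, .gen 3002 (317, false)),
    (2197, .gen 3002 (317, true)),
    (2971, .gen 1464 (319, false)),
    (2547, .gen 3718 (317, false)),
    (3001, .gen 3718 (317, true)),
    (547, .gen 301 (317, false)),
    (3008, .gen 3238 (319, false)),
    (1525, .gen 2249 (317, true)),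
    (1000, .gen 2918 (317, false)),
    (397, .gen 2918 (319, false)),
    (2332, .gen 517 (319, false)),
    (1670, .gen 3081 (317, false)),
    (463, .gen 3081 (317, true)),
    (2750, .gen 3783 (317, false)),
    (2110, .gen 3783 (319, false)),
    (2668, .gen 2381 (319, false)),
    (1212, .gen 2410 (317, false)),
    (470, .gen 2410 (317, true)),
    (2407, .gen 537 (317, false)),
    (1672, .gen 537 (319, false)),
    (3601, .gen 2934 (319, false)),
    (3248, .gen 3347 (317, false)),
    (1035, .gen 3347 (317, true)),
    (1791, .gen 2009 (317, false)),
    (3456, .gen 2009 (319, false)),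
    (3686, .gen 1968 (319, false)),
    (1724, .gen 3045 (317, false)),
    (1897, .gen 3045 (317, true)),
    (2194, .gen 3143 (317, false)),
    (1518, .gen 3143 (319, false)),
    (3447, .gen 3731 (319, false)),
    (281, .gen 3268 (317, false)),
    (1720, .gen 3268 (317, true)),
    (2620, .gen 1919 (317, false)),
    (1438, .gen 1919 (319, false)),
    (3534, .gen 638 (319, false)),
    (242, .gen 1027 (317, false)),
    (3171, .gen 1027 (317, true)),
    (1786, .gen 1752 (317, false)),
    (254, .gen 1752 (319, false)),
    (2589, .gen 1055 (319, false)),
    (208, .gen 2338 (317, false)),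
    (3065, .gen 2338 (317, true)),
    (1012, .gen 1717 (317, false)),
    (539, .gen 1717 (319, false)),
    (2379, .gen 2327 (319, false)),
    (1115, .gen 3169 (317, false)),
    (2582, .gen 3169 (317, true)),
    (472, .gen 1013 (317, false)),
    (3732, .gen 1013 (319, false)),
    (708, .gen 1137 (319, false)),
    (1627, .gen 3784 (317, false)),
    (1503, .gen 3784 (317, true)),
    (469, .gen 2914 (317, false)),
    (1268, .gen 2914 (319, false)),
    (1387, .gen 707 (319, false)),
    (3359, .gen 3360 (317, false)),
    (926, .gen 3360 (317, true)),
    (1402, .gen 2900 (317, false)),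
    (3630, .gen 2900 (319, false)),
    (51, .gen 3578 (319, false)),
    (1482, .gen 3197 (317, false)),
    (2991, .gen 3197 (317, true)),
    (3337, .gen 3582 (317, false)),
    (209, .gen 3582 (319, false)),
    (2688, .gen 2968 (319, false)),
    (3068, .gen 982 (317, false)),
    (3245, .gen 982 (317, true)),
    (99, .gen 3788 (317, false)),
    (1203, .gen 3788 (319, false)),
    (1868, .gen 298 (319, false)),
    (972, .gen 1676 (317, false)),
    (1564, .gen 1676 (317, true)),
    (3786, .gen 2570 (317, false)),
    (1812, .gen 2570 (319, false)),
    (285, .gen 2600 (319, false)),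
    (123, .gen 2967 (317, false)),
    (2123, .gen 2967 (317, true)),
    (2999, .gen 3667 (317, false)),
    (3535, .gen 3667 (319, false)),
    (283, .gen 2726 (319, false)),
    (2735, .gen 2922 (317, false)),
    (1237, .gen 2922 (317, true)),
    (1553, .gen 1170 (317, false)),
    (112, .gen 1170 (319, false)),
    (2878, .gen 279 (319, false)),
    (175, .gen 507 (317, false)),
    (3756, .gen 507 (317, true)),
    (389, .gen 1167 (317, false)),
    (176, .gen 1167 (319, false)),
    (3668, .gen 3597 (319, false)),
    (3086, .gen 3485 (317, false)),
    (589, .gen 3485 (317, true)),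
    (115, .gen 1048 (317, false)),
    (2642, .gen 1048 (319, false)),
    (265, .gen 946 (319, false)),
    (3595, .gen 2322 (317, false)),
    (2216, .gen 2322 (317, true)),
    (1556, .gen 28 (317, false)),
    (1832, .gen 28 (319, false)),
    (1789, .gen 2856 (319, false)),
    (1173, .gen 555 (317, false)),
    (2822, .gen 555 (317, true)),
    (596, .gen 583 (317, false)),
    (1899, .gen 583 (319, false)),
    (2432, .gen 1701 (319, false)),
    (1344, .gen 2729 (317, false)),
    (521, .gen 2729 (317, true)),
    (329, .gen 1207 (317, false)),
    (3019, .gen 1207 (319, false)),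
    (2917, .gen 2072 (319, false)),
    (986, .gen 210 (317, false)),
    (185, .gen 210 (317, true)),
    (871, .gen 2602 (317, false)),
    (1471, .gen 2602 (319, false)),
    (2488, .gen 831 (319, false)),
    (289, .gen 2207 (317, false)),
    (2958, .gen 2947 (317, false)),
    (645, .gen 2947 (319, false)),
    (2599, .gen 2416 (319, false)),
    (127, .gen 1718 (317, false)),
    (1844, .gen 3765 (319, false)),
    (1530, .gen 3445 (317, false)),
    (286, .gen 3445 (317, true)),
    (834, .gen 1940 (317, false)),
    (3677, .gen 1940 (319, false)),
    (2743, .gen 1783 (319, false)),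
    (606, .gen 1845 (317, false)),
    (3545, .gen 811 (317, false)),
    (3311, .gen 811 (319, false)),
    (2839, .gen 2450 (319, false)),
    (3014, .gen 2003 (317, false)),
    (1267, .gen 1605 (317, false)),
    (3232, .gen 1605 (319, false)),
    (2276, .gen 1813 (319, false)),
    (84, .gen 3371 (317, false)),
    (388, .gen 3371 (317, true)),
    (2700, .gen 1307 (317, false)),
    (857, .gen 1307 (319, false)),
    (457, .gen 1816 (319, false)),
    (1435, .gen 2107 (317, false)),
    (3361, .gen 2107 (319, false)),
    (3526, .gen 0 (319, false)),
    (2027, .gen 1404 (317, false)),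
    (710, .gen 1404 (319, false)),
    (3032, .gen 697 (319, false)),
    (2859, .gen 2060 (317, false)),
    (214, .gen 2060 (317, true)),
    (1542, .gen 1135 (317, false)),
    (788, .gen 1135 (319, false)),
    (2334, .gen 3324 (319, false)),
    (2057, .gen 1197 (317, false)),
    (561, .gen 1197 (317, true)),
    (3623, .gen 1498 (317, false)),
    (1976, .gen 1498 (319, false)),
    (1681, .gen 2789 (319, false)),
    (3702, .gen 327 (317, false)),
    (942, .gen 327 (317, true)),
    (3562, .gen 1796 (317, false)),
    (3333, .gen 1796 (319, false)),
    (362, .gen 2791 (319, false)),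
    (1123, .gen 2480 (317, false)),
    (218, .gen 2480 (319, false)),
    (1634, .gen 3274 (319, false)),
    (3279, .gen 3397 (317, false)),
    (2717, .gen 3397 (317, true)),
    (2775, .gen 540 (317, false)),
    (3730, .gen 540 (319, false)),
    (1483, .gen 3150 (319, false)),
    (1408, .gen 1186 (317, false)),
    (3744, .gen 1186 (317, true)),
    (3737, .gen 839 (317, false)),
    (889, .gen 839 (319, false)),
    (827, .gen 3109 (319, false)),
    (674, .gen 3642 (317, false)),
    (2948, .gen 3642 (317, true)),
    (2558, .gen 882 (317, false)),
    (3628, .gen 882 (319, false)),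
    (3491, .gen 1282 (319, false)),
    (1082, .gen 2392 (317, false)),
    (2433, .gen 2392 (317, true)),
    (1779, .gen 3264 (317, false)),
    (1504, .gen 3264 (319, false)),
    (1677, .gen 3468 (319, false)),
    (3415, .gen 1004 (317, false)),
    (3709, .gen 1004 (317, true)),
    (1777, .gen 1547 (317, false)),
    (1343, .gen 1547 (319, false)),
    (2025, .gen 1007 (319, false)),
    (2275, .gen 998 (317, false)),
    (3530, .gen 3267 (319, false)),
    (806, .gen 966 (317, true)),
    (3295, .gen 1421 (317, false)),
    (519, .gen 1421 (319, false)),
    (2532, .gen 481 (319, false)),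
    (755, .gen 849 (317, false)),
    (231, .gen 849 (317, true)),
    (361, .gen 2721 (317, false)),
    (2231, .gen 2721 (319, false)),
    (931, .gen 2173 (319, false)),
    (3669, .gen 2141 (317, false)),
    (497, .gen 2141 (317, true)),
    (1891, .gen 1486 (317, false)),
    (1722, .gen 1486 (319, false)),
    (1638, .gen 835 (319, false)),
    (658, .gen 244 (317, false)),
    (1322, .gen 244 (317, true)),
    (3367, .gen 465 (317, false)),
    (2492, .gen 465 (319, false)),
    (2881, .gen 166 (319, false)),
    (3299, .gen 2672 (317, false)),
    (73, .gen 2672 (317, true)),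
    (3315, .gen 3246 (317, false)),
    (887, .gen 3246 (319, false)),
    (2096, .gen 785 (319, false)),
    (2852, .gen 2863 (317, false)),
    (2008, .gen 2863 (317, true)),
    (2584, .gen 3794 (317, false)),
    (3393, .gen 3794 (319, false)),
    (3136, .gen 2151 (319, false)),
    (3261, .gen 639 (317, false)),
    (120, .gen 639 (317, true)),
    (588, .gen 1548 (317, false)),
    (2993, .gen 1548 (319, false)),
    (2606, .gen 3560 (317, false)),
    (2660, .gen 1177 (317, false)),
    (3308, .gen 1177 (319, false)),
    (345, .gen 3222 (317, false)),
    (1063, .gen 2208 (317, false)),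
    (1304, .gen 2208 (319, false)),
    (3368, .gen 3344 (319, false)),
    (2786, .gen 629 (317, false)),
    (3175, .gen 629 (317, true)),
    (2445, .gen 3303 (317, false)),
    (1074, .gen 3303 (319, false)),
    (1732, .gen 3219 (319, false)),
    (420, .gen 2140 (317, false)),
    (568, .gen 2140 (317, true)),
    (1958, .gen 2808 (317, false)),
    (2823, .gen 2808 (319, false)),
    (2104, .gen 3586 (319, false)),
    (1929, .gen 2888 (317, false)),
    (1253, .gen 2888 (317, true)),
    (3572, .gen 1198 (317, false)),
    (449, .gen 1198 (319, false)),
    (2819, .gen 2773 (319, false)),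
    (2144, .gen 1668 (317, false)),
    (2035, .gen 1668 (317, true)),
    (343, .gen 3012 (317, false)),
    (2566, .gen 3012 (319, false)),
    (3524, .gen 1539 (319, false)),
    (765, .gen 3194 (317, false)),
    (1311, .gen 3194 (317, true)),
    (1946, .gen 2986 (317, false)),
    (3321, .gen 2986 (319, false)),
    (592, .gen 417 (319, false)),
    (3452, .gen 1522 (317, false)),
    (1362, .gen 1522 (317, true)),
    (69, .gen 2511 (317, false)),
    (1905, .gen 2511 (319, false)),
    (2979, .gen 1882 (319, false)),
    (3681, .gen 3609 (317, false)),
    (1389, .gen 3609 (317, true)),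
    (1769, .gen 368 (317, false)),
    (183, .gen 368 (319, false)),
    (799, .gen 740 (319, false)),
    (2779, .gen 3434 (317, false)),
    (2042, .gen 3434 (317, true)),
    (21, .gen 1584 (317, false)),
    (1511, .gen 1584 (319, false)),
    (617, .gen 226 (319, false)),
    (3411, .gen 2044 (317, false)),
    (975, .gen 2044 (317, true)),
    (12, .gen 2076 (317, false)),
    (462, .gen 2076 (319, false)),
    (3229, .gen 3102 (319, false)),
    (1775, .gen 3435 (317, false)),
    (371, .gen 3435 (317, true)),
    (1849, .gen 3075 (317, false)),
    (78, .gen 3075 (319, false)),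
    (1375, .gen 2298 (319, false)),
    (2575, .gen 1557 (317, false)),
    (1348, .gen 1557 (317, true)),
    (1211, .gen 1909 (317, false)),
    (2391, .gen 1909 (319, false)),
    (1465, .gen 100 (319, false)),
    (3729, .gen 2632 (317, false)),
    (3436, .gen 2632 (317, true)),
    (2373, .gen 2348 (317, false))]

/-- Visits. -/
def v16_5 : List (ℕ × Src) :=
  [(3338, .gen 2348 (319, false)),
    (3606, .gen 602 (319, false)),
    (461, .gen 133 (317, false)),
    (3541, .gen 133 (317, true)),
    (1, .gen 677 (317, false)),
    (932, .gen 677 (319, false)),
    (2794, .gen 9 (319, false)),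
    (3613, .gen 444 (317, false)),
    (171, .gen 444 (317, true)),
    (3140, .gen 529 (317, false)),
    (1850, .gen 529 (319, false)),
    (3700, .gen 46 (319, false)),
    (77, .gen 3283 (317, false)),
    (1877, .gen 3283 (317, true)),
    (919, .gen 494 (317, false)),
    (1508, .gen 494 (319, false)),
    (2887, .gen 524 (319, false)),
    (3101, .gen 927 (317, false)),
    (3330, .gen 927 (317, true)),
    (2287, .gen 2965 (317, false)),
    (1666, .gen 2965 (319, false)),
    (3365, .gen 1800 (319, false)),
    (2710, .gen 1228 (317, false)),
    (75, .gen 1228 (317, true)),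
    (1266, .gen 419 (317, false)),
    (698, .gen 419 (319, false)),
    (2720, .gen 1240 (319, false)),
    (1140, .gen 584 (317, false)),
    (2943, .gen 584 (317, true)),
    (3472, .gen 239 (317, false)),
    (2070, .gen 239 (319, false)),
    (3543, .gen 1875 (319, false)),
    (41, .gen 2311 (317, false)),
    (2949, .gen 2311 (317, true)),
    (412, .gen 1230 (317, false)),
    (1328, .gen 1230 (319, false)),
    (1707, .gen 2805 (319, false)),
    (1528, .gen 3716 (317, false)),
    (70, .gen 3716 (317, true)),
    (2605, .gen 1346 (317, false)),
    (2593, .gen 1346 (319, false)),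
    (3454, .gen 468 (319, false)),
    (130, .gen 1189 (317, false)),
    (1195, .gen 1189 (317, true)),
    (724, .gen 2800 (317, false)),
    (3051, .gen 2800 (319, false)),
    (774, .gen 3652 (319, false)),
    (630, .gen 3427 (317, false)),
    (816, .gen 3427 (317, true)),
    (3715, .gen 2264 (317, false)),
    (1824, .gen 2264 (319, false)),
    (1474, .gen 973 (319, false)),
    (16, .gen 1852 (317, false)),
    (2667, .gen 1852 (317, true)),
    (3532, .gen 1524 (317, false)),
    (719, .gen 1524 (319, false)),
    (456, .gen 3705 (319, false)),
    (1088, .gen 3717 (317, false)),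
    (1578, .gen 3717 (317, true)),
    (1188, .gen 1046 (317, false)),
    (3599, .gen 1046 (319, false)),
    (2981, .gen 3281 (319, false)),
    (1637, .gen 3184 (317, false)),
    (1232, .gen 3184 (317, true)),
    (843, .gen 1209 (317, false)),
    (3758, .gen 1209 (319, false)),
    (3449, .gen 1039 (319, false)),
    (1920, .gen 3332 (317, false)),
    (2175, .gen 3332 (317, true)),
    (3480, .gen 3678 (317, false)),
    (3265, .gen 3678 (319, false)),
    (3250, .gen 3220 (319, false)),
    (1650, .gen 1847 (317, false)),
    (2641, .gen 1847 (317, true)),
    (1554, .gen 1576 (317, false)),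
    (2521, .gen 1576 (319, false)),
    (1079, .gen 1396 (319, false)),
    (2015, .gen 3540 (317, false)),
    (2078, .gen 3540 (317, true)),
    (1546, .gen 448 (317, false)),
    (170, .gen 448 (319, false)),
    (3489, .gen 3145 (319, false)),
    (324, .gen 866 (317, false)),
    (920, .gen 866 (317, true)),
    (1729, .gen 37 (317, false)),
    (1106, .gen 37 (319, false)),
    (504, .gen 2171 (319, false)),
    (3141, .gen 3203 (317, false)),
    (836, .gen 3203 (317, true)),
    (3053, .gen 1476 (317, false)),
    (1184, .gen 1476 (319, false)),
    (1475, .gen 2186 (319, false)),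
    (480, .gen 1017 (317, false)),
    (372, .gen 1017 (317, true)),
    (1851, .gen 2346 (317, false)),
    (3369, .gen 2346 (319, false)),
    (1069, .gen 2656 (319, false)),
    (1452, .gen 3482 (317, false)),
    (1131, .gen 3482 (317, true)),
    (273, .gen 1323 (317, false)),
    (3591, .gen 1323 (319, false)),
    (534, .gen 2862 (319, false)),
    (1571, .gen 3639 (317, false)),
    (36, .gen 3639 (317, true)),
    (1543, .gen 1364 (317, false)),
    (1972, .gen 1364 (319, false)),
    (1377, .gen 1545 (319, false)),
    (56, .gen 3226 (317, false)),
    (1806, .gen 3226 (317, true)),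
    (3183, .gen 923 (317, false)),
    (1382, .gen 923 (319, false)),
    (2886, .gen 886 (319, false)),
    (87, .gen 1917 (317, false)),
    (2713, .gen 1917 (317, true)),
    (114, .gen 3644 (317, false)),
    (42, .gen 3644 (319, false)),
    (2723, .gen 1224 (319, false)),
    (2679, .gen 3379 (317, false)),
    (164, .gen 3379 (317, true)),
    (3025, .gen 2218 (317, false)),
    (1798, .gen 2218 (319, false)),
    (2940, .gen 394 (319, false)),
    (369, .gen 1552 (317, false)),
    (2701, .gen 1552 (317, true)),
    (1293, .gen 3752 (317, false)),
    (848, .gen 3752 (319, false)),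
    (2199, .gen 544 (319, false)),
    (1365, .gen 3778 (317, false)),
    (2467, .gen 3778 (317, true)),
    (1943, .gen 1862 (317, false)),
    (2815, .gen 1862 (319, false)),
    (3399, .gen 2119 (319, false)),
    (224, .gen 2678 (317, false)),
    (1103, .gen 2678 (317, true)),
    (3407, .gen 2465 (317, false)),
    (330, .gen 2465 (319, false)),
    (3461, .gen 3163 (319, false)),
    (1395, .gen 3343 (317, false)),
    (1411, .gen 3343 (317, true)),
    (1496, .gen 2565 (317, false)),
    (2253, .gen 2565 (319, false)),
    (533, .gen 3687 (319, false)),
    (2105, .gen 2816 (317, false)),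
    (813, .gen 2816 (317, true)),
    (1278, .gen 796 (317, false)),
    (271, .gen 796 (319, false)),
    (3208, .gen 804 (319, false)),
    (2525, .gen 1492 (317, false)),
    (355, .gen 1492 (317, true)),
    (1867, .gen 2481 (317, false)),
    (3215, .gen 2481 (319, false)),
    (1002, .gen 3147 (319, false)),
    (34, .gen 954 (317, false)),
    (2546, .gen 954 (317, true)),
    (3037, .gen 2580 (317, false)),
    (350, .gen 2580 (319, false)),
    (1761, .gen 3326 (319, false)),
    (2697, .gen 1085 (317, false)),
    (2411, .gen 1085 (317, true)),
    (2751, .gen 3092 (317, false)),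
    (1276, .gen 3092 (319, false)),
    (603, .gen 1445 (319, false)),
    (745, .gen 2113 (317, false)),
    (1339, .gen 2113 (317, true)),
    (2619, .gen 1258 (317, false)),
    (2297, .gen 1258 (319, false)),
    (1654, .gen 2827 (319, false)),
    (1671, .gen 924 (317, false)),
    (2795, .gen 924 (317, true)),
    (1089, .gen 3095 (317, false)),
    (2176, .gen 3095 (319, false)),
    (1776, .gen 1126 (319, false)),
    (2211, .gen 1974 (317, false)),
    (72, .gen 1974 (317, true)),
    (688, .gen 1660 (317, false)),
    (3682, .gen 1660 (319, false)),
    (2053, .gen 2247 (319, false)),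
    (180, .gen 3106 (317, false)),
    (3740, .gen 3106 (317, true)),
    (2894, .gen 299 (317, false)),
    (548, .gen 299 (319, false)),
    (3511, .gen 2534 (319, false)),
    (1381, .gen 2742 (317, false)),
    (66, .gen 2742 (317, true)),
    (1222, .gen 216 (317, false)),
    (396, .gen 216 (319, false)),
    (1166, .gen 476 (319, false)),
    (2802, .gen 999 (317, false)),
    (733, .gen 999 (317, true)),
    (3579, .gen 2553 (317, false)),
    (1218, .gen 2553 (319, false)),
    (3144, .gen 1799 (319, false)),
    (2263, .gen 1833 (317, false)),
    (3405, .gen 1833 (317, true)),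
    (944, .gen 121 (317, false)),
    (1608, .gen 121 (319, false)),
    (2572, .gen 815 (319, false)),
    (552, .gen 3013 (317, false)),
    (651, .gen 3013 (317, true)),
    (2673, .gen 1678 (317, false)),
    (3050, .gen 1678 (319, false)),
    (178, .gen 2595 (319, false)),
    (1219, .gen 853 (317, false)),
    (1398, .gen 853 (317, true)),
    (969, .gen 25 (317, false)),
    (2646, .gen 25 (319, false)),
    (2732, .gen 108 (319, false)),
    (2418, .gen 683 (317, false)),
    (782, .gen 683 (317, true)),
    (2578, .gen 2335 (317, false)),
    (2331, .gen 2335 (319, false)),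
    (1984, .gen 1680 (319, false)),
    (1896, .gen 3479 (317, false)),
    (2274, .gen 3479 (317, true)),
    (2612, .gen 1200 (317, false)),
    (2339, .gen 1200 (319, false)),
    (604, .gen 3120 (319, false)),
    (3038, .gen 2292 (317, false)),
    (1673, .gen 2292 (317, true)),
    (3058, .gen 3759 (317, false)),
    (3130, .gen 3759 (319, false)),
    (3478, .gen 1400 (319, false)),
    (3554, .gen 2694 (317, false)),
    (3518, .gen 2694 (317, true)),
    (488, .gen 1579 (317, false)),
    (3473, .gen 1579 (319, false)),
    (2040, .gen 421 (319, false)),
    (3577, .gen 2017 (317, false)),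
    (499, .gen 2017 (317, true)),
    (117, .gen 3672 (317, false)),
    (2618, .gen 3672 (319, false)),
    (2285, .gen 775 (319, false)),
    (2560, .gen 132 (317, false)),
    (958, .gen 132 (317, true)),
    (758, .gen 1490 (317, false)),
    (2212, .gen 1490 (319, false)),
    (3131, .gen 665 (319, false)),
    (2671, .gen 1688 (317, false)),
    (3437, .gen 1688 (317, true)),
    (3565, .gen 1602 (317, false)),
    (3076, .gen 1602 (319, false)),
    (3200, .gen 3126 (319, false)),
    (2611, .gen 1765 (317, false)),
    (1238, .gen 1765 (317, true)),
    (1785, .gen 2342 (317, false)),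
    (659, .gen 2342 (319, false)),
    (1478, .gen 1287 (319, false)),
    (3466, .gen 3133 (317, false)),
    (2271, .gen 3133 (317, true)),
    (851, .gen 204 (317, false)),
    (1279, .gen 204 (319, false)),
    (3020, .gen 1128 (319, false)),
    (2519, .gen 1501 (317, false)),
    (320, .gen 1501 (317, true)),
    (3789, .gen 23 (317, false)),
    (3011, .gen 23 (319, false)),
    (1683, .gen 95 (319, false)),
    (3424, .gen 3440 (317, false)),
    (3373, .gen 3440 (317, true)),
    (410, .gen 489 (317, false)),
    (1797, .gen 489 (319, false)),
    (2966, .gen 3627 (319, false)),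
    (2754, .gen 2380 (317, false)),
    (1227, .gen 2380 (317, true)),
    (3162, .gen 3671 (317, false)),
    (2746, .gen 3671 (319, false)),
    (1898, .gen 2244 (319, false)),
    (1613, .gen 2901 (317, false)),
    (408, .gen 2901 (317, true)),
    (1191, .gen 233 (317, false)),
    (1632, .gen 233 (319, false)),
    (2788, .gen 311 (319, false)),
    (3683, .gen 535 (317, false)),
    (2378, .gen 535 (317, true)),
    (1893, .gen 1997 (317, false)),
    (662, .gen 1997 (319, false)),
    (3352, .gen 1551 (319, false)),
    (2613, .gen 2045 (317, false)),
    (3596, .gen 2045 (317, true)),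
    (838, .gen 337 (317, false)),
    (1840, .gen 337 (319, false)),
    (3193, .gen 2695 (319, false)),
    (1748, .gen 1130 (317, false)),
    (1284, .gen 1130 (317, true)),
    (808, .gen 1142 (317, false)),
    (380, .gen 1142 (319, false)),
    (3244, .gen 1412 (319, false)),
    (2138, .gen 2486 (317, false)),
    (1910, .gen 2486 (317, true)),
    (869, .gen 693 (317, false)),
    (2062, .gen 693 (319, false)),
    (3587, .gen 2290 (319, false)),
    (746, .gen 980 (317, false)),
    (3381, .gen 980 (317, true)),
    (912, .gen 2303 (317, false)),
    (3451, .gen 2303 (319, false)),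
    (370, .gen 1036 (319, false)),
    (243, .gen 344 (317, false)),
    (2420, .gen 344 (317, true)),
    (382, .gen 2528 (317, false))]

/-- Visits. -/
def v16_6 : List (ℕ × Src) :=
  [(3648, .gen 2528 (319, false)),
    (1615, .gen 2258 (319, false)),
    (536, .gen 2904 (317, false)),
    (574, .gen 2904 (317, true)),
    (2220, .gen 1887 (317, false)),
    (3790, .gen 1887 (319, false)),
    (6, .gen 1711 (319, false)),
    (1281, .gen 141 (317, false)),
    (1955, .gen 141 (317, true)),
    (376, .gen 2475 (317, false)),
    (3446, .gen 2475 (319, false)),
    (1156, .gen 2326 (319, false)),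
    (1289, .gen 2776 (317, false)),
    (572, .gen 2776 (317, true)),
    (1854, .gen 111 (317, false)),
    (860, .gen 111 (319, false)),
    (2799, .gen 168 (319, false)),
    (2086, .gen 2696 (317, false)),
    (558, .gen 2696 (317, true)),
    (3670, .gen 3003 (317, false)),
    (2252, .gen 3003 (319, false)),
    (3621, .gen 1424 (319, false)),
    (3039, .gen 174 (317, false)),
    (673, .gen 174 (317, true)),
    (1206, .gen 1192 (317, false)),
    (2650, .gen 1192 (319, false)),
    (2836, .gen 1657 (319, false)),
    (2250, .gen 554 (317, false)),
    (686, .gen 554 (317, true)),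
    (22, .gen 2361 (317, false)),
    (3588, .gen 2361 (319, false)),
    (2030, .gen 718 (319, false)),
    (434, .gen 2248 (317, false)),
    (595, .gen 2248 (317, true)),
    (1125, .gen 3777 (317, false)),
    (1152, .gen 3777 (319, false)),
    (1204, .gen 2095 (319, false)),
    (1648, .gen 1883 (317, false)),
    (1716, .gen 1883 (317, true)),
    (3049, .gen 1886 (317, false)),
    (2024, .gen 1886 (319, false)),
    (2117, .gen 1606 (319, false)),
    (1342, .gen 1787 (317, false)),
    (1250, .gen 1787 (317, true)),
    (1566, .gen 2675 (317, false)),
    (1338, .gen 2675 (319, false)),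
    (3728, .gen 1954 (319, false)),
    (2785, .gen 1794 (317, false)),
    (1996, .gen 1794 (317, true)),
    (1803, .gen 2621 (317, false)),
    (800, .gen 2621 (319, false)),
    (575, .gen 2033 (319, false)),
    (1709, .gen 960 (317, false)),
    (309, .gen 960 (317, true)),
    (1961, .gen 2041 (317, false)),
    (2215, .gen 2041 (319, false)),
    (1302, .gen 2562 (319, false)),
    (714, .gen 1533 (317, false)),
    (3722, .gen 1533 (317, true)),
    (1053, .gen 1479 (317, false)),
    (1295, .gen 1479 (319, false)),
    (3684, .gen 2586 (319, false)),
    (1171, .gen 2178 (317, false)),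
    (769, .gen 2178 (317, true)),
    (2442, .gen 1499 (317, false)),
    (103, .gen 1499 (319, false)),
    (1330, .gen 2652 (319, false)),
    (2396, .gen 140 (317, false)),
    (528, .gen 140 (317, true)),
    (945, .gen 3118 (317, false)),
    (110, .gen 3118 (319, false)),
    (3231, .gen 2715 (319, false)),
    (1907, .gen 612 (317, false)),
    (1098, .gen 612 (317, true)),
    (50, .gen 1077 (317, false)),
    (2056, .gen 1077 (319, false)),
    (149, .gen 2051 (319, false)),
    (2719, .gen 661 (317, false)),
    (776, .gen 661 (317, true)),
    (2227, .gen 3443 (319, false)),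
    (2761, .gen 824 (317, false)),
    (1442, .gen 824 (317, true)),
    (2108, .gen 3561 (317, false)),
    (670, .gen 3561 (317, true)),
    (2478, .gen 467 (317, false)),
    (2879, .gen 467 (319, false)),
    (336, .gen 221 (319, false)),
    (1122, .gen 2034 (319, false)),
    (3770, .gen 1444 (317, false)),
    (3079, .gen 1444 (317, true)),
    (145, .gen 2485 (317, false)),
    (3010, .gen 2485 (317, true)),
    (1519, .gen 1288 (317, false)),
    (3557, .gen 1288 (319, false)),
    (2200, .gen 3697 (319, false)),
    (3043, .gen 2763 (319, false)),
    (3676, .gen 2835 (317, false)),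
    (3421, .gen 2835 (317, true)),
    (2563, .gen 3237 (317, false)),
    (1507, .gen 3237 (317, true)),
    (2354, .gen 576 (317, false)),
    (453, .gen 576 (319, false)),
    (1988, .gen 648 (319, false)),
    (3230, .gen 2540 (319, false)),
    (3553, .gen 2982 (317, false)),
    (585, .gen 2982 (317, true)),
    (940, .gen 2817 (317, false)),
    (1828, .gen 2817 (317, true)),
    (640, .gen 2627 (317, false)),
    (2146, .gen 2627 (319, false)),
    (2049, .gen 1256 (319, false)),
    (3761, .gen 2262 (319, false)),
    (1345, .gen 3563 (317, false)),
    (2548, .gen 3563 (317, true)),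
    (1674, .gen 1455 (317, false)),
    (911, .gen 1455 (317, true)),
    (3372, .gen 98 (317, false)),
    (24, .gen 98 (319, false)),
    (2850, .gen 4 (319, false)),
    (2939, .gen 506 (319, false)),
    (3492, .gen 736 (317, false)),
    (257, .gen 736 (317, true)),
    (1975, .gen 3659 (317, false)),
    (1582, .gen 3659 (317, true)),
    (1095, .gen 3696 (317, false)),
    (3496, .gen 3696 (319, false)),
    (3615, .gen 2344 (319, false)),
    (2811, .gen 3029 (319, false)),
    (3766, .gen 2845 (317, false)),
    (1321, .gen 2845 (317, true)),
    (3408, .gen 704 (317, false)),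
    (1392, .gen 704 (317, true)),
    (491, .gen 3544 (317, false)),
    (3429, .gen 3544 (319, false)),
    (2270, .gen 1235 (319, false)),
    (515, .gen 631 (319, false)),
    (3294, .gen 715 (317, false)),
    (1876, .gen 715 (317, true)),
    (378, .gen 2861 (317, false)),
    (1169, .gen 2861 (317, true)),
    (1337, .gen 605 (317, false)),
    (2844, .gen 605 (319, false)),
    (1569, .gen 1957 (319, false)),
    (1990, .gen 992 (319, false)),
    (2905, .gen 1823 (317, false)),
    (1425, .gen 1823 (317, true)),
    (3196, .gen 1472 (317, false)),
    (1248, .gen 1472 (317, true)),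
    (105, .gen 3689 (317, false)),
    (3404, .gen 3689 (319, false)),
    (1640, .gen 512 (319, false)),
    (795, .gen 3202 (319, false)),
    (3488, .gen 2801 (317, false)),
    (1948, .gen 2801 (317, true)),
    (2853, .gen 3298 (317, false)),
    (1313, .gen 3298 (317, true)),
    (2568, .gen 772 (317, false)),
    (1581, .gen 772 (319, false)),
    (3350, .gen 3646 (319, false)),
    (3100, .gen 1915 (319, false)),
    (1691, .gen 2266 (317, false)),
    (146, .gen 2266 (317, true)),
    (1161, .gen 2731 (317, false)),
    (2544, .gen 2731 (317, true)),
    (3514, .gen 989 (317, false)),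
    (732, .gen 989 (319, false)),
    (2594, .gen 1355 (319, false)),
    (735, .gen 3156 (319, false)),
    (1439, .gen 3739 (317, false)),
    (3016, .gen 3739 (317, true)),
    (1726, .gen 387 (317, false)),
    (3139, .gen 387 (317, true)),
    (3734, .gen 566 (317, false)),
    (607, .gen 566 (319, false)),
    (1774, .gen 2740 (319, false)),
    (2691, .gen 1205 (319, false)),
    (3335, .gen 3060 (317, false)),
    (2001, .gen 3060 (317, true)),
    (1264, .gen 2357 (317, true)),
    (304, .gen 1175 (317, true)),
    (203, .gen 1609 (319, false)),
    (1950, .gen 1047 (319, false)),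
    (2089, .gen 2531 (317, false)),
    (965, .gen 2531 (317, true)),
    (1462, .gen 3680 (317, false)),
    (1341, .gen 3680 (317, true)),
    (1008, .gen 3054 (317, true)),
    (3512, .gen 3085 (319, false)),
    (598, .gen 1001 (317, false)),
    (1314, .gen 1001 (317, true)),
    (1413, .gen 3549 (317, false)),
    (2006, .gen 3549 (317, true)),
    (2734, .gen 1193 (317, true)),
    (1698, .gen 1550 (317, true)),
    (2804, .gen 2019 (317, false)),
    (3383, .gen 2019 (319, false)),
    (2608, .gen 2312 (317, false)),
    (247, .gen 2312 (317, true)),
    (3256, .gen 624 (317, false)),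
    (97, .gen 624 (319, false)),
    (676, .gen 3645 (319, false)),
    (3024, .gen 3710 (317, false)),
    (3679, .gen 3573 (319, false)),
    (1834, .gen 2010 (317, false)),
    (2867, .gen 1808 (317, false)),
    (619, .gen 1808 (317, true)),
    (381, .gen 1003 (317, false)),
    (925, .gen 1003 (319, false)),
    (2945, .gen 3083 (317, false)),
    (1884, .gen 3083 (317, true)),
    (2473, .gen 153 (317, false)),
    (543, .gen 153 (319, false)),
    (695, .gen 503 (319, false)),
    (406, .gen 433 (317, false)),
    (2413, .gen 562 (319, false)),
    (18, .gen 323 (317, false)),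
    (3146, .gen 323 (317, true)),
    (1603, .gen 89 (317, false)),
    (428, .gen 89 (319, false)),
    (1858, .gen 235 (317, false)),
    (201, .gen 235 (319, false)),
    (898, .gen 680 (317, false)),
    (2588, .gen 3211 (317, false)),
    (2556, .gen 3211 (317, true)),
    (2412, .gen 3618 (317, false)),
    (991, .gen 3618 (319, false)),
    (277, .gen 2421 (319, false)),
    (3388, .gen 655 (317, false)),
    (1655, .gen 312 (319, false)),
    (1459, .gen 3214 (319, false)),
    (1694, .gen 2026 (317, false)),
    (2622, .gen 2026 (317, true)),
    (2265, .gen 2221 (317, false)),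
    (3124, .gen 2221 (317, true)),
    (2139, .gen 3176 (317, false)),
    (2877, .gen 3176 (319, false)),
    (3403, .gen 2616 (319, false)),
    (2976, .gen 2259 (317, true)),
    (1019, .gen 2759 (317, false)),
    (1473, .gen 2842 (319, false)),
    (2136, .gen 3453 (317, false)),
    (1410, .gen 833 (319, false)),
    (1190, .gen 3094 (317, true)),
    (1544, .gen 3430 (317, false)),
    (2645, .gen 2543 (319, false)),
    (3724, .gen 2091 (317, false)),
    (1026, .gen 2091 (317, true)),
    (1620, .gen 3185 (317, false)),
    (2893, .gen 3185 (317, true)),
    (2329, .gen 2434 (317, false)),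
    (485, .gen 2434 (319, false)),
    (1349, .gen 1157 (319, false)),
    (3649, .gen 2224 (319, false)),
    (245, .gen 636 (317, false)),
    (625, .gen 520 (317, true)),
    (1329, .gen 2483 (319, false)),
    (202, .gen 1697 (317, false)),
    (2400, .gen 1697 (317, true)),
    (3625, .gen 985 (317, false)),
    (3713, .gen 985 (317, true)),
    (3537, .gen 1667 (317, false)),
    (720, .gen 1667 (319, false)),
    (2157, .gen 3497 (319, false)),
    (3198, .gen 3284 (319, false)),
    (3056, .gen 3336 (317, false)),
    (2149, .gen 3336 (317, true)),
    (1745, .gen 2793 (317, false)),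
    (2353, .gen 2793 (317, true)),
    (477, .gen 2825 (317, false)),
    (1420, .gen 2825 (319, false)),
    (2363, .gen 3142 (319, false)),
    (2191, .gen 2880 (319, false)),
    (1521, .gen 2077 (317, false)),
    (726, .gen 632 (317, true)),
    (2063, .gen 951 (317, true)),
    (113, .gen 2753 (319, false)),
    (2542, .gen 148 (317, false)),
    (2161, .gen 148 (317, true)),
    (770, .gen 2313 (317, false)),
    (2890, .gen 407 (319, false)),
    (347, .gen 2821 (317, false)),
    (1532, .gen 2821 (317, true)),
    (896, .gen 3760 (317, false)),
    (1759, .gen 3760 (319, false)),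
    (1994, .gen 2741 (319, false)),
    (2702, .gen 2870 (317, false)),
    (1335, .gen 2870 (317, true)),
    (139, .gen 3707 (317, false)),
    (616, .gen 3707 (317, true)),
    (2756, .gen 1105 (317, false)),
    (3236, .gen 1105 (319, false)),
    (2792, .gen 2291 (319, false)),
    (3297, .gen 3522 (319, false)),
    (2833, .gen 3108 (317, false)),
    (756, .gen 3108 (317, true)),
    (994, .gen 213 (317, false)),
    (2109, .gen 213 (317, true)),
    (516, .gen 3432 (317, false)),
    (193, .gen 3432 (319, false)),
    (3190, .gen 2142 (319, false))]

/-- Visits. -/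
def v16_7 : List (ℕ × Src) :=
  [(1890, .gen 3394 (317, true)),
    (900, .gen 2530 (317, false)),
    (90, .gen 3137 (319, false)),
    (3457, .gen 2431 (317, false)),
    (1277, .gen 400 (317, true)),
    (867, .gen 671 (319, false)),
    (3257, .gen 2002 (317, false)),
    (822, .gen 990 (317, true)),
    (1032, .gen 2576 (319, false)),
    (2424, .gen 1762 (317, false)),
    (1563, .gen 1762 (317, true)),
    (563, .gen 1194 (317, false)),
    (3296, .gen 1194 (317, true)),
    (1216, .gen 2809 (317, false)),
    (446, .gen 2809 (319, false)),
    (1422, .gen 331 (319, false)),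
    (2456, .gen 3391 (319, false)),
    (892, .gen 1795 (317, false)),
    (2716, .gen 1795 (317, true)),
    (3273, .gen 1889 (317, false)),
    (976, .gen 1889 (317, true)),
    (760, .gen 1595 (317, false)),
    (3527, .gen 1595 (319, false)),
    (5, .gen 2202 (319, false)),
    (852, .gen 1247 (319, false)),
    (1236, .gen 2402 (317, false)),
    (2915, .gen 2402 (317, true)),
    (3113, .gen 1617 (317, false)),
    (3318, .gen 1617 (317, true)),
    (2963, .gen 1661 (317, false)),
    (1903, .gen 1661 (319, false)),
    (786, .gen 1611 (319, false)),
    (1536, .gen 2484 (319, false)),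
    (197, .gen 1495 (317, false)),
    (3507, .gen 1495 (317, true)),
    (290, .gen 2052 (317, false)),
    (3651, .gen 2052 (317, true)),
    (2610, .gen 3252 (317, false)),
    (1643, .gen 3252 (319, false)),
    (31, .gen 2192 (319, false)),
    (1163, .gen 3390 (317, false)),
    (2634, .gen 3390 (317, true)),
    (2127, .gen 2913 (317, false)),
    (987, .gen 2913 (319, false)),
    (2355, .gen 586 (319, false)),
    (192, .gen 643 (317, false)),
    (2081, .gen 643 (317, true)),
    (1923, .gen 819 (317, false)),
    (3366, .gen 819 (317, true)),
    (2295, .gen 716 (317, false)),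
    (1347, .gen 716 (319, false)),
    (3564, .gen 1768 (319, false)),
    (217, .gen 3036 (319, false)),
    (262, .gen 1251 (317, false)),
    (348, .gen 1802 (319, false)),
    (2777, .gen 1754 (319, false)),
    (3153, .gen 1159 (317, false)),
    (1450, .gen 386 (319, false)),
    (1029, .gen 1318 (317, true)),
    (2557, .gen 414 (317, false)),
    (905, .gen 2989 (319, false)),
    (1427, .gen 2708 (317, false)),
    (1636, .gen 2629 (317, true)),
    (2803, .gen 556 (319, false)),
    (1514, .gen 1262 (317, false)),
    (3302, .gen 1491 (319, false)),
    (2180, .gen 2990 (317, false)),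
    (1635, .gen 2990 (317, true)),
    (3490, .gen 1296 (317, false)),
    (1757, .gen 1296 (319, false)),
    (199, .gen 2323 (319, false)),
    (2472, .gen 426 (317, false)),
    (2389, .gen 1733 (319, false)),
    (1809, .gen 81 (319, false)),
    (3525, .gen 57 (317, false)),
    (2230, .gen 1394 (319, false)),
    (2899, .gen 2172 (319, false)),
    (1705, .gen 2187 (317, false)),
    (2950, .gen 2187 (317, true)),
    (342, .gen 2280 (317, false)),
    (3637, .gen 2280 (317, true)),
    (3486, .gen 3339 (317, false)),
    (2037, .gen 3339 (319, false)),
    (188, .gen 949 (319, false)),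
    (1509, .gen 916 (319, false)),
    (3603, .gen 821 (317, false)),
    (3192, .gen 821 (317, true)),
    (1863, .gen 2356 (317, false)),
    (179, .gen 2356 (317, true)),
    (2651, .gen 260 (317, false)),
    (1405, .gen 260 (319, false)),
    (65, .gen 184 (319, false)),
    (899, .gen 2725 (319, false)),
    (3693, .gen 832 (317, false)),
    (2281, .gen 832 (317, true)),
    (48, .gen 1102 (317, false)),
    (2590, .gen 1102 (317, true)),
    (1758, .gen 423 (317, false)),
    (3077, .gen 423 (319, false)),
    (2920, .gen 901 (319, false)),
    (2980, .gen 447 (319, false)),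
    (1176, .gen 764 (317, false)),
    (717, .gen 764 (317, true)),
    (52, .gen 801 (317, false)),
    (2474, .gen 801 (317, true)),
    (2666, .gen 1031 (317, false)),
    (3191, .gen 1031 (319, false)),
    (455, .gen 1993 (319, false)),
    (1100, .gen 135 (319, false)),
    (1104, .gen 1414 (317, false)),
    (3546, .gen 1414 (317, true)),
    (1819, .gen 578 (317, false)),
    (2495, .gen 578 (317, true)),
    (432, .gen 3331 (317, false)),
    (1848, .gen 3331 (319, false)),
    (3673, .gen 3711 (319, false)),
    (325, .gen 2310 (319, false)),
    (2415, .gen 1911 (317, false)),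
    (1393, .gen 1911 (317, true)),
    (2633, .gen 3723 (317, false)),
    (546, .gen 3723 (317, true)),
    (1040, .gen 495 (317, false)),
    (1767, .gen 495 (319, false)),
    (2145, .gen 854 (319, false)),
    (2204, .gen 1138 (317, true)),
    (1058, .gen 2549 (317, false)),
    (2059, .gen 3431 (319, false)),
    (3598, .gen 794 (317, false)),
    (2592, .gen 1682 (319, false)),
    (3093, .gen 2624 (319, false)),
    (1653, .gen 3027 (317, false)),
    (3617, .gen 3027 (317, true)),
    (725, .gen 3769 (317, false)),
    (599, .gen 3769 (317, true)),
    (1966, .gen 1623 (317, false)),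
    (2628, .gen 1623 (319, false)),
    (2873, .gen 600 (319, false)),
    (3253, .gen 1437 (317, true)),
    (565, .gen 402 (317, false)),
    (2055, .gen 1086 (319, false)),
    (352, .gen 891 (317, false)),
    (721, .gen 891 (317, true)),
    (2159, .gen 759 (317, false)),
    (194, .gen 759 (317, true)),
    (357, .gen 2957 (317, false)),
    (160, .gen 2957 (319, false)),
    (3082, .gen 646 (319, false)),
    (3547, .gen 3614 (319, false)),
    (335, .gen 1108 (317, false)),
    (3502, .gen 3270 (319, false)),
    (3498, .gen 1325 (319, false)),
    (2866, .gen 2724 (317, false)),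
    (3691, .gen 2724 (317, true)),
    (35, .gen 3030 (317, false)),
    (3458, .gen 3030 (317, true)),
    (868, .gen 2909 (317, false)),
    (418, .gen 2909 (319, false)),
    (2778, .gen 440 (319, false)),
    (780, .gen 1588 (319, false)),
    (252, .gen 2021 (317, false)),
    (1286, .gen 2021 (317, true)),
    (3438, .gen 3484 (317, false)),
    (3444, .gen 3484 (317, true)),
    (1431, .gen 1024 (317, false)),
    (2573, .gen 1024 (319, false)),
    (2762, .gen 2626 (319, false)),
    (2559, .gen 3643 (319, false)),
    (650, .gen 2930 (317, false)),
    (43, .gen 2930 (317, true)),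
    (86, .gen 532 (317, false)),
    (742, .gen 532 (317, true)),
    (2147, .gen 1956 (317, false)),
    (2071, .gen 1956 (319, false)),
    (2243, .gen 2197 (319, false)),
    (437, .gen 2971 (317, false)),
    (1970, .gen 2971 (317, true)),
    (215, .gen 2547 (317, false)),
    (678, .gen 2547 (319, false)),
    (1440, .gen 547 (319, false)),
    (2692, .gen 3008 (317, false)),
    (268, .gen 1525 (319, false)),
    (3210, .gen 1000 (319, false)),
    (3719, .gen 397 (317, false)),
    (2959, .gen 397 (317, true)),
    (2972, .gen 2332 (317, false)),
    (2747, .gen 2332 (317, true)),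
    (3223, .gen 1670 (317, false)),
    (3084, .gen 1670 (319, false)),
    (1368, .gen 463 (319, false)),
    (3695, .gen 2750 (319, false)),
    (1517, .gen 2110 (317, false)),
    (1700, .gen 2110 (317, true)),
    (3631, .gen 2668 (317, false)),
    (1141, .gen 2668 (317, true)),
    (3774, .gen 1212 (317, false)),
    (401, .gen 1212 (319, false)),
    (1753, .gen 470 (319, false)),
    (3494, .gen 2407 (319, false)),
    (1147, .gen 1672 (317, false)),
    (909, .gen 1672 (317, true)),
    (3044, .gen 3601 (317, false)),
    (296, .gen 3601 (317, true)),
    (3556, .gen 3248 (317, false)),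
    (1468, .gen 3248 (319, false)),
    (288, .gen 1035 (319, false)),
    (1810, .gen 1791 (319, false)),
    (2454, .gen 3456 (317, false)),
    (3675, .gen 3456 (317, true)),
    (560, .gen 3686 (317, false)),
    (1598, .gen 3686 (317, true)),
    (3409, .gen 1724 (317, false)),
    (3776, .gen 1724 (319, false)),
    (1356, .gen 1897 (319, false)),
    (1892, .gen 2194 (319, false)),
    (3704, .gen 1518 (317, false)),
    (751, .gen 1518 (317, true)),
    (119, .gen 3447 (317, false)),
    (483, .gen 3447 (317, true)),
    (1693, .gen 281 (317, false)),
    (1275, .gen 281 (319, false)),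
    (479, .gen 1720 (319, false)),
    (2014, .gen 2620 (319, false)),
    (2494, .gen 1438 (317, false)),
    (3506, .gen 1438 (317, true)),
    (1042, .gen 3534 (317, false)),
    (1447, .gen 3534 (317, true)),
    (1308, .gen 242 (317, false)),
    (2177, .gen 242 (319, false)),
    (626, .gen 3171 (319, false)),
    (165, .gen 1786 (319, false)),
    (2926, .gen 254 (317, false)),
    (2609, .gen 254 (317, true)),
    (2490, .gen 2589 (317, false)),
    (2122, .gen 2589 (317, true)),
    (690, .gen 208 (317, false)),
    (2855, .gen 208 (319, false)),
    (1885, .gen 3065 (319, false)),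
    (2831, .gen 1012 (319, false)),
    (2768, .gen 539 (317, false)),
    (3243, .gen 539 (317, true)),
    (3031, .gen 2379 (317, false)),
    (1843, .gen 2379 (317, true)),
    (2067, .gen 1115 (317, false)),
    (1742, .gen 1115 (319, false)),
    (2925, .gen 2582 (319, false)),
    (3772, .gen 472 (319, false)),
    (956, .gen 3732 (317, false)),
    (997, .gen 3732 (317, true)),
    (225, .gen 708 (317, false)),
    (2150, .gen 708 (317, true)),
    (2952, .gen 1627 (317, false)),
    (2452, .gen 1627 (319, false)),
    (1714, .gen 1503 (319, false)),
    (3328, .gen 469 (319, false)),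
    (937, .gen 1268 (317, false)),
    (642, .gen 1268 (317, true)),
    (3132, .gen 1387 (317, false)),
    (3251, .gen 1387 (317, true)),
    (2744, .gen 3359 (317, false)),
    (3398, .gen 3359 (319, false)),
    (1631, .gen 926 (319, false)),
    (1441, .gen 1402 (319, false)),
    (2000, .gen 3630 (317, false)),
    (3213, .gen 3630 (317, true)),
    (3286, .gen 51 (317, false)),
    (3275, .gen 51 (317, true)),
    (131, .gen 1482 (317, false)),
    (2453, .gen 1482 (319, false)),
    (2664, .gen 2991 (319, false)),
    (1740, .gen 3337 (319, false)),
    (2234, .gen 209 (317, false)),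
    (385, .gen 209 (317, true)),
    (3377, .gen 2688 (317, false)),
    (1721, .gen 2688 (317, true)),
    (1596, .gen 3068 (317, false)),
    (2428, .gen 3068 (319, false)),
    (2499, .gen 3245 (319, false)),
    (270, .gen 99 (319, false)),
    (2164, .gen 1203 (317, false)),
    (2168, .gen 1203 (317, true)),
    (2508, .gen 1868 (317, false)),
    (3180, .gen 1868 (317, true)),
    (1656, .gen 972 (317, false)),
    (2848, .gen 972 (319, false)),
    (1062, .gen 1564 (319, false)),
    (981, .gen 3786 (319, false)),
    (1743, .gen 1812 (317, false)),
    (3624, .gen 1812 (317, true)),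
    (315, .gen 285 (317, false)),
    (2241, .gen 285 (317, true)),
    (828, .gen 123 (317, false)),
    (1873, .gen 123 (319, false)),
    (1182, .gen 2123 (319, false)),
    (1713, .gen 2999 (319, false)),
    (1136, .gen 3535 (317, false)),
    (125, .gen 3535 (317, true)),
    (906, .gen 283 (317, false)),
    (2455, .gen 283 (317, true)),
    (2764, .gen 2735 (317, false)),
    (1146, .gen 2735 (319, false))]

/-- Visits. -/
def v16_8 : List (ℕ × Src) :=
  [(2502, .gen 1237 (319, false)),
    (1600, .gen 1553 (319, false)),
    (2771, .gen 112 (317, false)),
    (2065, .gen 112 (317, true)),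
    (1537, .gen 2878 (317, false)),
    (2359, .gen 2878 (317, true)),
    (1359, .gen 175 (317, false)),
    (3080, .gen 175 (319, false)),
    (880, .gen 3756 (319, false)),
    (2818, .gen 389 (319, false)),
    (1764, .gen 176 (317, false)),
    (1215, .gen 176 (317, true)),
    (2653, .gen 3668 (317, false)),
    (1664, .gen 3668 (317, true)),
    (411, .gen 3086 (317, false)),
    (3195, .gen 3086 (319, false)),
    (2293, .gen 589 (319, false)),
    (280, .gen 115 (319, false)),
    (2154, .gen 2642 (317, false)),
    (2064, .gen 2642 (317, true)),
    (1399, .gen 265 (317, false)),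
    (2115, .gen 265 (317, true)),
    (473, .gen 3595 (317, false)),
    (3499, .gen 3595 (319, false)),
    (3247, .gen 2216 (319, false)),
    (1930, .gen 1556 (319, false)),
    (2813, .gen 1832 (317, false)),
    (1942, .gen 1832 (317, true)),
    (3395, .gen 1789 (317, false)),
    (45, .gen 1789 (317, true)),
    (305, .gen 1173 (317, false)),
    (3255, .gen 1173 (319, false)),
    (2537, .gen 2822 (319, false)),
    (2872, .gen 596 (319, false)),
    (2080, .gen 1899 (317, false)),
    (1371, .gen 1899 (317, true)),
    (272, .gen 2432 (317, false)),
    (1568, .gen 2432 (317, true)),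
    (3384, .gen 1344 (317, false)),
    (88, .gen 1344 (319, false)),
    (1050, .gen 521 (319, false)),
    (1485, .gen 329 (319, false)),
    (1649, .gen 3019 (317, false)),
    (2345, .gen 3019 (317, true)),
    (3009, .gen 2917 (317, false)),
    (2860, .gen 2917 (317, true)),
    (1406, .gen 986 (317, false)),
    (2752, .gen 986 (319, false)),
    (1859, .gen 185 (319, false)),
    (2156, .gen 1471 (317, true)),
    (615, .gen 2488 (317, false)),
    (3594, .gen 645 (317, true)),
    (292, .gen 2599 (317, false)),
    (2160, .gen 1844 (317, false)),
    (3401, .gen 1844 (317, true)),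
    (1512, .gen 1530 (317, false)),
    (2367, .gen 1530 (319, false)),
    (3757, .gen 3677 (317, true)),
    (346, .gen 2743 (317, false)),
    (1510, .gen 3311 (317, true)),
    (666, .gen 2839 (317, false)),
    (2369, .gen 1267 (319, false)),
    (2390, .gen 3232 (317, false)),
    (3616, .gen 3232 (317, true)),
    (2101, .gen 2276 (317, false)),
    (3425, .gen 2276 (317, true)),
    (1041, .gen 84 (317, false)),
    (1353, .gen 84 (319, false)),
    (3590, .gen 388 (319, false)),
    (15, .gen 2700 (319, false)),
    (3503, .gen 857 (317, false)),
    (950, .gen 457 (317, true)),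
    (1788, .gen 1435 (319, false)),
    (1357, .gen 3361 (317, false)),
    (3448, .gen 3526 (317, true)),
    (1283, .gen 2027 (319, false)),
    (436, .gen 710 (317, false)),
    (767, .gen 710 (317, true)),
    (2163, .gen 3032 (317, false)),
    (1871, .gen 3032 (317, true)),
    (83, .gen 2859 (317, false)),
    (2125, .gen 2859 (319, false)),
    (1814, .gen 214 (319, false)),
    (1312, .gen 1542 (319, false)),
    (3785, .gen 788 (317, false)),
    (2897, .gen 788 (317, true)),
    (601, .gen 2334 (317, false)),
    (2414, .gen 2334 (317, true)),
    (1730, .gen 2057 (317, false)),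
    (2279, .gen 2057 (319, false)),
    (1028, .gen 561 (319, false)),
    (1908, .gen 3623 (319, false)),
    (508, .gen 1976 (317, false)),
    (2596, .gen 1976 (317, true)),
    (2134, .gen 1681 (317, false)),
    (2496, .gen 1681 (317, true)),
    (3055, .gen 3702 (317, false)),
    (3293, .gen 3702 (319, false)),
    (3416, .gen 942 (319, false)),
    (2226, .gen 3562 (319, false)),
    (2457, .gen 3333 (317, false)),
    (3635, .gen 362 (317, true)),
    (531, .gen 1123 (319, false)),
    (3396, .gen 218 (317, false)),
    (971, .gen 218 (317, true)),
    (92, .gen 1634 (317, false)),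
    (1488, .gen 1634 (317, true)),
    (3422, .gen 3279 (317, false)),
    (2876, .gen 3279 (319, false)),
    (3269, .gen 2717 (319, false)),
    (3249, .gen 2775 (319, false)),
    (2812, .gen 3730 (317, false)),
    (1685, .gen 3730 (317, true)),
    (232, .gen 1483 (317, false)),
    (1386, .gen 1483 (317, true)),
    (3062, .gen 1408 (317, false)),
    (1273, .gen 1408 (319, false)),
    (2506, .gen 3744 (319, false)),
    (2319, .gen 3737 (319, false)),
    (3128, .gen 889 (317, false)),
    (3087, .gen 889 (317, true)),
    (1367, .gen 827 (317, false)),
    (2829, .gen 827 (317, true)),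
    (3035, .gen 674 (317, false)),
    (3470, .gen 674 (319, false)),
    (1781, .gen 2948 (319, false)),
    (1913, .gen 2558 (319, false)),
    (2784, .gen 3628 (317, false)),
    (753, .gen 3628 (317, true)),
    (593, .gen 3491 (317, false)),
    (3658, .gen 3491 (317, true)),
    (1133, .gen 1082 (317, false)),
    (2933, .gen 1082 (319, false)),
    (1285, .gen 2433 (319, false)),
    (3005, .gen 1779 (319, false)),
    (1708, .gen 1504 (317, false)),
    (3460, .gen 1504 (317, true)),
    (3356, .gen 1677 (317, false)),
    (267, .gen 1677 (317, true)),
    (798, .gen 3415 (317, false)),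
    (623, .gen 3415 (319, false)),
    (1662, .gen 3709 (319, false)),
    (1269, .gen 1777 (319, false)),
    (2316, .gen 1343 (317, false)),
    (1918, .gen 2025 (317, true)),
    (1305, .gen 2275 (319, false)),
    (1021, .gen 3530 (317, false)),
    (1080, .gen 806 (319, false)),
    (2469, .gen 3295 (319, false)),
    (818, .gen 519 (317, false)),
    (1059, .gen 519 (317, true)),
    (511, .gen 2532 (317, false)),
    (3159, .gen 2532 (317, true)),
    (2352, .gen 755 (317, false)),
    (1807, .gen 755 (319, false)),
    (1144, .gen 231 (319, false)),
    (859, .gen 361 (319, false)),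
    (3370, .gen 2231 (317, false)),
    (1725, .gen 2231 (317, true)),
    (2718, .gen 931 (317, false)),
    (545, .gen 931 (317, true)),
    (3, .gen 3669 (317, false)),
    (663, .gen 3669 (319, false)),
    (929, .gen 497 (319, false)),
    (1992, .gen 1891 (319, false)),
    (2738, .gen 1722 (317, false)),
    (652, .gen 1722 (317, true)),
    (2283, .gen 1638 (317, false)),
    (791, .gen 1638 (317, true)),
    (1451, .gen 658 (317, false)),
    (3122, .gen 658 (319, false)),
    (49, .gen 1322 (319, false)),
    (3206, .gen 3367 (319, false)),
    (2336, .gen 2492 (317, false)),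
    (364, .gen 2492 (317, true)),
    (622, .gen 2881 (317, false)),
    (3091, .gen 2881 (317, true)),
    (541, .gen 3299 (317, false)),
    (1309, .gen 3299 (319, false)),
    (1593, .gen 73 (319, false)),
    (1963, .gen 3315 (319, false)),
    (1340, .gen 887 (317, false)),
    (3129, .gen 887 (317, true)),
    (196, .gen 2096 (317, false)),
    (1051, .gen 2096 (317, true)),
    (326, .gen 2852 (317, false)),
    (1710, .gen 2852 (319, false)),
    (2954, .gen 2008 (319, false)),
    (2477, .gen 2584 (319, false)),
    (1223, .gen 3393 (317, false)),
    (249, .gen 3393 (317, true)),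
    (3569, .gen 3136 (317, false)),
    (118, .gen 3136 (317, true)),
    (3107, .gen 3261 (317, false)),
    (1350, .gen 3261 (319, false)),
    (1025, .gen 120 (319, false)),
    (825, .gen 588 (319, false)),
    (1658, .gen 2993 (317, false)),
    (1895, .gen 2606 (319, false)),
    (1916, .gen 2660 (319, false)),
    (319, .gen 3308 (317, false)),
    (3619, .gen 345 (319, false)),
    (2814, .gen 1063 (319, false)),
    (333, .gen 1304 (317, false)),
    (3469, .gen 1304 (317, true)),
    (1741, .gen 3368 (317, false)),
    (1616, .gen 3368 (317, true)),
    (2712, .gen 2786 (317, false)),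
    (672, .gen 2786 (319, false)),
    (318, .gen 3175 (319, false)),
    (3258, .gen 2445 (319, false)),
    (3098, .gen 1074 (317, false)),
    (234, .gen 1074 (317, true)),
    (2143, .gen 1732 (317, false)),
    (3688, .gen 1732 (317, true)),
    (255, .gen 420 (317, false)),
    (11, .gen 420 (319, false)),
    (1738, .gen 568 (319, false)),
    (934, .gen 1958 (319, false)),
    (1565, .gen 2823 (317, false)),
    (830, .gen 2823 (317, true)),
    (1830, .gen 2104 (317, false)),
    (80, .gen 2104 (317, true)),
    (569, .gen 1929 (317, false)),
    (2246, .gen 1929 (319, false)),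
    (2306, .gen 1253 (319, false)),
    (219, .gen 3572 (319, false)),
    (1009, .gen 449 (317, false)),
    (793, .gen 449 (317, true)),
    (872, .gen 2819 (317, false)),
    (2561, .gen 2819 (317, true)),
    (3467, .gen 2144 (317, false)),
    (2690, .gen 2144 (319, false)),
    (1210, .gen 2035 (319, false)),
    (1376, .gen 343 (319, false)),
    (2397, .gen 2566 (317, false)),
    (328, .gen 2566 (317, true)),
    (3655, .gen 3524 (317, false)),
    (2386, .gen 3524 (317, true)),
    (1336, .gen 765 (317, false)),
    (3301, .gen 765 (319, false)),
    (3727, .gen 1311 (319, false)),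
    (2978, .gen 1946 (319, false)),
    (2102, .gen 3321 (317, false)),
    (1099, .gen 3321 (317, true)),
    (1234, .gen 592 (317, false)),
    (3791, .gen 592 (317, true)),
    (573, .gen 3452 (317, false)),
    (1388, .gen 3452 (319, false)),
    (2082, .gen 1362 (319, false)),
    (2824, .gen 69 (319, false)),
    (474, .gen 1905 (317, false)),
    (784, .gen 1905 (317, true)),
    (2229, .gen 2979 (317, false)),
    (2969, .gen 2979 (317, true)),
    (187, .gen 3681 (317, false)),
    (1516, .gen 3681 (319, false)),
    (1540, .gen 1389 (319, false)),
    (2908, .gen 1769 (319, false)),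
    (1456, .gen 183 (317, false)),
    (129, .gen 183 (317, true)),
    (1878, .gen 799 (317, false)),
    (275, .gen 799 (317, true)),
    (3665, .gen 2779 (317, false)),
    (3177, .gen 2779 (319, false)),
    (1526, .gen 2042 (319, false)),
    (1771, .gen 21 (319, false)),
    (441, .gen 1511 (317, false)),
    (1614, .gen 1511 (317, true)),
    (3097, .gen 617 (317, false)),
    (2261, .gen 617 (317, true)),
    (2183, .gen 3411 (317, false)),
    (841, .gen 3411 (319, false)),
    (340, .gen 975 (319, false)),
    (284, .gen 12 (319, false)),
    (1196, .gen 462 (317, false)),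
    (2868, .gen 462 (317, true)),
    (2225, .gen 3229 (317, false)),
    (2639, .gen 3229 (317, true)),
    (2685, .gen 1775 (317, false)),
    (1699, .gen 1775 (319, false)),
    (3406, .gen 371 (319, false)),
    (3413, .gen 1849 (319, false)),
    (3570, .gen 78 (317, false)),
    (890, .gen 78 (317, true)),
    (266, .gen 1375 (317, false)),
    (1043, .gen 1375 (317, true)),
    (1756, .gen 2575 (317, false)),
    (1659, .gen 2575 (319, false)),
    (2394, .gen 1348 (319, false)),
    (1372, .gen 1211 (319, false)),
    (3278, .gen 2391 (317, false)),
    (1315, .gen 2391 (317, true)),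
    (3640, .gen 1465 (317, false)),
    (2655, .gen 1465 (317, true)),
    (248, .gen 3729 (317, false)),
    (1838, .gen 3729 (319, false)),
    (1326, .gen 3436 (319, false)),
    (2404, .gen 2373 (319, false)),
    (996, .gen 3338 (317, false))]

/-- Visits. -/
def v16_9 : List (ℕ × Src) :=
  [(656, .gen 3338 (317, true)),
    (1822, .gen 3606 (317, false)),
    (424, .gen 3606 (317, true)),
    (3542, .gen 461 (317, false)),
    (3703, .gen 461 (319, false)),
    (974, .gen 3541 (319, false)),
    (1947, .gen 1 (319, false)),
    (1949, .gen 932 (317, false)),
    (2489, .gen 932 (317, true)),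
    (1744, .gen 2794 (317, false)),
    (1978, .gen 2794 (317, true)),
    (392, .gen 3613 (317, false)),
    (2997, .gen 3613 (319, false)),
    (2796, .gen 171 (319, false)),
    (1527, .gen 3140 (319, false)),
    (2075, .gen 1850 (317, false)),
    (2471, .gen 1850 (317, true)),
    (2099, .gen 3700 (317, false)),
    (1361, .gen 3700 (317, true)),
    (1401, .gen 77 (317, false)),
    (3692, .gen 77 (319, false)),
    (1712, .gen 1877 (319, false)),
    (1736, .gen 919 (319, false)),
    (727, .gen 1508 (317, false)),
    (445, .gen 1508 (317, true)),
    (2449, .gen 2887 (317, false)),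
    (2459, .gen 2887 (317, true)),
    (150, .gen 3101 (317, false)),
    (3748, .gen 3101 (319, false)),
    (3114, .gen 3330 (319, false)),
    (3533, .gen 2287 (319, false)),
    (959, .gen 1666 (317, false)),
    (2513, .gen 1666 (317, true)),
    (1466, .gen 3365 (317, false)),
    (3589, .gen 3365 (317, true)),
    (2179, .gen 2710 (317, false)),
    (908, .gen 2710 (319, false)),
    (567, .gen 75 (319, false)),
    (817, .gen 1266 (319, false)),
    (3313, .gen 698 (317, false)),
    (571, .gen 698 (317, true)),
    (3417, .gen 2720 (317, false)),
    (1760, .gen 2720 (317, true)),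
    (3259, .gen 1140 (317, false)),
    (3519, .gen 1140 (319, false)),
    (995, .gen 2943 (319, false)),
    (3450, .gen 3472 (319, false)),
    (3212, .gen 2070 (317, false)),
    (1801, .gen 2070 (317, true)),
    (2706, .gen 3543 (317, false)),
    (2640, .gen 3543 (317, true)),
    (3306, .gen 41 (317, false)),
    (2820, .gen 41 (319, false)),
    (3260, .gen 2949 (319, false)),
    (2318, .gen 412 (319, false)),
    (2493, .gen 1328 (317, false)),
    (3419, .gen 1328 (317, true)),
    (142, .gen 1707 (317, false)),
    (2579, .gen 1707 (317, true)),
    (2491, .gen 1528 (317, false)),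
    (3745, .gen 1528 (319, false)),
    (621, .gen 70 (319, false)),
    (79, .gen 2605 (319, false)),
    (3277, .gen 2593 (317, false)),
    (155, .gen 2593 (317, true)),
    (2028, .gen 3454 (317, false)),
    (291, .gen 3454 (317, true)),
    (3280, .gen 130 (317, false)),
    (1297, .gen 130 (319, false)),
    (3608, .gen 1195 (319, false)),
    (3000, .gen 724 (319, false)),
    (1702, .gen 3051 (317, false)),
    (2615, .gen 3051 (317, true)),
    (1415, .gen 774 (317, false)),
    (739, .gen 774 (317, true)),
    (2951, .gen 630 (317, false)),
    (60, .gen 630 (319, false)),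
    (1599, .gen 816 (319, false)),
    (1857, .gen 3715 (319, false)),
    (106, .gen 1824 (317, false)),
    (307, .gen 1824 (317, true)),
    (2807, .gen 1474 (317, false)),
    (1124, .gen 1474 (317, true)),
    (1607, .gen 16 (317, false)),
    (1879, .gen 16 (319, false)),
    (1837, .gen 2667 (319, false)),
    (551, .gen 3532 (319, false)),
    (2393, .gen 719 (317, false)),
    (3515, .gen 719 (317, true)),
    (737, .gen 456 (317, false)),
    (2304, .gen 456 (317, true)),
    (3674, .gen 1088 (317, false)),
    (1075, .gen 1088 (319, false)),
    (3382, .gen 1578 (319, false)),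
    (2649, .gen 1188 (319, false)),
    (2906, .gen 3599 (317, false)),
    (3112, .gen 3599 (317, true)),
    (1244, .gen 2981 (317, false)),
    (979, .gen 2981 (317, true)),
    (2552, .gen 1637 (317, false)),
    (2423, .gen 1637 (319, false)),
    (1067, .gen 1232 (319, false)),
    (3276, .gen 843 (319, false)),
    (2728, .gen 3758 (317, false)),
    (883, .gen 3758 (317, true)),
    (1246, .gen 3449 (317, false)),
    (694, .gen 3449 (317, true)),
    (3611, .gen 1920 (317, false)),
    (1561, .gen 1920 (319, false)),
    (3764, .gen 2175 (319, false)),
    (3125, .gen 3480 (319, false)),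
    (3520, .gen 3265 (317, false)),
    (134, .gen 3265 (317, true)),
    (163, .gen 3250 (317, false)),
    (3181, .gen 3250 (317, true)),
    (403, .gen 1650 (317, false)),
    (2503, .gen 1650 (319, false)),
    (154, .gen 2641 (319, false)),
    (157, .gen 1554 (319, false)),
    (2461, .gen 2521 (317, false)),
    (2955, .gen 2521 (317, true)),
    (3749, .gen 1079 (317, false)),
    (96, .gen 1079 (317, true)),
    (2895, .gen 2015 (317, false)),
    (3455, .gen 2015 (319, false)),
    (3735, .gen 2078 (319, false)),
    (1513, .gen 1546 (319, false)),
    (930, .gen 170 (317, false)),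
    (3239, .gen 170 (317, true)),
    (1380, .gen 3489 (317, false)),
    (3439, .gen 3489 (317, true)),
    (222, .gen 324 (317, false)),
    (2129, .gen 324 (319, false)),
    (730, .gen 920 (319, false)),
    (375, .gen 1729 (319, false)),
    (2193, .gen 1106 (317, false)),
    (530, .gen 1106 (317, true)),
    (1493, .gen 504 (317, false)),
    (2286, .gen 504 (317, true)),
    (3266, .gen 3141 (317, false)),
    (3241, .gen 3141 (319, false)),
    (2368, .gen 836 (319, false)),
    (1270, .gen 3053 (319, false)),
    (2781, .gen 1184 (317, false)),
    (2245, .gen 1184 (317, true)),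
    (3322, .gen 1475 (317, false)),
    (39, .gen 1475 (317, true)),
    (3363, .gen 480 (317, false)),
    (161, .gen 480 (319, false)),
    (722, .gen 372 (319, false)),
    (3349, .gen 1851 (319, false)),
    (3069, .gen 3369 (317, false)),
    (1979, .gen 3369 (317, true)),
    (700, .gen 1069 (317, false)),
    (2238, .gen 1069 (317, true)),
    (341, .gen 1452 (317, false)),
    (3531, .gen 1452 (319, false)),
    (227, .gen 1131 (319, false)),
    (3694, .gen 273 (319, false)),
    (1259, .gen 3591 (317, false)),
    (702, .gen 3591 (317, true)),
    (712, .gen 534 (317, false)),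
    (1935, .gen 534 (317, true)),
    (3568, .gen 1571 (317, false)),
    (390, .gen 1571 (319, false)),
    (3751, .gen 36 (319, false)),
    (1129, .gen 1543 (319, false)),
    (3309, .gen 1972 (317, false)),
    (3007, .gen 1972 (317, true)),
    (2623, .gen 1377 (317, false)),
    (3402, .gen 1377 (317, true)),
    (2923, .gen 56 (317, false)),
    (2085, .gen 56 (319, false)),
    (781, .gen 1806 (319, false)),
    (237, .gen 3183 (319, false)),
    (1952, .gen 1382 (317, false)),
    (1646, .gen 1382 (317, true)),
    (282, .gen 2886 (317, false)),
    (373, .gen 2886 (317, true)),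
    (1770, .gen 87 (317, false)),
    (3650, .gen 87 (319, false)),
    (3291, .gen 2713 (319, false)),
    (1101, .gen 114 (319, false)),
    (2587, .gen 42 (317, false)),
    (3205, .gen 42 (317, true)),
    (579, .gen 2723 (317, false)),
    (2964, .gen 2723 (317, true)),
    (1093, .gen 2679 (317, false)),
    (2451, .gen 2679 (319, false)),
    (3567, .gen 164 (319, false)),
    (409, .gen 3025 (319, false)),
    (3168, .gen 1798 (317, false)),
    (1737, .gen 1798 (317, true)),
    (1967, .gen 2940 (317, false)),
    (2977, .gen 2940 (317, true)),
    (2658, .gen 369 (317, false)),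
    (3233, .gen 369 (319, false)),
    (264, .gen 2701 (319, false)),
    (3736, .gen 1293 (319, false)),
    (3754, .gen 848 (317, false)),
    (2662, .gen 848 (317, true)),
    (895, .gen 2199 (317, false)),
    (1484, .gen 2199 (317, true)),
    (3186, .gen 1365 (317, false)),
    (3779, .gen 1365 (319, false)),
    (61, .gen 2467 (319, false)),
    (3172, .gen 1943 (319, false)),
    (1072, .gen 2815 (317, false)),
    (1114, .gen 2815 (317, true)),
    (2780, .gen 3399 (317, false)),
    (2018, .gen 3399 (317, true)),
    (1460, .gen 224 (317, false)),
    (54, .gen 224 (319, false)),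
    (159, .gen 1103 (319, false)),
    (2714, .gen 3407 (319, false)),
    (2372, .gen 330 (317, false)),
    (2016, .gen 330 (317, true)),
    (2111, .gen 3461 (317, false)),
    (682, .gen 3461 (317, true)),
    (902, .gen 1395 (317, false)),
    (2023, .gen 1395 (319, false)),
    (126, .gen 1411 (319, false)),
    (2374, .gen 1496 (319, false)),
    (2320, .gen 2253 (317, false)),
    (768, .gen 2253 (317, true)),
    (829, .gen 533 (317, false)),
    (2891, .gen 533 (317, true)),
    (734, .gen 2105 (317, false)),
    (761, .gen 2105 (319, false)),
    (2058, .gen 813 (319, false)),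
    (2551, .gen 1278 (319, false)),
    (870, .gen 271 (317, false)),
    (3622, .gen 271 (317, true)),
    (1906, .gen 3208 (317, false)),
    (3327, .gen 3208 (317, true)),
    (2916, .gen 2525 (317, false)),
    (3746, .gen 2525 (319, false)),
    (2931, .gen 355 (319, false)),
    (2875, .gen 1867 (319, false)),
    (276, .gen 3215 (317, false)),
    (1669, .gen 3215 (317, true)),
    (1385, .gen 1002 (317, false)),
    (181, .gen 1002 (317, true)),
    (2116, .gen 34 (317, false)),
    (32, .gen 34 (319, false)),
    (2120, .gen 2546 (319, false)),
    (1567, .gen 3037 (319, false)),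
    (1981, .gen 350 (317, false)),
    (2647, .gen 350 (317, true)),
    (59, .gen 1761 (317, false)),
    (1750, .gen 1761 (317, true)),
    (2911, .gen 2697 (317, false)),
    (1926, .gen 2697 (319, false)),
    (842, .gen 2411 (319, false)),
    (1383, .gen 2751 (319, false)),
    (1594, .gen 1276 (317, false)),
    (928, .gen 1276 (317, true)),
    (228, .gen 603 (317, false)),
    (3566, .gen 603 (317, true)),
    (1562, .gen 745 (317, false)),
    (2167, .gen 745 (319, false)),
    (1763, .gen 1339 (319, false)),
    (2417, .gen 2619 (319, false)),
    (2500, .gen 2297 (317, false)),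
    (3355, .gen 2297 (317, true)),
    (246, .gen 1654 (317, false)),
    (3201, .gen 1654 (317, true)),
    (1257, .gen 1671 (317, false)),
    (2505, .gen 1671 (319, false)),
    (2470, .gen 2795 (319, false)),
    (1827, .gen 1089 (319, false)),
    (1263, .gen 2176 (317, false)),
    (1684, .gen 2176 (317, true)),
    (1735, .gen 1776 (317, false)),
    (439, .gen 1776 (317, true)),
    (1109, .gen 2211 (317, false)),
    (675, .gen 2211 (319, false)),
    (3775, .gen 72 (319, false)),
    (3316, .gen 688 (319, false)),
    (2131, .gen 3682 (317, false)),
    (3167, .gen 3682 (317, true)),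
    (3063, .gen 2053 (317, false)),
    (2165, .gen 2053 (317, true)),
    (162, .gen 180 (317, false)),
    (921, .gen 180 (319, false)),
    (2084, .gen 3740 (319, false)),
    (3629, .gen 2894 (319, false)),
    (1986, .gen 548 (317, false)),
    (3768, .gen 548 (317, true)),
    (635, .gen 3511 (317, false)),
    (3224, .gen 3511 (317, true)),
    (2998, .gen 1381 (317, false)),
    (591, .gen 1381 (319, false)),
    (1772, .gen 66 (319, false)),
    (3207, .gen 1222 (319, false)),
    (1520, .gen 396 (317, false)),
    (513, .gen 396 (317, true)),
    (2437, .gen 1166 (317, false)),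
    (2098, .gen 1166 (317, true)),
    (1148, .gen 2802 (317, false))]

/-- Visits. -/
def v16_10 : List (ℕ × Src) :=
  [(3088, .gen 2802 (319, false)),
    (2162, .gen 733 (319, false)),
    (2419, .gen 3579 (319, false)),
    (2630, .gen 1218 (317, false)),
    (2268, .gen 1218 (317, true)),
    (750, .gen 3144 (317, false)),
    (2022, .gen 3144 (317, true)),
    (3521, .gen 2263 (317, false)),
    (3418, .gen 2263 (319, false)),
    (3580, .gen 3405 (319, false)),
    (2038, .gen 944 (319, false)),
    (1927, .gen 1608 (317, false)),
    (1363, .gen 1608 (317, true)),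
    (2927, .gen 2572 (317, false)),
    (3033, .gen 2572 (317, true)),
    (2436, .gen 552 (317, false)),
    (430, .gen 552 (319, false)),
    (3726, .gen 651 (319, false)),
    (2635, .gen 2673 (319, false)),
    (1549, .gen 3050 (317, false)),
    (173, .gen 3050 (317, true)),
    (2358, .gen 178 (317, false)),
    (3138, .gen 178 (317, true)),
    (1782, .gen 1219 (317, false)),
    (3483, .gen 1219 (319, false)),
    (1432, .gen 1398 (319, false)),
    (1018, .gen 969 (319, false)),
    (2924, .gen 2646 (317, false)),
    (2217, .gen 2646 (317, true)),
    (1817, .gen 2732 (317, false)),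
    (2684, .gen 2732 (317, true)),
    (1925, .gen 2418 (317, false)),
    (2577, .gen 2418 (319, false)),
    (3753, .gen 782 (319, false)),
    (3375, .gen 2578 (319, false)),
    (1747, .gen 2331 (317, false)),
    (2569, .gen 2331 (317, true)),
    (190, .gen 1984 (317, false)),
    (2522, .gen 1984 (317, true)),
    (2299, .gen 1896 (317, false)),
    (143, .gen 1896 (319, false)),
    (2956, .gen 2274 (319, false)),
    (1418, .gen 2612 (319, false)),
    (383, .gen 2339 (317, false)),
    (667, .gen 2339 (317, true)),
    (2607, .gen 604 (317, false)),
    (1865, .gen 604 (317, true)),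
    (1221, .gen 3038 (317, false)),
    (1953, .gen 3038 (319, false)),
    (711, .gen 1673 (319, false)),
    (1538, .gen 3058 (319, false)),
    (63, .gen 3130 (317, false)),
    (3462, .gen 3130 (317, true)),
    (2772, .gen 3478 (317, false)),
    (1092, .gen 3478 (317, true)),
    (2206, .gen 3554 (317, false)),
    (3340, .gen 3554 (319, false)),
    (1429, .gen 3518 (319, false)),
    (1881, .gen 488 (319, false)),
    (2782, .gen 3473 (317, false)),
    (1149, .gen 3473 (317, true)),
    (379, .gen 2040 (317, false)),
    (2093, .gen 2040 (317, true)),
    (1998, .gen 3577 (317, false)),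
    (1939, .gen 3577 (319, false)),
    (903, .gen 499 (319, false)),
    (19, .gen 117 (319, false)),
    (1183, .gen 2618 (317, false)),
    (2029, .gen 2618 (317, true)),
    (846, .gen 2285 (317, false)),
    (2158, .gen 2285 (317, true)),
    (2181, .gen 2560 (317, false)),
    (2564, .gen 2560 (319, false)),
    (2422, .gen 958 (319, false)),
    (2730, .gen 758 (319, false)),
    (3612, .gen 2212 (317, false)),
    (738, .gen 2212 (317, true)),
    (2515, .gen 3131 (317, false)),
    (2663, .gen 3131 (317, true)),
    (1049, .gen 2671 (317, false)),
    (2440, .gen 2671 (319, false)),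
    (3602, .gen 3437 (319, false)),
    (1453, .gen 3565 (319, false)),
    (1390, .gen 3076 (317, false)),
    (580, .gen 3076 (317, true)),
    (2190, .gen 3200 (317, false)),
    (3152, .gen 3200 (317, true)),
    (3428, .gen 2611 (317, false)),
    (1575, .gen 2611 (319, false)),
    (611, .gen 1238 (319, false)),
    (3782, .gen 1785 (319, false)),
    (2066, .gen 659 (317, false)),
    (3656, .gen 659 (317, true)),
    (1894, .gen 1478 (317, false)),
    (3028, .gen 1478 (317, true)),
    (3463, .gen 3466 (317, false)),
    (2364, .gen 3466 (319, false)),
    (1945, .gen 2271 (319, false)),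
    (3155, .gen 851 (319, false)),
    (594, .gen 1279 (317, false)),
    (1965, .gen 1279 (317, true)),
    (1938, .gen 3020 (317, false)),
    (91, .gen 3020 (317, true)),
    (1023, .gen 2519 (317, false)),
    (3641, .gen 2519 (319, false)),
    (2533, .gen 320 (319, false)),
    (983, .gen 3789 (319, false)),
    (754, .gen 3011 (317, false)),
    (3634, .gen 3011 (317, true)),
    (1097, .gen 1683 (317, false)),
    (1407, .gen 1683 (317, true)),
    (2219, .gen 3424 (317, false)),
    (3135, .gen 3424 (319, false)),
    (314, .gen 3373 (319, false)),
    (970, .gen 410 (319, false)),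
    (3157, .gen 1797 (317, false)),
    (2770, .gen 1797 (317, true)),
    (2864, .gen 2966 (317, false)),
    (3346, .gen 2966 (317, true)),
    (2371, .gen 2754 (317, false)),
    (2385, .gen 2754 (319, false)),
    (3558, .gen 1227 (319, false)),
    (3493, .gen 3162 (319, false)),
    (1252, .gen 2746 (317, false)),
    (1015, .gen 2746 (317, true)),
    (3374, .gen 1898 (317, false)),
    (2284, .gen 1898 (317, true)),
    (2683, .gen 1613 (317, false)),
    (550, .gen 1613 (319, false)),
    (3513, .gen 408 (319, false)),
    (968, .gen 1191 (319, false)),
    (2953, .gen 1632 (317, false)),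
    (803, .gen 1632 (317, true)),
    (614, .gen 2788 (317, false)),
    (3342, .gen 2788 (317, true)),
    (2347, .gen 3683 (317, false)),
    (915, .gen 3683 (319, false)),
    (169, .gen 2378 (319, false)),
    (526, .gen 1893 (319, false)),
    (3636, .gen 662 (317, false)),
    (2277, .gen 662 (317, true)),
    (917, .gen 3352 (317, false)),
    (2365, .gen 3352 (317, true)),
    (2289, .gen 2613 (317, false)),
    (1727, .gen 2613 (319, false)),
    (2705, .gen 3596 (319, false)),
    (1087, .gen 838 (319, false)),
    (3263, .gen 1840 (317, false)),
    (509, .gen 1840 (317, true)),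
    (538, .gen 3193 (317, false)),
    (137, .gen 3193 (317, true)),
    (3501, .gen 1748 (317, false)),
    (2409, .gen 1748 (319, false)),
    (3061, .gen 1284 (319, false)),
    (398, .gen 808 (319, false)),
    (1591, .gen 380 (317, false)),
    (3662, .gen 380 (317, true)),
    (790, .gen 3244 (317, false)),
    (1815, .gen 3244 (317, true)),
    (1150, .gen 2138 (317, false)),
    (1164, .gen 2138 (319, false)),
    (2302, .gen 1910 (319, false)),
    (138, .gen 869 (319, false)),
    (1428, .gen 2062 (317, false)),
    (2745, .gen 2062 (317, true)),
    (261, .gen 3587 (317, false)),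
    (3516, .gen 3587 (317, true)),
    (2011, .gen 746 (317, false)),
    (1083, .gen 746 (319, false)),
    (2654, .gen 3381 (319, false)),
    (1310, .gen 912 (319, false)),
    (2737, .gen 3451 (317, false)),
    (2874, .gen 3451 (317, true)),
    (1333, .gen 370 (317, false)),
    (1835, .gen 370 (317, true)),
    (353, .gen 243 (317, false)),
    (1419, .gen 243 (319, false)),
    (3773, .gen 2420 (319, false)),
    (2054, .gen 382 (319, false)),
    (3046, .gen 3648 (317, false)),
    (2882, .gen 3648 (317, true)),
    (3605, .gen 1615 (317, false)),
    (167, .gen 1615 (317, true)),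
    (136, .gen 536 (317, false)),
    (2686, .gen 536 (319, false)),
    (3103, .gen 574 (319, false)),
    (1373, .gen 2220 (319, false)),
    (3234, .gen 3790 (317, false)),
    (771, .gen 3790 (317, true)),
    (3767, .gen 6 (317, false)),
    (2783, .gen 6 (317, true)),
    (2774, .gen 1281 (317, false)),
    (577, .gen 1281 (319, false)),
    (2517, .gen 1955 (319, false)),
    (338, .gen 376 (319, false)),
    (58, .gen 3446 (317, false)),
    (177, .gen 3446 (317, true)),
    (637, .gen 1156 (317, false)),
    (3392, .gen 1156 (317, true)),
    (1651, .gen 1289 (317, false)),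
    (2889, .gen 1289 (319, false)),
    (809, .gen 572 (319, false)),
    (2487, .gen 1854 (319, false)),
    (2103, .gen 860 (317, false)),
    (3548, .gen 860 (317, true)),
    (26, .gen 2799 (317, false)),
    (847, .gen 2799 (317, true)),
    (147, .gen 2086 (317, false)),
    (2069, .gen 2086 (319, false)),
    (1290, .gen 558 (319, false)),
    (3762, .gen 3670 (319, false)),
    (1208, .gen 2252 (317, false)),
    (1793, .gen 2252 (317, true)),
    (1734, .gen 3621 (317, false)),
    (2760, .gen 3621 (317, true)),
    (191, .gen 3039 (317, false)),
    (3116, .gen 3039 (319, false)),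
    (2350, .gen 673 (319, false)),
    (211, .gen 1206 (319, false)),
    (2132, .gen 2650 (317, false)),
    (2256, .gen 2650 (317, true)),
    (893, .gen 2836 (317, false)),
    (3523, .gen 2836 (317, true)),
    (2941, .gen 2250 (317, false)),
    (220, .gen 2250 (319, false)),
    (278, .gen 686 (319, false)),
    (1457, .gen 22 (319, false)),
    (2995, .gen 3588 (317, false)),
    (705, .gen 3588 (317, true)),
    (2166, .gen 2030 (317, false)),
    (1784, .gen 2030 (317, true)),
    (259, .gen 434 (317, false)),
    (2482, .gen 434 (319, false)),
    (76, .gen 595 (319, false)),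
    (2727, .gen 1125 (319, false)),
    (422, .gen 1152 (317, false)),
    (3653, .gen 1152 (317, true)),
    (777, .gen 1204 (317, false)),
    (413, .gen 1204 (317, true)),
    (3071, .gen 1648 (317, false)),
    (1071, .gen 1648 (319, false)),
    (367, .gen 1716 (319, false)),
    (2441, .gen 3049 (319, false)),
    (3423, .gen 2024 (317, false)),
    (93, .gen 2024 (317, true)),
    (2896, .gen 2117 (317, false)),
    (2975, .gen 2117 (317, true)),
    (1962, .gen 1342 (317, false)),
    (2554, .gen 1342 (319, false)),
    (2598, .gen 1250 (319, false)),
    (3389, .gen 1566 (319, false)),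
    (3127, .gen 1338 (317, false)),
    (3048, .gen 1338 (317, true)),
    (3592, .gen 3728 (317, false)),
    (1500, .gen 3728 (317, true)),
    (967, .gen 2785 (317, false)),
    (1985, .gen 2785 (319, false)),
    (2514, .gen 1996 (319, false)),
    (2242, .gen 1803 (319, false)),
    (1139, .gen 800 (317, false)),
    (570, .gen 800 (317, true)),
    (2755, .gen 575 (317, false)),
    (609, .gen 575 (317, true)),
    (1535, .gen 1709 (317, false)),
    (1706, .gen 1709 (319, false)),
    (763, .gen 309 (319, false)),
    (2448, .gen 1961 (319, false)),
    (1731, .gen 2215 (317, false)),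
    (1629, .gen 2215 (317, true)),
    (3042, .gen 1302 (317, false)),
    (496, .gen 1302 (317, true)),
    (1755, .gen 714 (317, false)),
    (3357, .gen 714 (319, false)),
    (587, .gen 3722 (319, false)),
    (3034, .gen 1053 (319, false)),
    (2898, .gen 1295 (317, false)),
    (1403, .gen 1295 (317, true)),
    (122, .gen 3684 (317, false)),
    (451, .gen 3684 (317, true)),
    (3148, .gen 1171 (317, false)),
    (2790, .gen 1171 (319, false)),
    (2296, .gen 769 (319, false)),
    (1689, .gen 2442 (319, false)),
    (450, .gen 103 (317, false)),
    (766, .gen 103 (317, true)),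
    (1870, .gen 1330 (317, false)),
    (689, .gen 1330 (317, true)),
    (1531, .gen 2396 (317, false)),
    (2214, .gen 2396 (319, false)),
    (431, .gen 528 (319, false)),
    (2210, .gen 945 (319, false)),
    (3047, .gen 110 (317, false)),
    (2269, .gen 110 (317, true)),
    (802, .gen 3231 (317, false)),
    (2674, .gen 3231 (317, true)),
    (3464, .gen 1907 (317, false)),
    (1792, .gen 1907 (319, false)),
    (2328, .gen 1098 (319, false)),
    (1121, .gen 50 (319, false)),
    (317, .gen 2056 (317, false))]

/-- Visits. -/
def v16_11 : List (ℕ × Src) :=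
  [(2938, .gen 2056 (317, true)),
    (1454, .gen 149 (317, false)),
    (2739, .gen 149 (317, true)),
    (1433, .gen 2719 (317, false)),
    (3174, .gen 2719 (319, false)),
    (2128, .gen 776 (319, false)),
    (2087, .gen 2227 (317, false)),
    (1982, .gen 2761 (319, false)),
    (978, .gen 2108 (317, false)),
    (1690, .gen 1122 (317, false)),
    (1158, .gen 3770 (319, false)),
    (2376, .gen 145 (317, false)),
    (3221, .gen 3043 (317, false)),
    (2092, .gen 3676 (319, false)),
    (3314, .gen 2563 (317, false)),
    (2767, .gen 3230 (317, false)),
    (3026, .gen 3553 (319, false)),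
    (845, .gen 940 (317, false)),
    (2682, .gen 3761 (317, false)),
    (792, .gen 1345 (319, false)),
    (2309, .gen 1674 (317, false)),
    (2851, .gen 2939 (317, false)),
    (2195, .gen 3492 (319, false)),
    (416, .gen 1975 (317, false)),
    (3353, .gen 2811 (317, false)),
    (863, .gen 3766 (319, false)),
    (1652, .gen 3408 (317, false)),
    (3633, .gen 515 (317, false)),
    (2704, .gen 3294 (319, false)),
    (1610, .gen 378 (317, false)),
    (1469, .gen 1990 (317, false)),
    (2384, .gen 2905 (319, false)),
    (302, .gen 3196 (317, false)),
    (1639, .gen 795 (317, false)),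
    (1619, .gen 3488 (319, false)),
    (3188, .gen 2853 (317, false)),
    (466, .gen 3100 (317, false)),
    (2749, .gen 1691 (319, false)),
    (1463, .gen 1161 (317, false)),
    (2273, .gen 735 (317, false)),
    (1941, .gen 1439 (319, false)),
    (613, .gen 1726 (317, false)),
    (2604, .gen 1950 (317, false)),
    (897, .gen 1462 (317, false)),
    (858, .gen 3512 (317, false)),
    (200, .gen 1413 (317, false)),
    (1014, .gen 2608 (317, false)),
    (3334, .gen 2945 (317, false)),
    (3312, .gen 1459 (317, false)),
    (2550, .gen 1694 (319, false)),
    (1570, .gen 2265 (317, false)),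
    (1119, .gen 2645 (317, false)),
    (2061, .gen 3724 (319, false)),
    (263, .gen 1620 (317, false)),
    (2444, .gen 3649 (317, false)),
    (2501, .gen 1329 (317, false)),
    (1880, .gen 202 (319, false)),
    (1841, .gen 3625 (317, false)),
    (3182, .gen 3198 (317, false)),
    (223, .gen 3056 (319, false)),
    (1621, .gen 1745 (317, false)),
    (913, .gen 2191 (317, false)),
    (1489, .gen 1994 (317, false)),
    (1076, .gen 2702 (319, false)),
    (1181, .gen 139 (317, false)),
    (3380, .gen 3297 (317, false)),
    (936, .gen 2833 (319, false)),
    (3412, .gen 994 (317, false)),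
    (3305, .gen 90 (317, false)),
    (2902, .gen 867 (317, false)),
    (1630, .gen 1032 (317, false)),
    (1044, .gen 2424 (319, false)),
    (2090, .gen 563 (317, false)),
    (855, .gen 2456 (317, false)),
    (3292, .gen 892 (319, false)),
    (2509, .gen 3273 (317, false)),
    (2205, .gen 852 (317, false)),
    (2324, .gen 1236 (319, false)),
    (1665, .gen 3113 (317, false)),
    (2305, .gen 1536 (317, false)),
    (2239, .gen 197 (319, false)),
    (525, .gen 290 (317, false)),
    (2787, .gen 2355 (317, false)),
    (1241, .gen 192 (319, false)),
    (1675, .gen 1923 (317, false)),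
    (805, .gen 905 (317, false)),
    (1249, .gen 2899 (317, false)),
    (1034, .gen 1705 (319, false)),
    (3282, .gen 342 (317, false)),
    (1417, .gen 1509 (317, false)),
    (1090, .gen 3603 (319, false)),
    (1011, .gen 1863 (317, false)),
    (351, .gen 899 (317, false)),
    (943, .gen 3693 (319, false)),
    (1924, .gen 48 (317, false)),
    (3285, .gen 2980 (317, false)),
    (3610, .gen 1176 (319, false)),
    (1645, .gen 52 (317, false)),
    (3271, .gen 1100 (317, false)),
    (2184, .gen 1104 (319, false)),
    (620, .gen 1819 (317, false)),
    (2677, .gen 325 (317, false)),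
    (354, .gen 2415 (319, false)),
    (471, .gen 2633 (317, false)),
    (1073, .gen 3093 (317, false)),
    (484, .gen 1653 (319, false)),
    (442, .gen 725 (317, false)),
    (2504, .gen 2055 (317, false)),
    (1213, .gen 352 (319, false)),
    (1703, .gen 2159 (317, false)),
    (1094, .gen 3498 (317, false)),
    (1117, .gen 2866 (319, false)),
    (1541, .gen 35 (317, false)),
    (1037, .gen 780 (317, false)),
    (874, .gen 252 (319, false)),
    (1319, .gen 3438 (317, false)),
    (377, .gen 2559 (317, false)),
    (297, .gen 650 (319, false)),
    (2987, .gen 86 (317, false)),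
    (2970, .gen 3210 (317, false)),
    (438, .gen 3719 (319, false)),
    (1589, .gen 2972 (317, false)),
    (1853, .gen 3695 (317, false)),
    (1006, .gen 1517 (319, false)),
    (2240, .gen 3631 (317, false)),
    (2170, .gen 3494 (317, false)),
    (460, .gen 1147 (319, false)),
    (482, .gen 3044 (317, false)),
    (1523, .gen 1810 (317, false)),
    (425, .gen 2454 (319, false)),
    (429, .gen 560 (317, false)),
    (1331, .gen 1892 (317, false)),
    (2636, .gen 3704 (319, false)),
    (2236, .gen 119 (317, false)),
    (1644, .gen 2014 (317, false)),
    (2670, .gen 2494 (319, false)),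
    (2405, .gen 1042 (317, false)),
    (2832, .gen 165 (317, false)),
    (29, .gen 2926 (319, false)),
    (955, .gen 2490 (317, false)),
    (1973, .gen 2831 (317, false)),
    (1933, .gen 2768 (319, false)),
    (787, .gen 3031 (317, false)),
    (3414, .gen 3772 (317, false)),
    (2865, .gen 956 (319, false)),
    (681, .gen 225 (317, false)),
    (1430, .gen 3328 (317, false)),
    (3287, .gen 937 (319, false)),
    (523, .gen 3132 (317, false)),
    (731, .gen 1441 (317, false)),
    (3235, .gen 2000 (319, false)),
    (454, .gen 3286 (317, false)),
    (1066, .gen 1740 (317, false)),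
    (1723, .gen 2234 (319, false)),
    (728, .gen 3377 (317, false)),
    (2464, .gen 270 (317, false)),
    (3018, .gen 2164 (319, false)),
    (1921, .gen 2508 (317, false)),
    (1443, .gen 981 (317, false)),
    (3539, .gen 1743 (319, false)),
    (3117, .gen 315 (317, false)),
    (3209, .gen 1713 (317, false)),
    (3165, .gen 1136 (319, false)),
    (527, .gen 906 (317, false)),
    (2447, .gen 1600 (317, false)),
    (7, .gen 2771 (319, false)),
    (1679, .gen 1537 (317, false)),
    (1487, .gen 2818 (317, false)),
    (3228, .gen 1764 (319, false)),
    (1168, .gen 2653 (317, false)),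
    (2928, .gen 280 (317, false)),
    (2858, .gen 2154 (319, false)),
    (207, .gen 1399 (317, false)),
    (3505, .gen 1930 (317, false)),
    (1300, .gen 2813 (319, false)),
    (2984, .gen 3395 (317, false)),
    (2665, .gen 2872 (317, false)),
    (684, .gen 2080 (319, false)),
    (3289, .gen 272 (317, false)),
    (2932, .gen 1485 (317, false)),
    (27, .gen 1649 (319, false)),
    (3378, .gen 3009 (317, false)),
    (1964, .gen 2369 (317, false)),
    (2169, .gen 2390 (319, false)),
    (1151, .gen 2101 (317, false)),
    (47, .gen 15 (317, false)),
    (1303, .gen 1788 (317, false)),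
    (3607, .gen 1283 (317, false)),
    (1327, .gen 436 (319, false)),
    (723, .gen 2163 (317, false)),
    (1932, .gen 1312 (317, false)),
    (1983, .gen 3785 (319, false)),
    (2535, .gen 601 (317, false)),
    (1292, .gen 1908 (317, false)),
    (3070, .gen 508 (319, false)),
    (3442, .gen 2134 (317, false)),
    (3189, .gen 2226 (317, false)),
    (2366, .gen 531 (317, false)),
    (1692, .gen 3396 (319, false)),
    (918, .gen 92 (317, false)),
    (1351, .gen 3249 (317, false)),
    (1818, .gen 2812 (319, false)),
    (2325, .gen 232 (317, false)),
    (2689, .gen 2319 (317, false)),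
    (2680, .gen 3128 (319, false)),
    (1580, .gen 1367 (317, false)),
    (2637, .gen 1913 (317, false)),
    (1829, .gen 2784 (319, false)),
    (316, .gen 593 (317, false)),
    (1987, .gen 3005 (317, false)),
    (2337, .gen 1708 (319, false)),
    (2869, .gen 3356 (317, false)),
    (501, .gen 1269 (317, false)),
    (287, .gen 2469 (317, false)),
    (152, .gen 818 (319, false)),
    (82, .gen 511 (317, false)),
    (2518, .gen 859 (317, false)),
    (947, .gen 3370 (319, false)),
    (850, .gen 2718 (317, false)),
    (941, .gen 1992 (317, false)),
    (1448, .gen 2738 (319, false)),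
    (1888, .gen 2283 (317, false)),
    (1773, .gen 3206 (317, false)),
    (1470, .gen 2336 (319, false)),
    (2834, .gen 622 (317, false)),
    (2524, .gen 1963 (317, false)),
    (104, .gen 1340 (319, false)),
    (3178, .gen 196 (317, false)),
    (703, .gen 2477 (317, false)),
    (3787, .gen 1223 (319, false)),
    (2343, .gen 3569 (317, false)),
    (2765, .gen 2814 (317, false)),
    (696, .gen 333 (319, false)),
    (1555, .gen 1741 (317, false)),
    (542, .gen 3258 (317, false)),
    (1165, .gen 3098 (319, false)),
    (2479, .gen 2143 (317, false)),
    (2341, .gen 934 (317, false)),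
    (205, .gen 1565 (319, false)),
    (1446, .gen 1830 (317, false)),
    (3420, .gen 219 (317, false)),
    (2257, .gen 1009 (319, false)),
    (1134, .gen 872 (317, false)),
    (3698, .gen 1376 (317, false)),
    (3300, .gen 2397 (319, false)),
    (953, .gen 3655 (317, false)),
    (2631, .gen 2978 (317, false)),
    (3160, .gen 2102 (319, false)),
    (2944, .gen 1234 (317, false)),
    (3584, .gen 2824 (317, false)),
    (3793, .gen 474 (319, false)),
    (14, .gen 2229 (317, false)),
    (1515, .gen 2908 (317, false)),
    (2308, .gen 1456 (319, false)),
    (1592, .gen 1878 (317, false)),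
    (1989, .gen 1771 (317, false)),
    (1065, .gen 441 (319, false)),
    (3227, .gen 3097 (317, false)),
    (3699, .gen 284 (317, false)),
    (2703, .gen 1196 (319, false)),
    (156, .gen 2225 (317, false)),
    (1856, .gen 3413 (317, false)),
    (2153, .gen 3570 (319, false)),
    (2201, .gen 266 (317, false)),
    (2446, .gen 1372 (317, false)),
    (3158, .gen 3278 (319, false)),
    (53, .gen 3640 (317, false)),
    (2992, .gen 2404 (317, false)),
    (749, .gen 996 (319, false)),
    (3632, .gen 1822 (317, false)),
    (964, .gen 1947 (317, false)),
    (3701, .gen 1949 (319, false)),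
    (1172, .gen 1744 (317, false)),
    (1294, .gen 1527 (317, false)),
    (20, .gen 2075 (319, false)),
    (1597, .gen 2099 (317, false)),
    (3187, .gen 1736 (317, false)),
    (1866, .gen 727 (319, false)),
    (2601, .gen 2449 (317, false)),
    (3151, .gen 3533 (317, false)),
    (2698, .gen 959 (319, false)),
    (71, .gen 1466 (317, false)),
    (1826, .gen 817 (317, false)),
    (2669, .gen 3313 (319, false)),
    (1959, .gen 3417 (317, false)),
    (518, .gen 3450 (317, false)),
    (2012, .gen 3212 (319, false)),
    (914, .gen 2706 (317, false)),
    (1374, .gen 2318 (317, false)),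
    (1663, .gen 2493 (319, false)),
    (2401, .gen 142 (317, false)),
    (3242, .gen 79 (317, false)),
    (2430, .gen 3277 (319, false)),
    (1583, .gen 2028 (317, false)),
    (1229, .gen 3000 (317, false)),
    (1624, .gen 1702 (319, false)),
    (1265, .gen 1415 (317, false)),
    (2810, .gen 1857 (317, false)),
    (2529, .gen 106 (319, false)),
    (2498, .gen 2807 (317, false))]

/-- Visits. -/
def v16_12 : List (ℕ × Src) :=
  [(3742, .gen 551 (317, false)),
    (2399, .gen 2393 (319, false)),
    (2213, .gen 737 (317, false)),
    (3738, .gen 2649 (317, false)),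
    (2106, .gen 2906 (319, false)),
    (3354, .gen 1244 (317, false)),
    (415, .gen 3276 (317, false)),
    (3481, .gen 2728 (319, false)),
    (3067, .gen 1246 (317, false)),
    (2185, .gen 3125 (317, false)),
    (1825, .gen 3520 (319, false)),
    (1225, .gen 163 (317, false)),
    (1052, .gen 157 (317, false)),
    (2362, .gen 2461 (319, false)),
    (1060, .gen 3749 (317, false)),
    (1937, .gen 1513 (317, false)),
    (2398, .gen 930 (319, false)),
    (3320, .gen 1380 (317, false)),
    (1245, .gen 375 (317, false)),
    (3288, .gen 2193 (319, false)),
    (1778, .gen 1493 (317, false)),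
    (2937, .gen 1270 (317, false)),
    (3123, .gen 2781 (319, false)),
    (2237, .gen 3322 (317, false)),
    (3161, .gen 3349 (317, false)),
    (458, .gen 3069 (319, false)),
    (2659, .gen 700 (317, false)),
    (1162, .gen 3694 (317, false)),
    (2983, .gen 1259 (319, false)),
    (3663, .gen 712 (317, false)),
    (3345, .gen 1129 (317, false)),
    (2097, .gen 3309 (319, false)),
    (952, .gen 2623 (317, false)),
    (3004, .gen 237 (317, false)),
    (2973, .gen 1952 (319, false)),
    (2408, .gen 282 (317, false)),
    (2425, .gen 1101 (317, false)),
    (1869, .gen 2587 (319, false)),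
    (399, .gen 579 (317, false)),
    (3459, .gen 409 (317, false)),
    (3508, .gen 3168 (319, false)),
    (308, .gen 1967 (317, false)),
    (1174, .gen 3736 (317, false)),
    (1587, .gen 3754 (319, false)),
    (628, .gen 895 (317, false)),
    (2497, .gen 3172 (317, false)),
    (3006, .gen 1072 (319, false)),
    (729, .gen 2780 (317, false)),
    (2427, .gen 2714 (317, false)),
    (2974, .gen 2372 (319, false)),
    (669, .gen 2111 (317, false)),
    (2903, .gen 2374 (317, false)),
    (783, .gen 2320 (319, false)),
    (2272, .gen 829 (317, false)),
    (251, .gen 2551 (317, false)),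
    (40, .gen 870 (319, false)),
    (2843, .gen 1906 (317, false)),
    (1728, .gen 2875 (317, false)),
    (241, .gen 276 (319, false)),
    (1436, .gen 1385 (317, false)),
    (3575, .gen 1567 (317, false)),
    (3550, .gen 1981 (319, false)),
    (3755, .gen 59 (317, false)),
    (492, .gen 1383 (317, false)),
    (3510, .gen 1594 (319, false)),
    (2707, .gen 228 (317, false)),
    (1461, .gen 2417 (317, false)),
    (3487, .gen 2500 (319, false)),
    (3307, .gen 246 (317, false)),
    (837, .gen 1827 (317, false)),
    (1467, .gen 1263 (319, false)),
    (3660, .gen 1735 (317, false)),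
    (3376, .gen 3316 (317, false)),
    (2196, .gen 2131 (319, false)),
    (2748, .gen 3063 (317, false)),
    (1127, .gen 3629 (317, false)),
    (2512, .gen 1986 (319, false)),
    (1056, .gen 635 (317, false)),
    (478, .gen 3207 (317, false)),
    (1560, .gen 1520 (319, false)),
    (2919, .gen 2437 (317, false)),
    (844, .gen 2419 (317, false)),
    (3638, .gen 2630 (319, false)),
    (3040, .gen 750 (317, false)),
    (2837, .gen 2038 (317, false)),
    (861, .gen 1927 (319, false)),
    (3743, .gen 2927 (317, false)),
    (582, .gen 2635 (317, false)),
    (3747, .gen 1549 (319, false)),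
    (1836, .gen 2358 (317, false)),
    (3017, .gen 1018 (317, false)),
    (1153, .gen 2924 (319, false)),
    (2526, .gen 1817 (317, false)),
    (2935, .gen 3375 (317, false)),
    (475, .gen 1747 (319, false)),
    (2574, .gen 190 (317, false)),
    (3099, .gen 1418 (317, false)),
    (62, .gen 383 (319, false)),
    (581, .gen 2607 (317, false)),
    (1820, .gen 1538 (317, false)),
    (1751, .gen 63 (319, false)),
    (2838, .gen 2772 (317, false)),
    (1590, .gen 1881 (317, false)),
    (1746, .gen 2782 (319, false)),
    (464, .gen 379 (317, false)),
    (2395, .gen 19 (317, false)),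
    (1960, .gen 1183 (319, false)),
    (94, .gen 846 (317, false)),
    (3225, .gen 2730 (317, false)),
    (641, .gen 3612 (319, false)),
    (2625, .gen 2515 (317, false)),
    (1272, .gen 1453 (317, false)),
    (3089, .gen 1390 (319, false)),
    (692, .gen 2190 (317, false)),
    (810, .gen 3782 (317, false)),
    (1160, .gen 2066 (319, false)),
    (743, .gen 1894 (317, false)),
    (939, .gen 3155 (317, false)),
    (564, .gen 594 (319, false)),
    (1016, .gen 1938 (317, false)),
    (1291, .gen 983 (317, false)),
    (490, .gen 754 (319, false)),
    (3555, .gen 1097 (317, false)),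
    (2235, .gen 970 (317, false)),
    (2005, .gen 3157 (319, false)),
    (706, .gen 2864 (317, false)),
    (3022, .gen 3493 (317, false)),
    (487, .gen 1252 (319, false)),
    (2020, .gen 3374 (317, false)),
    (2538, .gen 968 (317, false)),
    (195, .gen 2953 (319, false)),
    (2223, .gen 614 (317, false)),
    (1378, .gen 526 (317, false)),
    (2118, .gen 3636 (319, false)),
    (505, .gen 917 (317, false)),
    (2687, .gen 1087 (317, false)),
    (664, .gen 3263 (319, false)),
    (660, .gen 538 (317, false)),
    (679, .gen 398 (317, false)),
    (2294, .gen 1591 (319, false)),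
    (3240, .gen 790 (317, false)),
    (2068, .gen 138 (317, false)),
    (500, .gen 1428 (319, false)),
    (910, .gen 261 (317, false)),
    (907, .gen 1310 (317, false)),
    (1502, .gen 2737 (319, false)),
    (657, .gen 1333 (317, false)),
    (230, .gen 2054 (317, false)),
    (2912, .gen 3046 (319, false)),
    (1299, .gen 3605 (317, false)),
    (68, .gen 1373 (317, false)),
    (2126, .gen 3234 (319, false)),
    (109, .gen 3767 (317, false)),
    (128, .gen 338 (317, false)),
    (3057, .gen 58 (319, false)),
    (1434, .gen 637 (317, false)),
    (2182, .gen 2487 (317, false)),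
    (2523, .gen 2103 (319, false)),
    (1239, .gen 26 (317, false)),
    (2426, .gen 3762 (317, false)),
    (2942, .gen 1208 (319, false)),
    (3217, .gen 1734 (317, false)),
    (2406, .gen 211 (317, false)),
    (881, .gen 2132 (319, false)),
    (2209, .gen 893 (317, false)),
    (198, .gen 1457 (317, false)),
    (3495, .gen 2995 (319, false)),
    (2254, .gen 2166 (317, false)),
    (1572, .gen 2727 (317, false)),
    (618, .gen 422 (319, false)),
    (962, .gen 777 (317, false)),
    (3708, .gen 2441 (317, false)),
    (2841, .gen 3423 (319, false)),
    (2892, .gen 2896 (317, false)),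
    (1201, .gen 3389 (317, false)),
    (1202, .gen 3127 (319, false)),
    (963, .gen 3592 (317, false)),
    (3110, .gen 2242 (317, false)),
    (1111, .gen 1139 (319, false)),
    (2152, .gen 2755 (317, false)),
    (713, .gen 2448 (317, false)),
    (3096, .gen 1731 (319, false)),
    (38, .gen 3042 (317, false)),
    (1505, .gen 3034 (317, false)),
    (1243, .gen 2898 (319, false)),
    (2644, .gen 122 (317, false)),
    (3362, .gen 1689 (317, false)),
    (2370, .gen 450 (319, false)),
    (3657, .gen 1870 (317, false)),
    (2541, .gen 2210 (317, false)),
    (2769, .gen 3047 (319, false)),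
    (1577, .gen 802 (317, false)),
    (3647, .gen 1121 (317, false)),
    (322, .gen 317 (319, false)),
    (1064, .gen 1454 (317, false))]

/-- The visits of node 16. -/
def visits16 : List (ℕ × Src) :=
  v16_0 ++ v16_1 ++ v16_2 ++ v16_3 ++ v16_4 ++ v16_5 ++ v16_6 ++ v16_7 ++ v16_8 ++ v16_9 ++ v16_10 ++ v16_11 ++ v16_12

/-- Visits. -/
def v17_0 : List (ℕ × Src) :=
  [(7, .edge 375 true),
    (2274, .edge 377 true),
    (295, .edge 378 false),
    (229, .edge 379 false),
    (600, .edge 379 true),
    (1932, .edge 380 false),
    (807, .edge 381 false),
    (1520, .edge 383 false),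
    (320, .edge 384 false),
    (20, .edge 385 false),
    (651, .edge 385 true),
    (2669, .edge 386 false),
    (1877, .edge 387 false),
    (999, .edge 388 false),
    (2372, .edge 389 true),
    (3618, .edge 390 true),
    (1916, .edge 391 true),
    (1821, .edge 392 true),
    (2047, .edge 395 true),
    (2331, .edge 396 true),
    (665, .edge 397 true),
    (870, .edge 398 false),
    (3582, .edge 399 false),
    (921, .edge 399 true),
    (1984, .edge 400 false),
    (3029, .edge 401 false),
    (2743, .edge 402 false),
    (2798, .edge 403 true),
    (2058, .edge 404 false),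
    (2147, .edge 405 false),
    (2989, .edge 406 false),
    (1654, .edge 407 false),
    (3642, .edge 408 true),
    (136, .edge 409 true),
    (1636, .edge 410 true),
    (2004, .edge 411 false),
    (87, .edge 412 true),
    (984, .edge 413 true),
    (973, .edge 414 false),
    (1361, .edge 414 true),
    (1928, .edge 415 false),
    (1084, .edge 415 true),
    (3614, .edge 416 false),
    (240, .edge 416 true),
    (564, .edge 417 false),
    (2253, .edge 417 true),
    (1696, .edge 418 false),
    (3611, .edge 419 false),
    (1266, .edge 420 false),
    (1065, .edge 421 false),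
    (1553, .edge 422 false),
    (1429, .edge 423 false),
    (2433, .edge 424 false),
    (3372, .edge 425 false),
    (506, .edge 426 false),
    (3568, .edge 426 true),
    (675, .edge 427 true),
    (2839, .edge 428 false),
    (523, .edge 429 false),
    (430, .edge 430 true),
    (454, .edge 431 true),
    (3151, .edge 432 false),
    (645, .edge 433 true),
    (3226, .edge 434 false),
    (12, .edge 435 false),
    (16, .edge 436 false),
    (2710, .edge 437 true),
    (934, .edge 438 false),
    (710, .edge 439 true),
    (1404, .edge 440 false),
    (39, .edge 440 true),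
    (301, .edge 441 false),
    (2788, .edge 442 true),
    (1431, .edge 443 false),
    (2753, .edge 444 false),
    (1487, .edge 445 false),
    (2427, .edge 446 true),
    (1842, .edge 447 true),
    (1011, .edge 448 true),
    (2867, .edge 449 true),
    (783, .edge 450 false),
    (2896, .edge 451 false),
    (3113, .edge 452 false),
    (1829, .edge 453 false),
    (3042, .edge 454 false),
    (3592, .edge 455 false),
    (3484, .edge 455 true),
    (3138, .edge 456 false),
    (1144, .edge 457 false),
    (3192, .edge 458 true),
    (2479, .edge 459 true),
    (2693, .edge 460 false),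
    (661, .edge 460 true),
    (2188, .edge 461 false),
    (2296, .edge 461 true),
    (2084, .edge 462 false),
    (3446, .edge 462 true),
    (3708, .edge 463 true),
    (18, .edge 464 false),
    (813, .edge 465 false),
    (285, .edge 466 false),
    (90, .edge 467 false),
    (2617, .edge 468 true),
    (15, .edge 469 false),
    (734, .edge 469 true),
    (1509, .edge 470 false),
    (209, .edge 471 false),
    (995, .edge 472 false),
    (846, .edge 473 false),
    (1852, .edge 474 false),
    (1108, .edge 474 true),
    (3789, .edge 475 false),
    (3142, .edge 476 true),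
    (3273, .edge 477 true),
    (1392, .edge 478 false),
    (349, .edge 478 true),
    (3122, .edge 479 false),
    (1490, .edge 479 true),
    (2600, .edge 480 false),
    (3427, .edge 481 false),
    (358, .edge 482 false),
    (3731, .edge 483 false),
    (1579, .edge 483 true),
    (132, .edge 484 true),
    (2432, .edge 485 false),
    (2640, .edge 485 true),
    (1608, .edge 486 false),
    (2986, .edge 487 false),
    (121, .edge 488 false),
    (3305, .edge 488 true),
    (3066, .edge 489 false),
    (2545, .edge 489 true),
    (521, .edge 502 true),
    (2308, .edge 504 true),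
    (1670, .edge 521 true),
    (1279, .edge 523 true),
    (3157, .edge 527 true),
    (3206, .edge 531 true),
    (535, .edge 542 true),
    (1236, .edge 546 true),
    (2864, .edge 547 true),
    (3482, .edge 556 false),
    (3677, .edge 557 false),
    (1869, .edge 558 false),
    (2863, .edge 559 false),
    (3086, .edge 562 false),
    (38, .edge 570 false),
    (1622, .edge 571 false),
    (1870, .edge 572 false),
    (394, .edge 574 false),
    (1098, .edge 575 false),
    (2176, .edge 576 false),
    (1028, .edge 585 true),
    (211, .edge 593 true),
    (2740, .edge 594 false),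
    (3377, .edge 595 false),
    (763, .edge 601 false),
    (410, .edge 602 false),
    (3505, .edge 607 true),
    (297, .edge 611 false),
    (2981, .edge 622 false),
    (985, .edge 631 true),
    (3585, .edge 634 false),
    (1856, .edge 636 true),
    (2851, .edge 641 true),
    (113, .edge 652 true),
    (2099, .edge 653 false),
    (2075, .edge 656 false),
    (3307, .edge 657 false),
    (574, .edge 658 false),
    (3442, .edge 663 false),
    (3494, .edge 664 false),
    (526, .edge 671 false),
    (248, .edge 672 false),
    (2161, .edge 680 false),
    (3597, .edge 687 true),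
    (1945, .edge 701 true),
    (2111, .edge 722 false),
    (443, .edge 723 false),
    (2204, .edge 728 true),
    (3408, .edge 736 false),
    (3102, .edge 737 false),
    (904, .edge 738 false),
    (2796, .edge 768 true),
    (3098, .edge 770 true),
    (3786, .edge 774 false),
    (1953, .edge 777 false),
    (60, .edge 778 false),
    (652, .edge 786 true),
    (3053, .edge 787 true),
    (1722, .edge 793 true),
    (639, .edge 797 true),
    (1302, .edge 798 true),
    (731, .edge 806 true),
    (1917, .edge 815 true),
    (185, .edge 830 true),
    (354, .edge 834 true),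
    (3440, .edge 845 true),
    (3324, .edge 846 true),
    (554, .edge 890 false),
    (3536, .edge 891 false),
    (2279, .edge 892 false),
    (1283, .edge 893 false),
    (2033, .edge 894 false),
    (2704, .edge 895 false),
    (3131, .edge 896 false),
    (1706, .edge 897 false),
    (1908, .edge 898 false),
    (3523, .edge 899 false),
    (243, .edge 910 false),
    (2410, .edge 911 false),
    (3197, .edge 912 false),
    (853, .edge 913 false),
    (2236, .edge 914 false),
    (2510, .edge 986 true),
    (559, .edge 1007 true),
    (3104, .edge 1024 false),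
    (2184, .edge 1025 false),
    (3310, .edge 1061 false),
    (1089, .edge 1062 false),
    (677, .edge 1064 false),
    (1907, .edge 1078 true),
    (1603, .edge 1100 true),
    (2495, .edge 1108 true),
    (3447, .edge 1110 true),
    (1919, .edge 1111 true),
    (3593, .edge 1118 true),
    (1197, .edge 1131 true),
    (1362, .edge 1133 true),
    (770, .edge 1134 true),
    (1162, .edge 1157 false),
    (1273, .edge 1158 false),
    (1489, .edge 1162 true),
    (256, .edge 1168 true),
    (122, .edge 1169 true),
    (3063, .edge 1171 true),
    (492, .edge 1174 true),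
    (1378, .edge 1180 true),
    (66, .edge 1197 true),
    (2574, .edge 1207 true),
    (782, .edge 1208 true),
    (2485, .edge 1217 true),
    (1131, .edge 1223 true),
    (1902, .edge 1245 false),
    (2616, .edge 1246 false),
    (3110, .edge 1247 false),
    (5, .edge 1248 false),
    (881, .edge 1249 false),
    (196, .edge 1279 true),
    (93, .edge 1284 true),
    (175, .edge 1310 false),
    (3238, .edge 1311 false),
    (2635, .edge 1319 true),
    (2581, .edge 1329 true),
    (967, .edge 1335 true),
    (3184, .edge 1339 true),
    (3430, .edge 1352 true),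
    (2233, .edge 1355 true),
    (3252, .edge 1402 true),
    (1648, .edge 1408 true),
    (2435, .edge 1422 true),
    (233, .edge 1431 true),
    (2765, .edge 1442 false),
    (3698, .edge 1443 false),
    (3181, .edge 1444 false),
    (1066, .edge 1445 false),
    (3285, .edge 1446 false),
    (3699, .edge 1447 false),
    (2934, .edge 1448 false),
    (1763, .edge 1449 false),
    (689, .edge 1450 false),
    (25, .edge 1464 true),
    (1352, .edge 1466 true),
    (52, .edge 1474 false),
    (4, .edge 1494 true),
    (2096, .edge 1515 true),
    (1951, .edge 1553 true),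
    (1184, .edge 1556 true),
    (2707, .edge 1569 true),
    (1613, .edge 1583 false),
    (3163, .edge 1584 false),
    (3061, .edge 1620 true),
    (2024, .edge 1625 false),
    (1547, .edge 1626 false),
    (2462, .edge 1652 true),
    (3746, .edge 1673 false),
    (1876, .edge 1683 true),
    (2302, .edge 1692 false),
    (1142, .edge 1693 false),
    (618, .edge 1700 true),
    (1586, .edge 1702 true),
    (1806, .edge 1713 true),
    (1289, .edge 1721 true),
    (151, .edge 1723 false),
    (2288, .edge 1724 false),
    (399, .edge 1725 false),
    (866, .edge 1727 true),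
    (2402, .edge 1769 true),
    (2338, .edge 1776 true),
    (485, .edge 1783 true)]

/-- Visits. -/
def v17_1 : List (ℕ × Src) :=
  [(1658, .edge 1822 true),
    (2268, .edge 1828 true),
    (2136, .edge 1843 true),
    (3282, .edge 1846 true),
    (2815, .edge 1855 true),
    (2899, .edge 1858 false),
    (1359, .gen 7 (382, false)),
    (409, .gen 7 (393, false)),
    (683, .gen 7 (393, true)),
    (2036, .gen 7 (394, false)),
    (2826, .gen 7 (394, true)),
    (749, .gen 2274 (376, false)),
    (1680, .gen 2274 (382, false)),
    (586, .gen 2274 (393, false)),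
    (989, .gen 2274 (393, true)),
    (3630, .gen 2274 (394, false)),
    (3292, .gen 2274 (394, true)),
    (46, .gen 295 (376, false)),
    (3479, .gen 295 (393, false)),
    (2729, .gen 295 (393, true)),
    (3025, .gen 295 (394, false)),
    (3391, .gen 295 (394, true)),
    (1128, .gen 229 (376, false)),
    (2301, .gen 229 (393, false)),
    (2742, .gen 229 (393, true)),
    (3571, .gen 229 (394, false)),
    (3785, .gen 229 (394, true)),
    (237, .gen 600 (376, false)),
    (210, .gen 600 (393, false)),
    (1522, .gen 600 (393, true)),
    (2306, .gen 600 (394, false)),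
    (2429, .gen 600 (394, true)),
    (1933, .gen 1932 (376, false)),
    (1701, .gen 1932 (382, false)),
    (422, .gen 1932 (393, false)),
    (1387, .gen 1932 (393, true)),
    (3358, .gen 1932 (394, false)),
    (2029, .gen 1932 (394, true)),
    (880, .gen 807 (393, false)),
    (3756, .gen 807 (394, false)),
    (1118, .gen 1520 (376, false)),
    (1983, .gen 1520 (393, false)),
    (1253, .gen 1520 (393, true)),
    (1831, .gen 1520 (394, false)),
    (2137, .gen 1520 (394, true)),
    (282, .gen 320 (382, false)),
    (2456, .gen 320 (393, false)),
    (1901, .gen 320 (393, true)),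
    (2847, .gen 320 (394, false)),
    (2438, .gen 320 (394, true)),
    (3259, .gen 20 (382, false)),
    (1892, .gen 20 (393, false)),
    (2737, .gen 20 (393, true)),
    (2381, .gen 20 (394, false)),
    (181, .gen 20 (394, true)),
    (476, .gen 651 (382, false)),
    (1342, .gen 651 (393, false)),
    (2775, .gen 651 (393, true)),
    (2453, .gen 651 (394, false)),
    (3483, .gen 651 (394, true)),
    (733, .gen 2669 (376, false)),
    (1401, .gen 2669 (382, false)),
    (3125, .gen 2669 (393, false)),
    (1860, .gen 2669 (393, true)),
    (2877, .gen 2669 (394, false)),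
    (1388, .gen 2669 (394, true)),
    (3013, .gen 1877 (393, false)),
    (877, .gen 1877 (394, false)),
    (2198, .gen 999 (394, false)),
    (141, .gen 2372 (376, false)),
    (199, .gen 2372 (382, false)),
    (2254, .gen 2372 (393, false)),
    (756, .gen 2372 (393, true)),
    (612, .gen 2372 (394, false)),
    (3092, .gen 2372 (394, true)),
    (3011, .gen 3618 (376, false)),
    (2671, .gen 3618 (382, false)),
    (75, .gen 3618 (393, false)),
    (613, .gen 3618 (393, true)),
    (1823, .gen 3618 (394, false)),
    (3175, .gen 3618 (394, true)),
    (2040, .gen 1916 (376, false)),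
    (347, .gen 1916 (382, false)),
    (1647, .gen 1916 (393, false)),
    (3422, .gen 1916 (393, true)),
    (3262, .gen 1916 (394, false)),
    (3675, .gen 1916 (394, true)),
    (3303, .gen 1821 (376, false)),
    (188, .gen 1821 (382, false)),
    (192, .gen 1821 (393, false)),
    (2696, .gen 1821 (393, true)),
    (1862, .gen 1821 (394, false)),
    (3147, .gen 1821 (394, true)),
    (743, .gen 2047 (376, false)),
    (970, .gen 2047 (382, false)),
    (2130, .gen 2047 (393, false)),
    (2957, .gen 2047 (393, true)),
    (1411, .gen 2047 (394, false)),
    (1312, .gen 2047 (394, true)),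
    (1020, .gen 2331 (376, false)),
    (1734, .gen 2331 (382, false)),
    (1958, .gen 2331 (393, false)),
    (1899, .gen 2331 (393, true)),
    (3321, .gen 2331 (394, false)),
    (3019, .gen 2331 (394, true)),
    (2783, .gen 665 (376, false)),
    (1318, .gen 665 (382, false)),
    (1689, .gen 665 (393, false)),
    (3510, .gen 665 (393, true)),
    (946, .gen 665 (394, false)),
    (1479, .gen 665 (394, true)),
    (2831, .gen 870 (376, false)),
    (2275, .gen 870 (382, false)),
    (228, .gen 870 (393, false)),
    (617, .gen 870 (393, true)),
    (2803, .gen 3582 (376, false)),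
    (2181, .gen 3582 (382, false)),
    (1354, .gen 3582 (393, true)),
    (2797, .gen 3582 (394, false)),
    (537, .gen 3582 (394, true)),
    (3616, .gen 921 (376, false)),
    (1708, .gen 921 (382, false)),
    (1473, .gen 921 (393, false)),
    (1483, .gen 921 (394, false)),
    (1724, .gen 921 (394, true)),
    (883, .gen 1984 (376, false)),
    (2342, .gen 1984 (382, false)),
    (2588, .gen 1984 (393, false)),
    (3636, .gen 1984 (393, true)),
    (2419, .gen 1984 (394, false)),
    (1762, .gen 1984 (394, true)),
    (1305, .gen 3029 (376, false)),
    (3240, .gen 3029 (382, false)),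
    (2143, .gen 3029 (393, false)),
    (2794, .gen 3029 (393, true)),
    (2325, .gen 2743 (376, false)),
    (3591, .gen 2743 (382, false)),
    (1741, .gen 2743 (393, false)),
    (2736, .gen 2743 (393, true)),
    (3667, .gen 2743 (394, false)),
    (1939, .gen 2743 (394, true)),
    (2908, .gen 2798 (376, false)),
    (679, .gen 2798 (382, false)),
    (1974, .gen 2798 (393, false)),
    (2580, .gen 2798 (393, true)),
    (817, .gen 2058 (376, false)),
    (47, .gen 2058 (393, false)),
    (1627, .gen 2147 (376, false)),
    (315, .gen 2147 (382, false)),
    (3047, .gen 2147 (393, false)),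
    (195, .gen 2147 (393, true)),
    (3721, .gen 2989 (393, false)),
    (3088, .gen 2989 (394, false)),
    (3116, .gen 1654 (376, false)),
    (1616, .gen 1654 (393, false)),
    (3507, .gen 1654 (394, false)),
    (2363, .gen 3642 (376, false)),
    (3265, .gen 3642 (393, false)),
    (342, .gen 136 (376, false)),
    (130, .gen 136 (394, false)),
    (2857, .gen 1636 (393, false)),
    (3004, .gen 2004 (393, false)),
    (2810, .gen 87 (376, false)),
    (993, .gen 87 (393, false)),
    (484, .gen 984 (376, false)),
    (478, .gen 984 (382, false)),
    (2653, .gen 984 (393, false)),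
    (1395, .gen 984 (393, true)),
    (599, .gen 973 (382, false)),
    (1661, .gen 973 (393, false)),
    (1688, .gen 973 (393, true)),
    (1178, .gen 1361 (382, false)),
    (577, .gen 1361 (393, false)),
    (1320, .gen 1361 (393, true)),
    (2676, .gen 1928 (376, false)),
    (805, .gen 1928 (382, false)),
    (2408, .gen 1928 (393, false)),
    (1501, .gen 1928 (393, true)),
    (1409, .gen 1928 (394, false)),
    (2388, .gen 1928 (394, true)),
    (923, .gen 3614 (382, false)),
    (1588, .gen 3614 (393, false)),
    (3628, .gen 3614 (393, true)),
    (714, .gen 3614 (394, false)),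
    (2785, .gen 3614 (394, true)),
    (571, .gen 240 (382, false)),
    (751, .gen 240 (393, false)),
    (401, .gen 240 (393, true)),
    (954, .gen 240 (394, false)),
    (1333, .gen 240 (394, true)),
    (3688, .gen 3611 (376, false)),
    (1972, .gen 3611 (393, false)),
    (1486, .gen 1065 (376, false)),
    (2764, .gen 1065 (382, false)),
    (1444, .gen 1065 (393, false)),
    (832, .gen 1065 (393, true)),
    (1440, .gen 1553 (376, false)),
    (2050, .gen 1553 (394, false)),
    (451, .gen 1429 (376, false)),
    (3498, .gen 1429 (382, false)),
    (2328, .gen 1429 (393, false)),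
    (1915, .gen 1429 (393, true)),
    (3682, .gen 2433 (376, false)),
    (1201, .gen 2433 (393, false)),
    (3244, .gen 3372 (376, false)),
    (2133, .gen 3372 (382, false)),
    (2085, .gen 3372 (393, false)),
    (828, .gen 3372 (393, true)),
    (1172, .gen 506 (376, false)),
    (2967, .gen 506 (393, false)),
    (1319, .gen 675 (376, false)),
    (3772, .gen 675 (382, false)),
    (705, .gen 675 (393, false)),
    (3515, .gen 675 (393, true)),
    (3012, .gen 675 (394, false)),
    (3413, .gen 675 (394, true)),
    (2646, .gen 2839 (376, false)),
    (3555, .gen 2839 (394, false)),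
    (1668, .gen 523 (376, false)),
    (1173, .gen 523 (393, false)),
    (396, .gen 430 (376, false)),
    (3361, .gen 430 (393, false)),
    (2168, .gen 454 (376, false)),
    (472, .gen 454 (382, false)),
    (2636, .gen 454 (393, false)),
    (2992, .gen 454 (393, true)),
    (114, .gen 454 (394, false)),
    (1849, .gen 454 (394, true)),
    (3311, .gen 3151 (376, false)),
    (902, .gen 3151 (382, false)),
    (1237, .gen 3151 (393, false)),
    (551, .gen 3151 (393, true)),
    (3237, .gen 3151 (394, false)),
    (2354, .gen 3151 (394, true)),
    (3373, .gen 645 (376, false)),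
    (2963, .gen 645 (382, false)),
    (1256, .gen 645 (393, false)),
    (673, .gen 645 (393, true)),
    (3489, .gen 645 (394, false)),
    (2200, .gen 645 (394, true)),
    (1, .gen 3226 (393, false)),
    (2128, .gen 12 (393, false)),
    (3170, .gen 2710 (376, false)),
    (1168, .gen 2710 (382, false)),
    (589, .gen 2710 (393, false)),
    (2319, .gen 2710 (393, true)),
    (3461, .gen 2710 (394, false)),
    (3329, .gen 2710 (394, true)),
    (2718, .gen 934 (376, false)),
    (2478, .gen 934 (382, false)),
    (1590, .gen 934 (393, false)),
    (1513, .gen 934 (393, true)),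
    (818, .gen 710 (393, false)),
    (284, .gen 1404 (376, false)),
    (776, .gen 1404 (382, false)),
    (2245, .gen 1404 (393, false)),
    (332, .gen 39 (376, false)),
    (2466, .gen 39 (382, false)),
    (152, .gen 39 (393, true)),
    (2590, .gen 2788 (376, false)),
    (3490, .gen 2788 (382, false)),
    (2010, .gen 2788 (393, false)),
    (1612, .gen 2788 (393, true)),
    (1069, .gen 1431 (376, false)),
    (713, .gen 1431 (393, false)),
    (1683, .gen 2753 (376, false)),
    (2940, .gen 2753 (393, false)),
    (3094, .gen 1487 (376, false)),
    (1997, .gen 1487 (382, false)),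
    (1524, .gen 1487 (393, false)),
    (3765, .gen 1487 (393, true)),
    (1070, .gen 1487 (394, false)),
    (2756, .gen 1487 (394, true)),
    (101, .gen 2427 (376, false)),
    (1107, .gen 2427 (382, false)),
    (3062, .gen 2427 (393, false)),
    (2595, .gen 2427 (393, true)),
    (2679, .gen 1842 (376, false)),
    (1244, .gen 1842 (382, false)),
    (318, .gen 1842 (393, false)),
    (104, .gen 1842 (393, true)),
    (1031, .gen 1842 (394, false)),
    (163, .gen 1842 (394, true)),
    (765, .gen 1011 (376, false)),
    (145, .gen 1011 (382, false)),
    (1207, .gen 1011 (393, false)),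
    (191, .gen 1011 (393, true)),
    (2735, .gen 2867 (376, false)),
    (1042, .gen 2867 (382, false)),
    (1598, .gen 2867 (393, false)),
    (490, .gen 2867 (393, true)),
    (3068, .gen 2867 (394, false)),
    (2853, .gen 2867 (394, true)),
    (106, .gen 783 (382, false)),
    (1885, .gen 783 (393, false)),
    (2925, .gen 783 (393, true)),
    (3111, .gen 783 (394, false)),
    (1235, .gen 783 (394, true)),
    (341, .gen 2896 (376, false)),
    (642, .gen 2896 (382, false))]

/-- Visits. -/
def v17_2 : List (ℕ × Src) :=
  [(2800, .gen 2896 (393, false)),
    (3333, .gen 2896 (393, true)),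
    (3467, .gen 2896 (394, false)),
    (3035, .gen 2896 (394, true)),
    (55, .gen 3113 (376, false)),
    (505, .gen 3113 (382, false)),
    (2360, .gen 3113 (393, false)),
    (1662, .gen 3113 (393, true)),
    (1391, .gen 3113 (394, false)),
    (3521, .gen 3113 (394, true)),
    (8, .gen 1829 (376, false)),
    (3328, .gen 1829 (382, false)),
    (448, .gen 1829 (393, false)),
    (1080, .gen 1829 (393, true)),
    (85, .gen 1829 (394, false)),
    (1771, .gen 1829 (394, true)),
    (1851, .gen 3042 (376, false)),
    (1615, .gen 3042 (382, false)),
    (3115, .gen 3042 (393, false)),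
    (3257, .gen 3042 (393, true)),
    (374, .gen 3042 (394, false)),
    (1721, .gen 3042 (394, true)),
    (2013, .gen 3592 (376, false)),
    (1326, .gen 3592 (382, false)),
    (2808, .gen 3592 (393, false)),
    (1262, .gen 3592 (393, true)),
    (3078, .gen 3592 (394, false)),
    (2843, .gen 3592 (394, true)),
    (377, .gen 3484 (376, false)),
    (929, .gen 3484 (382, false)),
    (977, .gen 3484 (393, false)),
    (1987, .gen 3484 (393, true)),
    (3021, .gen 3484 (394, false)),
    (1730, .gen 3484 (394, true)),
    (2196, .gen 3138 (376, false)),
    (931, .gen 3138 (382, false)),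
    (3783, .gen 3138 (393, false)),
    (1973, .gen 3138 (393, true)),
    (486, .gen 3138 (394, false)),
    (2371, .gen 3138 (394, true)),
    (1034, .gen 1144 (376, false)),
    (1903, .gen 1144 (382, false)),
    (1303, .gen 1144 (393, false)),
    (3060, .gen 1144 (393, true)),
    (2604, .gen 1144 (394, false)),
    (2471, .gen 1144 (394, true)),
    (3032, .gen 3192 (376, false)),
    (1874, .gen 3192 (382, false)),
    (367, .gen 3192 (393, false)),
    (465, .gen 3192 (393, true)),
    (1384, .gen 3192 (394, false)),
    (127, .gen 3192 (394, true)),
    (588, .gen 2479 (376, false)),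
    (277, .gen 2479 (382, false)),
    (1818, .gen 2479 (393, false)),
    (455, .gen 2479 (393, true)),
    (84, .gen 2479 (394, false)),
    (1064, .gen 2479 (394, true)),
    (2501, .gen 2693 (376, false)),
    (2692, .gen 2693 (382, false)),
    (793, .gen 2693 (393, false)),
    (2023, .gen 2693 (393, true)),
    (2229, .gen 2693 (394, false)),
    (3725, .gen 2693 (394, true)),
    (2473, .gen 661 (394, false)),
    (2919, .gen 661 (394, true)),
    (2846, .gen 2188 (376, false)),
    (2065, .gen 2188 (382, false)),
    (3133, .gen 2188 (393, false)),
    (1212, .gen 2188 (393, true)),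
    (1252, .gen 2188 (394, false)),
    (324, .gen 2188 (394, true)),
    (2837, .gen 2296 (393, false)),
    (2357, .gen 2296 (393, true)),
    (1674, .gen 2084 (376, false)),
    (56, .gen 2084 (382, false)),
    (2396, .gen 2084 (393, false)),
    (494, .gen 2084 (393, true)),
    (3298, .gen 3446 (376, false)),
    (2199, .gen 3446 (382, false)),
    (1081, .gen 3446 (393, false)),
    (431, .gen 3446 (393, true)),
    (227, .gen 3708 (376, false)),
    (3171, .gen 3708 (382, false)),
    (2663, .gen 3708 (393, false)),
    (2205, .gen 3708 (393, true)),
    (3719, .gen 18 (376, false)),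
    (420, .gen 285 (393, false)),
    (1363, .gen 90 (376, false)),
    (1155, .gen 90 (382, false)),
    (3615, .gen 90 (393, false)),
    (3449, .gen 90 (393, true)),
    (3541, .gen 90 (394, false)),
    (2582, .gen 90 (394, true)),
    (0, .gen 2617 (382, false)),
    (1526, .gen 2617 (393, false)),
    (974, .gen 2617 (393, true)),
    (2949, .gen 2617 (394, false)),
    (3290, .gen 2617 (394, true)),
    (1455, .gen 15 (393, false)),
    (3784, .gen 15 (393, true)),
    (2344, .gen 15 (394, false)),
    (2862, .gen 15 (394, true)),
    (3621, .gen 1509 (376, false)),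
    (2552, .gen 1509 (382, false)),
    (567, .gen 1509 (393, false)),
    (3465, .gen 1509 (393, true)),
    (3441, .gen 1509 (394, false)),
    (403, .gen 1509 (394, true)),
    (3750, .gen 209 (376, false)),
    (2106, .gen 209 (382, false)),
    (2049, .gen 209 (393, false)),
    (2779, .gen 209 (393, true)),
    (1290, .gen 209 (394, false)),
    (2467, .gen 209 (394, true)),
    (2943, .gen 995 (394, false)),
    (2977, .gen 846 (376, false)),
    (2985, .gen 846 (382, false)),
    (3114, .gen 846 (393, false)),
    (3074, .gen 846 (393, true)),
    (842, .gen 846 (394, false)),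
    (3709, .gen 846 (394, true)),
    (2270, .gen 1852 (393, false)),
    (3260, .gen 1852 (393, true)),
    (1039, .gen 1852 (394, false)),
    (854, .gen 1852 (394, true)),
    (983, .gen 3789 (382, false)),
    (3469, .gen 3789 (393, false)),
    (3651, .gen 3789 (393, true)),
    (2513, .gen 3789 (394, false)),
    (3589, .gen 3789 (394, true)),
    (3254, .gen 3142 (376, false)),
    (2556, .gen 3142 (393, false)),
    (2958, .gen 3142 (393, true)),
    (413, .gen 3142 (394, false)),
    (3678, .gen 3142 (394, true)),
    (2423, .gen 3273 (376, false)),
    (2051, .gen 3273 (382, false)),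
    (346, .gen 3273 (393, false)),
    (1035, .gen 3273 (393, true)),
    (3077, .gen 3273 (394, false)),
    (3057, .gen 3273 (394, true)),
    (3443, .gen 1392 (376, false)),
    (1960, .gen 1392 (382, false)),
    (2758, .gen 1392 (393, false)),
    (1036, .gen 1392 (393, true)),
    (1369, .gen 1392 (394, false)),
    (1221, .gen 1392 (394, true)),
    (2172, .gen 349 (393, false)),
    (3672, .gen 349 (393, true)),
    (1420, .gen 3122 (382, false)),
    (681, .gen 3122 (393, false)),
    (809, .gen 3122 (393, true)),
    (78, .gen 3122 (394, false)),
    (1582, .gen 3122 (394, true)),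
    (2487, .gen 1490 (382, false)),
    (631, .gen 1490 (393, false)),
    (3577, .gen 1490 (393, true)),
    (2257, .gen 1490 (394, false)),
    (2093, .gen 1490 (394, true)),
    (1947, .gen 2600 (376, false)),
    (812, .gen 2600 (382, false)),
    (398, .gen 2600 (393, false)),
    (808, .gen 2600 (393, true)),
    (2884, .gen 3427 (376, false)),
    (31, .gen 3427 (382, false)),
    (2578, .gen 3427 (393, false)),
    (3733, .gen 3427 (393, true)),
    (887, .gen 3427 (394, false)),
    (1046, .gen 3427 (394, true)),
    (1736, .gen 3731 (376, false)),
    (1642, .gen 3731 (382, false)),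
    (138, .gen 3731 (393, false)),
    (546, .gen 3731 (393, true)),
    (792, .gen 3731 (394, false)),
    (334, .gen 3731 (394, true)),
    (786, .gen 1579 (393, false)),
    (2294, .gen 1579 (393, true)),
    (1581, .gen 132 (376, false)),
    (3301, .gen 132 (382, false)),
    (246, .gen 132 (393, false)),
    (583, .gen 132 (393, true)),
    (2415, .gen 2432 (376, false)),
    (2458, .gen 2432 (382, false)),
    (960, .gen 2432 (393, false)),
    (3481, .gen 2432 (393, true)),
    (1295, .gen 2432 (394, true)),
    (412, .gen 2640 (376, false)),
    (2158, .gen 2640 (382, false)),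
    (1930, .gen 2640 (393, false)),
    (835, .gen 2640 (393, true)),
    (1419, .gen 2640 (394, false)),
    (2127, .gen 2986 (376, false)),
    (3409, .gen 2986 (382, false)),
    (1497, .gen 2986 (393, false)),
    (1723, .gen 2986 (393, true)),
    (1879, .gen 121 (376, false)),
    (335, .gen 3305 (376, false)),
    (2418, .gen 3066 (376, false)),
    (133, .gen 3066 (382, false)),
    (1000, .gen 3066 (393, false)),
    (1559, .gen 3066 (393, true)),
    (886, .gen 3066 (394, false)),
    (1277, .gen 3066 (394, true)),
    (2326, .gen 2545 (393, false)),
    (2314, .gen 2545 (393, true)),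
    (29, .gen 521 (376, false)),
    (788, .gen 521 (382, false)),
    (364, .gen 521 (393, false)),
    (2256, .gen 521 (393, true)),
    (3214, .gen 521 (394, false)),
    (3126, .gen 521 (394, true)),
    (569, .gen 2308 (376, false)),
    (1137, .gen 2308 (382, false)),
    (2227, .gen 2308 (393, false)),
    (1891, .gen 2308 (393, true)),
    (3774, .gen 2308 (394, false)),
    (696, .gen 2308 (394, true)),
    (235, .gen 1670 (376, false)),
    (89, .gen 1670 (382, false)),
    (2454, .gen 1670 (393, false)),
    (1245, .gen 1670 (393, true)),
    (1052, .gen 1670 (394, false)),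
    (2164, .gen 1670 (394, true)),
    (2507, .gen 1279 (376, false)),
    (2807, .gen 1279 (382, false)),
    (1476, .gen 1279 (393, false)),
    (1343, .gen 1279 (393, true)),
    (3400, .gen 1279 (394, false)),
    (3332, .gen 1279 (394, true)),
    (1314, .gen 3157 (376, false)),
    (2134, .gen 3157 (382, false)),
    (1565, .gen 3157 (393, false)),
    (1331, .gen 3157 (393, true)),
    (2642, .gen 3157 (394, false)),
    (2187, .gen 3157 (394, true)),
    (479, .gen 3206 (376, false)),
    (2152, .gen 3206 (382, false)),
    (1805, .gen 3206 (393, false)),
    (2019, .gen 3206 (393, true)),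
    (1049, .gen 3206 (394, false)),
    (2299, .gen 3206 (394, true)),
    (387, .gen 535 (376, false)),
    (1783, .gen 535 (382, false)),
    (2031, .gen 535 (393, false)),
    (717, .gen 535 (393, true)),
    (3722, .gen 535 (394, false)),
    (1406, .gen 535 (394, true)),
    (671, .gen 1236 (376, false)),
    (659, .gen 1236 (382, false)),
    (1396, .gen 1236 (393, false)),
    (1044, .gen 1236 (393, true)),
    (1791, .gen 1236 (394, false)),
    (1872, .gen 1236 (394, true)),
    (2911, .gen 2864 (376, false)),
    (1340, .gen 2864 (382, false)),
    (2789, .gen 2864 (393, false)),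
    (555, .gen 2864 (393, true)),
    (932, .gen 2864 (394, false)),
    (2844, .gen 2864 (394, true)),
    (1355, .gen 3482 (376, false)),
    (2132, .gen 3482 (382, false)),
    (135, .gen 3482 (393, false)),
    (992, .gen 3482 (393, true)),
    (3600, .gen 3482 (394, false)),
    (1925, .gen 3482 (394, true)),
    (3209, .gen 3677 (376, false)),
    (3069, .gen 3677 (382, false)),
    (1796, .gen 3677 (393, false)),
    (840, .gen 3677 (393, true)),
    (1511, .gen 3677 (394, false)),
    (3247, .gen 3677 (394, true)),
    (36, .gen 1869 (376, false)),
    (432, .gen 1869 (382, false)),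
    (2094, .gen 1869 (393, false)),
    (2006, .gen 1869 (393, true)),
    (1996, .gen 1869 (394, false)),
    (573, .gen 1869 (394, true)),
    (147, .gen 2863 (376, false)),
    (3546, .gen 2863 (382, false)),
    (3666, .gen 2863 (393, false)),
    (1341, .gen 2863 (393, true)),
    (2747, .gen 2863 (394, false)),
    (2436, .gen 2863 (394, true)),
    (865, .gen 3086 (376, false)),
    (2271, .gen 3086 (382, false)),
    (3513, .gen 3086 (393, false)),
    (2053, .gen 3086 (393, true)),
    (550, .gen 3086 (394, false)),
    (3643, .gen 3086 (394, true)),
    (649, .gen 38 (376, false)),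
    (2939, .gen 38 (382, false)),
    (249, .gen 38 (393, false)),
    (909, .gen 38 (393, true)),
    (2374, .gen 1622 (376, false)),
    (3080, .gen 1622 (382, false)),
    (2154, .gen 1622 (393, false)),
    (1033, .gen 1622 (393, true)),
    (1013, .gen 1622 (394, false)),
    (2888, .gen 1622 (394, true))]

/-- Visits. -/
def v17_3 : List (ℕ × Src) :=
  [(2212, .gen 1870 (376, false)),
    (3703, .gen 1870 (382, false)),
    (3657, .gen 1870 (393, false)),
    (2715, .gen 1870 (393, true)),
    (3075, .gen 1870 (394, false)),
    (890, .gen 1870 (394, true)),
    (1372, .gen 394 (376, false)),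
    (360, .gen 394 (382, false)),
    (94, .gen 394 (393, false)),
    (2615, .gen 394 (393, true)),
    (496, .gen 1098 (376, false)),
    (3429, .gen 1098 (382, false)),
    (2875, .gen 1098 (393, false)),
    (1192, .gen 1098 (393, true)),
    (862, .gen 1098 (394, false)),
    (158, .gen 1098 (394, true)),
    (3318, .gen 2176 (376, false)),
    (3177, .gen 2176 (382, false)),
    (3745, .gen 2176 (393, false)),
    (781, .gen 2176 (393, true)),
    (2035, .gen 2176 (394, false)),
    (942, .gen 2176 (394, true)),
    (2390, .gen 1028 (376, false)),
    (1281, .gen 1028 (382, false)),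
    (1294, .gen 1028 (393, false)),
    (2638, .gen 1028 (393, true)),
    (3625, .gen 1028 (394, false)),
    (2431, .gen 1028 (394, true)),
    (1986, .gen 211 (376, false)),
    (1488, .gen 211 (382, false)),
    (959, .gen 211 (393, false)),
    (2118, .gen 211 (393, true)),
    (3742, .gen 211 (394, false)),
    (2424, .gen 211 (394, true)),
    (3718, .gen 2740 (376, false)),
    (3604, .gen 2740 (382, false)),
    (3108, .gen 2740 (393, false)),
    (1843, .gen 2740 (393, true)),
    (858, .gen 3377 (376, false)),
    (2192, .gen 3377 (382, false)),
    (3369, .gen 3377 (393, false)),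
    (3599, .gen 3377 (393, true)),
    (3340, .gen 763 (376, false)),
    (2011, .gen 763 (382, false)),
    (3220, .gen 763 (393, false)),
    (709, .gen 763 (393, true)),
    (3554, .gen 763 (394, false)),
    (2564, .gen 763 (394, true)),
    (654, .gen 410 (376, false)),
    (2266, .gen 410 (382, false)),
    (333, .gen 410 (393, false)),
    (2632, .gen 410 (393, true)),
    (3382, .gen 410 (394, false)),
    (2618, .gen 410 (394, true)),
    (2854, .gen 3505 (376, false)),
    (2169, .gen 3505 (382, false)),
    (3537, .gen 3505 (393, false)),
    (2157, .gen 3505 (393, true)),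
    (712, .gen 297 (376, false)),
    (964, .gen 297 (382, false)),
    (296, .gen 297 (393, false)),
    (118, .gen 297 (393, true)),
    (2889, .gen 2981 (376, false)),
    (2739, .gen 2981 (382, false)),
    (99, .gen 2981 (393, false)),
    (2809, .gen 2981 (393, true)),
    (493, .gen 985 (376, false)),
    (965, .gen 985 (382, false)),
    (2767, .gen 985 (393, false)),
    (2761, .gen 985 (393, true)),
    (3294, .gen 985 (394, false)),
    (2493, .gen 985 (394, true)),
    (2945, .gen 3585 (376, false)),
    (1950, .gen 3585 (382, false)),
    (3242, .gen 3585 (393, false)),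
    (2561, .gen 3585 (393, true)),
    (1804, .gen 1856 (376, false)),
    (1215, .gen 1856 (382, false)),
    (1400, .gen 1856 (393, false)),
    (2399, .gen 1856 (393, true)),
    (2672, .gen 1856 (394, false)),
    (3549, .gen 1856 (394, true)),
    (2180, .gen 2851 (376, false)),
    (726, .gen 2851 (382, false)),
    (3401, .gen 2851 (393, false)),
    (3580, .gen 2851 (393, true)),
    (759, .gen 2851 (394, false)),
    (357, .gen 2851 (394, true)),
    (1430, .gen 113 (376, false)),
    (3255, .gen 113 (382, false)),
    (2395, .gen 113 (393, false)),
    (739, .gen 113 (393, true)),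
    (3726, .gen 2099 (376, false)),
    (1589, .gen 2099 (382, false)),
    (164, .gen 2099 (393, false)),
    (2209, .gen 2099 (393, true)),
    (2668, .gen 2099 (394, false)),
    (3371, .gen 2099 (394, true)),
    (2572, .gen 2075 (376, false)),
    (204, .gen 2075 (382, false)),
    (1348, .gen 2075 (393, false)),
    (1691, .gen 2075 (393, true)),
    (1475, .gen 2075 (394, false)),
    (1304, .gen 2075 (394, true)),
    (1298, .gen 3307 (376, false)),
    (1338, .gen 3307 (382, false)),
    (3560, .gen 3307 (393, false)),
    (1834, .gen 3307 (393, true)),
    (587, .gen 3307 (394, false)),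
    (568, .gen 3307 (394, true)),
    (2879, .gen 574 (376, false)),
    (3624, .gen 574 (382, false)),
    (2772, .gen 574 (393, false)),
    (2138, .gen 574 (393, true)),
    (3233, .gen 574 (394, false)),
    (2156, .gen 574 (394, true)),
    (1988, .gen 3442 (376, false)),
    (3556, .gen 3442 (382, false)),
    (2392, .gen 3442 (393, false)),
    (3761, .gen 3442 (393, true)),
    (1813, .gen 3442 (394, false)),
    (2384, .gen 3442 (394, true)),
    (2250, .gen 3494 (376, false)),
    (1693, .gen 3494 (382, false)),
    (1241, .gen 3494 (393, false)),
    (1977, .gen 3494 (393, true)),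
    (3730, .gen 3494 (394, false)),
    (1758, .gen 3494 (394, true)),
    (378, .gen 526 (376, false)),
    (142, .gen 526 (382, false)),
    (2627, .gen 526 (393, false)),
    (2108, .gen 526 (393, true)),
    (3141, .gen 248 (376, false)),
    (2508, .gen 248 (382, false)),
    (2015, .gen 248 (393, false)),
    (560, .gen 248 (393, true)),
    (2730, .gen 2161 (376, false)),
    (2821, .gen 2161 (382, false)),
    (1004, .gen 2161 (393, false)),
    (1716, .gen 2161 (393, true)),
    (1006, .gen 3597 (376, false)),
    (1458, .gen 3597 (382, false)),
    (1543, .gen 3597 (393, false)),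
    (1678, .gen 3597 (393, true)),
    (3683, .gen 3597 (394, false)),
    (3501, .gen 3597 (394, true)),
    (144, .gen 1945 (376, false)),
    (1135, .gen 1945 (382, false)),
    (735, .gen 1945 (393, false)),
    (833, .gen 1945 (393, true)),
    (206, .gen 1945 (394, false)),
    (3200, .gen 1945 (394, true)),
    (355, .gen 2111 (376, false)),
    (2913, .gen 2111 (382, false)),
    (2465, .gen 2111 (393, false)),
    (3302, .gen 2111 (393, true)),
    (1261, .gen 2111 (394, false)),
    (3253, .gen 2111 (394, true)),
    (2110, .gen 443 (376, false)),
    (3067, .gen 443 (382, false)),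
    (2231, .gen 443 (393, false)),
    (1445, .gen 443 (393, true)),
    (19, .gen 443 (394, false)),
    (1920, .gen 443 (394, true)),
    (1060, .gen 2204 (376, false)),
    (1219, .gen 2204 (382, false)),
    (1857, .gen 2204 (393, false)),
    (102, .gen 2204 (393, true)),
    (201, .gen 2204 (394, false)),
    (1166, .gen 2204 (394, true)),
    (2202, .gen 3408 (376, false)),
    (2401, .gen 3408 (382, false)),
    (3135, .gen 3408 (393, false)),
    (3757, .gen 3408 (393, true)),
    (3024, .gen 3408 (394, false)),
    (129, .gen 3408 (394, true)),
    (1982, .gen 3102 (376, false)),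
    (882, .gen 3102 (382, false)),
    (1140, .gen 3102 (393, false)),
    (2959, .gen 3102 (393, true)),
    (3334, .gen 3102 (394, false)),
    (1450, .gen 3102 (394, true)),
    (528, .gen 904 (376, false)),
    (638, .gen 904 (382, false)),
    (3014, .gen 904 (393, false)),
    (3347, .gen 904 (393, true)),
    (339, .gen 904 (394, false)),
    (656, .gen 904 (394, true)),
    (1433, .gen 2796 (376, false)),
    (962, .gen 2796 (382, false)),
    (1717, .gen 2796 (393, false)),
    (379, .gen 2796 (393, true)),
    (2167, .gen 2796 (394, false)),
    (1838, .gen 2796 (394, true)),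
    (3166, .gen 3098 (376, false)),
    (525, .gen 3098 (382, false)),
    (1151, .gen 3098 (393, false)),
    (49, .gen 3098 (393, true)),
    (3453, .gen 3098 (394, false)),
    (2639, .gen 3098 (394, true)),
    (287, .gen 3786 (376, false)),
    (672, .gen 3786 (382, false)),
    (3752, .gen 3786 (393, false)),
    (2849, .gen 3786 (393, true)),
    (1875, .gen 3786 (394, false)),
    (1848, .gen 3786 (394, true)),
    (321, .gen 1953 (376, false)),
    (838, .gen 1953 (382, false)),
    (3406, .gen 1953 (393, false)),
    (961, .gen 1953 (393, true)),
    (1568, .gen 1953 (394, false)),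
    (183, .gen 1953 (394, true)),
    (1407, .gen 60 (376, false)),
    (2660, .gen 60 (382, false)),
    (2499, .gen 60 (393, false)),
    (2611, .gen 60 (393, true)),
    (2876, .gen 60 (394, false)),
    (1685, .gen 60 (394, true)),
    (2260, .gen 652 (376, false)),
    (1990, .gen 652 (382, false)),
    (1644, .gen 652 (393, false)),
    (1147, .gen 652 (393, true)),
    (2614, .gen 652 (394, false)),
    (2978, .gen 652 (394, true)),
    (218, .gen 3053 (376, false)),
    (1649, .gen 3053 (382, false)),
    (2005, .gen 3053 (393, false)),
    (2596, .gen 3053 (393, true)),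
    (2109, .gen 3053 (394, false)),
    (2312, .gen 3053 (394, true)),
    (3287, .gen 1722 (376, false)),
    (1592, .gen 1722 (382, false)),
    (3082, .gen 1722 (393, false)),
    (925, .gen 1722 (393, true)),
    (928, .gen 1722 (394, false)),
    (2792, .gen 1722 (394, true)),
    (1625, .gen 639 (376, false)),
    (1606, .gen 639 (382, false)),
    (2650, .gen 639 (393, false)),
    (1567, .gen 639 (393, true)),
    (2598, .gen 639 (394, false)),
    (2570, .gen 639 (394, true)),
    (3419, .gen 1302 (376, false)),
    (1115, .gen 1302 (382, false)),
    (3026, .gen 1302 (393, false)),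
    (2074, .gen 1302 (393, true)),
    (2280, .gen 1302 (394, false)),
    (2791, .gen 1302 (394, true)),
    (1739, .gen 731 (376, false)),
    (2657, .gen 731 (382, false)),
    (2902, .gen 731 (393, false)),
    (518, .gen 731 (393, true)),
    (1405, .gen 731 (394, false)),
    (2281, .gen 731 (394, true)),
    (202, .gen 1917 (376, false)),
    (2936, .gen 1917 (382, false)),
    (744, .gen 1917 (393, false)),
    (3176, .gen 1917 (393, true)),
    (2966, .gen 1917 (394, false)),
    (2834, .gen 1917 (394, true)),
    (2012, .gen 185 (376, false)),
    (2222, .gen 185 (382, false)),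
    (785, .gen 185 (393, false)),
    (1794, .gen 185 (393, true)),
    (3212, .gen 185 (394, false)),
    (2699, .gen 185 (394, true)),
    (264, .gen 354 (376, false)),
    (1040, .gen 354 (382, false)),
    (2649, .gen 354 (393, false)),
    (912, .gen 354 (393, true)),
    (3204, .gen 354 (394, false)),
    (1113, .gen 354 (394, true)),
    (3397, .gen 3440 (376, false)),
    (2380, .gen 3440 (382, false)),
    (1980, .gen 3440 (393, false)),
    (2336, .gen 3440 (393, true)),
    (1250, .gen 3440 (394, false)),
    (3508, .gen 3440 (394, true)),
    (2562, .gen 3324 (376, false)),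
    (2103, .gen 3324 (382, false)),
    (499, .gen 3324 (393, false)),
    (1571, .gen 3324 (393, true)),
    (2391, .gen 3324 (394, false)),
    (2370, .gen 3324 (394, true)),
    (2214, .gen 554 (376, false)),
    (2953, .gen 554 (382, false)),
    (356, .gen 554 (393, false)),
    (2404, .gen 554 (393, true)),
    (1508, .gen 554 (394, false)),
    (2769, .gen 554 (394, true)),
    (186, .gen 3536 (376, false)),
    (2935, .gen 3536 (382, false)),
    (1185, .gen 3536 (393, false)),
    (576, .gen 3536 (393, true)),
    (1664, .gen 3536 (394, false)),
    (1929, .gen 3536 (394, true)),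
    (2054, .gen 2279 (376, false)),
    (1337, .gen 2279 (382, false)),
    (464, .gen 2279 (393, false)),
    (667, .gen 2279 (393, true))]

/-- Visits. -/
def v17_4 : List (ℕ × Src) :=
  [(1268, .gen 2279 (394, false)),
    (2491, .gen 2279 (394, true)),
    (88, .gen 1283 (376, false)),
    (561, .gen 1283 (382, false)),
    (2282, .gen 1283 (393, false)),
    (3027, .gen 1283 (393, true)),
    (851, .gen 1283 (394, false)),
    (2447, .gen 1283 (394, true)),
    (2558, .gen 2033 (376, false)),
    (754, .gen 2033 (382, false)),
    (71, .gen 2033 (393, false)),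
    (322, .gen 2033 (393, true)),
    (736, .gen 2033 (394, false)),
    (3791, .gen 2033 (394, true)),
    (1121, .gen 2704 (376, false)),
    (3211, .gen 2704 (382, false)),
    (752, .gen 2704 (393, false)),
    (1205, .gen 2704 (393, true)),
    (761, .gen 2704 (394, false)),
    (1148, .gen 2704 (394, true)),
    (305, .gen 3131 (376, false)),
    (2535, .gen 3131 (382, false)),
    (2536, .gen 3131 (393, false)),
    (1710, .gen 3131 (393, true)),
    (2933, .gen 3131 (394, false)),
    (2139, .gen 3131 (394, true)),
    (1787, .gen 1706 (376, false)),
    (622, .gen 1706 (382, false)),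
    (1534, .gen 1706 (393, false)),
    (2517, .gen 1706 (393, true)),
    (1414, .gen 1706 (394, false)),
    (1576, .gen 1706 (394, true)),
    (869, .gen 1908 (376, false)),
    (309, .gen 1908 (382, false)),
    (3474, .gen 1908 (393, false)),
    (1941, .gen 1908 (393, true)),
    (1611, .gen 1908 (394, false)),
    (3384, .gen 1908 (394, true)),
    (1448, .gen 3523 (376, false)),
    (2163, .gen 3523 (382, false)),
    (266, .gen 3523 (393, false)),
    (1478, .gen 3523 (393, true)),
    (2225, .gen 3523 (394, false)),
    (3022, .gen 3523 (394, true)),
    (1731, .gen 243 (376, false)),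
    (3395, .gen 243 (382, false)),
    (2151, .gen 243 (393, false)),
    (636, .gen 243 (393, true)),
    (2300, .gen 243 (394, false)),
    (1082, .gen 243 (394, true)),
    (3216, .gen 2410 (376, false)),
    (2028, .gen 2410 (382, false)),
    (329, .gen 2410 (393, false)),
    (2645, .gen 2410 (393, true)),
    (2351, .gen 2410 (394, false)),
    (1748, .gen 2410 (394, true)),
    (1141, .gen 3197 (376, false)),
    (580, .gen 3197 (382, false)),
    (2928, .gen 3197 (393, false)),
    (2220, .gen 3197 (393, true)),
    (1859, .gen 3197 (394, false)),
    (3266, .gen 3197 (394, true)),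
    (32, .gen 853 (376, false)),
    (2091, .gen 853 (382, false)),
    (715, .gen 853 (393, false)),
    (1243, .gen 853 (393, true)),
    (34, .gen 853 (394, false)),
    (3072, .gen 853 (394, true)),
    (2762, .gen 2236 (376, false)),
    (2690, .gen 2236 (382, false)),
    (1183, .gen 2236 (393, false)),
    (3538, .gen 2236 (393, true)),
    (3780, .gen 2236 (394, false)),
    (2503, .gen 2236 (394, true)),
    (3030, .gen 2510 (376, false)),
    (2861, .gen 2510 (382, false)),
    (716, .gen 2510 (393, false)),
    (2969, .gen 2510 (393, true)),
    (388, .gen 2510 (394, false)),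
    (907, .gen 2510 (394, true)),
    (804, .gen 559 (376, false)),
    (140, .gen 559 (382, false)),
    (3331, .gen 559 (393, false)),
    (3609, .gen 559 (393, true)),
    (729, .gen 559 (394, false)),
    (3143, .gen 559 (394, true)),
    (1591, .gen 3104 (376, false)),
    (621, .gen 3104 (382, false)),
    (439, .gen 3104 (393, false)),
    (3762, .gen 3104 (393, true)),
    (1393, .gen 3104 (394, false)),
    (3036, .gen 3104 (394, true)),
    (2484, .gen 2184 (376, false)),
    (1093, .gen 2184 (382, false)),
    (1292, .gen 2184 (393, false)),
    (2232, .gen 2184 (393, true)),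
    (3202, .gen 2184 (394, false)),
    (2030, .gen 2184 (394, true)),
    (351, .gen 3310 (376, false)),
    (3676, .gen 3310 (382, false)),
    (1855, .gen 3310 (393, false)),
    (269, .gen 3310 (393, true)),
    (2516, .gen 3310 (394, false)),
    (3323, .gen 3310 (394, true)),
    (407, .gen 1089 (376, false)),
    (2369, .gen 1089 (382, false)),
    (3583, .gen 1089 (393, false)),
    (3058, .gen 1089 (393, true)),
    (1358, .gen 1089 (394, false)),
    (800, .gen 1089 (394, true)),
    (1007, .gen 677 (376, false)),
    (1555, .gen 677 (382, false)),
    (3297, .gen 677 (393, false)),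
    (3165, .gen 677 (393, true)),
    (2367, .gen 677 (394, false)),
    (3499, .gen 677 (394, true)),
    (2293, .gen 1907 (376, false)),
    (1742, .gen 1907 (382, false)),
    (3162, .gen 1907 (393, false)),
    (3087, .gen 1907 (393, true)),
    (1167, .gen 1907 (394, false)),
    (362, .gen 1907 (394, true)),
    (1600, .gen 1603 (376, false)),
    (584, .gen 1603 (382, false)),
    (1175, .gen 1603 (393, false)),
    (433, .gen 1603 (393, true)),
    (1527, .gen 1603 (394, false)),
    (547, .gen 1603 (394, true)),
    (1587, .gen 2495 (376, false)),
    (2088, .gen 2495 (382, false)),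
    (77, .gen 2495 (393, false)),
    (1837, .gen 2495 (393, true)),
    (3713, .gen 2495 (394, false)),
    (2377, .gen 2495 (394, true)),
    (2488, .gen 3447 (376, false)),
    (3222, .gen 3447 (382, false)),
    (109, .gen 3447 (393, false)),
    (1171, .gen 3447 (393, true)),
    (530, .gen 3447 (394, false)),
    (635, .gen 3447 (394, true)),
    (1246, .gen 1919 (376, false)),
    (234, .gen 1919 (382, false)),
    (834, .gen 1919 (393, false)),
    (871, .gen 1919 (393, true)),
    (325, .gen 1919 (394, false)),
    (1364, .gen 1919 (394, true)),
    (2079, .gen 3593 (376, false)),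
    (3690, .gen 3593 (382, false)),
    (1435, .gen 3593 (393, false)),
    (2667, .gen 3593 (393, true)),
    (3502, .gen 3593 (394, false)),
    (3457, .gen 3593 (394, true)),
    (1881, .gen 1197 (376, false)),
    (2348, .gen 1197 (382, false)),
    (1518, .gen 1197 (393, false)),
    (1798, .gen 1197 (393, true)),
    (824, .gen 1197 (394, false)),
    (848, .gen 1197 (394, true)),
    (1503, .gen 1362 (376, false)),
    (108, .gen 1362 (382, false)),
    (1755, .gen 1362 (393, false)),
    (3504, .gen 1362 (393, true)),
    (2673, .gen 1362 (394, false)),
    (2538, .gen 1362 (394, true)),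
    (1935, .gen 770 (376, false)),
    (3105, .gen 770 (382, false)),
    (1321, .gen 770 (393, false)),
    (2174, .gen 770 (393, true)),
    (2751, .gen 770 (394, false)),
    (3487, .gen 770 (394, true)),
    (172, .gen 1162 (376, false)),
    (2621, .gen 1162 (382, false)),
    (2291, .gen 1162 (393, false)),
    (1284, .gen 1162 (393, true)),
    (2894, .gen 1162 (394, false)),
    (1267, .gen 1162 (394, true)),
    (2805, .gen 1273 (376, false)),
    (927, .gen 1273 (382, false)),
    (1550, .gen 1273 (393, false)),
    (2190, .gen 1273 (393, true)),
    (1878, .gen 1273 (394, false)),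
    (3744, .gen 1273 (394, true)),
    (3456, .gen 1489 (376, false)),
    (910, .gen 1489 (382, false)),
    (1117, .gen 1489 (393, false)),
    (265, .gen 1489 (393, true)),
    (2457, .gen 1489 (394, false)),
    (3381, .gen 1489 (394, true)),
    (2975, .gen 256 (376, false)),
    (1767, .gen 256 (382, false)),
    (3637, .gen 256 (393, false)),
    (2252, .gen 256 (393, true)),
    (3644, .gen 256 (394, false)),
    (1976, .gen 256 (394, true)),
    (3661, .gen 122 (376, false)),
    (2009, .gen 122 (382, false)),
    (1594, .gen 122 (393, false)),
    (2689, .gen 122 (393, true)),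
    (2728, .gen 122 (394, false)),
    (3635, .gen 122 (394, true)),
    (3059, .gen 3063 (376, false)),
    (3248, .gen 3063 (382, false)),
    (1127, .gen 3063 (393, false)),
    (1472, .gen 3063 (393, true)),
    (3005, .gen 3063 (394, false)),
    (2665, .gen 3063 (394, true)),
    (1500, .gen 492 (376, false)),
    (2820, .gen 492 (382, false)),
    (3540, .gen 492 (393, false)),
    (1379, .gen 492 (393, true)),
    (2848, .gen 492 (394, false)),
    (2059, .gen 492 (394, true)),
    (3776, .gen 1378 (376, false)),
    (1910, .gen 1378 (382, false)),
    (294, .gen 1378 (393, false)),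
    (2887, .gen 1378 (393, true)),
    (2337, .gen 1378 (394, false)),
    (1802, .gen 1378 (394, true)),
    (863, .gen 66 (376, false)),
    (2218, .gen 66 (382, false)),
    (82, .gen 66 (393, false)),
    (497, .gen 66 (393, true)),
    (3179, .gen 66 (394, false)),
    (2528, .gen 66 (394, true)),
    (316, .gen 2574 (376, false)),
    (1854, .gen 2574 (382, false)),
    (290, .gen 2574 (393, false)),
    (2141, .gen 2574 (393, true)),
    (2386, .gen 2574 (394, false)),
    (1149, .gen 2574 (394, true)),
    (2195, .gen 782 (376, false)),
    (2534, .gen 782 (382, false)),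
    (1677, .gen 782 (393, false)),
    (2674, .gen 782 (393, true)),
    (3509, .gen 782 (394, false)),
    (3610, .gen 782 (394, true)),
    (3729, .gen 2485 (376, false)),
    (3194, .gen 2485 (382, false)),
    (745, .gen 2485 (393, false)),
    (251, .gen 2485 (393, true)),
    (1572, .gen 2485 (394, false)),
    (3106, .gen 2485 (394, true)),
    (3450, .gen 1131 (376, false)),
    (255, .gen 1131 (382, false)),
    (1562, .gen 1131 (393, false)),
    (350, .gen 1131 (393, true)),
    (2811, .gen 1131 (394, false)),
    (9, .gen 1131 (394, true)),
    (1904, .gen 1902 (376, false)),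
    (1774, .gen 1902 (382, false)),
    (384, .gen 1902 (393, false)),
    (2251, .gen 1902 (393, true)),
    (3518, .gen 1902 (394, false)),
    (1563, .gen 1902 (394, true)),
    (911, .gen 2616 (376, false)),
    (634, .gen 2616 (382, false)),
    (159, .gen 2616 (393, false)),
    (3016, .gen 2616 (393, true)),
    (1233, .gen 2616 (394, false)),
    (2490, .gen 2616 (394, true)),
    (1181, .gen 3110 (376, false)),
    (1556, .gen 3110 (382, false)),
    (777, .gen 3110 (393, false)),
    (707, .gen 3110 (393, true)),
    (3638, .gen 3110 (394, false)),
    (2782, .gen 3110 (394, true)),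
    (694, .gen 5 (376, false)),
    (2072, .gen 5 (382, false)),
    (2644, .gen 5 (393, false)),
    (2213, .gen 5 (393, true)),
    (3579, .gen 5 (394, false)),
    (2361, .gen 5 (394, true)),
    (213, .gen 881 (376, false)),
    (2938, .gen 881 (382, false)),
    (1466, .gen 881 (393, false)),
    (2634, .gen 881 (393, true)),
    (3655, .gen 881 (394, false)),
    (446, .gen 881 (394, true)),
    (953, .gen 196 (376, false)),
    (1376, .gen 196 (382, false)),
    (2297, .gen 196 (393, false)),
    (2016, .gen 196 (393, true)),
    (1061, .gen 196 (394, false)),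
    (2818, .gen 196 (394, true)),
    (1651, .gen 93 (376, false)),
    (2824, .gen 93 (382, false)),
    (614, .gen 93 (393, false)),
    (830, .gen 93 (393, true)),
    (3539, .gen 93 (394, false)),
    (1713, .gen 93 (394, true)),
    (457, .gen 175 (376, false)),
    (2903, .gen 175 (382, false)),
    (3732, .gen 175 (393, false)),
    (3119, .gen 175 (393, true)),
    (156, .gen 175 (394, false)),
    (236, .gen 175 (394, true)),
    (2624, .gen 3238 (376, false)),
    (2886, .gen 3238 (382, false)),
    (2965, .gen 3238 (393, false)),
    (1800, .gen 3238 (393, true))]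

/-- Visits. -/
def v17_5 : List (ℕ × Src) :=
  [(2509, .gen 3238 (394, false)),
    (2577, .gen 3238 (394, true)),
    (627, .gen 2635 (376, false)),
    (2223, .gen 2635 (382, false)),
    (1328, .gen 2635 (393, false)),
    (2995, .gen 2635 (393, true)),
    (657, .gen 2635 (394, false)),
    (2732, .gen 2635 (394, true)),
    (2544, .gen 2581 (376, false)),
    (3256, .gen 2581 (382, false)),
    (3414, .gen 2581 (393, false)),
    (3770, .gen 2581 (393, true)),
    (3362, .gen 2581 (394, false)),
    (2353, .gen 2581 (394, true)),
    (1027, .gen 967 (376, false)),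
    (1847, .gen 967 (382, false)),
    (1300, .gen 967 (393, false)),
    (171, .gen 967 (393, true)),
    (3325, .gen 967 (394, false)),
    (3319, .gen 967 (394, true)),
    (802, .gen 3184 (376, false)),
    (3670, .gen 3184 (382, false)),
    (115, .gen 3184 (393, false)),
    (919, .gen 3184 (393, true)),
    (1439, .gen 3184 (394, false)),
    (1078, .gen 3184 (394, true)),
    (3360, .gen 3430 (376, false)),
    (3118, .gen 3430 (382, false)),
    (1964, .gen 3430 (393, false)),
    (2835, .gen 3430 (393, true)),
    (2841, .gen 3430 (394, false)),
    (1822, .gen 3430 (394, true)),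
    (1239, .gen 2233 (376, false)),
    (641, .gen 2233 (382, false)),
    (3231, .gen 2233 (393, false)),
    (1330, .gen 2233 (393, true)),
    (1888, .gen 2233 (394, false)),
    (572, .gen 2233 (394, true)),
    (3056, .gen 3252 (376, false)),
    (3150, .gen 3252 (382, false)),
    (1389, .gen 3252 (393, false)),
    (1954, .gen 3252 (393, true)),
    (774, .gen 3252 (394, false)),
    (3425, .gen 3252 (394, true)),
    (2942, .gen 1648 (376, false)),
    (3213, .gen 1648 (382, false)),
    (3245, .gen 1648 (393, false)),
    (247, .gen 1648 (393, true)),
    (836, .gen 1648 (394, false)),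
    (1574, .gen 1648 (394, true)),
    (35, .gen 2435 (376, false)),
    (1751, .gen 2435 (382, false)),
    (366, .gen 2435 (393, false)),
    (299, .gen 2435 (393, true)),
    (97, .gen 2435 (394, false)),
    (2553, .gen 2435 (394, true)),
    (3557, .gen 233 (376, false)),
    (2573, .gen 233 (382, false)),
    (1092, .gen 233 (393, false)),
    (3587, .gen 233 (393, true)),
    (3779, .gen 233 (394, false)),
    (3727, .gen 233 (394, true)),
    (1781, .gen 2765 (376, false)),
    (173, .gen 2765 (382, false)),
    (1311, .gen 2765 (393, false)),
    (947, .gen 2765 (393, true)),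
    (955, .gen 2765 (394, false)),
    (2518, .gen 2765 (394, true)),
    (2339, .gen 3698 (376, false)),
    (1894, .gen 3698 (382, false)),
    (343, .gen 3698 (393, false)),
    (2999, .gen 3698 (393, true)),
    (3085, .gen 3698 (394, false)),
    (3514, .gen 3698 (394, true)),
    (3355, .gen 3181 (376, false)),
    (1962, .gen 3181 (382, false)),
    (1993, .gen 3181 (393, false)),
    (1792, .gen 3181 (393, true)),
    (3601, .gen 3181 (394, false)),
    (2763, .gen 3181 (394, true)),
    (2795, .gen 1066 (376, false)),
    (2284, .gen 1066 (382, false)),
    (2502, .gen 1066 (393, false)),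
    (2206, .gen 1066 (393, true)),
    (3734, .gen 1066 (394, false)),
    (2804, .gen 1066 (394, true)),
    (1673, .gen 3285 (376, false)),
    (487, .gen 3285 (382, false)),
    (1329, .gen 3285 (393, false)),
    (3547, .gen 3285 (393, true)),
    (1073, .gen 3285 (394, false)),
    (3680, .gen 3285 (394, true)),
    (1583, .gen 3699 (376, false)),
    (411, .gen 3699 (382, false)),
    (3272, .gen 3699 (393, false)),
    (1841, .gen 3699 (393, true)),
    (1047, .gen 3699 (394, false)),
    (1653, .gen 3699 (394, true)),
    (3286, .gen 2934 (376, false)),
    (3496, .gen 2934 (382, false)),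
    (2860, .gen 2934 (393, false)),
    (390, .gen 2934 (393, true)),
    (2076, .gen 2934 (394, false)),
    (908, .gen 2934 (394, true)),
    (682, .gen 1763 (376, false)),
    (2855, .gen 1763 (382, false)),
    (2631, .gen 1763 (393, false)),
    (1161, .gen 1763 (393, true)),
    (1633, .gen 1763 (394, false)),
    (80, .gen 1763 (394, true)),
    (1913, .gen 689 (376, false)),
    (3563, .gen 689 (382, false)),
    (1577, .gen 689 (393, false)),
    (2744, .gen 689 (393, true)),
    (3433, .gen 689 (394, false)),
    (421, .gen 689 (394, true)),
    (3605, .gen 25 (376, false)),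
    (3486, .gen 25 (382, false)),
    (2520, .gen 25 (393, false)),
    (2964, .gen 25 (393, true)),
    (859, .gen 25 (394, false)),
    (1297, .gen 25 (394, true)),
    (1332, .gen 1352 (376, false)),
    (720, .gen 1352 (382, false)),
    (552, .gen 1352 (393, false)),
    (507, .gen 1352 (393, true)),
    (1255, .gen 1352 (394, false)),
    (1667, .gen 1352 (394, true)),
    (1275, .gen 52 (376, false)),
    (3392, .gen 52 (382, false)),
    (1544, .gen 52 (393, false)),
    (2409, .gen 52 (393, true)),
    (3531, .gen 52 (394, false)),
    (3619, .gen 52 (394, true)),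
    (3337, .gen 4 (376, false)),
    (2287, .gen 4 (382, false)),
    (2080, .gen 4 (393, false)),
    (2086, .gen 4 (393, true)),
    (447, .gen 4 (394, false)),
    (2540, .gen 4 (394, true)),
    (2725, .gen 2096 (376, false)),
    (3185, .gen 2096 (382, false)),
    (2871, .gen 2096 (393, false)),
    (1809, .gen 2096 (393, true)),
    (948, .gen 2096 (394, false)),
    (184, .gen 2096 (394, true)),
    (2622, .gen 1951 (376, false)),
    (3552, .gen 1951 (382, false)),
    (1631, .gen 1951 (393, false)),
    (1799, .gen 1951 (393, true)),
    (1299, .gen 1951 (394, false)),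
    (787, .gen 1951 (394, true)),
    (425, .gen 1184 (376, false)),
    (2554, .gen 1184 (382, false)),
    (2891, .gen 1184 (393, false)),
    (3134, .gen 1184 (393, true)),
    (393, .gen 1184 (394, false)),
    (279, .gen 1184 (394, true)),
    (1944, .gen 2707 (376, false)),
    (615, .gen 2707 (382, false)),
    (3402, .gen 2707 (393, false)),
    (2470, .gen 2707 (393, true)),
    (811, .gen 2707 (394, false)),
    (2241, .gen 2707 (394, true)),
    (1459, .gen 1613 (376, false)),
    (688, .gen 1613 (382, false)),
    (466, .gen 1613 (393, false)),
    (2000, .gen 1613 (393, true)),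
    (2926, .gen 1613 (394, false)),
    (1605, .gen 1613 (394, true)),
    (1570, .gen 3163 (376, false)),
    (841, .gen 3163 (382, false)),
    (2684, .gen 3163 (393, false)),
    (2070, .gen 3163 (393, true)),
    (161, .gen 3163 (394, false)),
    (134, .gen 3163 (394, true)),
    (3052, .gen 3061 (376, false)),
    (481, .gen 3061 (382, false)),
    (225, .gen 3061 (393, false)),
    (913, .gen 3061 (393, true)),
    (906, .gen 3061 (394, false)),
    (757, .gen 3061 (394, true)),
    (1169, .gen 2024 (376, false)),
    (2825, .gen 2024 (382, false)),
    (2149, .gen 2024 (393, false)),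
    (2652, .gen 2024 (393, true)),
    (3070, .gen 2024 (394, false)),
    (257, .gen 2024 (394, true)),
    (1778, .gen 1547 (376, false)),
    (3249, .gen 1547 (382, false)),
    (3715, .gen 1547 (393, false)),
    (3218, .gen 1547 (393, true)),
    (898, .gen 1547 (394, false)),
    (1170, .gen 1547 (394, true)),
    (139, .gen 2462 (376, false)),
    (3312, .gen 2462 (382, false)),
    (1727, .gen 2462 (393, false)),
    (1088, .gen 2462 (393, true)),
    (662, .gen 2462 (394, false)),
    (480, .gen 2462 (394, true)),
    (648, .gen 3746 (376, false)),
    (345, .gen 3746 (382, false)),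
    (893, .gen 3746 (393, false)),
    (1214, .gen 3746 (393, true)),
    (2276, .gen 3746 (394, false)),
    (177, .gen 3746 (394, true)),
    (2637, .gen 1876 (376, false)),
    (968, .gen 1876 (382, false)),
    (2115, .gen 1876 (393, false)),
    (3535, .gen 1876 (393, true)),
    (328, .gen 1876 (394, false)),
    (2201, .gen 1876 (394, true)),
    (519, .gen 2302 (376, false)),
    (2947, .gen 2302 (382, false)),
    (1618, .gen 2302 (393, false)),
    (1282, .gen 2302 (393, true)),
    (3792, .gen 2302 (394, false)),
    (2119, .gen 2302 (394, true)),
    (767, .gen 1142 (376, false)),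
    (991, .gen 1142 (382, false)),
    (415, .gen 1142 (393, false)),
    (230, .gen 1142 (393, true)),
    (3418, .gen 1142 (394, false)),
    (3398, .gen 1142 (394, true)),
    (1188, .gen 618 (376, false)),
    (2378, .gen 618 (382, false)),
    (2954, .gen 618 (393, false)),
    (1720, .gen 618 (393, true)),
    (154, .gen 618 (394, false)),
    (1624, .gen 618 (394, true)),
    (2185, .gen 1586 (376, false)),
    (930, .gen 1586 (382, false)),
    (2852, .gen 1586 (393, false)),
    (1839, .gen 1586 (393, true)),
    (1293, .gen 1586 (394, false)),
    (3136, .gen 1586 (394, true)),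
    (2929, .gen 1806 (376, false)),
    (1643, .gen 1806 (382, false)),
    (1056, .gen 1806 (393, false)),
    (2411, .gen 1806 (393, true)),
    (3040, .gen 1806 (394, false)),
    (2997, .gen 1806 (394, true)),
    (1735, .gen 1289 (376, false)),
    (2594, .gen 1289 (382, false)),
    (1866, .gen 1289 (393, false)),
    (1130, .gen 1289 (393, true)),
    (3701, .gen 1289 (394, false)),
    (1186, .gen 1289 (394, true)),
    (1357, .gen 151 (376, false)),
    (313, .gen 151 (382, false)),
    (3567, .gen 151 (393, false)),
    (664, .gen 151 (393, true)),
    (2194, .gen 151 (394, false)),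
    (3076, .gen 151 (394, true)),
    (1927, .gen 2288 (376, false)),
    (1159, .gen 2288 (382, false)),
    (2394, .gen 2288 (393, false)),
    (1076, .gen 2288 (393, true)),
    (2722, .gen 2288 (394, false)),
    (1381, .gen 2288 (394, true)),
    (1097, .gen 399 (376, false)),
    (2842, .gen 399 (382, false)),
    (1540, .gen 399 (393, false)),
    (1187, .gen 399 (393, true)),
    (2537, .gen 399 (394, false)),
    (1209, .gen 399 (394, true)),
    (2327, .gen 866 (376, false)),
    (67, .gen 866 (382, false)),
    (2897, .gen 866 (393, false)),
    (3782, .gen 866 (393, true)),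
    (3468, .gen 866 (394, false)),
    (408, .gen 866 (394, true)),
    (2078, .gen 2402 (376, false)),
    (864, .gen 2402 (382, false)),
    (1535, .gen 2402 (393, false)),
    (3037, .gen 2402 (393, true)),
    (1470, .gen 2402 (394, false)),
    (514, .gen 2402 (394, true)),
    (483, .gen 2338 (376, false)),
    (426, .gen 2338 (382, false)),
    (1884, .gen 2338 (393, false)),
    (442, .gen 2338 (393, true)),
    (857, .gen 2338 (394, false)),
    (2001, .gen 2338 (394, true)),
    (1313, .gen 485 (376, false)),
    (1200, .gen 485 (382, false)),
    (2347, .gen 485 (393, false)),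
    (1425, .gen 485 (393, true)),
    (3187, .gen 485 (394, false)),
    (3512, .gen 485 (394, true)),
    (875, .gen 1658 (376, false)),
    (1971, .gen 1658 (382, false)),
    (2713, .gen 1658 (393, false)),
    (944, .gen 1658 (393, true)),
    (2530, .gen 1658 (394, false)),
    (1462, .gen 1658 (394, true)),
    (3203, .gen 2268 (376, false)),
    (1288, .gen 2268 (382, false)),
    (2116, .gen 2268 (393, false)),
    (2677, .gen 2268 (393, true))]

/-- Visits. -/
def v17_6 : List (ℕ × Src) :=
  [(1380, .gen 2268 (394, false)),
    (1365, .gen 2268 (394, true)),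
    (3190, .gen 2136 (376, false)),
    (2092, .gen 2136 (382, false)),
    (3155, .gen 2136 (393, false)),
    (1826, .gen 2136 (393, true)),
    (900, .gen 2136 (394, false)),
    (3083, .gen 2136 (394, true)),
    (2324, .gen 3282 (376, false)),
    (3694, .gen 3282 (382, false)),
    (2407, .gen 3282 (393, false)),
    (288, .gen 3282 (393, true)),
    (2322, .gen 3282 (394, false)),
    (1457, .gen 3282 (394, true)),
    (867, .gen 2815 (376, false)),
    (2917, .gen 2815 (382, false)),
    (2774, .gen 2815 (393, false)),
    (2698, .gen 2815 (393, true)),
    (1810, .gen 2815 (394, false)),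
    (3588, .gen 2815 (394, true)),
    (126, .gen 2899 (376, false)),
    (3267, .gen 2899 (382, false)),
    (2974, .gen 2899 (393, false)),
    (3276, .gen 2899 (393, true)),
    (810, .gen 2899 (394, false)),
    (623, .gen 2899 (394, true)),
    (3700, .gen 409 (394, false)),
    (1560, .gen 409 (394, true)),
    (491, .gen 749 (382, false)),
    (1129, .gen 749 (393, false)),
    (291, .gen 749 (393, true)),
    (3645, .gen 749 (394, false)),
    (2643, .gen 749 (394, true)),
    (1883, .gen 586 (394, false)),
    (1936, .gen 586 (394, true)),
    (3769, .gen 3479 (394, false)),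
    (3020, .gen 3479 (394, true)),
    (2533, .gen 2301 (394, false)),
    (1537, .gen 2301 (394, true)),
    (1770, .gen 210 (394, false)),
    (2771, .gen 210 (394, true)),
    (3306, .gen 1933 (382, false)),
    (3736, .gen 1933 (393, false)),
    (1110, .gen 1933 (393, true)),
    (2265, .gen 1933 (394, false)),
    (2955, .gen 1933 (394, true)),
    (1225, .gen 422 (394, false)),
    (1918, .gen 422 (394, true)),
    (2629, .gen 880 (394, false)),
    (3183, .gen 1983 (394, false)),
    (2873, .gen 1983 (394, true)),
    (1846, .gen 2456 (394, false)),
    (1274, .gen 2456 (394, true)),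
    (2878, .gen 1892 (394, false)),
    (112, .gen 1892 (394, true)),
    (3448, .gen 1342 (394, false)),
    (1525, .gen 1342 (394, true)),
    (815, .gen 733 (382, false)),
    (3154, .gen 733 (393, false)),
    (3639, .gen 733 (393, true)),
    (1058, .gen 733 (394, false)),
    (2186, .gen 733 (394, true)),
    (2720, .gen 3125 (394, false)),
    (861, .gen 3125 (394, true)),
    (1712, .gen 3013 (394, false)),
    (2087, .gen 141 (382, false)),
    (3691, .gen 141 (393, false)),
    (160, .gen 141 (393, true)),
    (3581, .gen 141 (394, false)),
    (193, .gen 141 (394, true)),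
    (2587, .gen 2254 (394, false)),
    (3671, .gen 2254 (394, true)),
    (2131, .gen 3011 (382, false)),
    (926, .gen 3011 (393, false)),
    (2292, .gen 3011 (393, true)),
    (3359, .gen 3011 (394, false)),
    (3379, .gen 3011 (394, true)),
    (532, .gen 75 (394, false)),
    (603, .gen 75 (394, true)),
    (728, .gen 2040 (382, false)),
    (3048, .gen 2040 (393, false)),
    (2003, .gen 2040 (393, true)),
    (1386, .gen 2040 (394, false)),
    (803, .gen 2040 (394, true)),
    (972, .gen 1647 (394, false)),
    (3275, .gen 1647 (394, true)),
    (1105, .gen 3303 (382, false)),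
    (1206, .gen 3303 (393, false)),
    (383, .gen 3303 (393, true)),
    (3127, .gen 3303 (394, false)),
    (1249, .gen 3303 (394, true)),
    (2313, .gen 192 (394, false)),
    (3050, .gen 192 (394, true)),
    (541, .gen 743 (382, false)),
    (2623, .gen 743 (393, false)),
    (1062, .gen 743 (393, true)),
    (3055, .gen 743 (394, false)),
    (2521, .gen 743 (394, true)),
    (1967, .gen 2130 (394, false)),
    (3681, .gen 2130 (394, true)),
    (2057, .gen 1020 (382, false)),
    (889, .gen 1020 (393, false)),
    (924, .gen 1020 (393, true)),
    (3470, .gen 1020 (394, false)),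
    (2760, .gen 1020 (394, true)),
    (548, .gen 1958 (394, false)),
    (2026, .gen 1958 (394, true)),
    (3633, .gen 2783 (382, false)),
    (169, .gen 2783 (393, false)),
    (901, .gen 2783 (393, true)),
    (3350, .gen 2783 (394, false)),
    (3383, .gen 2783 (394, true)),
    (1702, .gen 1689 (394, false)),
    (3738, .gen 1689 (394, true)),
    (51, .gen 2831 (382, false)),
    (3193, .gen 2831 (393, false)),
    (1514, .gen 2831 (393, true)),
    (2358, .gen 2803 (394, false)),
    (3758, .gen 2803 (394, true)),
    (1465, .gen 3616 (394, false)),
    (1956, .gen 3616 (394, true)),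
    (1002, .gen 883 (382, false)),
    (2575, .gen 883 (393, false)),
    (119, .gen 883 (393, true)),
    (892, .gen 883 (394, false)),
    (949, .gen 883 (394, true)),
    (1134, .gen 2588 (394, false)),
    (48, .gen 2588 (394, true)),
    (3472, .gen 1305 (382, false)),
    (1769, .gen 1305 (393, false)),
    (1012, .gen 1305 (393, true)),
    (888, .gen 2325 (382, false)),
    (1434, .gen 2325 (393, false)),
    (1394, .gen 2325 (393, true)),
    (3009, .gen 2325 (394, false)),
    (1897, .gen 2325 (394, true)),
    (2659, .gen 1741 (394, false)),
    (2125, .gen 1741 (394, true)),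
    (2892, .gen 2908 (382, false)),
    (2695, .gen 2908 (393, false)),
    (3001, .gen 2908 (393, true)),
    (878, .gen 817 (393, false)),
    (669, .gen 1627 (382, false)),
    (1898, .gen 1627 (393, false)),
    (2228, .gen 1627 (393, true)),
    (2708, .gen 3721 (394, false)),
    (3653, .gen 2363 (393, false)),
    (361, .gen 342 (394, false)),
    (2972, .gen 2810 (393, false)),
    (533, .gen 484 (382, false)),
    (1711, .gen 484 (393, false)),
    (990, .gen 484 (393, true)),
    (2802, .gen 2676 (393, false)),
    (3283, .gen 2676 (393, true)),
    (2315, .gen 2676 (394, false)),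
    (2460, .gen 2676 (394, true)),
    (905, .gen 2408 (394, false)),
    (459, .gen 2408 (394, true)),
    (1307, .gen 1588 (394, false)),
    (3743, .gen 1588 (394, true)),
    (91, .gen 751 (394, false)),
    (386, .gen 751 (394, true)),
    (2310, .gen 3688 (393, false)),
    (3475, .gen 1486 (382, false)),
    (3246, .gen 1486 (393, false)),
    (1827, .gen 1486 (393, true)),
    (3140, .gen 1440 (394, false)),
    (1484, .gen 451 (382, false)),
    (2135, .gen 451 (393, false)),
    (1780, .gen 451 (393, true)),
    (1438, .gen 3682 (393, false)),
    (2452, .gen 3244 (382, false)),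
    (1786, .gen 3244 (393, false)),
    (2373, .gen 3244 (393, true)),
    (182, .gen 1319 (382, false)),
    (289, .gen 1319 (393, false)),
    (2443, .gen 1319 (393, true)),
    (311, .gen 1319 (394, false)),
    (553, .gen 1319 (394, true)),
    (1154, .gen 705 (394, false)),
    (697, .gen 705 (394, true)),
    (1889, .gen 2646 (394, false)),
    (1211, .gen 1668 (393, false)),
    (3712, .gen 396 (393, false)),
    (3227, .gen 2168 (382, false)),
    (2655, .gen 2168 (393, false)),
    (2566, .gen 2168 (393, true)),
    (53, .gen 2168 (394, false)),
    (416, .gen 2168 (394, true)),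
    (1811, .gen 2636 (394, false)),
    (1037, .gen 2636 (394, true)),
    (2494, .gen 3311 (382, false)),
    (2568, .gen 3311 (393, false)),
    (566, .gen 3311 (393, true)),
    (3101, .gen 3311 (394, false)),
    (1557, .gen 3311 (394, true)),
    (1308, .gen 1237 (394, false)),
    (2541, .gen 1237 (394, true)),
    (2071, .gen 3373 (382, false)),
    (2991, .gen 3373 (393, false)),
    (2828, .gen 3373 (393, true)),
    (3399, .gen 3373 (394, false)),
    (3435, .gen 3373 (394, true)),
    (162, .gen 1256 (394, false)),
    (72, .gen 1256 (394, true)),
    (700, .gen 3170 (382, false)),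
    (2216, .gen 3170 (393, false)),
    (2523, .gen 3170 (393, true)),
    (3696, .gen 3170 (394, false)),
    (872, .gen 3170 (394, true)),
    (458, .gen 589 (394, false)),
    (450, .gen 589 (394, true)),
    (3198, .gen 2718 (382, false)),
    (1519, .gen 2718 (393, false)),
    (3674, .gen 2718 (393, true)),
    (2492, .gen 2590 (382, false)),
    (166, .gen 2590 (393, false)),
    (2211, .gen 2590 (393, true)),
    (650, .gen 1069 (393, false)),
    (1655, .gen 1683 (393, false)),
    (3553, .gen 3094 (382, false)),
    (440, .gen 3094 (393, false)),
    (616, .gen 3094 (393, true)),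
    (2806, .gen 3094 (394, false)),
    (2178, .gen 3094 (394, true)),
    (1229, .gen 1524 (394, false)),
    (3493, .gen 1524 (394, true)),
    (1764, .gen 101 (382, false)),
    (86, .gen 101 (393, false)),
    (3740, .gen 101 (393, true)),
    (1194, .gen 2679 (382, false)),
    (2289, .gen 2679 (393, false)),
    (3090, .gen 2679 (393, true)),
    (2148, .gen 2679 (394, false)),
    (2661, .gen 2679 (394, true)),
    (632, .gen 318 (394, false)),
    (271, .gen 318 (394, true)),
    (2090, .gen 765 (382, false)),
    (1893, .gen 765 (393, false)),
    (3455, .gen 765 (393, true)),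
    (2077, .gen 2735 (382, false)),
    (330, .gen 2735 (393, false)),
    (1994, .gen 2735 (393, true)),
    (3466, .gen 2735 (394, false)),
    (3295, .gen 2735 (394, true)),
    (331, .gen 1598 (394, false)),
    (250, .gen 1598 (394, true)),
    (3137, .gen 1885 (394, false)),
    (1719, .gen 1885 (394, true)),
    (2193, .gen 341 (382, false)),
    (3363, .gen 341 (393, false)),
    (1353, .gen 341 (393, true)),
    (3043, .gen 341 (394, false)),
    (2215, .gen 341 (394, true)),
    (2651, .gen 2800 (394, false)),
    (825, .gen 2800 (394, true)),
    (1528, .gen 55 (382, false)),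
    (3787, .gen 55 (393, false)),
    (61, .gen 55 (393, true)),
    (3697, .gen 55 (394, false)),
    (73, .gen 55 (394, true)),
    (2425, .gen 2360 (394, false)),
    (2906, .gen 2360 (394, true)),
    (2773, .gen 8 (382, false)),
    (1671, .gen 8 (393, false)),
    (137, .gen 8 (393, true)),
    (1306, .gen 8 (394, false)),
    (3049, .gen 8 (394, true)),
    (3038, .gen 448 (394, false)),
    (509, .gen 448 (394, true)),
    (3339, .gen 1851 (382, false)),
    (3495, .gen 1851 (393, false)),
    (3658, .gen 1851 (393, true)),
    (997, .gen 1851 (394, false)),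
    (1347, .gen 1851 (394, true)),
    (3099, .gen 3115 (394, false)),
    (2836, .gen 3115 (394, true)),
    (2813, .gen 2013 (382, false)),
    (775, .gen 2013 (393, false)),
    (368, .gen 2013 (393, true)),
    (663, .gen 2013 (394, false)),
    (1776, .gen 2013 (394, true)),
    (170, .gen 2808 (394, false)),
    (1087, .gen 2808 (394, true)),
    (3277, .gen 377 (382, false)),
    (3428, .gen 377 (393, false)),
    (994, .gen 377 (393, true)),
    (2993, .gen 377 (394, false)),
    (849, .gen 377 (394, true)),
    (920, .gen 977 (394, false)),
    (278, .gen 977 (394, true)),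
    (2461, .gen 2196 (382, false)),
    (2912, .gen 2196 (393, false)),
    (3462, .gen 2196 (393, true)),
    (850, .gen 2196 (394, false)),
    (471, .gen 2196 (394, true)),
    (916, .gen 3783 (394, false)),
    (520, .gen 3783 (394, true)),
    (1152, .gen 1034 (382, false)),
    (557, .gen 1034 (393, false))]

/-- Visits. -/
def v17_7 : List (ℕ × Src) :=
  [(1890, .gen 1034 (393, true)),
    (2264, .gen 1034 (394, false)),
    (2063, .gen 1034 (394, true)),
    (352, .gen 1303 (394, false)),
    (2142, .gen 1303 (394, true)),
    (1094, .gen 3032 (382, false)),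
    (1315, .gen 3032 (393, false)),
    (1101, .gen 3032 (393, true)),
    (2882, .gen 3032 (394, false)),
    (3239, .gen 3032 (394, true)),
    (647, .gen 367 (394, false)),
    (3180, .gen 367 (394, true)),
    (1265, .gen 588 (382, false)),
    (2579, .gen 588 (393, false)),
    (3737, .gen 588 (393, true)),
    (3320, .gen 588 (394, false)),
    (2778, .gen 588 (394, true)),
    (1861, .gen 1818 (394, false)),
    (1614, .gen 1818 (394, true)),
    (2349, .gen 2501 (382, false)),
    (1495, .gen 2501 (393, true)),
    (244, .gen 2501 (394, false)),
    (3739, .gen 2501 (394, true)),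
    (2272, .gen 793 (394, false)),
    (1754, .gen 793 (394, true)),
    (814, .gen 2846 (382, false)),
    (610, .gen 2846 (393, false)),
    (3169, .gen 2846 (393, true)),
    (267, .gen 2846 (394, false)),
    (1938, .gen 3133 (394, false)),
    (3477, .gen 3133 (394, true)),
    (3228, .gen 1674 (382, false)),
    (2244, .gen 1674 (393, false)),
    (2962, .gen 1674 (393, true)),
    (1336, .gen 3298 (382, false)),
    (2724, .gen 3298 (393, false)),
    (957, .gen 3298 (393, true)),
    (3578, .gen 227 (382, false)),
    (2259, .gen 227 (393, false)),
    (40, .gen 227 (393, true)),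
    (419, .gen 1363 (382, false)),
    (534, .gen 1363 (393, false)),
    (2145, .gen 1363 (393, true)),
    (3065, .gen 1363 (394, false)),
    (2042, .gen 1363 (394, true)),
    (2700, .gen 3615 (394, false)),
    (3500, .gen 3615 (394, true)),
    (698, .gen 1526 (394, false)),
    (3033, .gen 1526 (394, true)),
    (2320, .gen 1455 (394, false)),
    (3526, .gen 1455 (394, true)),
    (1732, .gen 3621 (382, false)),
    (3370, .gen 3621 (393, false)),
    (222, .gen 3621 (393, true)),
    (3046, .gen 3621 (394, false)),
    (3000, .gen 3621 (394, true)),
    (1231, .gen 567 (394, false)),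
    (1132, .gen 567 (394, true)),
    (1978, .gen 3750 (382, false)),
    (3728, .gen 3750 (393, false)),
    (524, .gen 3750 (393, true)),
    (1782, .gen 3750 (394, false)),
    (1621, .gen 3750 (394, true)),
    (1471, .gen 2049 (394, false)),
    (298, .gen 2049 (394, true)),
    (1199, .gen 2977 (382, false)),
    (1193, .gen 2977 (393, false)),
    (3095, .gen 2977 (393, true)),
    (1672, .gen 2977 (394, false)),
    (2555, .gen 2977 (394, true)),
    (3775, .gen 3114 (394, false)),
    (2686, .gen 3114 (394, true)),
    (2249, .gen 2270 (394, false)),
    (2529, .gen 2270 (394, true)),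
    (2827, .gen 3469 (394, false)),
    (3039, .gen 3469 (394, true)),
    (3388, .gen 2556 (394, false)),
    (3545, .gen 2556 (394, true)),
    (3164, .gen 2423 (382, false)),
    (1659, .gen 2423 (393, false)),
    (3097, .gen 2423 (393, true)),
    (732, .gen 2423 (394, false)),
    (2317, .gen 2423 (394, true)),
    (3420, .gen 346 (394, false)),
    (3196, .gen 346 (394, true)),
    (198, .gen 3443 (382, false)),
    (1709, .gen 3443 (393, false)),
    (3602, .gen 3443 (393, true)),
    (740, .gen 3443 (394, false)),
    (2983, .gen 2758 (394, false)),
    (2385, .gen 2758 (394, true)),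
    (3608, .gen 681 (394, false)),
    (1323, .gen 681 (394, true)),
    (3569, .gen 631 (394, false)),
    (3612, .gen 631 (394, true)),
    (11, .gen 1947 (382, false)),
    (998, .gen 1947 (393, false)),
    (107, .gen 1947 (393, true)),
    (1725, .gen 2884 (382, false)),
    (1003, .gen 2884 (393, false)),
    (3002, .gen 2884 (393, true)),
    (3629, .gen 2884 (394, false)),
    (2243, .gen 2884 (394, true)),
    (3278, .gen 2578 (394, false)),
    (1418, .gen 2578 (394, true)),
    (2239, .gen 1736 (382, false)),
    (2560, .gen 1736 (393, false)),
    (468, .gen 1736 (393, true)),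
    (2567, .gen 1736 (394, true)),
    (261, .gen 138 (394, false)),
    (3454, .gen 138 (394, true)),
    (1865, .gen 1581 (382, false)),
    (2146, .gen 1581 (393, false)),
    (3640, .gen 1581 (393, true)),
    (1746, .gen 2415 (393, false)),
    (2856, .gen 2415 (393, true)),
    (2766, .gen 412 (393, false)),
    (2043, .gen 412 (393, true)),
    (74, .gen 2127 (382, false)),
    (772, .gen 2127 (393, false)),
    (737, .gen 2127 (393, true)),
    (353, .gen 2418 (382, false)),
    (2359, .gen 2418 (393, false)),
    (3348, .gen 2418 (393, true)),
    (1760, .gen 2418 (394, true)),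
    (2129, .gen 1000 (394, false)),
    (3112, .gen 1000 (394, true)),
    (2262, .gen 29 (382, false)),
    (2014, .gen 29 (393, false)),
    (1018, .gen 29 (393, true)),
    (1190, .gen 29 (394, false)),
    (103, .gen 29 (394, true)),
    (2814, .gen 364 (394, false)),
    (1017, .gen 364 (394, true)),
    (205, .gen 569 (382, false)),
    (2514, .gen 569 (393, false)),
    (2923, .gen 569 (393, true)),
    (2321, .gen 569 (394, false)),
    (3794, .gen 569 (394, true)),
    (3751, .gen 2227 (394, false)),
    (2658, .gen 2227 (394, true)),
    (2970, .gen 235 (382, false)),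
    (1602, .gen 235 (393, false)),
    (2061, .gen 235 (393, true)),
    (1114, .gen 235 (394, false)),
    (2267, .gen 235 (394, true)),
    (2189, .gen 2454 (394, false)),
    (3394, .gen 2454 (394, true)),
    (1952, .gen 2507 (382, false)),
    (2752, .gen 2507 (393, false)),
    (591, .gen 2507 (393, true)),
    (2208, .gen 2507 (394, false)),
    (2095, .gen 2507 (394, true)),
    (951, .gen 1476 (394, false)),
    (938, .gen 1476 (394, true)),
    (2754, .gen 1314 (382, false)),
    (702, .gen 1314 (393, false)),
    (2323, .gen 1314 (393, true)),
    (3015, .gen 1314 (394, false)),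
    (3437, .gen 1314 (394, true)),
    (1383, .gen 1565 (394, false)),
    (1276, .gen 1565 (394, true)),
    (54, .gen 479 (382, false)),
    (444, .gen 479 (393, false)),
    (96, .gen 479 (393, true)),
    (1766, .gen 479 (394, false)),
    (1106, .gen 479 (394, true)),
    (3096, .gen 1805 (394, false)),
    (2706, .gen 1805 (394, true)),
    (2524, .gen 387 (382, false)),
    (794, .gen 387 (393, false)),
    (1828, .gen 387 (393, true)),
    (3010, .gen 387 (394, false)),
    (2593, .gen 387 (394, true)),
    (3574, .gen 2031 (394, false)),
    (3575, .gen 2031 (394, true)),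
    (1374, .gen 671 (382, false)),
    (2122, .gen 671 (393, false)),
    (423, .gen 671 (393, true)),
    (778, .gen 671 (394, false)),
    (275, .gen 671 (394, true)),
    (1415, .gen 1396 (394, false)),
    (1637, .gen 1396 (394, true)),
    (2263, .gen 2911 (382, false)),
    (2721, .gen 2911 (393, false)),
    (1757, .gen 2911 (393, true)),
    (2173, .gen 2911 (394, false)),
    (1871, .gen 2911 (394, true)),
    (3034, .gen 2789 (394, false)),
    (3144, .gen 2789 (394, true)),
    (1552, .gen 1355 (382, false)),
    (1949, .gen 1355 (393, false)),
    (45, .gen 1355 (393, true)),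
    (2155, .gen 1355 (394, false)),
    (2112, .gen 1355 (394, true)),
    (1109, .gen 135 (394, false)),
    (1054, .gen 135 (394, true)),
    (2613, .gen 3209 (382, false)),
    (719, .gen 3209 (393, false)),
    (2694, .gen 3209 (393, true)),
    (2731, .gen 3209 (394, false)),
    (3129, .gen 3209 (394, true)),
    (1032, .gen 1796 (394, false)),
    (239, .gen 1796 (394, true)),
    (1125, .gen 36 (382, false)),
    (3530, .gen 36 (393, false)),
    (1569, .gen 36 (393, true)),
    (3458, .gen 36 (394, false)),
    (3572, .gen 36 (394, true)),
    (3415, .gen 2094 (394, false)),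
    (1728, .gen 2094 (394, true)),
    (769, .gen 147 (382, false)),
    (3008, .gen 147 (393, false)),
    (373, .gen 147 (393, true)),
    (3121, .gen 147 (394, false)),
    (3081, .gen 147 (394, true)),
    (1807, .gen 3666 (394, false)),
    (2416, .gen 3666 (394, true)),
    (940, .gen 865 (382, false)),
    (718, .gen 865 (393, false)),
    (83, .gen 865 (393, true)),
    (1775, .gen 865 (394, false)),
    (895, .gen 865 (394, true)),
    (579, .gen 3513 (394, false)),
    (2020, .gen 3513 (394, true)),
    (2656, .gen 649 (382, false)),
    (876, .gen 649 (393, false)),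
    (1477, .gen 649 (393, true)),
    (1091, .gen 2374 (382, false)),
    (319, .gen 2374 (393, false)),
    (1626, .gen 2374 (393, true)),
    (1272, .gen 2374 (394, false)),
    (1931, .gen 2374 (394, true)),
    (3146, .gen 2154 (394, false)),
    (1222, .gen 2154 (394, true)),
    (2382, .gen 2212 (382, false)),
    (128, .gen 2212 (393, false)),
    (2255, .gen 2212 (393, true)),
    (2474, .gen 2212 (394, false)),
    (2226, .gen 2212 (394, true)),
    (3161, .gen 3657 (394, false)),
    (2781, .gen 3657 (394, true)),
    (95, .gen 1372 (382, false)),
    (262, .gen 1372 (393, false)),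
    (1635, .gen 1372 (393, true)),
    (1334, .gen 496 (382, false)),
    (1573, .gen 496 (393, false)),
    (1808, .gen 496 (393, true)),
    (1325, .gen 496 (394, false)),
    (3243, .gen 496 (394, true)),
    (685, .gen 2875 (394, false)),
    (2719, .gen 2875 (394, true)),
    (402, .gen 3318 (382, false)),
    (100, .gen 3318 (393, false)),
    (1421, .gen 3318 (393, true)),
    (536, .gen 3318 (394, false)),
    (1512, .gen 3318 (394, true)),
    (180, .gen 3745 (394, false)),
    (1138, .gen 3745 (394, true)),
    (2311, .gen 2390 (382, false)),
    (1697, .gen 2390 (393, false)),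
    (310, .gen 2390 (393, true)),
    (1679, .gen 2390 (394, false)),
    (307, .gen 2390 (394, true)),
    (1924, .gen 1294 (394, false)),
    (1213, .gen 1294 (394, true)),
    (2549, .gen 1986 (382, false)),
    (489, .gen 1986 (393, false)),
    (470, .gen 1986 (393, true)),
    (1057, .gen 1986 (394, false)),
    (155, .gen 1986 (394, true)),
    (628, .gen 959 (394, false)),
    (263, .gen 959 (394, true)),
    (3017, .gen 3718 (382, false)),
    (3296, .gen 3718 (393, false)),
    (2171, .gen 3718 (393, true)),
    (2045, .gen 858 (382, false)),
    (2532, .gen 858 (393, false)),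
    (3684, .gen 858 (393, true)),
    (217, .gen 3340 (382, false)),
    (280, .gen 3340 (393, false)),
    (498, .gen 3340 (393, true)),
    (272, .gen 3340 (394, false)),
    (70, .gen 3340 (394, true)),
    (3188, .gen 3220 (394, false)),
    (238, .gen 3220 (394, true)),
    (1436, .gen 654 (382, false)),
    (3432, .gen 654 (393, false)),
    (2240, .gen 654 (393, true)),
    (1542, .gen 654 (394, false)),
    (1957, .gen 654 (394, true)),
    (978, .gen 333 (394, false)),
    (2542, .gen 333 (394, true)),
    (1705, .gen 2854 (382, false)),
    (153, .gen 2854 (393, false)),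
    (897, .gen 2854 (393, true)),
    (3438, .gen 712 (382, false)),
    (633, .gen 712 (393, false)),
    (2996, .gen 712 (393, true)),
    (3534, .gen 2889 (382, false))]

/-- Visits. -/
def v17_8 : List (ℕ × Src) :=
  [(424, .gen 2889 (393, false)),
    (791, .gen 2889 (393, true)),
    (2483, .gen 493 (382, false)),
    (2333, .gen 493 (393, false)),
    (116, .gen 493 (393, true)),
    (306, .gen 493 (394, false)),
    (1160, .gen 493 (394, true)),
    (1264, .gen 2767 (394, false)),
    (1030, .gen 2767 (394, true)),
    (3341, .gen 2945 (382, false)),
    (3172, .gen 2945 (393, false)),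
    (692, .gen 2945 (393, true)),
    (1009, .gen 1804 (382, false)),
    (3702, .gen 1804 (393, false)),
    (687, .gen 1804 (393, true)),
    (1191, .gen 1804 (394, false)),
    (658, .gen 1804 (394, true)),
    (3773, .gen 1400 (394, false)),
    (2712, .gen 1400 (394, true)),
    (3704, .gen 2180 (382, false)),
    (1541, .gen 2180 (393, false)),
    (1507, .gen 2180 (393, true)),
    (1989, .gen 2180 (394, false)),
    (2062, .gen 2180 (394, true)),
    (3439, .gen 3401 (394, false)),
    (1784, .gen 3401 (394, true)),
    (312, .gen 1430 (382, false)),
    (779, .gen 1430 (393, false)),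
    (286, .gen 1430 (393, true)),
    (2816, .gen 3726 (382, false)),
    (512, .gen 3726 (393, false)),
    (3516, .gen 3726 (393, true)),
    (3452, .gen 3726 (394, false)),
    (3073, .gen 3726 (394, true)),
    (323, .gen 164 (394, false)),
    (304, .gen 164 (394, true)),
    (428, .gen 2572 (382, false)),
    (3711, .gen 2572 (393, false)),
    (3396, .gen 2572 (393, true)),
    (1482, .gen 2572 (394, false)),
    (3018, .gen 2572 (394, true)),
    (768, .gen 1348 (394, false)),
    (597, .gen 1348 (394, true)),
    (1195, .gen 1298 (382, false)),
    (2610, .gen 1298 (393, false)),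
    (2420, .gen 1298 (393, true)),
    (2064, .gen 1298 (394, false)),
    (515, .gen 1298 (394, true)),
    (1224, .gen 3560 (394, false)),
    (3293, .gen 3560 (394, true)),
    (317, .gen 2879 (382, false)),
    (2428, .gen 2879 (393, false)),
    (1460, .gen 2879 (393, true)),
    (92, .gen 2879 (394, false)),
    (582, .gen 2879 (394, true)),
    (1146, .gen 2772 (394, false)),
    (3132, .gen 2772 (394, true)),
    (1803, .gen 1988 (382, false)),
    (640, .gen 1988 (393, false)),
    (3753, .gen 1988 (393, true)),
    (3451, .gen 1988 (394, false)),
    (1756, .gen 1988 (394, true)),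
    (3186, .gen 2392 (394, false)),
    (3710, .gen 2392 (394, true)),
    (3424, .gen 2250 (382, false)),
    (701, .gen 2250 (393, false)),
    (2951, .gen 2250 (393, true)),
    (2734, .gen 2250 (394, false)),
    (3695, .gen 2250 (394, true)),
    (2034, .gen 1241 (394, false)),
    (2609, .gen 1241 (394, true)),
    (1163, .gen 378 (382, false)),
    (2880, .gen 378 (393, false)),
    (2277, .gen 378 (393, true)),
    (3, .gen 3141 (382, false)),
    (382, .gen 3141 (393, false)),
    (2914, .gen 3141 (393, true)),
    (2159, .gen 2730 (382, false)),
    (260, .gen 2730 (393, false)),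
    (1521, .gen 2730 (393, true)),
    (3570, .gen 1006 (382, false)),
    (1505, .gen 1006 (393, false)),
    (1079, .gen 1006 (393, true)),
    (2412, .gen 1006 (394, false)),
    (3767, .gen 1006 (394, true)),
    (1055, .gen 1543 (394, false)),
    (1366, .gen 1543 (394, true)),
    (3492, .gen 144 (382, false)),
    (2525, .gen 144 (393, false)),
    (2414, .gen 144 (393, true)),
    (2559, .gen 144 (394, false)),
    (2113, .gen 144 (394, true)),
    (3221, .gen 735 (394, false)),
    (3343, .gen 735 (394, true)),
    (467, .gen 355 (382, false)),
    (1595, .gen 355 (393, false)),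
    (33, .gen 355 (393, true)),
    (2563, .gen 355 (394, false)),
    (369, .gen 355 (394, true)),
    (630, .gen 2465 (394, false)),
    (1015, .gen 2465 (394, true)),
    (1136, .gen 2110 (382, false)),
    (2165, .gen 2110 (393, false)),
    (2022, .gen 2110 (393, true)),
    (1120, .gen 2110 (394, false)),
    (3364, .gen 2110 (394, true)),
    (2682, .gen 2231 (394, false)),
    (1551, .gen 2231 (394, true)),
    (1204, .gen 1060 (382, false)),
    (2007, .gen 1060 (393, false)),
    (2332, .gen 1060 (393, true)),
    (3313, .gen 1060 (394, false)),
    (2973, .gen 1060 (394, true)),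
    (2702, .gen 1857 (394, false)),
    (609, .gen 1857 (394, true)),
    (1202, .gen 2202 (382, false)),
    (1753, .gen 2202 (393, false)),
    (538, .gen 2202 (393, true)),
    (1022, .gen 2202 (394, false)),
    (1316, .gen 2202 (394, true)),
    (1119, .gen 3135 (394, false)),
    (2870, .gen 3135 (394, true)),
    (1666, .gen 1982 (382, false)),
    (1991, .gen 1982 (393, false)),
    (3210, .gen 1982 (393, true)),
    (1788, .gen 1982 (394, false)),
    (2519, .gen 1982 (394, true)),
    (1645, .gen 1140 (394, false)),
    (1156, .gen 1140 (394, true)),
    (3006, .gen 528 (382, false)),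
    (13, .gen 528 (393, false)),
    (1914, .gen 528 (393, true)),
    (2, .gen 528 (394, false)),
    (1100, .gen 528 (394, true)),
    (245, .gen 3014 (394, false)),
    (1695, .gen 3014 (394, true)),
    (3109, .gen 1433 (382, false)),
    (215, .gen 1433 (393, false)),
    (1371, .gen 1433 (393, true)),
    (1019, .gen 1433 (394, false)),
    (3705, .gen 1433 (394, true)),
    (806, .gen 1717 (394, false)),
    (3336, .gen 1717 (394, true)),
    (174, .gen 3166 (382, false)),
    (1230, .gen 3166 (393, false)),
    (2046, .gen 3166 (393, true)),
    (784, .gen 3166 (394, false)),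
    (3586, .gen 3166 (394, true)),
    (2592, .gen 1151 (394, false)),
    (2680, .gen 1151 (394, true)),
    (2619, .gen 287 (382, false)),
    (1494, .gen 287 (393, false)),
    (2126, .gen 287 (393, true)),
    (292, .gen 287 (394, false)),
    (1558, .gen 287 (394, true)),
    (3662, .gen 3752 (394, false)),
    (2426, .gen 3752 (394, true)),
    (790, .gen 321 (382, false)),
    (1545, .gen 321 (393, false)),
    (477, .gen 321 (393, true)),
    (2505, .gen 321 (394, false)),
    (1150, .gen 321 (394, true)),
    (1750, .gen 3406 (394, false)),
    (1604, .gen 3406 (394, true)),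
    (3007, .gen 1407 (382, false)),
    (3532, .gen 1407 (393, false)),
    (1164, .gen 1407 (393, true)),
    (3527, .gen 1407 (394, false)),
    (2477, .gen 1407 (394, true)),
    (1085, .gen 2499 (394, false)),
    (2468, .gen 2499 (394, true)),
    (544, .gen 2260 (382, false)),
    (1529, .gen 2260 (393, false)),
    (596, .gen 2260 (393, true)),
    (3281, .gen 2260 (394, false)),
    (1413, .gen 2260 (394, true)),
    (606, .gen 1644 (394, false)),
    (1641, .gen 1644 (394, true)),
    (2687, .gen 218 (382, false)),
    (1578, .gen 218 (393, false)),
    (1111, .gen 218 (393, true)),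
    (1992, .gen 218 (394, false)),
    (2990, .gen 218 (394, true)),
    (1765, .gen 2005 (394, false)),
    (873, .gen 2005 (394, true)),
    (1596, .gen 3287 (382, false)),
    (3173, .gen 3287 (393, false)),
    (1227, .gen 3287 (393, true)),
    (2585, .gen 3287 (394, false)),
    (2586, .gen 3287 (394, true)),
    (2439, .gen 3082 (394, false)),
    (2952, .gen 3082 (394, true)),
    (2526, .gen 1625 (382, false)),
    (1718, .gen 1625 (393, false)),
    (3525, .gen 1625 (393, true)),
    (2662, .gen 1625 (394, false)),
    (504, .gen 1625 (394, true)),
    (1539, .gen 2650 (394, false)),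
    (3598, .gen 2650 (394, true)),
    (1584, .gen 3419 (382, false)),
    (3251, .gen 3419 (393, false)),
    (462, .gen 3419 (393, true)),
    (1909, .gen 3419 (394, false)),
    (527, .gen 3419 (394, true)),
    (1367, .gen 3026 (394, false)),
    (131, .gen 3026 (394, true)),
    (3269, .gen 1739 (382, false)),
    (167, .gen 1739 (393, false)),
    (2304, .gen 1739 (393, true)),
    (2446, .gen 1739 (394, false)),
    (3632, .gen 1739 (394, true)),
    (179, .gen 2902 (394, false)),
    (2893, .gen 2902 (394, true)),
    (2089, .gen 202 (382, false)),
    (1669, .gen 202 (393, false)),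
    (2018, .gen 202 (393, true)),
    (1599, .gen 202 (394, false)),
    (3263, .gen 202 (394, true)),
    (3417, .gen 744 (394, false)),
    (3084, .gen 744 (394, true)),
    (690, .gen 2012 (382, false)),
    (3230, .gen 2012 (393, false)),
    (376, .gen 2012 (393, true)),
    (1700, .gen 2012 (394, false)),
    (1795, .gen 2012 (394, true)),
    (3533, .gen 785 (394, false)),
    (2056, .gen 785 (394, true)),
    (417, .gen 264 (382, false)),
    (1467, .gen 264 (393, false)),
    (1580, .gen 264 (393, true)),
    (1801, .gen 264 (394, false)),
    (2866, .gen 264 (394, true)),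
    (3606, .gen 2649 (394, false)),
    (2550, .gen 2649 (394, true)),
    (1629, .gen 3397 (382, false)),
    (1812, .gen 3397 (393, false)),
    (449, .gen 3397 (393, true)),
    (2801, .gen 3397 (394, false)),
    (2982, .gen 3397 (394, true)),
    (2117, .gen 1980 (394, false)),
    (3326, .gen 1980 (394, true)),
    (340, .gen 2562 (382, false)),
    (2217, .gen 2562 (393, false)),
    (3199, .gen 2562 (393, true)),
    (1075, .gen 2562 (394, false)),
    (1979, .gen 2562 (394, true)),
    (3258, .gen 499 (394, false)),
    (1844, .gen 499 (394, true)),
    (1271, .gen 2214 (382, false)),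
    (232, .gen 2214 (393, false)),
    (1317, .gen 2214 (393, true)),
    (988, .gen 2214 (394, false)),
    (1532, .gen 2214 (394, true)),
    (1492, .gen 356 (394, false)),
    (178, .gen 356 (394, true)),
    (1886, .gen 186 (382, false)),
    (1738, .gen 186 (393, false)),
    (1356, .gen 186 (393, true)),
    (3562, .gen 186 (394, false)),
    (1676, .gen 186 (394, true)),
    (2675, .gen 1185 (394, false)),
    (3528, .gen 1185 (394, true)),
    (674, .gen 2054 (382, false)),
    (624, .gen 2054 (393, false)),
    (63, .gen 2054 (393, true)),
    (1793, .gen 2054 (394, false)),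
    (2335, .gen 2054 (394, true)),
    (868, .gen 464 (394, false)),
    (1218, .gen 464 (394, true)),
    (231, .gen 88 (382, false)),
    (1959, .gen 88 (393, false)),
    (1124, .gen 88 (393, true)),
    (2733, .gen 88 (394, false)),
    (1824, .gen 88 (394, true)),
    (3620, .gen 2282 (394, false)),
    (3741, .gen 2282 (394, true)),
    (3279, .gen 2558 (382, false)),
    (1208, .gen 2558 (393, false)),
    (3431, .gen 2558 (393, true)),
    (2097, .gen 2558 (394, false)),
    (3634, .gen 2558 (394, true)),
    (2368, .gen 71 (394, false)),
    (41, .gen 71 (394, true)),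
    (1985, .gen 1121 (382, false)),
    (3519, .gen 1121 (393, false)),
    (1368, .gen 1121 (393, true)),
    (2531, .gen 1121 (394, false)),
    (1382, .gen 1121 (394, true)),
    (3366, .gen 752 (394, false)),
    (2511, .gen 752 (394, true)),
    (2633, .gen 305 (382, false)),
    (2486, .gen 305 (393, false)),
    (336, .gen 305 (393, true)),
    (3646, .gen 305 (394, false)),
    (884, .gen 305 (394, true)),
    (2008, .gen 2536 (394, false)),
    (1416, .gen 2536 (394, true)),
    (157, .gen 1787 (382, false)),
    (502, .gen 1787 (393, false)),
    (2500, .gen 1787 (393, true))]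

/-- Visits. -/
def v17_9 : List (ℕ × Src) :=
  [(1259, .gen 1787 (394, false)),
    (2496, .gen 1787 (394, true)),
    (1254, .gen 1534 (394, false)),
    (2221, .gen 1534 (394, true)),
    (1504, .gen 869 (382, false)),
    (1443, .gen 869 (393, false)),
    (2286, .gen 869 (393, true)),
    (3623, .gen 869 (394, false)),
    (3045, .gen 869 (394, true)),
    (2790, .gen 3474 (394, false)),
    (831, .gen 3474 (394, true)),
    (1906, .gen 1448 (382, false)),
    (1463, .gen 1448 (393, false)),
    (2605, .gen 1448 (393, true)),
    (2924, .gen 1448 (394, false)),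
    (3548, .gen 1448 (394, true)),
    (2748, .gen 266 (394, false)),
    (1410, .gen 266 (394, true)),
    (1453, .gen 1731 (382, false)),
    (2481, .gen 1731 (393, false)),
    (3071, .gen 1731 (393, true)),
    (2318, .gen 1731 (394, false)),
    (3380, .gen 1731 (394, true)),
    (1923, .gen 2151 (394, false)),
    (1882, .gen 2151 (394, true)),
    (3232, .gen 3216 (382, false)),
    (2210, .gen 3216 (393, false)),
    (2916, .gen 3216 (393, true)),
    (748, .gen 3216 (394, false)),
    (3316, .gen 3216 (394, true)),
    (1104, .gen 329 (394, false)),
    (847, .gen 329 (394, true)),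
    (1523, .gen 1141 (382, false)),
    (820, .gen 1141 (393, false)),
    (891, .gen 1141 (393, true)),
    (1480, .gen 1141 (394, false)),
    (3031, .gen 1141 (394, true)),
    (65, .gen 2928 (394, false)),
    (2224, .gen 2928 (394, true)),
    (1493, .gen 32 (382, false)),
    (2980, .gen 32 (393, false)),
    (365, .gen 32 (393, true)),
    (2548, .gen 32 (394, false)),
    (3152, .gen 32 (394, true)),
    (1740, .gen 715 (394, false)),
    (1177, .gen 715 (394, true)),
    (1157, .gen 2762 (382, false)),
    (1234, .gen 2762 (393, false)),
    (1564, .gen 2762 (393, true)),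
    (595, .gen 2762 (394, false)),
    (1955, .gen 2762 (394, true)),
    (1819, .gen 1183 (394, false)),
    (1516, .gen 1183 (394, true)),
    (1820, .gen 3030 (382, false)),
    (691, .gen 3030 (393, false)),
    (385, .gen 3030 (393, true)),
    (3423, .gen 3030 (394, false)),
    (3749, .gen 3030 (394, true)),
    (2060, .gen 716 (394, false)),
    (2258, .gen 716 (394, true)),
    (1408, .gen 804 (382, false)),
    (1548, .gen 804 (393, false)),
    (2356, .gen 804 (393, true)),
    (2506, .gen 804 (394, false)),
    (2464, .gen 804 (394, true)),
    (3149, .gen 3331 (394, false)),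
    (2417, .gen 3331 (394, true)),
    (3264, .gen 1591 (382, false)),
    (3476, .gen 1591 (393, false)),
    (68, .gen 1591 (393, true)),
    (643, .gen 1591 (394, false)),
    (1995, .gen 1591 (394, true)),
    (2998, .gen 439 (394, false)),
    (435, .gen 439 (394, true)),
    (2175, .gen 2484 (382, false)),
    (3156, .gen 2484 (393, false)),
    (1845, .gen 2484 (393, true)),
    (945, .gen 2484 (394, false)),
    (3091, .gen 2484 (394, true)),
    (2833, .gen 1292 (394, false)),
    (3235, .gen 1292 (394, true)),
    (111, .gen 351 (382, false)),
    (543, .gen 351 (393, false)),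
    (3617, .gen 351 (393, true)),
    (1506, .gen 351 (394, false)),
    (2603, .gen 351 (394, true)),
    (2984, .gen 1855 (394, false)),
    (212, .gen 1855 (394, true)),
    (2346, .gen 407 (382, false)),
    (395, .gen 407 (393, false)),
    (2330, .gen 407 (393, true)),
    (441, .gen 407 (394, false)),
    (200, .gen 407 (394, true)),
    (3386, .gen 3583 (394, false)),
    (3375, .gen 3583 (394, true)),
    (23, .gen 1007 (382, false)),
    (150, .gen 1007 (393, false)),
    (2278, .gen 1007 (393, true)),
    (59, .gen 1007 (394, false)),
    (427, .gen 1007 (394, true)),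
    (392, .gen 3297 (394, false)),
    (1424, .gen 3297 (394, true)),
    (1464, .gen 2293 (382, false)),
    (123, .gen 2293 (393, false)),
    (1863, .gen 2293 (393, true)),
    (3261, .gen 2293 (394, false)),
    (1968, .gen 2293 (394, true)),
    (242, .gen 3162 (394, false)),
    (3322, .gen 3162 (394, true)),
    (594, .gen 1600 (382, false)),
    (3153, .gen 1600 (393, false)),
    (3763, .gen 1600 (393, true)),
    (438, .gen 1600 (394, false)),
    (2565, .gen 1600 (394, true)),
    (2403, .gen 1175 (394, false)),
    (2591, .gen 1175 (394, true)),
    (1905, .gen 1587 (382, false)),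
    (2413, .gen 1587 (393, false)),
    (1965, .gen 1587 (393, true)),
    (2927, .gen 1587 (394, false)),
    (463, .gen 1587 (394, true)),
    (845, .gen 77 (394, false)),
    (780, .gen 77 (394, true)),
    (3250, .gen 2488 (382, false)),
    (2904, .gen 2488 (393, false)),
    (197, .gen 2488 (393, true)),
    (3473, .gen 2488 (394, false)),
    (2726, .gen 2488 (394, true)),
    (1102, .gen 109 (394, false)),
    (2817, .gen 109 (394, true)),
    (963, .gen 1246 (382, false)),
    (1145, .gen 1246 (393, false)),
    (935, .gen 1246 (393, true)),
    (1285, .gen 1246 (394, false)),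
    (1660, .gen 1246 (394, true)),
    (2921, .gen 834 (394, false)),
    (3720, .gen 834 (394, true)),
    (2599, .gen 2079 (382, false)),
    (1966, .gen 2079 (393, false)),
    (1023, .gen 2079 (393, true)),
    (2437, .gen 2079 (394, false)),
    (1646, .gen 2079 (394, true)),
    (308, .gen 1435 (394, false)),
    (17, .gen 1435 (394, true)),
    (3387, .gen 1881 (382, false)),
    (2497, .gen 1881 (393, false)),
    (3766, .gen 1881 (393, true)),
    (1533, .gen 1881 (394, false)),
    (2869, .gen 1881 (394, true)),
    (3208, .gen 1518 (394, false)),
    (1833, .gen 1518 (394, true)),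
    (3542, .gen 1503 (382, false)),
    (3349, .gen 1503 (393, false)),
    (2305, .gen 1503 (393, true)),
    (2757, .gen 1503 (394, false)),
    (110, .gen 1503 (394, true)),
    (1228, .gen 1755 (394, false)),
    (2868, .gen 1755 (394, true)),
    (843, .gen 1935 (382, false)),
    (219, .gen 1935 (393, false)),
    (1426, .gen 1935 (393, true)),
    (1853, .gen 1935 (394, false)),
    (3374, .gen 1935 (394, true)),
    (2727, .gen 1321 (394, false)),
    (511, .gen 1321 (394, true)),
    (937, .gen 172 (382, false)),
    (2197, .gen 172 (393, false)),
    (2890, .gen 172 (393, true)),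
    (3622, .gen 172 (394, false)),
    (3566, .gen 172 (394, true)),
    (545, .gen 2291 (394, false)),
    (3717, .gen 2291 (394, true)),
    (3679, .gen 2805 (382, false)),
    (3234, .gen 2805 (393, false)),
    (516, .gen 2805 (393, true)),
    (1921, .gen 2805 (394, false)),
    (1772, .gen 2805 (394, true)),
    (3217, .gen 1550 (394, false)),
    (686, .gen 1550 (394, true)),
    (1549, .gen 3456 (382, false)),
    (3412, .gen 3456 (393, false)),
    (3445, .gen 3456 (393, true)),
    (2630, .gen 3456 (394, false)),
    (2235, .gen 3456 (394, true)),
    (3565, .gen 1117 (394, false)),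
    (2768, .gen 1117 (394, true)),
    (1217, .gen 2975 (382, false)),
    (874, .gen 2975 (393, false)),
    (2055, .gen 2975 (393, true)),
    (2434, .gen 2975 (394, false)),
    (1269, .gen 2975 (394, true)),
    (43, .gen 3637 (394, false)),
    (1059, .gen 3637 (394, true)),
    (224, .gen 3661 (382, false)),
    (1226, .gen 3661 (393, false)),
    (2002, .gen 3661 (393, true)),
    (578, .gen 3661 (394, false)),
    (37, .gen 3661 (394, true)),
    (1840, .gen 1594 (394, false)),
    (2316, .gen 1594 (394, true)),
    (2160, .gen 3059 (382, false)),
    (3491, .gen 3059 (393, false)),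
    (3410, .gen 3059 (393, true)),
    (2664, .gen 3059 (394, false)),
    (2830, .gen 3059 (394, true)),
    (3768, .gen 1127 (394, false)),
    (556, .gen 1127 (394, true)),
    (565, .gen 1500 (382, false)),
    (2397, .gen 1500 (393, false)),
    (3685, .gen 1500 (393, true)),
    (2937, .gen 1500 (394, false)),
    (987, .gen 1500 (394, true)),
    (2551, .gen 3540 (394, false)),
    (2469, .gen 3540 (394, true)),
    (303, .gen 3776 (382, false)),
    (3707, .gen 3776 (393, false)),
    (1779, .gen 3776 (393, true)),
    (750, .gen 3776 (394, false)),
    (844, .gen 3776 (394, true)),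
    (3130, .gen 294 (394, false)),
    (3390, .gen 294 (394, true)),
    (3665, .gen 863 (382, false)),
    (981, .gen 863 (393, false)),
    (2430, .gen 863 (393, true)),
    (3573, .gen 863 (394, false)),
    (1707, .gen 863 (394, true)),
    (3594, .gen 82 (394, false)),
    (2597, .gen 82 (394, true)),
    (3755, .gen 316 (382, false)),
    (1451, .gen 316 (393, false)),
    (276, .gen 316 (393, true)),
    (2246, .gen 316 (394, false)),
    (585, .gen 316 (394, true)),
    (952, .gen 290 (394, false)),
    (879, .gen 290 (394, true)),
    (1095, .gen 2195 (382, false)),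
    (795, .gen 2195 (393, false)),
    (2738, .gen 2195 (393, true)),
    (1280, .gen 2195 (394, false)),
    (473, .gen 2195 (394, true)),
    (1536, .gen 1677 (394, false)),
    (2685, .gen 1677 (394, true)),
    (3561, .gen 3729 (382, false)),
    (2441, .gen 3729 (393, false)),
    (2647, .gen 3729 (393, true)),
    (2784, .gen 3729 (394, false)),
    (1745, .gen 3729 (394, true)),
    (2819, .gen 745 (394, false)),
    (1377, .gen 745 (394, true)),
    (738, .gen 3450 (382, false)),
    (1232, .gen 3450 (393, false)),
    (2961, .gen 3450 (393, true)),
    (1665, .gen 3450 (394, false)),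
    (626, .gen 3450 (394, true)),
    (1067, .gen 1562 (394, false)),
    (1970, .gen 1562 (394, true)),
    (1761, .gen 1904 (382, false)),
    (2755, .gen 1904 (393, false)),
    (1867, .gen 1904 (393, true)),
    (3168, .gen 1904 (394, false)),
    (1198, .gen 1904 (394, true)),
    (2376, .gen 384 (394, false)),
    (194, .gen 384 (394, true)),
    (2067, .gen 911 (382, false)),
    (899, .gen 911 (393, false)),
    (81, .gen 911 (393, true)),
    (3403, .gen 911 (394, false)),
    (429, .gen 911 (394, true)),
    (2100, .gen 159 (394, false)),
    (723, .gen 159 (394, true)),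
    (414, .gen 1181 (382, false)),
    (2920, .gen 1181 (393, false)),
    (1310, .gen 1181 (393, true)),
    (190, .gen 1181 (394, false)),
    (221, .gen 1181 (394, true)),
    (3354, .gen 777 (394, false)),
    (1814, .gen 777 (394, true)),
    (273, .gen 694 (382, false)),
    (1122, .gen 694 (393, false)),
    (58, .gen 694 (393, true)),
    (1014, .gen 694 (394, false)),
    (22, .gen 694 (394, true)),
    (629, .gen 2644 (394, false)),
    (149, .gen 2644 (394, true)),
    (2759, .gen 213 (382, false)),
    (1428, .gen 213 (393, false)),
    (344, .gen 213 (393, true)),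
    (1817, .gen 213 (394, false)),
    (1942, .gen 213 (394, true)),
    (2405, .gen 1466 (394, false)),
    (625, .gen 1466 (394, true)),
    (1498, .gen 953 (382, false)),
    (3584, .gen 953 (393, false)),
    (3693, .gen 953 (393, true)),
    (2950, .gen 953 (394, false)),
    (495, .gen 953 (394, true)),
    (2697, .gen 2297 (394, false)),
    (943, .gen 2297 (394, true)),
    (3003, .gen 1651 (382, false)),
    (14, .gen 1651 (393, false))]

/-- Visits. -/
def v17_10 : List (ℕ × Src) :=
  [(1286, .gen 1651 (393, true)),
    (42, .gen 1651 (394, false)),
    (2678, .gen 1651 (394, true)),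
    (1926, .gen 614 (394, false)),
    (3444, .gen 614 (394, true)),
    (3291, .gen 457 (382, false)),
    (3664, .gen 457 (393, false)),
    (1825, .gen 457 (393, true)),
    (405, .gen 457 (394, false)),
    (143, .gen 457 (394, true)),
    (2777, .gen 3732 (394, false)),
    (2628, .gen 3732 (394, true)),
    (2105, .gen 2624 (382, false)),
    (3041, .gen 2624 (393, false)),
    (3654, .gen 2624 (393, true)),
    (755, .gen 2624 (394, false)),
    (50, .gen 2624 (394, true)),
    (2083, .gen 2965 (394, false)),
    (3503, .gen 2965 (394, true)),
    (789, .gen 627 (382, false)),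
    (2383, .gen 627 (393, false)),
    (753, .gen 627 (393, true)),
    (1714, .gen 627 (394, false)),
    (3590, .gen 627 (394, true)),
    (3128, .gen 1328 (394, false)),
    (1657, .gen 1328 (394, true)),
    (3478, .gen 2544 (382, false)),
    (1346, .gen 2544 (393, false)),
    (258, .gen 2544 (393, true)),
    (241, .gen 2544 (394, false)),
    (797, .gen 2544 (394, true)),
    (3178, .gen 3414 (394, false)),
    (1309, .gen 3414 (394, true)),
    (827, .gen 1027 (382, false)),
    (469, .gen 1027 (393, false)),
    (371, .gen 1027 (393, true)),
    (3669, .gen 1027 (394, false)),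
    (456, .gen 1027 (394, true)),
    (21, .gen 1300 (394, false)),
    (1402, .gen 1300 (394, true)),
    (3268, .gen 802 (382, false)),
    (1684, .gen 802 (393, false)),
    (837, .gen 802 (393, true)),
    (3778, .gen 802 (394, false)),
    (3551, .gen 802 (394, true)),
    (28, .gen 115 (394, false)),
    (653, .gen 115 (394, true)),
    (2838, .gen 3360 (382, false)),
    (1322, .gen 3360 (393, false)),
    (822, .gen 3360 (393, true)),
    (2082, .gen 3360 (394, false)),
    (2895, .gen 3360 (394, true)),
    (2569, .gen 1964 (394, false)),
    (1759, .gen 1964 (394, true)),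
    (3378, .gen 1239 (382, false)),
    (1981, .gen 1239 (393, false)),
    (2283, .gen 1239 (393, true)),
    (3079, .gen 1239 (394, false)),
    (453, .gen 1239 (394, true)),
    (2393, .gen 3231 (394, false)),
    (3345, .gen 3231 (394, true)),
    (3781, .gen 3056 (382, false)),
    (3330, .gen 3056 (393, false)),
    (3289, .gen 3056 (393, true)),
    (3613, .gen 3056 (394, false)),
    (2922, .gen 3056 (394, true)),
    (3506, .gen 1389 (394, false)),
    (1468, .gen 1389 (394, true)),
    (2931, .gen 2942 (382, false)),
    (1196, .gen 2942 (393, false)),
    (2364, .gen 2942 (393, true)),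
    (3689, .gen 2942 (394, false)),
    (3485, .gen 2942 (394, true)),
    (2930, .gen 3245 (394, false)),
    (381, .gen 3245 (394, true)),
    (1417, .gen 35 (382, false)),
    (3241, .gen 35 (393, false)),
    (2191, .gen 35 (393, true)),
    (2234, .gen 35 (394, false)),
    (1630, .gen 35 (394, true)),
    (1656, .gen 366 (394, false)),
    (2365, .gen 366 (394, true)),
    (1686, .gen 3557 (382, false)),
    (3191, .gen 3557 (393, false)),
    (2449, .gen 3557 (393, true)),
    (2273, .gen 3557 (394, false)),
    (120, .gen 3557 (394, true)),
    (2451, .gen 1092 (394, false)),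
    (1744, .gen 1092 (394, true)),
    (796, .gen 1781 (382, false)),
    (2309, .gen 1781 (393, false)),
    (3790, .gen 1781 (393, true)),
    (3595, .gen 1781 (394, false)),
    (982, .gen 1781 (394, true)),
    (3167, .gen 1311 (394, false)),
    (482, .gen 1311 (394, true)),
    (1743, .gen 2339 (382, false)),
    (1948, .gen 2339 (393, false)),
    (302, .gen 2339 (393, true)),
    (2207, .gen 2339 (394, false)),
    (637, .gen 2339 (394, true)),
    (2601, .gen 343 (394, false)),
    (2944, .gen 343 (394, true)),
    (1585, .gen 3355 (382, false)),
    (975, .gen 3355 (393, false)),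
    (3385, .gen 3355 (393, true)),
    (3411, .gen 3355 (394, false)),
    (2527, .gen 3355 (394, true)),
    (2238, .gen 1993 (394, false)),
    (1940, .gen 1993 (394, true)),
    (3309, .gen 2795 (382, false)),
    (3317, .gen 2795 (393, false)),
    (30, .gen 2795 (393, true)),
    (3342, .gen 2795 (394, false)),
    (575, .gen 2795 (394, true)),
    (703, .gen 2502 (394, false)),
    (2583, .gen 2502 (394, true)),
    (3754, .gen 1673 (382, false)),
    (3270, .gen 1673 (393, false)),
    (3093, .gen 1673 (393, true)),
    (668, .gen 1673 (394, false)),
    (2400, .gen 1673 (394, true)),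
    (3434, .gen 1329 (394, false)),
    (855, .gen 1329 (394, true)),
    (3520, .gen 1583 (382, false)),
    (1999, .gen 1583 (393, false)),
    (1609, .gen 1583 (393, true)),
    (1816, .gen 1583 (394, false)),
    (1623, .gen 1583 (394, true)),
    (2032, .gen 3272 (394, false)),
    (2858, .gen 3272 (394, true)),
    (3304, .gen 3286 (382, false)),
    (1873, .gen 3286 (393, false)),
    (2421, .gen 3286 (393, true)),
    (3201, .gen 3286 (394, false)),
    (2203, .gen 3286 (394, true)),
    (2177, .gen 2860 (394, false)),
    (3647, .gen 2860 (394, true)),
    (1900, .gen 682 (382, false)),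
    (252, .gen 682 (393, false)),
    (3471, .gen 682 (393, true)),
    (1432, .gen 682 (394, false)),
    (1481, .gen 682 (394, true)),
    (742, .gen 2631 (394, false)),
    (1777, .gen 2631 (394, true)),
    (1491, .gen 1913 (382, false)),
    (3300, .gen 1913 (393, false)),
    (2039, .gen 1913 (393, true)),
    (976, .gen 1913 (394, false)),
    (933, .gen 1913 (394, true)),
    (1278, .gen 1577 (394, false)),
    (2703, .gen 1577 (394, true)),
    (2450, .gen 3605 (382, false)),
    (2340, .gen 3605 (393, false)),
    (125, .gen 3605 (393, true)),
    (1291, .gen 3605 (394, false)),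
    (1096, .gen 3605 (394, true)),
    (327, .gen 2520 (394, false)),
    (2455, .gen 2520 (394, true)),
    (2907, .gen 1332 (382, false)),
    (3650, .gen 1332 (393, false)),
    (1858, .gen 1332 (393, true)),
    (2994, .gen 1332 (394, false)),
    (1038, .gen 1332 (394, true)),
    (3223, .gen 552 (394, false)),
    (2498, .gen 552 (394, true)),
    (1287, .gen 1275 (382, false)),
    (1699, .gen 1275 (393, false)),
    (1399, .gen 1275 (393, true)),
    (980, .gen 1275 (394, false)),
    (722, .gen 1275 (394, true)),
    (3195, .gen 1544 (394, false)),
    (1975, .gen 1544 (394, true)),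
    (620, .gen 3337 (382, false)),
    (3308, .gen 3337 (393, false)),
    (1077, .gen 3337 (393, true)),
    (1103, .gen 3337 (394, false)),
    (207, .gen 3337 (394, true)),
    (2021, .gen 2080 (394, false)),
    (338, .gen 2080 (394, true)),
    (3064, .gen 2725 (382, false)),
    (2898, .gen 2725 (393, false)),
    (3517, .gen 2725 (393, true)),
    (1628, .gen 2725 (394, false)),
    (1675, .gen 2725 (394, true)),
    (2799, .gen 2871 (394, false)),
    (1747, .gen 2871 (394, true)),
    (956, .gen 2622 (382, false)),
    (1887, .gen 2622 (393, false)),
    (3353, .gen 2622 (393, true)),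
    (821, .gen 2622 (394, false)),
    (3522, .gen 2622 (394, true)),
    (2170, .gen 1631 (394, false)),
    (3596, .gen 1631 (394, true)),
    (3480, .gen 425 (382, false)),
    (3529, .gen 425 (393, false)),
    (3335, .gen 425 (393, true)),
    (124, .gen 425 (394, false)),
    (529, .gen 425 (394, true)),
    (1773, .gen 2891 (394, false)),
    (2745, .gen 2891 (394, true)),
    (3404, .gen 1944 (382, false)),
    (2716, .gen 1944 (393, false)),
    (2845, .gen 1944 (393, true)),
    (2237, .gen 1944 (394, false)),
    (1071, .gen 1944 (394, true)),
    (766, .gen 3402 (394, false)),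
    (2741, .gen 3402 (394, true)),
    (1176, .gen 1459 (382, false)),
    (375, .gen 1459 (393, false)),
    (3346, .gen 1459 (393, true)),
    (522, .gen 1459 (394, false)),
    (3511, .gen 1459 (394, true)),
    (2341, .gen 466 (394, false)),
    (1785, .gen 466 (394, true)),
    (474, .gen 1570 (382, false)),
    (542, .gen 1570 (393, false)),
    (2829, .gen 1570 (393, true)),
    (655, .gen 1570 (394, false)),
    (2140, .gen 1570 (394, true)),
    (1937, .gen 2684 (394, false)),
    (3028, .gen 2684 (394, true)),
    (3327, .gen 3052 (382, false)),
    (2612, .gen 3052 (393, false)),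
    (2776, .gen 3052 (393, true)),
    (1835, .gen 3052 (394, false)),
    (3663, .gen 3052 (394, true)),
    (3626, .gen 225 (394, false)),
    (1895, .gen 225 (394, true)),
    (3315, .gen 1169 (382, false)),
    (2230, .gen 1169 (393, false)),
    (1912, .gen 1169 (393, true)),
    (1423, .gen 1169 (394, false)),
    (819, .gen 1169 (394, true)),
    (2859, .gen 2149 (394, false)),
    (1390, .gen 2149 (394, true)),
    (2052, .gen 1778 (382, false)),
    (2910, .gen 1778 (393, false)),
    (1880, .gen 1778 (393, true)),
    (1934, .gen 1778 (394, false)),
    (513, .gen 1778 (394, true)),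
    (1640, .gen 3715 (394, false)),
    (3627, .gen 3715 (394, true)),
    (2041, .gen 139 (382, false)),
    (2909, .gen 139 (393, false)),
    (3686, .gen 139 (393, true)),
    (966, .gen 139 (394, false)),
    (3288, .gen 139 (394, true)),
    (2812, .gen 1727 (394, false)),
    (2971, .gen 1727 (394, true)),
    (1446, .gen 648 (382, false)),
    (2102, .gen 648 (393, false)),
    (1123, .gen 648 (393, true)),
    (3314, .gen 648 (394, false)),
    (1729, .gen 648 (394, true)),
    (2269, .gen 893 (394, false)),
    (2247, .gen 893 (394, true)),
    (461, .gen 2637 (382, false)),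
    (1158, .gen 2637 (393, false)),
    (941, .gen 2637 (393, true)),
    (508, .gen 2637 (394, false)),
    (1043, .gen 2637 (394, true)),
    (2166, .gen 2115 (394, false)),
    (2182, .gen 2115 (394, true)),
    (223, .gen 519 (382, false)),
    (3182, .gen 519 (393, false)),
    (2822, .gen 519 (393, true)),
    (348, .gen 519 (394, false)),
    (3652, .gen 519 (394, true)),
    (2489, .gen 1618 (394, false)),
    (2219, .gen 1618 (394, true)),
    (2948, .gen 767 (382, false)),
    (724, .gen 767 (393, false)),
    (2290, .gen 767 (393, true)),
    (1385, .gen 767 (394, false)),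
    (2832, .gen 767 (394, true)),
    (3219, .gen 415 (394, false)),
    (1510, .gen 415 (394, true)),
    (3215, .gen 1188 (382, false)),
    (1638, .gen 1188 (393, false)),
    (3747, .gen 1188 (393, true)),
    (1704, .gen 1188 (394, false)),
    (2295, .gen 1188 (394, true)),
    (1789, .gen 2954 (394, false)),
    (706, .gen 2954 (394, true)),
    (602, .gen 2185 (382, false)),
    (2654, .gen 2185 (393, false)),
    (1179, .gen 2185 (393, true)),
    (2442, .gen 2185 (394, false)),
    (1263, .gen 2185 (394, true)),
    (2068, .gen 2852 (394, false)),
    (1922, .gen 2852 (394, true)),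
    (314, .gen 2929 (382, false)),
    (1864, .gen 2929 (393, false)),
    (558, .gen 2929 (393, true)),
    (2557, .gen 2929 (394, false)),
    (3145, .gen 2929 (394, true)),
    (1182, .gen 1056 (394, false)),
    (2793, .gen 1056 (394, true)),
    (2539, .gen 1735 (382, false))]

/-- Visits. -/
def v17_11 : List (ℕ × Src) :=
  [(2387, .gen 1735 (393, false)),
    (2179, .gen 1735 (393, true)),
    (270, .gen 1735 (394, false)),
    (2475, .gen 1735 (394, true)),
    (3189, .gen 1866 (394, false)),
    (2298, .gen 1866 (394, true)),
    (1240, .gen 1357 (382, false)),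
    (2749, .gen 1357 (393, false)),
    (570, .gen 1357 (393, true)),
    (986, .gen 1357 (394, false)),
    (773, .gen 1357 (394, true)),
    (1324, .gen 3567 (394, false)),
    (517, .gen 3567 (394, true)),
    (268, .gen 1927 (382, false)),
    (2406, .gen 1927 (393, false)),
    (816, .gen 1927 (393, true)),
    (3724, .gen 1927 (394, false)),
    (1502, .gen 1927 (394, true)),
    (503, .gen 2394 (394, false)),
    (510, .gen 2394 (394, true)),
    (2123, .gen 1097 (382, false)),
    (2350, .gen 1097 (393, false)),
    (2915, .gen 1097 (393, true)),
    (1223, .gen 1097 (394, false)),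
    (1617, .gen 1097 (394, true)),
    (2459, .gen 1540 (394, false)),
    (1210, .gen 1540 (394, true)),
    (1063, .gen 2327 (382, false)),
    (3044, .gen 2327 (393, false)),
    (1452, .gen 2327 (393, true)),
    (1485, .gen 2327 (394, false)),
    (2620, .gen 2327 (394, true)),
    (2905, .gen 2897 (394, false)),
    (281, .gen 2897 (394, true)),
    (3100, .gen 2078 (382, false)),
    (2883, .gen 2078 (393, false)),
    (619, .gen 2078 (393, true)),
    (3426, .gen 2078 (394, false)),
    (1403, .gen 2078 (394, true)),
    (3174, .gen 1535 (394, false)),
    (2472, .gen 1535 (394, true)),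
    (3459, .gen 483 (382, false)),
    (3054, .gen 483 (393, false)),
    (2691, .gen 483 (393, true)),
    (950, .gen 483 (394, false)),
    (725, .gen 483 (394, true)),
    (3023, .gen 1884 (394, false)),
    (2482, .gen 1884 (394, true)),
    (3159, .gen 1313 (382, false)),
    (798, .gen 1313 (393, false)),
    (1339, .gen 1313 (393, true)),
    (363, .gen 1313 (394, false)),
    (1086, .gen 1313 (394, true)),
    (3356, .gen 2347 (394, false)),
    (1398, .gen 2347 (394, true)),
    (2114, .gen 875 (382, false)),
    (3687, .gen 875 (393, false)),
    (2307, .gen 875 (393, true)),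
    (1260, .gen 875 (394, false)),
    (3207, .gen 875 (394, true)),
    (6, .gen 2713 (394, false)),
    (1943, .gen 2713 (394, true)),
    (2705, .gen 3203 (382, false)),
    (917, .gen 3203 (393, false)),
    (1530, .gen 3203 (393, true)),
    (3352, .gen 3203 (394, false)),
    (1652, .gen 3203 (394, true)),
    (300, .gen 2116 (394, false)),
    (2025, .gen 2116 (394, true)),
    (2968, .gen 3190 (382, false)),
    (1474, .gen 3190 (393, false)),
    (3497, .gen 3190 (393, true)),
    (2885, .gen 3190 (394, false)),
    (1597, .gen 3190 (394, true)),
    (57, .gen 3155 (394, false)),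
    (3714, .gen 3155 (394, true)),
    (2956, .gen 2324 (382, false)),
    (1797, .gen 2324 (393, false)),
    (915, .gen 2324 (393, true)),
    (3236, .gen 2324 (394, false)),
    (676, .gen 2324 (394, true)),
    (1174, .gen 2407 (394, false)),
    (1517, .gen 2407 (394, true)),
    (996, .gen 867 (382, false)),
    (2183, .gen 867 (393, false)),
    (220, .gen 867 (393, true)),
    (1074, .gen 867 (394, false)),
    (2900, .gen 867 (394, true)),
    (105, .gen 2774 (394, false)),
    (540, .gen 2774 (394, true)),
    (1139, .gen 126 (382, false)),
    (2144, .gen 126 (393, false)),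
    (1830, .gen 126 (393, true)),
    (370, .gen 126 (394, false)),
    (2248, .gen 126 (394, true)),
    (1650, .gen 2974 (394, false)),
    (3631, .gen 2974 (394, true)),
    (3723, .gen 1129 (394, false)),
    (760, .gen 1129 (394, true)),
    (3659, .gen 3736 (394, false)),
    (148, .gen 3736 (394, true)),
    (1850, .gen 3154 (394, false)),
    (2098, .gen 3154 (394, true)),
    (894, .gen 3691 (394, false)),
    (2480, .gen 3691 (394, true)),
    (852, .gen 926 (394, false)),
    (1632, .gen 926 (394, true)),
    (2670, .gen 3048 (394, false)),
    (3103, .gen 3048 (394, true)),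
    (3716, .gen 1206 (394, false)),
    (2571, .gen 1206 (394, true)),
    (2352, .gen 2623 (394, false)),
    (2746, .gen 2623 (394, true)),
    (3284, .gen 889 (394, false)),
    (1257, .gen 889 (394, true)),
    (1790, .gen 169 (394, false)),
    (918, .gen 169 (394, true)),
    (3668, .gen 2575 (394, false)),
    (2504, .gen 2575 (394, true)),
    (801, .gen 1434 (394, false)),
    (2329, .gen 1434 (394, true)),
    (1749, .gen 2802 (394, false)),
    (1427, .gen 2802 (394, true)),
    (3421, .gen 289 (394, false)),
    (1026, .gen 289 (394, true)),
    (693, .gen 2655 (394, false)),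
    (2717, .gen 2655 (394, true)),
    (2714, .gen 2568 (394, false)),
    (922, .gen 2568 (394, true)),
    (2625, .gen 2991 (394, false)),
    (445, .gen 2991 (394, true)),
    (176, .gen 2216 (394, false)),
    (2261, .gen 2216 (394, true)),
    (2576, .gen 440 (394, false)),
    (1360, .gen 440 (394, true)),
    (2440, .gen 2289 (394, false)),
    (605, .gen 2289 (394, true)),
    (896, .gen 330 (394, false)),
    (1099, .gen 330 (394, true)),
    (903, .gen 3363 (394, false)),
    (2547, .gen 3363 (394, true)),
    (1216, .gen 3787 (394, false)),
    (2121, .gen 3787 (394, true)),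
    (2285, .gen 1671 (394, false)),
    (437, .gen 1671 (394, true)),
    (2422, .gen 3495 (394, false)),
    (3760, .gen 3495 (394, true)),
    (1998, .gen 775 (394, false)),
    (1005, .gen 775 (394, true)),
    (488, .gen 3428 (394, false)),
    (2463, .gen 3428 (394, true)),
    (117, .gen 2912 (394, false)),
    (1437, .gen 2912 (394, true)),
    (3706, .gen 557 (394, false)),
    (860, .gen 557 (394, true)),
    (758, .gen 1315 (394, false)),
    (2881, .gen 1315 (394, true)),
    (418, .gen 2579 (394, false)),
    (1566, .gen 2579 (394, true)),
    (829, .gen 534 (394, false)),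
    (3559, .gen 534 (394, true)),
    (1247, .gen 3370 (394, false)),
    (1681, .gen 3370 (394, true)),
    (3225, .gen 3728 (394, false)),
    (3416, .gen 3728 (394, true)),
    (1447, .gen 1193 (394, false)),
    (3759, .gen 1193 (394, true)),
    (746, .gen 1659 (394, false)),
    (1180, .gen 1659 (394, true)),
    (1370, .gen 1003 (394, false)),
    (1687, .gen 1003 (394, true)),
    (3764, .gen 2014 (394, false)),
    (1153, .gen 2014 (394, true)),
    (2711, .gen 2514 (394, false)),
    (1270, .gen 2514 (394, true)),
    (274, .gen 1602 (394, false)),
    (680, .gen 1602 (394, true)),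
    (400, .gen 2752 (394, false)),
    (823, .gen 2752 (394, true)),
    (3393, .gen 702 (394, false)),
    (76, .gen 702 (394, true)),
    (2701, .gen 444 (394, false)),
    (1610, .gen 444 (394, true)),
    (1963, .gen 794 (394, false)),
    (1531, .gen 794 (394, true)),
    (2375, .gen 2122 (394, false)),
    (971, .gen 2122 (394, true)),
    (1143, .gen 2721 (394, false)),
    (1025, .gen 2721 (394, true)),
    (1072, .gen 1949 (394, false)),
    (1946, .gen 1949 (394, true)),
    (678, .gen 719 (394, false)),
    (2345, .gen 719 (394, true)),
    (452, .gen 3530 (394, false)),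
    (1048, .gen 3530 (394, true)),
    (3357, .gen 3008 (394, false)),
    (1663, .gen 3008 (394, true)),
    (1397, .gen 718 (394, false)),
    (531, .gen 718 (394, true)),
    (203, .gen 319 (394, false)),
    (856, .gen 319 (394, true)),
    (146, .gen 128 (394, false)),
    (2389, .gen 128 (394, true)),
    (721, .gen 1573 (394, false)),
    (1041, .gen 1573 (394, true)),
    (1593, .gen 100 (394, false)),
    (1029, .gen 100 (394, true)),
    (2688, .gen 1697 (394, false)),
    (2444, .gen 1697 (394, true)),
    (3788, .gen 489 (394, false)),
    (1703, .gen 489 (394, true)),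
    (283, .gen 280 (394, false)),
    (2476, .gen 280 (394, true)),
    (708, .gen 3432 (394, false)),
    (2626, .gen 3432 (394, true)),
    (562, .gen 2333 (394, false)),
    (406, .gen 2333 (394, true)),
    (2901, .gen 3702 (394, false)),
    (3550, .gen 3702 (394, true)),
    (2988, .gen 1541 (394, false)),
    (914, .gen 1541 (394, true)),
    (939, .gen 512 (394, false)),
    (695, .gen 512 (394, true)),
    (397, .gen 3711 (394, false)),
    (1112, .gen 3711 (394, true)),
    (3089, .gen 2610 (394, false)),
    (3123, .gen 2610 (394, true)),
    (1251, .gen 2428 (394, false)),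
    (1189, .gen 2428 (394, true)),
    (1969, .gen 640 (394, false)),
    (1499, .gen 640 (394, true)),
    (2648, .gen 701 (394, false)),
    (2355, .gen 701 (394, true)),
    (189, .gen 1505 (394, false)),
    (62, .gen 1505 (394, true)),
    (936, .gen 2525 (394, false)),
    (79, .gen 2525 (394, true)),
    (1422, .gen 1595 (394, false)),
    (1220, .gen 1595 (394, true)),
    (1053, .gen 2165 (394, false)),
    (253, .gen 2165 (394, true)),
    (3564, .gen 2007 (394, false)),
    (1634, .gen 2007 (394, true)),
    (2750, .gen 1753 (394, false)),
    (1083, .gen 1753 (394, true)),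
    (2081, .gen 1991 (394, false)),
    (26, .gen 1991 (394, true)),
    (3351, .gen 13 (394, false)),
    (2872, .gen 13 (394, true)),
    (539, .gen 215 (394, false)),
    (2823, .gen 215 (394, true)),
    (254, .gen 1230 (394, false)),
    (2522, .gen 1230 (394, true)),
    (3338, .gen 1494 (394, false)),
    (1045, .gen 1494 (394, true)),
    (1441, .gen 1545 (394, false)),
    (2946, .gen 1545 (394, true)),
    (593, .gen 3532 (394, false)),
    (644, .gen 3532 (394, true)),
    (500, .gen 1529 (394, false)),
    (727, .gen 1529 (394, true)),
    (391, .gen 1578 (394, false)),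
    (1554, .gen 1578 (394, true)),
    (1538, .gen 3173 (394, false)),
    (3158, .gen 3173 (394, true)),
    (2101, .gen 1718 (394, false)),
    (1090, .gen 1718 (394, true)),
    (2709, .gen 3251 (394, false)),
    (3793, .gen 3251 (394, true)),
    (1021, .gen 167 (394, false)),
    (3405, .gen 167 (394, true)),
    (1607, .gen 1669 (394, false)),
    (2162, .gen 1669 (394, true)),
    (704, .gen 3230 (394, false)),
    (475, .gen 3230 (394, true)),
    (2641, .gen 1467 (394, false)),
    (214, .gen 1467 (394, true)),
    (3544, .gen 1812 (394, false)),
    (3735, .gen 1812 (394, true)),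
    (3051, .gen 2217 (394, false)),
    (1238, .gen 2217 (394, true)),
    (1412, .gen 232 (394, false)),
    (165, .gen 232 (394, true)),
    (3299, .gen 1738 (394, false)),
    (2932, .gen 1738 (394, true)),
    (1546, .gen 624 (394, false)),
    (590, .gen 624 (394, true)),
    (3777, .gen 1959 (394, false)),
    (3344, .gen 1959 (394, true)),
    (3748, .gen 1208 (394, false)),
    (1836, .gen 1208 (394, true)),
    (3460, .gen 3519 (394, false)),
    (434, .gen 3519 (394, true)),
    (3148, .gen 2486 (394, false)),
    (2546, .gen 2486 (394, true)),
    (1456, .gen 502 (394, false)),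
    (1349, .gen 502 (394, true)),
    (3660, .gen 1443 (394, false)),
    (3464, .gen 1443 (394, true)),
    (2242, .gen 1463 (394, false))]

/-- Visits. -/
def v17_12 : List (ℕ × Src) :=
  [(372, .gen 1463 (394, true)),
    (2398, .gen 2481 (394, false)),
    (337, .gen 2481 (394, true)),
    (293, .gen 2210 (394, false)),
    (2941, .gen 2210 (394, true)),
    (3271, .gen 820 (394, false)),
    (2069, .gen 820 (394, true)),
    (2787, .gen 2980 (394, false)),
    (168, .gen 2980 (394, true)),
    (2607, .gen 1234 (394, false)),
    (660, .gen 1234 (394, true)),
    (2037, .gen 691 (394, false)),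
    (1165, .gen 691 (394, true)),
    (2786, .gen 1548 (394, false)),
    (2987, .gen 1548 (394, true)),
    (1832, .gen 3476 (394, false)),
    (826, .gen 3476 (394, true)),
    (2303, .gen 3156 (394, false)),
    (2666, .gen 3156 (394, true)),
    (3368, .gen 543 (394, false)),
    (2027, .gen 543 (394, true)),
    (2606, .gen 395 (394, false)),
    (646, .gen 395 (394, true)),
    (2865, .gen 150 (394, false)),
    (3576, .gen 150 (394, true)),
    (1335, .gen 123 (394, false)),
    (3656, .gen 123 (394, true)),
    (2960, .gen 3153 (394, false)),
    (549, .gen 3153 (394, true)),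
    (3365, .gen 2413 (394, false)),
    (436, .gen 2413 (394, true)),
    (359, .gen 2904 (394, false)),
    (3117, .gen 2904 (394, true)),
    (1242, .gen 1145 (394, false)),
    (64, .gen 1145 (394, true)),
    (3229, .gen 1966 (394, false)),
    (1327, .gen 1966 (394, true)),
    (2681, .gen 2497 (394, false)),
    (3648, .gen 2497 (394, true)),
    (2150, .gen 3349 (394, false)),
    (2104, .gen 3349 (394, true)),
    (799, .gen 219 (394, false)),
    (27, .gen 219 (394, true)),
    (1515, .gen 2197 (394, false)),
    (2874, .gen 2197 (394, true)),
    (1815, .gen 3234 (394, false)),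
    (730, .gen 3234 (394, true)),
    (592, .gen 3412 (394, false)),
    (771, .gen 3412 (394, true)),
    (326, .gen 874 (394, false)),
    (1601, .gen 874 (394, true)),
    (2366, .gen 1226 (394, false)),
    (1694, .gen 1226 (394, true)),
    (98, .gen 3491 (394, false)),
    (563, .gen 3491 (394, true)),
    (1698, .gen 2397 (394, false)),
    (1575, .gen 2397 (394, true)),
    (3488, .gen 3707 (394, false)),
    (1868, .gen 3707 (394, true)),
    (3543, .gen 981 (394, false)),
    (601, .gen 981 (394, true)),
    (2723, .gen 1451 (394, false)),
    (1620, .gen 1451 (394, true)),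
    (2379, .gen 795 (394, false)),
    (3160, .gen 795 (394, true)),
    (1454, .gen 2441 (394, false)),
    (3436, .gen 2441 (394, true)),
    (226, .gen 1232 (394, false)),
    (741, .gen 1232 (394, true)),
    (3524, .gen 2755 (394, false)),
    (1449, .gen 2755 (394, true)),
    (2850, .gen 899 (394, false)),
    (684, .gen 899 (394, true)),
    (2979, .gen 2920 (394, false)),
    (608, .gen 2920 (394, true)),
    (2589, .gen 1122 (394, false)),
    (2512, .gen 1122 (394, true)),
    (1375, .gen 1428 (394, false)),
    (501, .gen 1428 (394, true)),
    (1248, .gen 3584 (394, false)),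
    (764, .gen 3584 (394, true)),
    (1442, .gen 14 (394, false)),
    (208, .gen 14 (394, true)),
    (1496, .gen 3664 (394, false)),
    (2038, .gen 3664 (394, true)),
    (3641, .gen 3041 (394, false)),
    (3692, .gen 3041 (394, true)),
    (1682, .gen 2383 (394, false)),
    (581, .gen 2383 (394, true)),
    (3107, .gen 1346 (394, false)),
    (259, .gen 1346 (394, true)),
    (1126, .gen 469 (394, false)),
    (2976, .gen 469 (394, true)),
    (1639, .gen 1684 (394, false)),
    (1345, .gen 1684 (394, true)),
    (1752, .gen 1322 (394, false)),
    (958, .gen 1322 (394, true)),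
    (1733, .gen 1981 (394, false)),
    (604, .gen 1981 (394, true)),
    (2448, .gen 3330 (394, false)),
    (2602, .gen 3330 (394, true)),
    (1133, .gen 1196 (394, false)),
    (2343, .gen 1196 (394, true)),
    (699, .gen 3241 (394, false)),
    (839, .gen 3241 (394, true)),
    (762, .gen 3191 (394, false)),
    (666, .gen 3191 (394, true)),
    (1024, .gen 2309 (394, false)),
    (10, .gen 2309 (394, true)),
    (389, .gen 1948 (394, false)),
    (69, .gen 1948 (394, true)),
    (3389, .gen 975 (394, false)),
    (1350, .gen 975 (394, true)),
    (3407, .gen 3317 (394, false)),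
    (1116, .gen 3317 (394, true)),
    (2066, .gen 3270 (394, false)),
    (44, .gen 3270 (394, true)),
    (1010, .gen 1999 (394, false)),
    (187, .gen 1999 (394, true)),
    (1001, .gen 1873 (394, false)),
    (611, .gen 1873 (394, true)),
    (1469, .gen 252 (394, false)),
    (3463, .gen 252 (394, true)),
    (607, .gen 3300 (394, false)),
    (2780, .gen 3300 (394, true)),
    (3205, .gen 2340 (394, false)),
    (2017, .gen 2340 (394, true)),
    (216, .gen 3650 (394, false)),
    (2107, .gen 3650 (394, true)),
    (1050, .gen 1699 (394, false)),
    (3280, .gen 1699 (394, true)),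
    (3139, .gen 3308 (394, false)),
    (1373, .gen 3308 (394, true)),
    (3649, .gen 2898 (394, false)),
    (3607, .gen 2898 (394, true)),
    (404, .gen 1887 (394, false)),
    (1296, .gen 1887 (394, true)),
    (3673, .gen 3529 (394, false)),
    (3274, .gen 3529 (394, true)),
    (2584, .gen 2716 (394, false)),
    (1726, .gen 2716 (394, true)),
    (3376, .gen 375 (394, false)),
    (1715, .gen 375 (394, true)),
    (2445, .gen 542 (394, false)),
    (1068, .gen 542 (394, true)),
    (3558, .gen 2612 (394, false)),
    (2048, .gen 2612 (394, true)),
    (2608, .gen 2230 (394, false)),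
    (3120, .gen 2230 (394, true)),
    (1768, .gen 2910 (394, false)),
    (1692, .gen 2910 (394, true)),
    (1051, .gen 2909 (394, false)),
    (2334, .gen 2909 (394, true)),
    (2543, .gen 2102 (394, false)),
    (969, .gen 2102 (394, true)),
    (1461, .gen 1158 (394, false)),
    (1351, .gen 1158 (394, true)),
    (1911, .gen 3182 (394, false)),
    (3224, .gen 3182 (394, true)),
    (1561, .gen 724 (394, false)),
    (3124, .gen 724 (394, true)),
    (3771, .gen 1638 (394, false)),
    (2515, .gen 1638 (394, true)),
    (2120, .gen 2654 (394, false)),
    (3367, .gen 2654 (394, true)),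
    (24, .gen 1864 (394, false)),
    (1737, .gen 1864 (394, true)),
    (460, .gen 2387 (394, false)),
    (885, .gen 2387 (394, true)),
    (1016, .gen 2749 (394, false)),
    (1008, .gen 2749 (394, true)),
    (2918, .gen 2406 (394, false)),
    (2073, .gen 2406 (394, true)),
    (1961, .gen 2350 (394, false)),
    (1619, .gen 2350 (394, true)),
    (1301, .gen 3044 (394, false)),
    (2770, .gen 3044 (394, true)),
    (1690, .gen 2883 (394, false)),
    (3603, .gen 2883 (394, true)),
    (979, .gen 3054 (394, false)),
    (711, .gen 3054 (394, true)),
    (670, .gen 798 (394, false)),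
    (1258, .gen 798 (394, true)),
    (1896, .gen 3687 (394, false)),
    (747, .gen 3687 (394, true)),
    (380, .gen 917 (394, false)),
    (2362, .gen 917 (394, true)),
    (1344, .gen 1474 (394, false)),
    (2840, .gen 1474 (394, true)),
    (598, .gen 1797 (394, false)),
    (2124, .gen 1797 (394, true)),
    (2153, .gen 2183 (394, false)),
    (1203, .gen 2183 (394, true)),
    (2044, .gen 2144 (394, false)),
    (2683, .gen 2144 (394, true))]

/-- The visits of node 17. -/
def visits17 : List (ℕ × Src) :=
  v17_0 ++ v17_1 ++ v17_2 ++ v17_3 ++ v17_4 ++ v17_5 ++ v17_6 ++ v17_7 ++ v17_8 ++ v17_9 ++ v17_10 ++ v17_11 ++ v17_12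


end Cfsg.Agent.J4Bound.Data
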