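import Cfsg.Agent.Lib.J4Pres.Bound.Cover

/-! Data of the double coset enumeration for the presented fourth Janko group (tools/j4/bound/emitb.py). -/

set_option autoImplicit false
set_option maxRecDepth 100000
set_option maxHeartbeats 0

namespace Cfsg.Agent.J4Bound.Data

/-- Visits. -/
def v18_0 : List (ℕ × Src) :=
  [(6, .edge 490 true),
    (2668, .edge 492 true),
    (236, .edge 493 true),
    (500, .edge 494 false),
    (331, .edge 495 false),
    (2193, .edge 495 true),
    (466, .edge 496 false),
    (2931, .edge 497 false),
    (483, .edge 498 false),
    (521, .edge 499 false),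
    (1418, .edge 499 true),
    (1501, .edge 500 false),
    (1033, .edge 501 false),
    (1945, .edge 501 true),
    (57, .edge 502 false),
    (1669, .edge 503 false),
    (44, .edge 504 false),
    (43, .edge 505 false),
    (1162, .edge 506 false),
    (847, .edge 507 false),
    (162, .edge 508 false),
    (281, .edge 509 false),
    (656, .edge 510 false),
    (1423, .edge 511 false),
    (2455, .edge 512 true),
    (3679, .edge 513 true),
    (1376, .edge 514 true),
    (2648, .edge 515 true),
    (1805, .edge 516 true),
    (780, .edge 517 true),
    (1346, .edge 518 false),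
    (2474, .edge 519 false),
    (2264, .edge 520 false),
    (1022, .edge 521 false),
    (28, .edge 522 false),
    (2969, .edge 522 true),
    (1828, .edge 523 false),
    (1009, .edge 524 false),
    (3561, .edge 525 false),
    (50, .edge 525 true),
    (2356, .edge 526 false),
    (2616, .edge 527 false),
    (2139, .edge 528 false),
    (2240, .edge 529 false),
    (1156, .edge 529 true),
    (3489, .edge 531 false),
    (3631, .edge 532 false),
    (3168, .edge 533 false),
    (130, .edge 534 false),
    (2972, .edge 535 true),
    (2838, .edge 536 false),
    (676, .edge 536 true),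
    (1682, .edge 537 false),
    (2732, .edge 538 false),
    (836, .edge 538 true),
    (16, .edge 539 false),
    (37, .edge 539 true),
    (657, .edge 540 false),
    (142, .edge 541 false),
    (2246, .edge 541 true),
    (822, .edge 542 false),
    (1322, .edge 543 false),
    (158, .edge 543 true),
    (560, .edge 544 false),
    (2639, .edge 544 true),
    (3507, .edge 545 false),
    (3704, .edge 545 true),
    (378, .edge 546 false),
    (2581, .edge 547 false),
    (2646, .edge 548 false),
    (396, .edge 548 true),
    (2015, .edge 549 false),
    (3478, .edge 550 false),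
    (2123, .edge 550 true),
    (1195, .edge 551 false),
    (3754, .edge 552 true),
    (190, .edge 553 true),
    (729, .edge 554 true),
    (3170, .edge 555 true),
    (755, .edge 556 true),
    (809, .edge 557 true),
    (2761, .edge 558 true),
    (1987, .edge 559 true),
    (1283, .edge 560 false),
    (3520, .edge 560 true),
    (2186, .edge 561 false),
    (1089, .edge 561 true),
    (2265, .edge 562 true),
    (219, .edge 563 false),
    (2774, .edge 563 true),
    (3731, .edge 564 false),
    (3525, .edge 565 false),
    (1043, .edge 565 true),
    (1588, .edge 566 false),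
    (2817, .edge 566 true),
    (1688, .edge 567 false),
    (2494, .edge 567 true),
    (3210, .edge 568 false),
    (3309, .edge 568 true),
    (1841, .edge 569 false),
    (1985, .edge 570 true),
    (3695, .edge 571 true),
    (1288, .edge 572 true),
    (2999, .edge 573 false),
    (3223, .edge 574 true),
    (3060, .edge 575 true),
    (102, .edge 576 true),
    (2460, .edge 577 false),
    (3721, .edge 578 false),
    (3357, .edge 579 false),
    (3004, .edge 580 false),
    (3756, .edge 581 false),
    (1368, .edge 582 true),
    (1016, .edge 583 true),
    (369, .edge 584 true),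
    (2298, .edge 585 false),
    (1273, .edge 586 false),
    (2994, .edge 587 false),
    (2126, .edge 587 true),
    (1227, .edge 588 false),
    (3765, .edge 589 false),
    (2747, .edge 590 false),
    (3134, .edge 591 false),
    (2144, .edge 591 true),
    (1957, .edge 592 false),
    (2232, .edge 593 false),
    (949, .edge 594 true),
    (1566, .edge 595 true),
    (1650, .edge 596 false),
    (1036, .edge 596 true),
    (2573, .edge 597 true),
    (3407, .edge 598 true),
    (506, .edge 599 true),
    (2540, .edge 600 true),
    (2269, .edge 601 true),
    (2742, .edge 602 true),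
    (673, .edge 603 false),
    (574, .edge 604 true),
    (389, .edge 605 false),
    (114, .edge 606 false),
    (1495, .edge 607 false),
    (1849, .edge 608 false),
    (469, .edge 609 true),
    (1610, .edge 610 true),
    (3035, .edge 611 true),
    (307, .edge 612 false),
    (155, .edge 613 false),
    (164, .edge 614 false),
    (415, .edge 614 true),
    (2955, .edge 615 false),
    (1897, .edge 616 false),
    (915, .edge 617 false),
    (2102, .edge 618 false),
    (3642, .edge 619 false),
    (1247, .edge 620 true),
    (1574, .edge 621 true),
    (490, .edge 622 true),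
    (2280, .edge 623 true),
    (436, .edge 624 true),
    (700, .edge 625 true),
    (724, .edge 626 false),
    (172, .edge 626 true),
    (253, .edge 627 false),
    (1596, .edge 628 false),
    (3439, .edge 629 false),
    (3211, .edge 630 false),
    (1405, .edge 631 false),
    (2612, .edge 632 false),
    (1204, .edge 632 true),
    (2416, .edge 633 true),
    (3368, .edge 634 true),
    (3476, .edge 635 true),
    (3327, .edge 636 false),
    (1192, .edge 637 false),
    (2291, .edge 638 false),
    (1730, .edge 639 false),
    (1879, .edge 640 false),
    (1437, .edge 641 false),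
    (2650, .edge 642 false),
    (2578, .edge 643 false),
    (3167, .edge 644 false),
    (1268, .edge 645 false),
    (2127, .edge 645 true),
    (859, .edge 646 false),
    (121, .edge 647 false),
    (360, .edge 648 false),
    (3650, .edge 649 false),
    (1297, .edge 650 false),
    (3486, .edge 651 false),
    (3255, .edge 652 false),
    (2325, .edge 653 true),
    (1649, .edge 654 false),
    (2166, .edge 655 false),
    (2358, .edge 656 true),
    (535, .edge 657 true),
    (178, .edge 658 true),
    (1187, .edge 659 true),
    (2374, .edge 660 false),
    (2975, .edge 661 false),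
    (510, .edge 662 false),
    (1127, .edge 663 true),
    (629, .edge 664 true),
    (1520, .edge 665 true),
    (1554, .edge 666 false),
    (431, .edge 666 true),
    (3122, .edge 667 false),
    (5, .edge 668 false),
    (2827, .edge 669 false),
    (693, .edge 670 false),
    (2924, .edge 671 true),
    (3273, .edge 672 true),
    (2450, .edge 673 true),
    (1967, .edge 674 false),
    (2080, .edge 675 false),
    (1694, .edge 676 false),
    (1986, .edge 676 true),
    (2866, .edge 677 true),
    (1076, .edge 678 true),
    (255, .edge 679 true),
    (1818, .edge 680 true),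
    (1742, .edge 681 true),
    (1829, .edge 682 false),
    (1106, .edge 683 false),
    (1562, .edge 683 true),
    (298, .edge 684 false),
    (3465, .edge 685 false),
    (618, .edge 686 false),
    (1756, .edge 687 false),
    (2660, .edge 688 false),
    (640, .edge 689 false),
    (2745, .edge 689 true),
    (2282, .edge 690 false),
    (1527, .edge 690 true),
    (2561, .edge 691 false),
    (900, .edge 692 false),
    (1666, .edge 692 true),
    (100, .edge 693 false),
    (2764, .edge 694 false),
    (1619, .edge 695 false),
    (2106, .edge 695 true),
    (1378, .edge 696 false),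
    (24, .edge 697 false),
    (662, .edge 698 false),
    (2371, .edge 698 true),
    (2258, .edge 699 false),
    (987, .edge 700 false),
    (2351, .edge 700 true),
    (1465, .edge 701 false),
    (1873, .edge 702 false),
    (1316, .edge 703 false),
    (1573, .edge 704 false),
    (3501, .edge 704 true),
    (417, .edge 705 false),
    (3300, .edge 706 false),
    (3444, .edge 706 true),
    (2173, .edge 707 false),
    (1607, .edge 708 false),
    (1413, .edge 708 true),
    (252, .edge 709 false),
    (3435, .edge 710 false),
    (3162, .edge 710 true),
    (2107, .edge 711 false),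
    (2052, .edge 712 false),
    (1304, .edge 712 true),
    (2706, .edge 713 false),
    (2840, .edge 713 true),
    (1912, .edge 714 false),
    (831, .edge 715 false),
    (358, .edge 715 true),
    (444, .edge 716 true),
    (3530, .edge 717 true),
    (927, .edge 718 true),
    (1237, .edge 719 false),
    (3402, .edge 720 false),
    (1793, .edge 721 false),
    (979, .edge 722 true),
    (2570, .edge 723 true),
    (988, .edge 724 false),
    (1940, .edge 725 false),
    (2005, .edge 726 false),
    (3197, .edge 727 false),
    (2986, .edge 727 true),
    (240, .edge 728 false),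
    (991, .edge 729 false),
    (3451, .edge 729 true),
    (3646, .edge 730 false),
    (2018, .edge 731 false),
    (1426, .edge 732 false),
    (3669, .edge 732 true),
    (1709, .edge 733 false),
    (3198, .edge 734 false),
    (2308, .edge 735 false),
    (3057, .edge 736 true),
    (3175, .edge 737 true),
    (3744, .edge 738 true),
    (246, .edge 739 false),
    (191, .edge 740 false),
    (364, .edge 741 false),
    (646, .edge 742 false),
    (735, .edge 743 false)]

/-- Visits. -/
def v18_1 : List (ℕ × Src) :=
  [(3468, .edge 744 false),
    (3108, .edge 745 false),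
    (858, .edge 745 true),
    (3047, .edge 746 true),
    (2842, .edge 747 true),
    (1329, .edge 748 true),
    (75, .edge 749 true),
    (611, .edge 750 true),
    (1503, .edge 751 true),
    (3662, .edge 752 false),
    (1894, .edge 753 false),
    (1449, .edge 753 true),
    (2825, .edge 754 true),
    (2392, .edge 755 false),
    (1524, .edge 756 false),
    (1180, .edge 756 true),
    (1891, .edge 757 false),
    (1360, .edge 757 true),
    (1400, .edge 758 false),
    (2711, .edge 759 false),
    (137, .edge 760 false),
    (313, .edge 761 false),
    (1182, .edge 762 false),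
    (722, .edge 763 false),
    (2078, .edge 763 true),
    (2097, .edge 764 false),
    (2592, .edge 765 false),
    (3010, .edge 766 false),
    (2238, .edge 767 false),
    (536, .edge 768 false),
    (2204, .edge 769 false),
    (1643, .edge 770 false),
    (649, .edge 771 false),
    (1278, .edge 771 true),
    (356, .edge 772 false),
    (1547, .edge 772 true),
    (547, .edge 773 false),
    (3594, .edge 774 true),
    (1275, .edge 775 false),
    (1563, .edge 776 false),
    (2009, .edge 777 true),
    (3715, .edge 778 true),
    (1128, .edge 779 false),
    (3061, .edge 779 true),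
    (3077, .edge 780 false),
    (424, .edge 781 false),
    (2879, .edge 782 false),
    (2007, .edge 782 true),
    (2118, .edge 783 false),
    (1556, .edge 784 false),
    (2307, .edge 785 false),
    (428, .edge 785 true),
    (2288, .edge 786 false),
    (22, .edge 787 false),
    (1749, .edge 788 false),
    (2987, .edge 788 true),
    (238, .edge 789 false),
    (3635, .edge 790 false),
    (2976, .edge 790 true),
    (2538, .edge 791 false),
    (2816, .edge 791 true),
    (2826, .edge 792 false),
    (390, .edge 792 true),
    (512, .edge 793 false),
    (66, .edge 794 false),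
    (260, .edge 794 true),
    (2251, .edge 795 true),
    (3374, .edge 796 true),
    (2414, .edge 797 false),
    (229, .edge 798 false),
    (354, .edge 799 false),
    (1392, .edge 799 true),
    (1210, .edge 800 false),
    (286, .edge 801 false),
    (671, .edge 802 false),
    (169, .edge 802 true),
    (1374, .edge 803 true),
    (720, .edge 804 false),
    (3570, .edge 804 true),
    (633, .edge 805 false),
    (401, .edge 805 true),
    (1218, .edge 806 false),
    (539, .edge 807 false),
    (718, .edge 807 true),
    (652, .edge 808 false),
    (2861, .edge 808 true),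
    (1324, .edge 809 false),
    (2332, .edge 809 true),
    (1868, .edge 810 false),
    (741, .edge 810 true),
    (2493, .edge 811 false),
    (159, .edge 811 true),
    (2187, .edge 812 false),
    (1061, .edge 812 true),
    (2844, .edge 813 false),
    (1557, .edge 813 true),
    (3247, .edge 814 false),
    (2053, .edge 814 true),
    (3598, .edge 815 false),
    (3745, .edge 816 false),
    (543, .edge 816 true),
    (768, .edge 817 false),
    (1410, .edge 817 true),
    (3228, .edge 818 false),
    (721, .edge 818 true),
    (38, .edge 819 false),
    (1277, .edge 819 true),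
    (458, .edge 820 false),
    (3055, .edge 820 true),
    (2723, .edge 821 false),
    (1579, .edge 821 true),
    (1587, .edge 822 false),
    (3623, .edge 822 true),
    (950, .edge 823 false),
    (2239, .edge 823 true),
    (3026, .edge 824 false),
    (943, .edge 824 true),
    (353, .edge 832 true),
    (1858, .edge 833 true),
    (1582, .edge 838 false),
    (1995, .edge 839 false),
    (1455, .edge 840 false),
    (1544, .edge 841 false),
    (635, .edge 842 false),
    (481, .edge 843 false),
    (2906, .edge 844 false),
    (1812, .edge 847 true),
    (1733, .edge 851 true),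
    (156, .edge 852 true),
    (572, .edge 853 true),
    (3141, .edge 863 false),
    (258, .edge 864 false),
    (581, .edge 865 false),
    (604, .edge 866 false),
    (3430, .edge 867 false),
    (1394, .edge 868 false),
    (87, .edge 869 false),
    (1173, .edge 870 false),
    (2839, .edge 871 false),
    (1434, .edge 872 false),
    (1654, .edge 873 false),
    (2508, .edge 874 false),
    (2610, .edge 875 false),
    (2627, .edge 876 false),
    (1286, .edge 900 false),
    (231, .edge 901 false),
    (3229, .edge 902 false),
    (1471, .edge 903 false),
    (1058, .edge 904 false),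
    (328, .edge 905 false),
    (1327, .edge 906 false),
    (322, .edge 907 false),
    (1476, .edge 908 false),
    (53, .edge 909 false),
    (1057, .edge 920 true),
    (2386, .edge 921 true),
    (2, .edge 924 true),
    (3311, .edge 933 false),
    (1576, .edge 934 false),
    (923, .edge 935 false),
    (814, .edge 936 false),
    (1888, .edge 937 false),
    (1113, .edge 938 false),
    (3069, .edge 939 true),
    (2857, .edge 943 true),
    (3773, .edge 945 true),
    (1789, .edge 946 true),
    (1664, .edge 955 true),
    (2301, .edge 960 false),
    (2885, .edge 961 false),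
    (1674, .edge 962 false),
    (2519, .edge 963 false),
    (3447, .edge 964 false),
    (3176, .edge 965 false),
    (3024, .edge 966 false),
    (3710, .edge 967 false),
    (1141, .edge 968 false),
    (3589, .edge 985 true),
    (3628, .edge 993 true),
    (3488, .edge 994 true),
    (1810, .edge 996 true),
    (1721, .edge 997 true),
    (1668, .edge 1015 true),
    (2150, .edge 1018 true),
    (2970, .edge 1026 true),
    (270, .edge 1031 true),
    (1395, .edge 1033 true),
    (3553, .edge 1035 true),
    (2964, .edge 1036 true),
    (1342, .edge 1037 false),
    (2785, .edge 1038 false),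
    (2453, .edge 1039 false),
    (1743, .edge 1042 true),
    (3454, .edge 1043 true),
    (3770, .edge 1044 false),
    (3693, .edge 1045 false),
    (2899, .edge 1046 false),
    (1079, .edge 1047 false),
    (647, .edge 1056 false),
    (73, .edge 1057 false),
    (1954, .edge 1058 false),
    (1435, .edge 1059 false),
    (1903, .edge 1065 false),
    (594, .edge 1066 false),
    (880, .edge 1067 false),
    (2802, .edge 1068 false),
    (1281, .edge 1069 false),
    (1696, .edge 1070 false),
    (411, .edge 1071 false),
    (2408, .edge 1072 false),
    (1931, .edge 1073 false),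
    (1502, .edge 1074 false),
    (108, .edge 1077 true),
    (829, .edge 1084 true),
    (242, .edge 1085 true),
    (2603, .edge 1089 true),
    (2954, .edge 1090 true),
    (1720, .edge 1091 true),
    (2738, .edge 1101 true),
    (3455, .edge 1122 true),
    (3580, .edge 1124 true),
    (2635, .edge 1130 true),
    (953, .edge 1137 true),
    (2030, .edge 1146 false),
    (3186, .edge 1147 false),
    (2403, .edge 1148 false),
    (473, .edge 1149 false),
    (957, .edge 1150 false),
    (3218, .edge 1152 false),
    (844, .edge 1153 false),
    (2399, .edge 1154 false),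
    (2676, .edge 1155 false),
    (3257, .edge 1172 true),
    (1564, .edge 1178 true),
    (467, .edge 1182 true),
    (1452, .edge 1185 false),
    (1006, .edge 1186 false),
    (3595, .edge 1202 true),
    (447, .edge 1230 true),
    (69, .edge 1234 true),
    (472, .edge 1238 true),
    (3135, .edge 1253 true),
    (2834, .edge 1256 true),
    (787, .edge 1258 true),
    (2694, .edge 1263 false),
    (2206, .edge 1264 false),
    (12, .edge 1265 false),
    (3337, .edge 1266 false),
    (1926, .edge 1267 false),
    (2168, .edge 1268 false),
    (343, .edge 1269 false),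
    (2315, .edge 1271 true),
    (2506, .edge 1275 true),
    (227, .edge 1278 true),
    (1212, .edge 1281 true),
    (212, .edge 1287 true),
    (1482, .edge 1289 true),
    (1942, .edge 1294 true),
    (221, .edge 1295 true),
    (2579, .edge 1298 false),
    (3371, .edge 1299 false),
    (744, .edge 1300 false),
    (2039, .edge 1305 false),
    (561, .edge 1306 false),
    (1808, .edge 1307 false),
    (309, .edge 1308 false),
    (2132, .edge 1309 false),
    (347, .edge 1324 true),
    (614, .edge 1331 true),
    (2336, .edge 1343 true),
    (631, .edge 1346 true),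
    (143, .edge 1351 true),
    (26, .edge 1357 true),
    (3596, .edge 1359 false),
    (3375, .edge 1360 false),
    (3405, .edge 1362 false),
    (1289, .edge 1363 false),
    (2362, .edge 1365 false),
    (832, .edge 1367 false),
    (1920, .edge 1368 false),
    (2688, .edge 1369 false),
    (2948, .edge 1370 false),
    (2230, .edge 1384 false),
    (2146, .edge 1385 false),
    (3409, .edge 1386 false),
    (2478, .edge 1387 false),
    (1500, .edge 1397 true),
    (3713, .edge 1401 true),
    (1651, .edge 1404 true),
    (682, .edge 1411 true),
    (2611, .edge 1436 true),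
    (703, .edge 1437 true),
    (335, .edge 1440 false),
    (3558, .edge 1457 true),
    (597, .edge 1460 true),
    (1319, .edge 1475 true),
    (3153, .edge 1477 true),
    (496, .edge 1481 true),
    (3318, .edge 1485 true),
    (1913, .edge 1495 false)]

/-- Visits. -/
def v18_2 : List (ℕ × Src) :=
  [(2501, .edge 1496 false),
    (664, .edge 1510 true),
    (961, .edge 1513 true),
    (3179, .edge 1521 false),
    (2179, .edge 1522 false),
    (2884, .edge 1523 false),
    (2322, .edge 1527 true),
    (507, .edge 1529 true),
    (588, .edge 1533 true),
    (911, .edge 1538 true),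
    (289, .edge 1539 false),
    (9, .edge 1540 false),
    (2397, .edge 1541 false),
    (707, .edge 1543 false),
    (319, .edge 1544 false),
    (946, .edge 1545 false),
    (2326, .edge 1546 true),
    (653, .edge 1551 true),
    (2355, .edge 1554 true),
    (317, .edge 1558 true),
    (187, .edge 1568 true),
    (2464, .edge 1576 true),
    (1625, .edge 1577 true),
    (127, .edge 1578 false),
    (338, .edge 1586 true),
    (1267, .edge 1591 true),
    (1384, .edge 1593 true),
    (3494, .edge 1594 true),
    (2063, .edge 1595 false),
    (3073, .edge 1596 false),
    (1414, .edge 1597 false),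
    (1969, .edge 1598 false),
    (1100, .edge 1599 false),
    (1699, .edge 1600 false),
    (3360, .edge 1601 false),
    (2284, .edge 1602 true),
    (1256, .edge 1606 true),
    (1865, .edge 1615 true),
    (934, .edge 1622 true),
    (2552, .edge 1624 false),
    (113, .edge 1627 false),
    (1429, .edge 1628 false),
    (2137, .edge 1634 true),
    (599, .edge 1637 true),
    (2666, .edge 1642 true),
    (2391, .edge 1643 true),
    (3784, .edge 1646 true),
    (3568, .edge 1648 false),
    (3521, .edge 1651 true),
    (1448, .edge 1653 true),
    (3272, .edge 1654 false),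
    (2344, .edge 1655 false),
    (3401, .edge 1656 false),
    (1704, .edge 1657 true),
    (3304, .edge 1659 true),
    (1657, .edge 1661 true),
    (1095, .edge 1667 true),
    (661, .edge 1669 true),
    (1155, .edge 1670 true),
    (582, .edge 1671 true),
    (233, .edge 1674 false),
    (2062, .edge 1675 true),
    (964, .edge 1689 false),
    (1412, .edge 1690 false),
    (1628, .edge 1699 true),
    (2521, .edge 1703 true),
    (3636, .edge 1704 true),
    (2174, .edge 1707 true),
    (1762, .edge 1708 true),
    (3581, .edge 1719 true),
    (163, .edge 1728 true),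
    (501, .edge 1729 true),
    (3233, .edge 1732 false),
    (2750, .edge 1733 false),
    (2690, .edge 1734 false),
    (2936, .edge 1735 false),
    (2423, .edge 1736 false),
    (3381, .edge 1741 true),
    (1230, .edge 1742 false),
    (3025, .edge 1743 false),
    (2047, .edge 1744 false),
    (3572, .edge 1745 false),
    (3788, .edge 1746 false),
    (2476, .edge 1754 true),
    (2010, .edge 1757 true),
    (2424, .edge 1761 true),
    (119, .edge 1762 true),
    (2329, .edge 1763 true),
    (1213, .edge 1764 false),
    (568, .edge 1765 true),
    (17, .edge 1766 true),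
    (1339, .edge 1778 false),
    (3346, .edge 1779 false),
    (3426, .edge 1780 false),
    (367, .edge 1781 false),
    (3597, .edge 1786 true),
    (1489, .edge 1791 true),
    (1968, .edge 1794 true),
    (237, .edge 1798 false),
    (1814, .edge 1799 false),
    (517, .edge 1800 false),
    (1361, .edge 1804 false),
    (792, .edge 1805 false),
    (1758, .edge 1809 true),
    (2021, .edge 1816 true),
    (623, .edge 1824 false),
    (55, .edge 1830 true),
    (1635, .edge 1831 false),
    (518, .edge 1832 false),
    (2129, .edge 1837 true),
    (3534, .edge 1844 false),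
    (3050, .edge 1845 true),
    (1485, .edge 1849 true),
    (3242, .edge 1851 true),
    (3230, .edge 1852 false),
    (2769, .edge 1857 false),
    (2153, .edge 1867 false),
    (200, .gen 6 (491, false)),
    (1357, .gen 6 (530, false)),
    (2330, .gen 2668 (491, false)),
    (1474, .gen 2668 (530, false)),
    (1123, .gen 236 (491, false)),
    (3750, .gen 236 (530, false)),
    (45, .gen 500 (491, false)),
    (277, .gen 500 (530, false)),
    (1606, .gen 331 (491, false)),
    (2484, .gen 331 (530, false)),
    (1722, .gen 2193 (491, false)),
    (189, .gen 2193 (530, false)),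
    (666, .gen 466 (530, false)),
    (2528, .gen 2931 (491, false)),
    (701, .gen 2931 (530, false)),
    (897, .gen 483 (491, false)),
    (3547, .gen 483 (530, false)),
    (1671, .gen 521 (530, false)),
    (3128, .gen 1418 (530, false)),
    (2492, .gen 1501 (491, false)),
    (2565, .gen 1501 (530, false)),
    (3087, .gen 1033 (530, false)),
    (3621, .gen 1945 (530, false)),
    (2273, .gen 57 (491, false)),
    (3417, .gen 57 (530, false)),
    (3191, .gen 1669 (491, false)),
    (2431, .gen 1669 (530, false)),
    (3475, .gen 44 (491, false)),
    (2837, .gen 44 (530, false)),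
    (234, .gen 43 (491, false)),
    (2185, .gen 43 (530, false)),
    (3217, .gen 1162 (530, false)),
    (1407, .gen 847 (530, false)),
    (488, .gen 162 (491, false)),
    (2287, .gen 162 (530, false)),
    (321, .gen 281 (530, false)),
    (1927, .gen 656 (530, false)),
    (1761, .gen 1423 (491, false)),
    (374, .gen 1423 (530, false)),
    (3755, .gen 2455 (491, false)),
    (2520, .gen 2455 (530, false)),
    (3717, .gen 3679 (491, false)),
    (545, .gen 3679 (530, false)),
    (2366, .gen 1376 (491, false)),
    (1713, .gen 1376 (530, false)),
    (3101, .gen 2648 (491, false)),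
    (1070, .gen 2648 (530, false)),
    (3119, .gen 1805 (491, false)),
    (1824, .gen 1805 (530, false)),
    (2799, .gen 780 (491, false)),
    (882, .gen 780 (530, false)),
    (2806, .gen 1346 (491, false)),
    (3021, .gen 1346 (530, false)),
    (888, .gen 2474 (491, false)),
    (716, .gen 2474 (530, false)),
    (1816, .gen 2264 (491, false)),
    (3078, .gen 2264 (530, false)),
    (3342, .gen 1022 (491, false)),
    (486, .gen 1022 (530, false)),
    (562, .gen 28 (491, false)),
    (1391, .gen 28 (530, false)),
    (1516, .gen 2969 (491, false)),
    (1149, .gen 2969 (530, false)),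
    (217, .gen 1828 (491, false)),
    (508, .gen 1828 (530, false)),
    (2488, .gen 1009 (491, false)),
    (2104, .gen 1009 (530, false)),
    (2952, .gen 3561 (491, false)),
    (2318, .gen 3561 (530, false)),
    (2247, .gen 50 (491, false)),
    (912, .gen 50 (530, false)),
    (1242, .gen 2356 (491, false)),
    (515, .gen 2356 (530, false)),
    (3427, .gen 2616 (491, false)),
    (2912, .gen 2616 (530, false)),
    (2112, .gen 2139 (491, false)),
    (2655, .gen 2139 (530, false)),
    (3343, .gen 2240 (491, false)),
    (310, .gen 2240 (530, false)),
    (3164, .gen 1156 (491, false)),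
    (2074, .gen 1156 (530, false)),
    (2101, .gen 3489 (491, false)),
    (2886, .gen 3489 (530, false)),
    (1017, .gen 3631 (491, false)),
    (167, .gen 3631 (530, false)),
    (3503, .gen 3168 (491, false)),
    (1560, .gen 3168 (530, false)),
    (160, .gen 130 (491, false)),
    (871, .gen 130 (530, false)),
    (3149, .gen 2972 (491, false)),
    (2580, .gen 2972 (530, false)),
    (3236, .gen 2838 (491, false)),
    (3278, .gen 2838 (530, false)),
    (2926, .gen 676 (491, false)),
    (3398, .gen 676 (530, false)),
    (2852, .gen 1682 (491, false)),
    (3583, .gen 1682 (530, false)),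
    (1120, .gen 2732 (491, false)),
    (2048, .gen 2732 (530, false)),
    (929, .gen 836 (491, false)),
    (2227, .gen 836 (530, false)),
    (891, .gen 16 (491, false)),
    (47, .gen 16 (530, false)),
    (1989, .gen 37 (491, false)),
    (2164, .gen 37 (530, false)),
    (655, .gen 657 (491, false)),
    (3386, .gen 657 (530, false)),
    (3538, .gen 142 (491, false)),
    (494, .gen 142 (530, false)),
    (3361, .gen 2246 (491, false)),
    (2868, .gen 2246 (530, false)),
    (1417, .gen 822 (491, false)),
    (3173, .gen 822 (530, false)),
    (1703, .gen 1322 (491, false)),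
    (3733, .gen 1322 (530, false)),
    (492, .gen 158 (491, false)),
    (3700, .gen 158 (530, false)),
    (2060, .gen 560 (491, false)),
    (1508, .gen 560 (530, false)),
    (2549, .gen 2639 (491, false)),
    (2226, .gen 2639 (530, false)),
    (381, .gen 3507 (491, false)),
    (2958, .gen 3507 (530, false)),
    (2044, .gen 3704 (491, false)),
    (684, .gen 3704 (530, false)),
    (83, .gen 378 (491, false)),
    (195, .gen 378 (530, false)),
    (1855, .gen 2581 (491, false)),
    (3174, .gen 2581 (530, false)),
    (821, .gen 2646 (491, false)),
    (3720, .gen 2646 (530, false)),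
    (982, .gen 396 (491, false)),
    (1970, .gen 396 (530, false)),
    (1343, .gen 2015 (491, false)),
    (2953, .gen 2015 (530, false)),
    (1439, .gen 3478 (491, false)),
    (1539, .gen 3478 (530, false)),
    (2086, .gen 2123 (491, false)),
    (3664, .gen 2123 (530, false)),
    (732, .gen 1195 (491, false)),
    (981, .gen 1195 (530, false)),
    (2151, .gen 3754 (491, false)),
    (2512, .gen 3754 (530, false)),
    (1496, .gen 190 (491, false)),
    (2098, .gen 190 (530, false)),
    (1205, .gen 729 (491, false)),
    (3769, .gen 729 (530, false)),
    (1118, .gen 3170 (491, false)),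
    (2088, .gen 3170 (530, false)),
    (1893, .gen 755 (491, false)),
    (1528, .gen 755 (530, false)),
    (3681, .gen 809 (491, false)),
    (941, .gen 809 (530, false)),
    (1866, .gen 2761 (491, false)),
    (148, .gen 2761 (530, false)),
    (689, .gen 1987 (491, false)),
    (2873, .gen 1987 (530, false)),
    (2228, .gen 1283 (491, false)),
    (1223, .gen 1283 (530, false)),
    (3550, .gen 3520 (491, false)),
    (475, .gen 3520 (530, false)),
    (796, .gen 2186 (491, false)),
    (445, .gen 2186 (530, false)),
    (1098, .gen 1089 (491, false)),
    (2533, .gen 1089 (530, false)),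
    (2720, .gen 2265 (491, false)),
    (1525, .gen 2265 (530, false)),
    (668, .gen 219 (491, false)),
    (3467, .gen 219 (530, false)),
    (2056, .gen 2774 (491, false)),
    (244, .gen 2774 (530, false)),
    (723, .gen 3731 (491, false)),
    (133, .gen 3731 (530, false)),
    (2597, .gen 3525 (491, false)),
    (1330, .gen 3525 (530, false)),
    (1905, .gen 1043 (491, false)),
    (78, .gen 1043 (530, false)),
    (204, .gen 1588 (491, false)),
    (3792, .gen 1588 (530, false)),
    (1336, .gen 2817 (491, false)),
    (774, .gen 2817 (530, false)),
    (1589, .gen 1688 (491, false)),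
    (2458, .gen 1688 (530, false))]

/-- Visits. -/
def v18_3 : List (ℕ × Src) :=
  [(3794, .gen 2494 (491, false)),
    (27, .gen 2494 (530, false)),
    (3436, .gen 3210 (491, false)),
    (3461, .gen 3210 (530, false)),
    (3683, .gen 3309 (491, false)),
    (1153, .gen 3309 (530, false)),
    (3587, .gen 1841 (491, false)),
    (702, .gen 1841 (530, false)),
    (2252, .gen 1985 (491, false)),
    (2303, .gen 3695 (491, false)),
    (2445, .gen 3695 (530, false)),
    (772, .gen 1288 (491, false)),
    (183, .gen 1288 (530, false)),
    (3034, .gen 2999 (491, false)),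
    (918, .gen 2999 (530, false)),
    (2821, .gen 3223 (491, false)),
    (3441, .gen 3060 (491, false)),
    (502, .gen 3060 (530, false)),
    (3656, .gen 102 (491, false)),
    (3156, .gen 102 (530, false)),
    (1199, .gen 2460 (491, false)),
    (2147, .gen 2460 (530, false)),
    (2031, .gen 3721 (491, false)),
    (1131, .gen 3721 (530, false)),
    (1747, .gen 3357 (491, false)),
    (3172, .gen 3004 (491, false)),
    (870, .gen 3004 (530, false)),
    (3775, .gen 3756 (491, false)),
    (1919, .gen 3756 (530, false)),
    (1568, .gen 1368 (491, false)),
    (1208, .gen 1368 (530, false)),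
    (230, .gen 1016 (530, false)),
    (70, .gen 369 (530, false)),
    (660, .gen 2298 (491, false)),
    (1456, .gen 2298 (530, false)),
    (937, .gen 1273 (530, false)),
    (3234, .gen 2994 (491, false)),
    (624, .gen 2994 (530, false)),
    (1809, .gen 2126 (491, false)),
    (974, .gen 2126 (530, false)),
    (1035, .gen 1227 (491, false)),
    (1714, .gen 1227 (530, false)),
    (3499, .gen 3765 (491, false)),
    (746, .gen 3765 (530, false)),
    (2722, .gen 2747 (491, false)),
    (1129, .gen 2747 (530, false)),
    (2876, .gen 3134 (491, false)),
    (926, .gen 3134 (530, false)),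
    (1637, .gen 2144 (491, false)),
    (1695, .gen 2144 (530, false)),
    (2487, .gen 1957 (491, false)),
    (471, .gen 1957 (530, false)),
    (1050, .gen 2232 (491, false)),
    (3212, .gen 2232 (530, false)),
    (2523, .gen 949 (491, false)),
    (104, .gen 949 (530, false)),
    (2518, .gen 1566 (530, false)),
    (727, .gen 1650 (530, false)),
    (766, .gen 1036 (530, false)),
    (1551, .gen 2573 (530, false)),
    (2988, .gen 3407 (530, false)),
    (1883, .gen 506 (491, false)),
    (40, .gen 506 (530, false)),
    (1383, .gen 2540 (491, false)),
    (402, .gen 2540 (530, false)),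
    (1169, .gen 2269 (491, false)),
    (2324, .gen 2269 (530, false)),
    (3432, .gen 2742 (491, false)),
    (441, .gen 2742 (530, false)),
    (1629, .gen 673 (491, false)),
    (1279, .gen 673 (530, false)),
    (1302, .gen 574 (491, false)),
    (2480, .gen 574 (530, false)),
    (1032, .gen 389 (491, false)),
    (505, .gen 389 (530, false)),
    (548, .gen 114 (491, false)),
    (96, .gen 114 (530, false)),
    (3423, .gen 1495 (491, false)),
    (168, .gen 1495 (530, false)),
    (972, .gen 1849 (491, false)),
    (209, .gen 1849 (530, false)),
    (2117, .gen 469 (491, false)),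
    (2783, .gen 469 (530, false)),
    (1490, .gen 1610 (491, false)),
    (2628, .gen 1610 (530, false)),
    (439, .gen 3035 (491, false)),
    (1487, .gen 3035 (530, false)),
    (2182, .gen 307 (491, false)),
    (3049, .gen 307 (530, false)),
    (3279, .gen 155 (491, false)),
    (2215, .gen 155 (530, false)),
    (2758, .gen 164 (491, false)),
    (416, .gen 415 (491, false)),
    (2824, .gen 2955 (491, false)),
    (1114, .gen 2955 (530, false)),
    (1450, .gen 1897 (491, false)),
    (849, .gen 1897 (530, false)),
    (1323, .gen 915 (491, false)),
    (1597, .gen 915 (530, false)),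
    (1963, .gen 2102 (491, false)),
    (129, .gen 2102 (530, false)),
    (2328, .gen 3642 (491, false)),
    (1299, .gen 1247 (530, false)),
    (491, .gen 1574 (491, false)),
    (2896, .gen 1574 (530, false)),
    (541, .gen 490 (491, false)),
    (2440, .gen 490 (530, false)),
    (1973, .gen 2280 (491, false)),
    (188, .gen 2280 (530, false)),
    (1174, .gen 436 (491, false)),
    (2286, .gen 436 (530, false)),
    (3126, .gen 700 (491, false)),
    (621, .gen 700 (530, false)),
    (1958, .gen 724 (491, false)),
    (1523, .gen 724 (530, false)),
    (3321, .gen 172 (491, false)),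
    (2805, .gen 172 (530, false)),
    (2057, .gen 253 (491, false)),
    (1499, .gen 253 (530, false)),
    (2940, .gen 1596 (491, false)),
    (210, .gen 1596 (530, false)),
    (2026, .gen 3439 (491, false)),
    (333, .gen 3439 (530, false)),
    (3605, .gen 3211 (491, false)),
    (2950, .gen 3211 (530, false)),
    (1608, .gen 1405 (491, false)),
    (3452, .gen 1405 (530, false)),
    (1899, .gen 2612 (491, false)),
    (3118, .gen 2612 (530, false)),
    (1451, .gen 1204 (491, false)),
    (311, .gen 1204 (530, false)),
    (3651, .gen 2416 (491, false)),
    (3003, .gen 2416 (530, false)),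
    (3658, .gen 3368 (491, false)),
    (785, .gen 3368 (530, false)),
    (1096, .gen 3476 (491, false)),
    (1837, .gen 3476 (530, false)),
    (184, .gen 3327 (491, false)),
    (3615, .gen 3327 (530, false)),
    (2715, .gen 1192 (491, false)),
    (2736, .gen 1192 (530, false)),
    (648, .gen 2291 (491, false)),
    (1921, .gen 2291 (530, false)),
    (3660, .gen 1730 (491, false)),
    (3414, .gen 1730 (530, false)),
    (3471, .gen 1879 (491, false)),
    (4, .gen 1437 (491, false)),
    (3567, .gen 1437 (530, false)),
    (3231, .gen 2650 (491, false)),
    (3560, .gen 2650 (530, false)),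
    (2001, .gen 2578 (491, false)),
    (3590, .gen 2578 (530, false)),
    (1253, .gen 3167 (491, false)),
    (2394, .gen 3167 (530, false)),
    (1626, .gen 1268 (491, false)),
    (1421, .gen 2127 (491, false)),
    (2255, .gen 859 (491, false)),
    (312, .gen 121 (491, false)),
    (2830, .gen 360 (491, false)),
    (1481, .gen 3650 (491, false)),
    (3528, .gen 1297 (491, false)),
    (3477, .gen 3486 (491, false)),
    (3253, .gen 3255 (491, false)),
    (2823, .gen 2325 (491, false)),
    (2619, .gen 2325 (530, false)),
    (3544, .gen 1649 (491, false)),
    (2065, .gen 1649 (530, false)),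
    (2380, .gen 2166 (491, false)),
    (2932, .gen 2166 (530, false)),
    (2878, .gen 2358 (491, false)),
    (651, .gen 2358 (530, false)),
    (970, .gen 535 (491, false)),
    (3569, .gen 535 (530, false)),
    (495, .gen 178 (491, false)),
    (805, .gen 178 (530, false)),
    (1946, .gen 1187 (530, false)),
    (2522, .gen 2374 (491, false)),
    (477, .gen 2374 (530, false)),
    (1045, .gen 2975 (491, false)),
    (223, .gen 2975 (530, false)),
    (2359, .gen 510 (491, false)),
    (29, .gen 510 (530, false)),
    (2631, .gen 1127 (491, false)),
    (1705, .gen 1127 (530, false)),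
    (3611, .gen 629 (491, false)),
    (80, .gen 629 (530, false)),
    (2352, .gen 1520 (491, false)),
    (3243, .gen 1520 (530, false)),
    (1833, .gen 1554 (491, false)),
    (2334, .gen 1554 (530, false)),
    (2045, .gen 431 (491, false)),
    (2665, .gen 431 (530, false)),
    (1531, .gen 3122 (530, false)),
    (3377, .gen 5 (491, false)),
    (1595, .gen 5 (530, false)),
    (1783, .gen 2827 (491, false)),
    (2467, .gen 693 (491, false)),
    (2546, .gen 693 (530, false)),
    (3127, .gen 2924 (491, false)),
    (1259, .gen 2924 (530, false)),
    (452, .gen 3273 (491, false)),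
    (1321, .gen 3273 (530, false)),
    (1072, .gen 1967 (491, false)),
    (1393, .gen 1967 (530, false)),
    (2701, .gen 2080 (491, false)),
    (1801, .gen 2080 (530, false)),
    (3723, .gen 1694 (491, false)),
    (571, .gen 1694 (530, false)),
    (643, .gen 1986 (491, false)),
    (2609, .gen 1986 (530, false)),
    (2071, .gen 2866 (491, false)),
    (21, .gen 2866 (530, false)),
    (2897, .gen 1076 (530, false)),
    (180, .gen 255 (491, false)),
    (1, .gen 255 (530, false)),
    (969, .gen 1818 (530, false)),
    (329, .gen 1742 (530, false)),
    (944, .gen 1829 (530, false)),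
    (135, .gen 1106 (530, false)),
    (1211, .gen 1562 (530, false)),
    (1056, .gen 298 (491, false)),
    (992, .gen 298 (530, false)),
    (206, .gen 3465 (530, false)),
    (919, .gen 618 (530, false)),
    (1102, .gen 1756 (491, false)),
    (3200, .gen 1756 (530, false)),
    (1518, .gen 2660 (491, false)),
    (3418, .gen 2660 (530, false)),
    (2981, .gen 640 (491, false)),
    (1176, .gen 640 (530, false)),
    (2956, .gen 2745 (491, false)),
    (3509, .gen 2745 (530, false)),
    (3712, .gen 2282 (491, false)),
    (884, .gen 2282 (530, false)),
    (1738, .gen 1527 (491, false)),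
    (1404, .gen 1527 (530, false)),
    (3298, .gen 2561 (491, false)),
    (1117, .gen 2561 (530, false)),
    (1889, .gen 900 (491, false)),
    (2683, .gen 900 (530, false)),
    (3577, .gen 1666 (491, false)),
    (1498, .gen 1666 (530, false)),
    (2903, .gen 100 (491, false)),
    (3268, .gen 100 (530, false)),
    (1377, .gen 2764 (491, false)),
    (3648, .gen 2764 (530, false)),
    (2733, .gen 1619 (491, false)),
    (2155, .gen 1619 (530, false)),
    (2801, .gen 2106 (491, false)),
    (2818, .gen 1378 (491, false)),
    (1160, .gen 1378 (530, false)),
    (430, .gen 24 (491, false)),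
    (3319, .gen 24 (530, false)),
    (454, .gen 662 (491, false)),
    (711, .gen 662 (530, false)),
    (2813, .gen 2371 (491, false)),
    (1066, .gen 2371 (530, false)),
    (2637, .gen 2258 (491, false)),
    (3703, .gen 2258 (530, false)),
    (1965, .gen 987 (491, false)),
    (2051, .gen 987 (530, false)),
    (429, .gen 2351 (530, false)),
    (3376, .gen 1465 (491, false)),
    (91, .gen 1465 (530, false)),
    (1190, .gen 1873 (491, false)),
    (1853, .gen 1873 (530, false)),
    (1887, .gen 1316 (491, false)),
    (3764, .gen 1316 (530, false)),
    (3002, .gen 1573 (491, false)),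
    (241, .gen 1573 (530, false)),
    (2082, .gen 3501 (491, false)),
    (2321, .gen 3501 (530, false)),
    (457, .gen 417 (491, false)),
    (1027, .gen 417 (530, false)),
    (2916, .gen 3300 (491, false)),
    (557, .gen 3300 (530, false)),
    (201, .gen 3444 (491, false)),
    (1836, .gen 3444 (530, false)),
    (1386, .gen 2173 (491, false)),
    (3015, .gen 2173 (530, false)),
    (3612, .gen 1607 (491, false)),
    (638, .gen 252 (491, false)),
    (1938, .gen 252 (530, false)),
    (2989, .gen 3435 (491, false)),
    (3551, .gen 3435 (530, false)),
    (848, .gen 3162 (491, false)),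
    (1697, .gen 3162 (530, false)),
    (1291, .gen 2107 (491, false)),
    (95, .gen 2107 (530, false)),
    (2046, .gen 2052 (491, false)),
    (758, .gen 2052 (530, false)),
    (3542, .gen 1304 (491, false)),
    (465, .gen 1304 (530, false)),
    (2593, .gen 2706 (491, false)),
    (1811, .gen 2706 (530, false)),
    (1411, .gen 2840 (491, false)),
    (2773, .gen 2840 (530, false)),
    (3469, .gen 1912 (491, false)),
    (2141, .gen 1912 (530, false)),
    (25, .gen 831 (491, false))]

/-- Visits. -/
def v18_4 : List (ℕ × Src) :=
  [(1788, .gen 831 (530, false)),
    (363, .gen 358 (491, false)),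
    (3155, .gen 444 (491, false)),
    (3600, .gen 444 (530, false)),
    (2162, .gen 3530 (491, false)),
    (3630, .gen 3530 (530, false)),
    (1385, .gen 927 (491, false)),
    (1515, .gen 927 (530, false)),
    (2734, .gen 1237 (491, false)),
    (1068, .gen 1237 (530, false)),
    (1014, .gen 3402 (491, false)),
    (3498, .gen 979 (491, false)),
    (2312, .gen 979 (530, false)),
    (34, .gen 2570 (491, false)),
    (2949, .gen 2570 (530, false)),
    (2731, .gen 988 (491, false)),
    (3470, .gen 988 (530, false)),
    (1822, .gen 1940 (491, false)),
    (1727, .gen 1940 (530, false)),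
    (1692, .gen 2005 (491, false)),
    (2385, .gen 2005 (530, false)),
    (1835, .gen 3197 (491, false)),
    (3216, .gen 3197 (530, false)),
    (2938, .gen 2986 (491, false)),
    (1207, .gen 2986 (530, false)),
    (440, .gen 240 (491, false)),
    (3659, .gen 240 (530, false)),
    (534, .gen 991 (491, false)),
    (3408, .gen 991 (530, false)),
    (1513, .gen 3451 (491, false)),
    (19, .gen 3451 (530, false)),
    (2636, .gen 3646 (491, false)),
    (1825, .gen 3646 (530, false)),
    (2902, .gen 2018 (491, false)),
    (1272, .gen 2018 (530, false)),
    (1630, .gen 1426 (491, false)),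
    (3751, .gen 1426 (530, false)),
    (843, .gen 3669 (491, false)),
    (72, .gen 3669 (530, false)),
    (2103, .gen 1709 (491, false)),
    (975, .gen 1709 (530, false)),
    (366, .gen 3198 (530, false)),
    (2800, .gen 2308 (491, false)),
    (263, .gen 2308 (530, false)),
    (3647, .gen 3057 (491, false)),
    (3485, .gen 3057 (530, false)),
    (3665, .gen 3175 (491, false)),
    (250, .gen 3175 (530, false)),
    (10, .gen 3744 (491, false)),
    (3566, .gen 3744 (530, false)),
    (74, .gen 246 (491, false)),
    (839, .gen 246 (530, false)),
    (3282, .gen 364 (530, false)),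
    (2895, .gen 646 (530, false)),
    (3280, .gen 735 (530, false)),
    (2401, .gen 3468 (530, false)),
    (1627, .gen 3108 (491, false)),
    (451, .gen 3108 (530, false)),
    (613, .gen 858 (491, false)),
    (2681, .gen 858 (530, false)),
    (3382, .gen 3047 (491, false)),
    (2914, .gen 3047 (530, false)),
    (2982, .gen 2842 (491, false)),
    (2566, .gen 2842 (530, false)),
    (860, .gen 1329 (491, false)),
    (2545, .gen 1329 (530, false)),
    (1494, .gen 75 (491, false)),
    (1717, .gen 75 (530, false)),
    (527, .gen 611 (491, false)),
    (3245, .gen 611 (530, false)),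
    (3115, .gen 1503 (491, false)),
    (1151, .gen 1503 (530, false)),
    (3403, .gen 3662 (491, false)),
    (2036, .gen 3662 (530, false)),
    (3171, .gen 1894 (491, false)),
    (1138, .gen 1894 (530, false)),
    (1083, .gen 1449 (491, false)),
    (2393, .gen 1449 (530, false)),
    (1886, .gen 2825 (491, false)),
    (3042, .gen 2825 (530, false)),
    (922, .gen 2392 (491, false)),
    (1715, .gen 2392 (530, false)),
    (1935, .gen 1524 (491, false)),
    (2772, .gen 1524 (530, false)),
    (275, .gen 1180 (491, false)),
    (1590, .gen 1891 (491, false)),
    (62, .gen 1891 (530, false)),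
    (2175, .gen 1360 (491, false)),
    (3424, .gen 1360 (530, false)),
    (3120, .gen 1400 (491, false)),
    (879, .gen 1400 (530, false)),
    (2373, .gen 2711 (491, false)),
    (2059, .gen 2711 (530, false)),
    (1444, .gen 137 (491, false)),
    (3462, .gen 137 (530, false)),
    (3369, .gen 313 (491, false)),
    (3497, .gen 313 (530, false)),
    (1700, .gen 1182 (491, false)),
    (2877, .gen 1182 (530, false)),
    (2396, .gen 722 (491, false)),
    (1135, .gen 722 (530, false)),
    (3517, .gen 2078 (491, false)),
    (409, .gen 2078 (530, false)),
    (3645, .gen 2097 (491, false)),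
    (2757, .gen 2592 (491, false)),
    (1158, .gen 3010 (491, false)),
    (2596, .gen 2238 (491, false)),
    (565, .gen 536 (491, false)),
    (1126, .gen 536 (530, false)),
    (3420, .gen 2204 (491, false)),
    (446, .gen 2204 (530, false)),
    (2270, .gen 1643 (491, false)),
    (1684, .gen 1643 (530, false)),
    (812, .gen 649 (530, false)),
    (351, .gen 1278 (530, false)),
    (2177, .gen 356 (491, false)),
    (998, .gen 356 (530, false)),
    (2087, .gen 1547 (491, false)),
    (2539, .gen 1547 (530, false)),
    (3161, .gen 547 (491, false)),
    (11, .gen 547 (530, false)),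
    (2452, .gen 3594 (491, false)),
    (1939, .gen 3594 (530, false)),
    (667, .gen 1275 (491, false)),
    (2170, .gen 1275 (530, false)),
    (650, .gen 1563 (491, false)),
    (3260, .gen 1563 (530, false)),
    (2113, .gen 2009 (491, false)),
    (3106, .gen 2009 (530, false)),
    (1459, .gen 3715 (491, false)),
    (3144, .gen 3715 (530, false)),
    (1011, .gen 1128 (491, false)),
    (403, .gen 3061 (491, false)),
    (2028, .gen 3077 (491, false)),
    (1055, .gen 3077 (530, false)),
    (1478, .gen 424 (491, false)),
    (3248, .gen 424 (530, false)),
    (1257, .gen 2879 (491, false)),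
    (3689, .gen 2879 (530, false)),
    (105, .gen 2007 (491, false)),
    (2865, .gen 2007 (530, false)),
    (2250, .gen 2118 (530, false)),
    (2900, .gen 1556 (491, false)),
    (827, .gen 1556 (530, false)),
    (1034, .gen 2307 (491, false)),
    (3084, .gen 2307 (530, false)),
    (2699, .gen 428 (491, false)),
    (3011, .gen 2288 (491, false)),
    (3625, .gen 2288 (530, false)),
    (2229, .gen 22 (491, false)),
    (778, .gen 22 (530, false)),
    (3032, .gen 1749 (491, false)),
    (438, .gen 1749 (530, false)),
    (3610, .gen 2987 (491, false)),
    (259, .gen 2987 (530, false)),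
    (3274, .gen 238 (491, false)),
    (334, .gen 238 (530, false)),
    (2930, .gen 3635 (491, false)),
    (251, .gen 3635 (530, false)),
    (1659, .gen 2976 (491, false)),
    (2782, .gen 2976 (530, false)),
    (528, .gen 2816 (530, false)),
    (3781, .gen 2826 (491, false)),
    (559, .gen 2826 (530, false)),
    (2577, .gen 390 (491, false)),
    (1379, .gen 390 (530, false)),
    (549, .gen 512 (491, false)),
    (2770, .gen 512 (530, false)),
    (1885, .gen 66 (530, false)),
    (3481, .gen 260 (530, false)),
    (797, .gen 2251 (530, false)),
    (276, .gen 3374 (491, false)),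
    (3780, .gen 3374 (530, false)),
    (1857, .gen 2414 (491, false)),
    (1813, .gen 2414 (530, false)),
    (2880, .gen 229 (491, false)),
    (2792, .gen 229 (530, false)),
    (2465, .gen 354 (491, false)),
    (1103, .gen 354 (530, false)),
    (324, .gen 1392 (530, false)),
    (830, .gen 1210 (491, false)),
    (405, .gen 1210 (530, false)),
    (639, .gen 286 (491, false)),
    (464, .gen 286 (530, false)),
    (1792, .gen 671 (530, false)),
    (1351, .gen 169 (491, false)),
    (3692, .gen 169 (530, false)),
    (2163, .gen 1374 (491, false)),
    (2584, .gen 1374 (530, false)),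
    (2233, .gen 720 (491, false)),
    (1497, .gen 720 (530, false)),
    (1559, .gen 3570 (491, false)),
    (2568, .gen 3570 (530, false)),
    (1904, .gen 633 (491, false)),
    (3284, .gen 633 (530, false)),
    (3613, .gen 401 (530, false)),
    (2601, .gen 1218 (491, false)),
    (1038, .gen 1218 (530, false)),
    (2509, .gen 539 (491, false)),
    (2789, .gen 539 (530, false)),
    (3554, .gen 718 (491, false)),
    (3563, .gen 718 (530, false)),
    (1240, .gen 652 (530, false)),
    (1826, .gen 2861 (491, false)),
    (474, .gen 1324 (491, false)),
    (2309, .gen 1324 (530, false)),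
    (550, .gen 2332 (530, false)),
    (2851, .gen 1868 (491, false)),
    (1052, .gen 1868 (530, false)),
    (126, .gen 741 (491, false)),
    (523, .gen 741 (530, false)),
    (3235, .gen 2493 (491, false)),
    (422, .gen 2493 (530, false)),
    (2978, .gen 159 (530, false)),
    (609, .gen 2187 (491, false)),
    (271, .gen 2187 (530, false)),
    (2534, .gen 1061 (491, false)),
    (3762, .gen 1061 (530, false)),
    (1025, .gen 2844 (491, false)),
    (1994, .gen 2844 (530, false)),
    (2624, .gen 1557 (491, false)),
    (756, .gen 1557 (530, false)),
    (1698, .gen 3247 (491, false)),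
    (1869, .gen 2053 (491, false)),
    (1960, .gen 3598 (491, false)),
    (3256, .gen 3598 (530, false)),
    (1238, .gen 3745 (491, false)),
    (1966, .gen 3745 (530, false)),
    (697, .gen 543 (491, false)),
    (3018, .gen 543 (530, false)),
    (1446, .gen 768 (491, false)),
    (1308, .gen 1410 (491, false)),
    (1243, .gen 3228 (491, false)),
    (1084, .gen 3228 (530, false)),
    (1623, .gen 721 (491, false)),
    (3123, .gen 721 (530, false)),
    (459, .gen 38 (530, false)),
    (3702, .gen 1277 (491, false)),
    (283, .gen 1277 (530, false)),
    (3270, .gen 2723 (491, false)),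
    (3458, .gen 1587 (530, false)),
    (2670, .gen 3623 (530, false)),
    (3039, .gen 950 (491, false)),
    (2571, .gen 3026 (491, false)),
    (3121, .gen 3026 (530, false)),
    (2531, .gen 943 (491, false)),
    (1340, .gen 353 (491, false)),
    (857, .gen 353 (530, false)),
    (2443, .gen 1858 (491, false)),
    (2498, .gen 1858 (530, false)),
    (414, .gen 1582 (491, false)),
    (1929, .gen 1582 (530, false)),
    (1191, .gen 1995 (491, false)),
    (1647, .gen 1995 (530, false)),
    (672, .gen 1455 (491, false)),
    (504, .gen 1455 (530, false)),
    (866, .gen 1544 (491, false)),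
    (1631, .gen 1544 (530, false)),
    (3457, .gen 635 (491, false)),
    (1918, .gen 635 (530, false)),
    (1907, .gen 481 (491, false)),
    (1537, .gen 481 (530, false)),
    (1567, .gen 2906 (491, false)),
    (861, .gen 2906 (530, false)),
    (1159, .gen 1812 (491, false)),
    (1250, .gen 1812 (530, false)),
    (3383, .gen 1733 (491, false)),
    (2719, .gen 1733 (530, false)),
    (2741, .gen 156 (491, false)),
    (2019, .gen 156 (530, false)),
    (522, .gen 572 (491, false)),
    (1875, .gen 572 (530, false)),
    (365, .gen 3141 (491, false)),
    (433, .gen 3141 (530, false)),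
    (86, .gen 258 (491, false)),
    (3543, .gen 258 (530, false)),
    (1314, .gen 581 (491, false)),
    (2776, .gen 581 (530, false)),
    (965, .gen 604 (491, false)),
    (3524, .gen 604 (530, false)),
    (1990, .gen 3430 (491, false)),
    (3158, .gen 3430 (530, false)),
    (2191, .gen 1394 (491, false)),
    (1867, .gen 1394 (530, false)),
    (2061, .gen 87 (491, false)),
    (617, .gen 87 (530, false)),
    (901, .gen 1173 (491, false)),
    (350, .gen 1173 (530, false)),
    (453, .gen 2839 (491, false)),
    (2921, .gen 2839 (530, false)),
    (2559, .gen 1434 (491, false)),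
    (2875, .gen 1434 (530, false)),
    (2691, .gen 1654 (491, false)),
    (3388, .gen 1654 (530, false)),
    (1901, .gen 2508 (491, false)),
    (2960, .gen 2508 (530, false)),
    (2412, .gen 2610 (491, false)),
    (3037, .gen 2610 (530, false)),
    (423, .gen 2627 (491, false)),
    (249, .gen 2627 (530, false))]

/-- Visits. -/
def v18_5 : List (ℕ × Src) :=
  [(898, .gen 1286 (491, false)),
    (3103, .gen 1286 (530, false)),
    (3737, .gen 231 (491, false)),
    (2633, .gen 231 (530, false)),
    (3579, .gen 3229 (491, false)),
    (3145, .gen 3229 (530, false)),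
    (784, .gen 1471 (491, false)),
    (2992, .gen 1471 (530, false)),
    (1614, .gen 1058 (491, false)),
    (3771, .gen 1058 (530, false)),
    (2979, .gen 328 (491, false)),
    (2093, .gen 328 (530, false)),
    (410, .gen 1327 (491, false)),
    (1702, .gen 1327 (530, false)),
    (3548, .gen 322 (491, false)),
    (2697, .gen 322 (530, false)),
    (694, .gen 1476 (491, false)),
    (3177, .gen 1476 (530, false)),
    (218, .gen 53 (491, false)),
    (1961, .gen 53 (530, false)),
    (2807, .gen 1057 (491, false)),
    (1270, .gen 1057 (530, false)),
    (1002, .gen 2386 (491, false)),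
    (3453, .gen 2386 (530, false)),
    (1511, .gen 2 (491, false)),
    (85, .gen 2 (530, false)),
    (2993, .gen 3311 (491, false)),
    (1488, .gen 3311 (530, false)),
    (2887, .gen 1576 (491, false)),
    (3090, .gen 1576 (530, false)),
    (3787, .gen 923 (491, false)),
    (1354, .gen 923 (530, false)),
    (3107, .gen 814 (491, false)),
    (1261, .gen 814 (530, false)),
    (2469, .gen 1888 (491, false)),
    (3609, .gen 1888 (530, false)),
    (2207, .gen 1113 (491, false)),
    (3400, .gen 1113 (530, false)),
    (1736, .gen 3069 (491, false)),
    (3160, .gen 3069 (530, false)),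
    (1962, .gen 2857 (491, false)),
    (2798, .gen 2857 (530, false)),
    (1936, .gen 3773 (491, false)),
    (290, .gen 3773 (530, false)),
    (359, .gen 1789 (491, false)),
    (456, .gen 1789 (530, false)),
    (2311, .gen 1664 (491, false)),
    (794, .gen 1664 (530, false)),
    (1729, .gen 2301 (491, false)),
    (757, .gen 2301 (530, false)),
    (149, .gen 2885 (491, false)),
    (593, .gen 2885 (530, false)),
    (2909, .gen 1674 (491, false)),
    (2245, .gen 1674 (530, false)),
    (214, .gen 2519 (491, false)),
    (93, .gen 2519 (530, false)),
    (2685, .gen 3447 (491, false)),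
    (3056, .gen 3447 (530, false)),
    (2888, .gen 3176 (491, false)),
    (726, .gen 3176 (530, false)),
    (2114, .gen 3024 (491, false)),
    (917, .gen 3024 (530, false)),
    (3347, .gen 3710 (491, false)),
    (443, .gen 3710 (530, false)),
    (2410, .gen 1141 (491, false)),
    (947, .gen 1141 (530, false)),
    (2599, .gen 3589 (491, false)),
    (2513, .gen 3589 (530, false)),
    (967, .gen 3628 (491, false)),
    (1882, .gen 3628 (530, false)),
    (2183, .gen 3488 (491, false)),
    (112, .gen 3488 (530, false)),
    (1454, .gen 1810 (491, false)),
    (1823, .gen 1810 (530, false)),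
    (2759, .gen 1721 (491, false)),
    (1856, .gen 1721 (530, false)),
    (2313, .gen 1668 (491, false)),
    (226, .gen 1668 (530, false)),
    (3306, .gen 2150 (491, false)),
    (819, .gen 2150 (530, false)),
    (3484, .gen 2970 (491, false)),
    (3182, .gen 2970 (530, false)),
    (285, .gen 270 (491, false)),
    (1475, .gen 270 (530, false)),
    (2784, .gen 1395 (491, false)),
    (2640, .gen 1395 (530, false)),
    (3083, .gen 3553 (491, false)),
    (2658, .gen 3553 (530, false)),
    (1436, .gen 2964 (491, false)),
    (327, .gen 2964 (530, false)),
    (1755, .gen 1342 (491, false)),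
    (2120, .gen 1342 (530, false)),
    (3150, .gen 2785 (491, false)),
    (2947, .gen 2785 (530, false)),
    (3213, .gen 2453 (491, false)),
    (1839, .gen 2453 (530, false)),
    (2378, .gen 1743 (491, false)),
    (2550, .gen 1743 (530, false)),
    (2889, .gen 3454 (491, false)),
    (3601, .gen 3454 (530, false)),
    (1834, .gen 3770 (491, false)),
    (601, .gen 3770 (530, false)),
    (3334, .gen 3693 (491, false)),
    (760, .gen 3693 (530, false)),
    (2739, .gen 2899 (491, false)),
    (955, .gen 2899 (530, false)),
    (3729, .gen 1079 (491, false)),
    (3237, .gen 1079 (530, false)),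
    (1125, .gen 647 (491, false)),
    (3592, .gen 647 (530, false)),
    (3048, .gen 73 (491, false)),
    (1646, .gen 73 (530, false)),
    (1881, .gen 1954 (491, false)),
    (235, .gen 1954 (530, false)),
    (54, .gen 1435 (491, false)),
    (3113, .gen 1435 (530, false)),
    (2730, .gen 1903 (491, false)),
    (2554, .gen 1903 (530, false)),
    (553, .gen 594 (491, false)),
    (1427, .gen 594 (530, false)),
    (1071, .gen 880 (491, false)),
    (1660, .gen 880 (530, false)),
    (3459, .gen 2802 (491, false)),
    (297, .gen 2802 (530, false)),
    (427, .gen 1281 (491, false)),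
    (3726, .gen 1281 (530, false)),
    (3159, .gen 1696 (491, false)),
    (2058, .gen 1696 (530, false)),
    (1069, .gen 411 (491, false)),
    (1219, .gen 411 (530, false)),
    (3356, .gen 2408 (491, false)),
    (1603, .gen 2408 (530, false)),
    (3617, .gen 1931 (491, false)),
    (268, .gen 1931 (530, false)),
    (2278, .gen 1502 (491, false)),
    (3687, .gen 1502 (530, false)),
    (3326, .gen 108 (491, false)),
    (907, .gen 108 (530, false)),
    (1441, .gen 829 (491, false)),
    (3287, .gen 829 (530, false)),
    (56, .gen 242 (491, false)),
    (1644, .gen 242 (530, false)),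
    (2194, .gen 2603 (491, false)),
    (2217, .gen 2603 (530, false)),
    (589, .gen 2954 (491, false)),
    (1952, .gen 2954 (530, false)),
    (1373, .gen 1720 (491, false)),
    (1860, .gen 1720 (530, false)),
    (132, .gen 2738 (491, false)),
    (996, .gen 2738 (530, false)),
    (3536, .gen 3455 (491, false)),
    (2491, .gen 3455 (530, false)),
    (800, .gen 3580 (491, false)),
    (598, .gen 3580 (530, false)),
    (2918, .gen 2635 (491, false)),
    (913, .gen 2635 (530, false)),
    (3297, .gen 953 (491, false)),
    (1941, .gen 953 (530, false)),
    (2138, .gen 2030 (491, false)),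
    (883, .gen 2030 (530, false)),
    (2409, .gen 3186 (491, false)),
    (3492, .gen 3186 (530, false)),
    (3734, .gen 2403 (491, false)),
    (889, .gen 2403 (530, false)),
    (1251, .gen 473 (491, false)),
    (2548, .gen 473 (530, false)),
    (1183, .gen 957 (491, false)),
    (2768, .gen 957 (530, false)),
    (3541, .gen 3218 (491, false)),
    (1463, .gen 3218 (530, false)),
    (3413, .gen 844 (491, false)),
    (116, .gen 844 (530, false)),
    (3323, .gen 2399 (491, false)),
    (146, .gen 2399 (530, false)),
    (1064, .gen 2676 (491, false)),
    (232, .gen 2676 (530, false)),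
    (1728, .gen 3257 (491, false)),
    (49, .gen 3257 (530, false)),
    (3793, .gen 1564 (491, false)),
    (2178, .gen 1564 (530, false)),
    (1365, .gen 467 (491, false)),
    (546, .gen 467 (530, false)),
    (123, .gen 1452 (491, false)),
    (437, .gen 1452 (530, false)),
    (3529, .gen 1006 (491, false)),
    (1001, .gen 1006 (530, false)),
    (3339, .gen 3595 (491, false)),
    (60, .gen 3595 (530, false)),
    (3258, .gen 447 (491, false)),
    (1181, .gen 447 (530, false)),
    (2833, .gen 69 (491, false)),
    (1580, .gen 69 (530, false)),
    (868, .gen 472 (491, false)),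
    (1209, .gen 472 (530, false)),
    (577, .gen 3135 (491, false)),
    (914, .gen 3135 (530, false)),
    (2314, .gen 2834 (491, false)),
    (1652, .gen 2834 (530, false)),
    (2682, .gen 787 (491, false)),
    (3442, .gen 787 (530, false)),
    (705, .gen 2694 (491, false)),
    (111, .gen 2694 (530, false)),
    (3779, .gen 2206 (491, false)),
    (596, .gen 2206 (530, false)),
    (1492, .gen 12 (491, false)),
    (2811, .gen 12 (530, false)),
    (2748, .gen 3337 (491, false)),
    (706, .gen 3337 (530, false)),
    (2218, .gen 1926 (491, false)),
    (2696, .gen 1926 (530, false)),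
    (2368, .gen 2168 (491, false)),
    (2535, .gen 2168 (530, false)),
    (1254, .gen 343 (491, false)),
    (3040, .gen 343 (530, false)),
    (3023, .gen 2315 (491, false)),
    (2084, .gen 2315 (530, false)),
    (2192, .gen 2506 (491, false)),
    (320, .gen 2506 (530, false)),
    (2016, .gen 227 (491, false)),
    (1553, .gen 227 (530, false)),
    (1143, .gen 1212 (491, false)),
    (1760, .gen 1212 (530, false)),
    (2788, .gen 212 (491, false)),
    (3249, .gen 212 (530, false)),
    (3064, .gen 1482 (491, false)),
    (2023, .gen 1482 (530, false)),
    (3422, .gen 1942 (491, false)),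
    (1776, .gen 1942 (530, false)),
    (2717, .gen 221 (491, false)),
    (2095, .gen 221 (530, false)),
    (174, .gen 2579 (491, false)),
    (2014, .gen 2579 (530, false)),
    (2067, .gen 3371 (491, false)),
    (1943, .gen 3371 (530, false)),
    (2933, .gen 744 (491, false)),
    (339, .gen 744 (530, false)),
    (1372, .gen 2039 (491, false)),
    (2858, .gen 2039 (530, false)),
    (254, .gen 561 (491, false)),
    (2049, .gen 561 (530, false)),
    (2718, .gen 1808 (491, false)),
    (3362, .gen 1808 (530, false)),
    (2781, .gen 309 (491, false)),
    (872, .gen 309 (530, false)),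
    (1390, .gen 2132 (491, false)),
    (2537, .gen 2132 (530, false)),
    (740, .gen 347 (491, false)),
    (1569, .gen 347 (530, false)),
    (63, .gen 614 (491, false)),
    (1062, .gen 614 (530, false)),
    (3232, .gen 2336 (491, false)),
    (449, .gen 2336 (530, false)),
    (538, .gen 631 (491, false)),
    (1356, .gen 631 (530, false)),
    (1561, .gen 143 (491, false)),
    (336, .gen 143 (530, false)),
    (2109, .gen 26 (491, false)),
    (291, .gen 26 (530, false)),
    (470, .gen 3596 (491, false)),
    (3727, .gen 3596 (530, false)),
    (1506, .gen 3375 (491, false)),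
    (1964, .gen 3375 (530, false)),
    (920, .gen 3405 (491, false)),
    (2502, .gen 3405 (530, false)),
    (583, .gen 1289 (491, false)),
    (3313, .gen 1289 (530, false)),
    (372, .gen 2362 (491, false)),
    (455, .gen 2362 (530, false)),
    (762, .gen 832 (491, false)),
    (3766, .gen 832 (530, false)),
    (1640, .gen 1920 (491, false)),
    (567, .gen 1920 (530, false)),
    (1578, .gen 2688 (491, false)),
    (2499, .gen 2688 (530, false)),
    (816, .gen 2948 (491, false)),
    (2293, .gen 2948 (530, false)),
    (3036, .gen 2230 (491, false)),
    (128, .gen 2230 (530, false)),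
    (2462, .gen 2146 (491, false)),
    (3241, .gen 2146 (530, false)),
    (3302, .gen 3409 (491, false)),
    (1337, .gen 3409 (530, false)),
    (984, .gen 2478 (491, false)),
    (1656, .gen 2478 (530, false)),
    (2684, .gen 1500 (491, false)),
    (3201, .gen 1500 (530, false)),
    (2216, .gen 3713 (491, false)),
    (2746, .gen 3713 (530, false)),
    (2709, .gen 1651 (491, false)),
    (3464, .gen 1651 (530, false)),
    (3124, .gen 682 (491, false)),
    (811, .gen 682 (530, false)),
    (2779, .gen 2611 (491, false)),
    (1222, .gen 2611 (530, false)),
    (41, .gen 703 (491, false)),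
    (1294, .gen 703 (530, false)),
    (2657, .gen 335 (491, false)),
    (3305, .gen 335 (530, false)),
    (606, .gen 3558 (491, false)),
    (2835, .gen 3558 (530, false))]

/-- Visits. -/
def v18_6 : List (ℕ × Src) :=
  [(2383, .gen 597 (491, false)),
    (2721, .gen 597 (530, false)),
    (3576, .gen 1319 (491, false)),
    (3109, .gen 1319 (530, false)),
    (1073, .gen 3153 (491, false)),
    (924, .gen 3153 (530, false)),
    (3224, .gen 496 (491, false)),
    (0, .gen 496 (530, false)),
    (3791, .gen 3318 (491, false)),
    (815, .gen 3318 (530, false)),
    (2860, .gen 1913 (491, false)),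
    (23, .gen 1913 (530, false)),
    (3038, .gen 2501 (491, false)),
    (719, .gen 2501 (530, false)),
    (1772, .gen 664 (491, false)),
    (3214, .gen 664 (530, false)),
    (3449, .gen 961 (491, false)),
    (904, .gen 961 (530, false)),
    (1601, .gen 3179 (491, false)),
    (2729, .gen 3179 (530, false)),
    (3250, .gen 2179 (491, false)),
    (3393, .gen 2179 (530, false)),
    (1004, .gen 2884 (491, false)),
    (1522, .gen 2884 (530, false)),
    (2874, .gen 2322 (491, false)),
    (2327, .gen 2322 (530, false)),
    (435, .gen 507 (491, false)),
    (394, .gen 507 (530, false)),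
    (3265, .gen 588 (491, false)),
    (2304, .gen 588 (530, false)),
    (3783, .gen 911 (491, false)),
    (2276, .gen 911 (530, false)),
    (2346, .gen 289 (491, false)),
    (2517, .gen 289 (530, false)),
    (2105, .gen 9 (491, false)),
    (3226, .gen 9 (530, false)),
    (856, .gen 2397 (491, false)),
    (1693, .gen 2397 (530, false)),
    (2667, .gen 707 (491, false)),
    (3184, .gen 707 (530, false)),
    (3622, .gen 319 (491, false)),
    (1753, .gen 319 (530, false)),
    (3238, .gen 946 (491, false)),
    (3325, .gen 946 (530, false)),
    (1419, .gen 2326 (491, false)),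
    (2707, .gen 2326 (530, false)),
    (193, .gen 653 (491, false)),
    (3606, .gen 653 (530, false)),
    (1505, .gen 2355 (491, false)),
    (799, .gen 2355 (530, false)),
    (867, .gen 317 (491, false)),
    (1570, .gen 317 (530, false)),
    (2199, .gen 187 (491, false)),
    (2500, .gen 187 (530, false)),
    (2871, .gen 2464 (491, false)),
    (1526, .gen 2464 (530, false)),
    (2898, .gen 1625 (491, false)),
    (683, .gen 1625 (530, false)),
    (3678, .gen 127 (491, false)),
    (1571, .gen 127 (530, false)),
    (558, .gen 338 (491, false)),
    (2991, .gen 338 (530, false)),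
    (145, .gen 1267 (491, false)),
    (516, .gen 1267 (530, false)),
    (2604, .gen 1384 (491, false)),
    (76, .gen 1384 (530, false)),
    (3753, .gen 3494 (491, false)),
    (2751, .gen 3494 (530, false)),
    (770, .gen 2063 (491, false)),
    (704, .gen 2063 (530, false)),
    (851, .gen 3073 (491, false)),
    (544, .gen 3073 (530, false)),
    (375, .gen 1414 (491, false)),
    (2379, .gen 1414 (530, false)),
    (2439, .gen 1969 (491, false)),
    (936, .gen 1969 (530, false)),
    (2165, .gen 1100 (491, false)),
    (2850, .gen 1100 (530, false)),
    (2116, .gen 1699 (491, false)),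
    (3511, .gen 1699 (530, false)),
    (2110, .gen 3360 (491, false)),
    (3058, .gen 3360 (530, false)),
    (1438, .gen 2284 (491, false)),
    (1530, .gen 2284 (530, false)),
    (3139, .gen 1256 (491, false)),
    (3125, .gen 1256 (530, false)),
    (370, .gen 1865 (491, false)),
    (97, .gen 1865 (530, false)),
    (2475, .gen 934 (491, false)),
    (299, .gen 934 (530, false)),
    (3599, .gen 2552 (491, false)),
    (1136, .gen 2552 (530, false)),
    (2600, .gen 113 (491, false)),
    (216, .gen 113 (530, false)),
    (708, .gen 1429 (491, false)),
    (3296, .gen 1429 (530, false)),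
    (2822, .gen 2137 (491, false)),
    (2402, .gen 2137 (530, false)),
    (1031, .gen 599 (491, false)),
    (265, .gen 599 (530, false)),
    (2819, .gen 2666 (491, false)),
    (2091, .gen 2666 (530, false)),
    (144, .gen 2391 (491, false)),
    (2367, .gen 2391 (530, false)),
    (1401, .gen 3784 (491, false)),
    (1403, .gen 3784 (530, false)),
    (2641, .gen 3568 (491, false)),
    (2259, .gen 3568 (530, false)),
    (1832, .gen 3521 (491, false)),
    (3698, .gen 3521 (530, false)),
    (1953, .gen 1448 (491, false)),
    (330, .gen 1448 (530, false)),
    (2872, .gen 3272 (491, false)),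
    (1844, .gen 3272 (530, false)),
    (3335, .gen 2344 (491, false)),
    (3752, .gen 2344 (530, false)),
    (3133, .gen 3401 (491, false)),
    (3532, .gen 3401 (530, false)),
    (823, .gen 1704 (491, false)),
    (3778, .gen 1704 (530, false)),
    (3261, .gen 3304 (491, false)),
    (1543, .gen 3304 (530, false)),
    (824, .gen 1657 (491, false)),
    (1538, .gen 1657 (530, false)),
    (2485, .gen 1095 (491, false)),
    (690, .gen 1095 (530, false)),
    (1331, .gen 661 (491, false)),
    (2167, .gen 661 (530, false)),
    (1798, .gen 1155 (491, false)),
    (906, .gen 1155 (530, false)),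
    (421, .gen 582 (491, false)),
    (1997, .gen 582 (530, false)),
    (59, .gen 233 (491, false)),
    (3067, .gen 233 (530, false)),
    (1335, .gen 2062 (491, false)),
    (2220, .gen 2062 (530, false)),
    (921, .gen 964 (491, false)),
    (1947, .gen 964 (530, false)),
    (685, .gen 1412 (491, false)),
    (107, .gen 1412 (530, false)),
    (2463, .gen 1628 (491, false)),
    (1179, .gen 1628 (530, false)),
    (3638, .gen 2521 (491, false)),
    (2094, .gen 2521 (530, false)),
    (1387, .gen 3636 (491, false)),
    (1890, .gen 3636 (530, false)),
    (2077, .gen 2174 (491, false)),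
    (92, .gen 2174 (530, false)),
    (1171, .gen 1762 (491, false)),
    (2911, .gen 1762 (530, false)),
    (2510, .gen 3581 (491, false)),
    (696, .gen 3581 (530, false)),
    (2369, .gen 163 (491, false)),
    (368, .gen 163 (530, false)),
    (2248, .gen 501 (491, false)),
    (1565, .gen 501 (530, false)),
    (2468, .gen 3233 (491, false)),
    (2937, .gen 3233 (530, false)),
    (1546, .gen 2750 (491, false)),
    (1021, .gen 2750 (530, false)),
    (2990, .gen 2690 (491, false)),
    (1937, .gen 2690 (530, false)),
    (2234, .gen 2936 (491, false)),
    (482, .gen 2936 (530, false)),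
    (3355, .gen 2423 (491, false)),
    (3742, .gen 2423 (530, false)),
    (1634, .gen 3381 (491, false)),
    (791, .gen 3381 (530, false)),
    (1534, .gen 1230 (491, false)),
    (3749, .gen 1230 (530, false)),
    (1263, .gen 3025 (491, false)),
    (1334, .gen 3025 (530, false)),
    (2419, .gen 2047 (491, false)),
    (1584, .gen 2047 (530, false)),
    (3510, .gen 3572 (491, false)),
    (752, .gen 3572 (530, false)),
    (3445, .gen 3788 (491, false)),
    (2428, .gen 3788 (530, false)),
    (899, .gen 2476 (491, false)),
    (2338, .gen 2476 (530, false)),
    (994, .gen 2010 (491, false)),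
    (2766, .gen 2010 (530, false)),
    (109, .gen 2424 (491, false)),
    (2156, .gen 2424 (530, false)),
    (1785, .gen 119 (491, false)),
    (344, .gen 119 (530, false)),
    (202, .gen 2329 (491, false)),
    (3603, .gen 2329 (530, false)),
    (2749, .gen 1213 (491, false)),
    (3276, .gen 1213 (530, false)),
    (140, .gen 568 (491, false)),
    (292, .gen 568 (530, false)),
    (3338, .gen 17 (491, false)),
    (154, .gen 17 (530, false)),
    (3142, .gen 1339 (491, false)),
    (1369, .gen 1339 (530, false)),
    (2705, .gen 3346 (491, false)),
    (1988, .gen 3346 (530, false)),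
    (31, .gen 3426 (491, false)),
    (46, .gen 3426 (530, false)),
    (1285, .gen 367 (491, false)),
    (529, .gen 367 (530, false)),
    (3671, .gen 3597 (491, false)),
    (3730, .gen 3597 (530, false)),
    (2980, .gen 1489 (491, false)),
    (2169, .gen 1489 (530, false)),
    (2919, .gen 1968 (491, false)),
    (1214, .gen 1968 (530, false)),
    (2588, .gen 237 (491, false)),
    (3629, .gen 237 (530, false)),
    (1077, .gen 1814 (491, false)),
    (3041, .gen 1814 (530, false)),
    (3378, .gen 517 (491, false)),
    (1301, .gen 517 (530, false)),
    (3428, .gen 1361 (491, false)),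
    (98, .gen 1361 (530, false)),
    (2910, .gen 792 (491, false)),
    (1469, .gen 792 (530, false)),
    (1754, .gen 1758 (491, false)),
    (1196, .gen 1758 (530, false)),
    (3633, .gen 2021 (491, false)),
    (3747, .gen 2021 (530, false)),
    (1163, .gen 623 (491, false)),
    (2461, .gen 623 (530, false)),
    (1186, .gen 55 (491, false)),
    (3670, .gen 55 (530, false)),
    (2473, .gen 1635 (491, false)),
    (590, .gen 1635 (530, false)),
    (1707, .gen 518 (491, false)),
    (1085, .gen 518 (530, false)),
    (1734, .gen 2129 (491, false)),
    (3411, .gen 2129 (530, false)),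
    (1093, .gen 3534 (491, false)),
    (3114, .gen 3534 (530, false)),
    (3434, .gen 3050 (491, false)),
    (3519, .gen 3050 (530, false)),
    (2692, .gen 1485 (491, false)),
    (654, .gen 1485 (530, false)),
    (3761, .gen 3242 (491, false)),
    (563, .gen 3242 (530, false)),
    (2235, .gen 3230 (491, false)),
    (3180, .gen 3230 (530, false)),
    (1599, .gen 2769 (491, false)),
    (526, .gen 2769 (530, false)),
    (1044, .gen 2153 (491, false)),
    (1999, .gen 2153 (530, false)),
    (1363, .gen 200 (530, false)),
    (2159, .gen 1357 (491, false)),
    (2569, .gen 2330 (530, false)),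
    (1431, .gen 1474 (491, false)),
    (2795, .gen 1123 (530, false)),
    (1633, .gen 3750 (491, false)),
    (1097, .gen 45 (530, false)),
    (2846, .gen 277 (491, false)),
    (106, .gen 1606 (530, false)),
    (1509, .gen 2484 (491, false)),
    (90, .gen 1722 (530, false)),
    (632, .gen 189 (491, false)),
    (33, .gen 666 (491, false)),
    (15, .gen 2528 (530, false)),
    (1003, .gen 701 (491, false)),
    (2977, .gen 897 (530, false)),
    (2590, .gen 3547 (491, false)),
    (484, .gen 1671 (491, false)),
    (1472, .gen 3128 (491, false)),
    (3768, .gen 2492 (530, false)),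
    (710, .gen 2565 (491, false)),
    (1161, .gen 3087 (491, false)),
    (2357, .gen 3621 (491, false)),
    (2622, .gen 2273 (530, false)),
    (3490, .gen 3417 (491, false)),
    (3364, .gen 3191 (530, false)),
    (2753, .gen 2431 (491, false)),
    (1197, .gen 3475 (530, false)),
    (2161, .gen 2837 (491, false)),
    (995, .gen 234 (530, false)),
    (1144, .gen 2185 (491, false)),
    (2740, .gen 3217 (491, false)),
    (1051, .gen 1407 (491, false)),
    (734, .gen 488 (530, false)),
    (532, .gen 2287 (491, false)),
    (186, .gen 321 (491, false)),
    (3299, .gen 1927 (491, false)),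
    (2617, .gen 1761 (530, false)),
    (3618, .gen 374 (491, false)),
    (3098, .gen 3755 (530, false)),
    (2305, .gen 2520 (491, false)),
    (686, .gen 3717 (530, false)),
    (1201, .gen 545 (491, false)),
    (2333, .gen 2366 (530, false)),
    (3582, .gen 1713 (491, false)),
    (161, .gen 3101 (530, false)),
    (554, .gen 1070 (491, false)),
    (2299, .gen 3119 (530, false)),
    (3578, .gen 1824 (491, false)),
    (3130, .gen 2799 (530, false)),
    (3644, .gen 882 (491, false)),
    (2076, .gen 2806 (530, false)),
    (1916, .gen 3021 (491, false)),
    (3786, .gen 888 (530, false))]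

/-- Visits. -/
def v18_7 : List (ℕ × Src) :=
  [(3252, .gen 716 (491, false)),
    (1433, .gen 1816 (530, false)),
    (2279, .gen 3078 (491, false)),
    (767, .gen 3342 (530, false)),
    (2331, .gen 486 (491, false)),
    (519, .gen 562 (530, false)),
    (2864, .gen 1391 (491, false)),
    (2140, .gen 1516 (530, false)),
    (1572, .gen 1149 (491, false)),
    (2241, .gen 217 (530, false)),
    (3181, .gen 508 (491, false)),
    (2302, .gen 2488 (530, false)),
    (2786, .gen 2104 (491, false)),
    (2223, .gen 2952 (530, false)),
    (3117, .gen 2318 (491, false)),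
    (2477, .gen 2247 (530, false)),
    (2395, .gen 912 (491, false)),
    (342, .gen 1242 (530, false)),
    (3222, .gen 515 (491, false)),
    (3785, .gen 3427 (530, false)),
    (564, .gen 2912 (491, false)),
    (2536, .gen 2112 (530, false)),
    (2663, .gen 2655 (491, false)),
    (3619, .gen 3343 (530, false)),
    (1764, .gen 310 (491, false)),
    (3094, .gen 3164 (530, false)),
    (3012, .gen 2074 (491, false)),
    (2125, .gen 2101 (530, false)),
    (3194, .gen 2886 (491, false)),
    (1542, .gen 1017 (530, false)),
    (2205, .gen 167 (491, false)),
    (2963, .gen 3503 (530, false)),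
    (2481, .gen 1560 (491, false)),
    (1819, .gen 160 (530, false)),
    (2189, .gen 871 (491, false)),
    (2743, .gen 3149 (530, false)),
    (1846, .gen 2580 (491, false)),
    (1104, .gen 3236 (530, false)),
    (3585, .gen 3278 (491, false)),
    (1803, .gen 2926 (530, false)),
    (2595, .gen 3398 (491, false)),
    (274, .gen 2852 (530, false)),
    (985, .gen 3583 (491, false)),
    (1975, .gen 1120 (530, false)),
    (1015, .gen 2048 (491, false)),
    (641, .gen 929 (530, false)),
    (3446, .gen 2227 (491, false)),
    (1028, .gen 891 (530, false)),
    (65, .gen 47 (491, false)),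
    (3406, .gen 1989 (530, false)),
    (2184, .gen 2164 (491, false)),
    (3286, .gen 655 (530, false)),
    (278, .gen 3386 (491, false)),
    (211, .gen 3538 (530, false)),
    (2607, .gen 494 (491, false)),
    (1232, .gen 3361 (530, false)),
    (3215, .gen 2868 (491, false)),
    (1581, .gen 1417 (530, false)),
    (509, .gen 3173 (491, false)),
    (3196, .gen 1703 (530, false)),
    (1244, .gen 3733 (491, false)),
    (902, .gen 492 (530, false)),
    (3472, .gen 3700 (491, false)),
    (2574, .gen 2060 (530, false)),
    (293, .gen 1508 (491, false)),
    (2203, .gen 2549 (530, false)),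
    (2075, .gen 2226 (491, false)),
    (3132, .gen 381 (530, false)),
    (825, .gen 2958 (491, false)),
    (1971, .gen 2044 (530, false)),
    (1396, .gen 684 (491, false)),
    (1984, .gen 83 (530, false)),
    (579, .gen 195 (491, false)),
    (2787, .gen 1855 (530, false)),
    (2004, .gen 3174 (491, false)),
    (1399, .gen 821 (530, false)),
    (520, .gen 3720 (491, false)),
    (1457, .gen 982 (530, false)),
    (2893, .gen 1970 (491, false)),
    (3110, .gen 1343 (530, false)),
    (1415, .gen 2953 (491, false)),
    (1790, .gen 1439 (530, false)),
    (3394, .gen 1539 (491, false)),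
    (2121, .gen 2086 (530, false)),
    (3075, .gen 3664 (491, false)),
    (894, .gen 732 (530, false)),
    (2157, .gen 981 (491, false)),
    (1767, .gen 2151 (530, false)),
    (2456, .gen 2512 (491, false)),
    (2915, .gen 1496 (530, false)),
    (3641, .gen 2098 (491, false)),
    (1168, .gen 1205 (530, false)),
    (1389, .gen 3769 (491, false)),
    (3518, .gen 1118 (530, false)),
    (3433, .gen 2088 (491, false)),
    (2054, .gen 1893 (530, false)),
    (1784, .gen 1528 (491, false)),
    (2297, .gen 3681 (530, false)),
    (2511, .gen 941 (491, false)),
    (1042, .gen 1866 (530, false)),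
    (2928, .gen 148 (491, false)),
    (2671, .gen 689 (530, false)),
    (842, .gen 2873 (491, false)),
    (3019, .gen 2228 (530, false)),
    (634, .gen 1223 (491, false)),
    (2149, .gen 3550 (530, false)),
    (715, .gen 475 (491, false)),
    (2202, .gen 796 (530, false)),
    (1233, .gen 445 (491, false)),
    (2320, .gen 1098 (530, false)),
    (2602, .gen 2533 (491, false)),
    (3204, .gen 2720 (530, false)),
    (3774, .gen 1525 (491, false)),
    (2237, .gen 668 (530, false)),
    (3523, .gen 3467 (491, false)),
    (1817, .gen 2056 (530, false)),
    (665, .gen 244 (491, false)),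
    (1679, .gen 723 (530, false)),
    (1049, .gen 133 (491, false)),
    (3009, .gen 2597 (530, false)),
    (1188, .gen 1330 (491, false)),
    (3431, .gen 1905 (530, false)),
    (2710, .gen 78 (491, false)),
    (675, .gen 204 (530, false)),
    (2629, .gen 3792 (491, false)),
    (2158, .gen 1336 (530, false)),
    (2376, .gen 774 (491, false)),
    (1622, .gen 1589 (530, false)),
    (1770, .gen 2458 (491, false)),
    (2343, .gen 3794 (530, false)),
    (2210, .gen 27 (491, false)),
    (2068, .gen 3436 (530, false)),
    (497, .gen 3461 (491, false)),
    (2547, .gen 3683 (530, false)),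
    (2254, .gen 1153 (491, false)),
    (833, .gen 3587 (530, false)),
    (493, .gen 702 (491, false)),
    (1483, .gen 2252 (530, false)),
    (379, .gen 2303 (530, false)),
    (1615, .gen 2445 (491, false)),
    (2615, .gen 772 (530, false)),
    (88, .gen 183 (491, false)),
    (3564, .gen 3034 (530, false)),
    (680, .gen 918 (491, false)),
    (3565, .gen 2821 (530, false)),
    (1613, .gen 3441 (530, false)),
    (566, .gen 502 (491, false)),
    (2530, .gen 3656 (530, false)),
    (194, .gen 3156 (491, false)),
    (1716, .gen 1199 (530, false)),
    (999, .gen 2147 (491, false)),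
    (1676, .gen 2031 (530, false)),
    (2128, .gen 1131 (491, false)),
    (2728, .gen 1747 (530, false)),
    (3063, .gen 3172 (530, false)),
    (284, .gen 870 (491, false)),
    (1711, .gen 3775 (530, false)),
    (332, .gen 1919 (491, false)),
    (345, .gen 1568 (530, false)),
    (30, .gen 1208 (491, false)),
    (461, .gen 230 (491, false)),
    (3397, .gen 70 (491, false)),
    (1678, .gen 660 (530, false)),
    (1078, .gen 1456 (491, false)),
    (1915, .gen 937 (491, false)),
    (1284, .gen 3234 (530, false)),
    (1507, .gen 624 (491, false)),
    (1282, .gen 1809 (530, false)),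
    (525, .gen 974 (491, false)),
    (3092, .gen 1035 (530, false)),
    (3079, .gen 1714 (491, false)),
    (2134, .gen 3499 (530, false)),
    (2945, .gen 746 (491, false)),
    (3281, .gen 2722 (530, false)),
    (3093, .gen 1129 (491, false)),
    (2256, .gen 2876 (530, false)),
    (1609, .gen 926 (491, false)),
    (786, .gen 1637 (530, false)),
    (1355, .gen 1695 (491, false)),
    (1445, .gen 1050 (530, false)),
    (514, .gen 3212 (491, false)),
    (273, .gen 2518 (491, false)),
    (387, .gen 727 (491, false)),
    (983, .gen 766 (491, false)),
    (498, .gen 1551 (491, false)),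
    (2066, .gen 2988 (491, false)),
    (3366, .gen 1883 (530, false)),
    (1216, .gen 40 (491, false)),
    (3725, .gen 1383 (530, false)),
    (2181, .gen 402 (491, false)),
    (3349, .gen 1169 (530, false)),
    (1350, .gen 2324 (491, false)),
    (2154, .gen 3432 (530, false)),
    (166, .gen 441 (491, false)),
    (1010, .gen 1032 (530, false)),
    (2576, .gen 505 (491, false)),
    (3763, .gen 548 (530, false)),
    (2285, .gen 96 (491, false)),
    (2081, .gen 972 (530, false)),
    (2040, .gen 209 (491, false)),
    (659, .gen 2758 (530, false)),
    (1710, .gen 416 (530, false)),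
    (3017, .gen 2328 (530, false)),
    (391, .gen 1299 (491, false)),
    (503, .gen 1973 (530, false)),
    (2294, .gen 188 (491, false)),
    (3146, .gen 1174 (530, false)),
    (398, .gen 2286 (491, false)),
    (695, .gen 3126 (530, false)),
    (1147, .gen 621 (491, false)),
    (2996, .gen 1958 (530, false)),
    (3724, .gen 1523 (491, false)),
    (2962, .gen 3321 (530, false)),
    (3527, .gen 2805 (491, false)),
    (1271, .gen 2057 (530, false)),
    (3046, .gen 1499 (491, false)),
    (3001, .gen 2940 (530, false)),
    (2778, .gen 210 (491, false)),
    (2591, .gen 2026 (530, false)),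
    (2190, .gen 333 (491, false)),
    (878, .gen 1608 (530, false)),
    (986, .gen 3452 (491, false)),
    (876, .gen 1899 (530, false)),
    (3065, .gen 3118 (491, false)),
    (3657, .gen 1451 (530, false)),
    (182, .gen 311 (491, false)),
    (3380, .gen 184 (530, false)),
    (134, .gen 3615 (491, false)),
    (3266, .gen 648 (530, false)),
    (3112, .gen 1921 (491, false)),
    (855, .gen 3471 (530, false)),
    (1479, .gen 4 (530, false)),
    (3007, .gen 3567 (491, false)),
    (619, .gen 3231 (530, false)),
    (1616, .gen 3560 (491, false)),
    (804, .gen 1253 (530, false)),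
    (3506, .gen 2394 (491, false)),
    (2583, .gen 1626 (530, false)),
    (2944, .gen 1421 (530, false)),
    (2712, .gen 2255 (530, false)),
    (552, .gen 312 (530, false)),
    (2854, .gen 2830 (530, false)),
    (3053, .gen 1481 (530, false)),
    (1461, .gen 3528 (530, false)),
    (709, .gen 3477 (530, false)),
    (3285, .gen 3253 (530, false)),
    (2242, .gen 2823 (530, false)),
    (1164, .gen 2619 (491, false)),
    (3735, .gen 2380 (530, false)),
    (2935, .gen 2932 (491, false)),
    (578, .gen 2878 (530, false)),
    (222, .gen 651 (491, false)),
    (3675, .gen 970 (530, false)),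
    (1680, .gen 3569 (491, false)),
    (77, .gen 495 (530, false)),
    (3207, .gen 805 (491, false)),
    (3574, .gen 1946 (491, false)),
    (1983, .gen 1045 (530, false)),
    (570, .gen 223 (491, false)),
    (480, .gen 2359 (530, false)),
    (3262, .gen 29 (491, false)),
    (280, .gen 2631 (530, false)),
    (1065, .gen 1705 (491, false)),
    (3682, .gen 3611 (530, false)),
    (3312, .gen 80 (491, false)),
    (3460, .gen 2352 (530, false)),
    (2471, .gen 3243 (491, false)),
    (3789, .gen 1531 (491, false)),
    (3387, .gen 3377 (530, false)),
    (478, .gen 1595 (491, false)),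
    (3608, .gen 1783 (530, false)),
    (3344, .gen 2467 (530, false)),
    (3205, .gen 2546 (491, false)),
    (3148, .gen 1072 (530, false)),
    (1345, .gen 1393 (491, false)),
    (3777, .gen 2701 (530, false)),
    (257, .gen 1801 (491, false)),
    (115, .gen 2071 (530, false)),
    (3096, .gen 21 (491, false)),
    (3512, .gen 2897 (491, false)),
    (1639, .gen 180 (530, false)),
    (2790, .gen 1 (491, false)),
    (1726, .gen 969 (491, false)),
    (2135, .gen 329 (491, false)),
    (2524, .gen 944 (491, false)),
    (3620, .gen 135 (491, false)),
    (2008, .gen 1211 (491, false)),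
    (371, .gen 1056 (530, false)),
    (1862, .gen 992 (491, false)),
    (3385, .gen 206 (491, false)),
    (2675, .gen 919 (491, false)),
    (930, .gen 1102 (530, false)),
    (2853, .gen 3200 (491, false)),
    (1827, .gen 1518 (530, false)),
    (3559, .gen 3418 (491, false)),
    (2043, .gen 2981 (530, false)),
    (1462, .gen 1176 (491, false)),
    (2196, .gen 2956 (530, false)),
    (1315, .gen 3509 (491, false)),
    (2961, .gen 3712 (530, false))]

/-- Visits. -/
def v18_8 : List (ℕ × Src) :=
  [(1782, .gen 884 (491, false)),
    (3722, .gen 1738 (530, false)),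
    (2656, .gen 1404 (491, false)),
    (1447, .gen 3298 (530, false)),
    (1313, .gen 1117 (491, false)),
    (935, .gen 1889 (530, false)),
    (2995, .gen 2683 (491, false)),
    (3535, .gen 3577 (530, false)),
    (42, .gen 1498 (491, false)),
    (1617, .gen 2903 (530, false)),
    (3384, .gen 3268 (491, false)),
    (243, .gen 1377 (530, false)),
    (247, .gen 3648 (491, false)),
    (3508, .gen 2155 (491, false)),
    (1067, .gen 430 (530, false)),
    (573, .gen 3319 (491, false)),
    (3728, .gen 454 (530, false)),
    (3694, .gen 711 (491, false)),
    (1735, .gen 2813 (530, false)),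
    (3209, .gen 1066 (491, false)),
    (3066, .gen 429 (491, false)),
    (3000, .gen 3376 (530, false)),
    (775, .gen 91 (491, false)),
    (1150, .gen 1190 (530, false)),
    (806, .gen 1853 (491, false)),
    (3556, .gen 1887 (530, false)),
    (2160, .gen 3764 (491, false)),
    (1328, .gen 3002 (530, false)),
    (1130, .gen 241 (491, false)),
    (3626, .gen 2082 (530, false)),
    (2064, .gen 2321 (491, false)),
    (3131, .gen 457 (530, false)),
    (3292, .gen 1027 (491, false)),
    (575, .gen 2916 (530, false)),
    (460, .gen 557 (491, false)),
    (2984, .gen 201 (530, false)),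
    (2529, .gen 1836 (491, false)),
    (773, .gen 638 (530, false)),
    (1591, .gen 1938 (491, false)),
    (1665, .gen 2989 (530, false)),
    (1148, .gen 3551 (491, false)),
    (3246, .gen 848 (530, false)),
    (789, .gen 1697 (491, false)),
    (1185, .gen 2593 (530, false)),
    (2350, .gen 1811 (491, false)),
    (3303, .gen 1411 (530, false)),
    (2281, .gen 2773 (491, false)),
    (2418, .gen 363 (530, false)),
    (2224, .gen 3155 (530, false)),
    (3169, .gen 3600 (491, false)),
    (1739, .gen 2162 (530, false)),
    (747, .gen 3630 (491, false)),
    (3267, .gen 1385 (530, false)),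
    (3686, .gen 1515 (491, false)),
    (199, .gen 2734 (530, false)),
    (728, .gen 1068 (491, false)),
    (1484, .gen 3498 (530, false)),
    (670, .gen 2312 (491, false)),
    (555, .gen 34 (530, false)),
    (2700, .gen 2949 (491, false)),
    (945, .gen 2731 (530, false)),
    (1075, .gen 3470 (491, false)),
    (925, .gen 1822 (530, false)),
    (2022, .gen 1727 (491, false)),
    (1845, .gen 1692 (530, false)),
    (2735, .gen 2385 (491, false)),
    (2429, .gen 1835 (530, false)),
    (990, .gen 3216 (491, false)),
    (2572, .gen 2938 (530, false)),
    (3655, .gen 1207 (491, false)),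
    (569, .gen 440 (530, false)),
    (2630, .gen 3659 (491, false)),
    (928, .gen 534 (530, false)),
    (3759, .gen 3408 (491, false)),
    (35, .gen 1513 (530, false)),
    (1685, .gen 19 (491, false)),
    (1766, .gen 2636 (530, false)),
    (3562, .gen 1825 (491, false)),
    (2407, .gen 2902 (530, false)),
    (1900, .gen 1272 (491, false)),
    (3674, .gen 1630 (530, false)),
    (1594, .gen 3751 (491, false)),
    (1137, .gen 843 (530, false)),
    (587, .gen 72 (491, false)),
    (2674, .gen 2103 (530, false)),
    (1880, .gen 975 (491, false)),
    (674, .gen 366 (491, false)),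
    (1575, .gen 2800 (530, false)),
    (2983, .gen 263 (491, false)),
    (3028, .gen 3647 (530, false)),
    (1023, .gen 3485 (491, false)),
    (1359, .gen 3665 (530, false)),
    (2863, .gen 250 (491, false)),
    (2490, .gen 10 (530, false)),
    (1252, .gen 3566 (491, false)),
    (3602, .gen 3282 (491, false)),
    (1642, .gen 2895 (491, false)),
    (1236, .gen 3280 (491, false)),
    (3604, .gen 2401 (491, false)),
    (39, .gen 1627 (530, false)),
    (1409, .gen 451 (491, false)),
    (32, .gen 613 (530, false)),
    (2862, .gen 2681 (491, false)),
    (893, .gen 3382 (530, false)),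
    (2266, .gen 2914 (491, false)),
    (1980, .gen 2982 (530, false)),
    (3416, .gen 2566 (491, false)),
    (2323, .gen 860 (530, false)),
    (2679, .gen 2545 (491, false)),
    (282, .gen 1494 (530, false)),
    (1645, .gen 1717 (491, false)),
    (2006, .gen 527 (530, false)),
    (1458, .gen 3245 (491, false)),
    (388, .gen 3115 (530, false)),
    (681, .gen 1151 (491, false)),
    (3219, .gen 3403 (530, false)),
    (2489, .gen 2036 (491, false)),
    (3140, .gen 3171 (530, false)),
    (890, .gen 1138 (491, false)),
    (1529, .gen 1083 (530, false)),
    (170, .gen 2393 (491, false)),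
    (3487, .gen 922 (530, false)),
    (157, .gen 1715 (491, false)),
    (630, .gen 2772 (491, false)),
    (1751, .gen 1590 (530, false)),
    (1906, .gen 62 (491, false)),
    (2754, .gen 2175 (530, false)),
    (1732, .gen 3424 (491, false)),
    (2389, .gen 3120 (530, false)),
    (3099, .gen 879 (491, false)),
    (101, .gen 2373 (530, false)),
    (2263, .gen 2059 (491, false)),
    (2869, .gen 1444 (530, false)),
    (3557, .gen 3462 (491, false)),
    (2497, .gen 3369 (530, false)),
    (1681, .gen 3497 (491, false)),
    (392, .gen 1700 (530, false)),
    (698, .gen 2877 (491, false)),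
    (382, .gen 2396 (530, false)),
    (3552, .gen 1135 (491, false)),
    (1922, .gen 3517 (530, false)),
    (2644, .gen 409 (491, false)),
    (2034, .gen 565 (530, false)),
    (2283, .gen 1126 (491, false)),
    (2551, .gen 3420 (530, false)),
    (420, .gen 446 (491, false)),
    (1325, .gen 2270 (530, false)),
    (1293, .gen 1684 (491, false)),
    (2013, .gen 812 (491, false)),
    (2027, .gen 351 (491, false)),
    (3740, .gen 2452 (530, false)),
    (745, .gen 1939 (491, false)),
    (262, .gen 667 (530, false)),
    (2582, .gen 2170 (491, false)),
    (1012, .gen 650 (530, false)),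
    (908, .gen 3260 (491, false)),
    (3195, .gen 2113 (530, false)),
    (2029, .gen 3106 (491, false)),
    (1287, .gen 1459 (530, false)),
    (1910, .gen 3144 (491, false)),
    (1332, .gen 1011 (530, false)),
    (956, .gen 403 (530, false)),
    (790, .gen 2028 (530, false)),
    (1005, .gen 1055 (491, false)),
    (2012, .gen 1478 (530, false)),
    (1039, .gen 3248 (491, false)),
    (1477, .gen 1257 (530, false)),
    (425, .gen 3689 (491, false)),
    (3421, .gen 105 (530, false)),
    (591, .gen 2865 (491, false)),
    (2652, .gen 2250 (491, false)),
    (2020, .gen 2900 (530, false)),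
    (1840, .gen 827 (491, false)),
    (1632, .gen 3084 (491, false)),
    (2342, .gen 3011 (530, false)),
    (605, .gen 3625 (491, false)),
    (3199, .gen 2229 (530, false)),
    (1775, .gen 778 (491, false)),
    (1349, .gen 3032 (530, false)),
    (2881, .gen 438 (491, false)),
    (1112, .gen 3610 (530, false)),
    (203, .gen 259 (491, false)),
    (1757, .gen 3274 (530, false)),
    (3068, .gen 334 (491, false)),
    (954, .gen 3781 (530, false)),
    (1480, .gen 559 (491, false)),
    (781, .gen 2577 (530, false)),
    (2744, .gen 1379 (491, false)),
    (2277, .gen 549 (530, false)),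
    (3269, .gen 2770 (491, false)),
    (20, .gen 1885 (491, false)),
    (224, .gen 3481 (491, false)),
    (2901, .gen 797 (491, false)),
    (603, .gen 1857 (530, false)),
    (384, .gen 1813 (491, false)),
    (1175, .gen 2880 (530, false)),
    (1687, .gen 2792 (491, false)),
    (2812, .gen 2465 (530, false)),
    (462, .gen 830 (530, false)),
    (736, .gen 405 (491, false)),
    (1831, .gen 639 (530, false)),
    (2737, .gen 464 (491, false)),
    (2363, .gen 1792 (491, false)),
    (2917, .gen 2163 (530, false)),
    (266, .gen 2584 (491, false)),
    (377, .gen 2233 (530, false)),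
    (376, .gen 1497 (491, false)),
    (2213, .gen 1559 (530, false)),
    (2693, .gen 2568 (491, false)),
    (3391, .gen 1904 (530, false)),
    (777, .gen 2601 (530, false)),
    (1018, .gen 1038 (491, false)),
    (2920, .gen 2509 (530, false)),
    (150, .gen 2789 (491, false)),
    (2687, .gen 3554 (530, false)),
    (3591, .gen 3563 (491, false)),
    (3760, .gen 1240 (491, false)),
    (1750, .gen 1826 (530, false)),
    (2923, .gen 474 (530, false)),
    (1771, .gen 2851 (530, false)),
    (3701, .gen 1052 (491, false)),
    (2941, .gen 126 (530, false)),
    (2870, .gen 523 (491, false)),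
    (2891, .gen 3235 (530, false)),
    (2222, .gen 1025 (530, false)),
    (2704, .gen 1994 (491, false)),
    (1624, .gen 2624 (530, false)),
    (2703, .gen 756 (491, false)),
    (205, .gen 1698 (530, false)),
    (1991, .gen 1869 (530, false)),
    (3340, .gen 1960 (530, false)),
    (3051, .gen 3256 (491, false)),
    (323, .gen 1446 (530, false)),
    (959, .gen 1308 (530, false)),
    (2859, .gen 459 (491, false)),
    (3539, .gen 3458 (491, false)),
    (826, .gen 2670 (491, false)),
    (1982, .gen 3121 (491, false)),
    (976, .gen 1340 (530, false)),
    (2725, .gen 857 (491, false)),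
    (2345, .gen 2443 (530, false)),
    (2055, .gen 2498 (491, false)),
    (2669, .gen 414 (530, false)),
    (1847, .gen 1929 (491, false)),
    (3166, .gen 1191 (530, false)),
    (2033, .gen 1647 (491, false)),
    (3178, .gen 672 (530, false)),
    (1655, .gen 504 (491, false)),
    (1139, .gen 866 (530, false)),
    (3062, .gen 1631 (491, false)),
    (1029, .gen 3457 (530, false)),
    (3767, .gen 1918 (491, false)),
    (173, .gen 1907 (530, false)),
    (2985, .gen 1537 (491, false)),
    (2420, .gen 1567 (530, false)),
    (1234, .gen 861 (491, false)),
    (2180, .gen 1159 (530, false)),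
    (1013, .gen 1250 (491, false)),
    (951, .gen 3383 (530, false)),
    (2483, .gen 2719 (491, false)),
    (1993, .gen 2741 (530, false)),
    (580, .gen 2019 (491, false)),
    (1744, .gen 522 (530, false)),
    (1719, .gen 1875 (491, false)),
    (881, .gen 365 (530, false)),
    (2587, .gen 433 (491, false)),
    (3372, .gen 86 (530, false)),
    (1473, .gen 3543 (491, false)),
    (1397, .gen 1314 (530, false)),
    (1670, .gen 2776 (491, false)),
    (1923, .gen 965 (530, false)),
    (3537, .gen 3524 (491, false)),
    (3271, .gen 1990 (530, false)),
    (3719, .gen 3158 (491, false)),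
    (3640, .gen 2191 (530, false)),
    (3493, .gen 1867 (491, false)),
    (1932, .gen 2061 (530, false)),
    (1740, .gen 617 (491, false)),
    (3593, .gen 901 (530, false)),
    (385, .gen 350 (491, false)),
    (3331, .gen 453 (530, false)),
    (1264, .gen 2921 (491, false)),
    (2449, .gen 2559 (530, false)),
    (1087, .gen 2875 (491, false)),
    (2375, .gen 2691 (530, false)),
    (3341, .gen 3388 (491, false)),
    (1902, .gen 1901 (530, false)),
    (2398, .gen 2960 (491, false)),
    (3097, .gen 2412 (530, false)),
    (2836, .gen 3037 (491, false)),
    (763, .gen 423 (530, false)),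
    (383, .gen 249 (491, false)),
    (1583, .gen 898 (530, false)),
    (2848, .gen 3103 (491, false)),
    (3138, .gen 3737 (530, false)),
    (1258, .gen 2633 (491, false)),
    (3672, .gen 3579 (530, false)),
    (1541, .gen 3145 (491, false)),
    (1804, .gen 784 (530, false)),
    (2035, .gen 2992 (491, false))]

/-- Visits. -/
def v18_9 : List (ℕ × Src) :=
  [(2832, .gen 1614 (530, false)),
    (1859, .gen 3771 (491, false)),
    (2339, .gen 2979 (530, false)),
    (2965, .gen 2093 (491, false)),
    (2645, .gen 410 (530, false)),
    (118, .gen 1702 (491, false)),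
    (3677, .gen 3548 (530, false)),
    (862, .gen 2697 (491, false)),
    (1765, .gen 694 (530, false)),
    (2855, .gen 3177 (491, false)),
    (1673, .gen 218 (530, false)),
    (1167, .gen 1961 (491, false)),
    (1864, .gen 2807 (530, false)),
    (2387, .gen 1270 (491, false)),
    (677, .gen 1002 (530, false)),
    (3526, .gen 3453 (491, false)),
    (1007, .gen 1511 (530, false)),
    (3324, .gen 85 (491, false)),
    (3667, .gen 2993 (530, false)),
    (1909, .gen 1488 (491, false)),
    (476, .gen 2887 (530, false)),
    (2274, .gen 3090 (491, false)),
    (733, .gen 3787 (530, false)),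
    (3157, .gen 1354 (491, false)),
    (287, .gen 3107 (530, false)),
    (1706, .gen 1261 (491, false)),
    (1460, .gen 2469 (530, false)),
    (938, .gen 3609 (491, false)),
    (2929, .gen 2207 (530, false)),
    (1821, .gen 3400 (491, false)),
    (3187, .gen 1736 (530, false)),
    (2454, .gen 3160 (491, false)),
    (1763, .gen 1962 (530, false)),
    (2198, .gen 2798 (491, false)),
    (2927, .gen 1936 (530, false)),
    (1416, .gen 290 (491, false)),
    (337, .gen 359 (530, false)),
    (1041, .gen 456 (491, false)),
    (1545, .gen 2311 (530, false)),
    (2099, .gen 794 (491, false)),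
    (2966, .gen 1729 (530, false)),
    (713, .gen 757 (491, false)),
    (272, .gen 149 (530, false)),
    (3225, .gen 593 (491, false)),
    (2845, .gen 2909 (530, false)),
    (626, .gen 2245 (491, false)),
    (2437, .gen 214 (530, false)),
    (738, .gen 93 (491, false)),
    (892, .gen 2685 (530, false)),
    (3354, .gen 3056 (491, false)),
    (2100, .gen 2888 (530, false)),
    (813, .gen 726 (491, false)),
    (1797, .gen 2114 (530, false)),
    (3708, .gen 917 (491, false)),
    (3757, .gen 3347 (530, false)),
    (2427, .gen 443 (491, false)),
    (2209, .gen 2410 (530, false)),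
    (2433, .gen 947 (491, false)),
    (1806, .gen 2599 (530, false)),
    (645, .gen 2513 (491, false)),
    (2176, .gen 967 (530, false)),
    (1274, .gen 1882 (491, false)),
    (3239, .gen 2183 (530, false)),
    (2752, .gen 112 (491, false)),
    (3289, .gen 1454 (530, false)),
    (1370, .gen 1823 (491, false)),
    (2796, .gen 2759 (530, false)),
    (3151, .gen 1856 (491, false)),
    (2495, .gen 2313 (530, false)),
    (400, .gen 226 (491, false)),
    (3259, .gen 3306 (530, false)),
    (1648, .gen 819 (491, false)),
    (3307, .gen 3484 (530, false)),
    (192, .gen 3182 (491, false)),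
    (679, .gen 285 (530, false)),
    (1690, .gen 1475 (491, false)),
    (537, .gen 2784 (530, false)),
    (3183, .gen 2640 (491, false)),
    (1265, .gen 3083 (530, false)),
    (3513, .gen 2658 (491, false)),
    (1142, .gen 1436 (530, false)),
    (2765, .gen 327 (491, false)),
    (1870, .gen 1755 (530, false)),
    (3020, .gen 2120 (491, false)),
    (256, .gen 3150 (530, false)),
    (1712, .gen 2947 (491, false)),
    (2934, .gen 3213 (530, false)),
    (2771, .gen 1839 (491, false)),
    (2079, .gen 2378 (530, false)),
    (3716, .gen 2550 (491, false)),
    (1672, .gen 2889 (530, false)),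
    (3545, .gen 3601 (491, false)),
    (1535, .gen 1834 (530, false)),
    (1689, .gen 601 (491, false)),
    (1663, .gen 3334 (530, false)),
    (2037, .gen 760 (491, false)),
    (2432, .gen 2739 (530, false)),
    (225, .gen 955 (491, false)),
    (1468, .gen 3729 (530, false)),
    (1145, .gen 3237 (491, false)),
    (769, .gen 1125 (530, false)),
    (783, .gen 3592 (491, false)),
    (463, .gen 3048 (530, false)),
    (2777, .gen 1646 (491, false)),
    (1486, .gen 1881 (530, false)),
    (141, .gen 235 (491, false)),
    (1552, .gen 54 (530, false)),
    (3275, .gen 3113 (491, false)),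
    (3491, .gen 2730 (530, false)),
    (2096, .gen 2554 (491, false)),
    (513, .gen 553 (530, false)),
    (1269, .gen 1427 (491, false)),
    (2296, .gen 1071 (530, false)),
    (818, .gen 1660 (491, false)),
    (742, .gen 3459 (530, false)),
    (301, .gen 297 (491, false)),
    (1099, .gen 427 (530, false)),
    (3649, .gen 3726 (491, false)),
    (610, .gen 3159 (530, false)),
    (152, .gen 2058 (491, false)),
    (1769, .gen 1069 (530, false)),
    (1976, .gen 1219 (491, false)),
    (3288, .gen 3356 (530, false)),
    (2466, .gen 1603 (491, false)),
    (279, .gen 3617 (530, false)),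
    (3607, .gen 268 (491, false)),
    (1371, .gen 2278 (530, false)),
    (874, .gen 3687 (491, false)),
    (3440, .gen 3326 (530, false)),
    (3147, .gen 907 (491, false)),
    (2446, .gen 1441 (530, false)),
    (3505, .gen 3287 (491, false)),
    (808, .gen 56 (530, false)),
    (1121, .gen 1644 (491, false)),
    (1091, .gen 2194 (530, false)),
    (2337, .gen 2217 (491, false)),
    (2558, .gen 589 (530, false)),
    (3027, .gen 1952 (491, false)),
    (2411, .gen 1373 (530, false)),
    (2017, .gen 1860 (491, false)),
    (2553, .gen 132 (530, false)),
    (2317, .gen 996 (491, false)),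
    (968, .gen 3536 (530, false)),
    (2971, .gen 2491 (491, false)),
    (2306, .gen 800 (530, false)),
    (993, .gen 598 (491, false)),
    (3352, .gen 2918 (530, false)),
    (1081, .gen 913 (491, false)),
    (1348, .gen 3297 (530, false)),
    (89, .gen 1941 (491, false)),
    (3105, .gen 2138 (530, false)),
    (1908, .gen 883 (491, false)),
    (2000, .gen 2409 (530, false)),
    (3054, .gen 3492 (491, false)),
    (408, .gen 3734 (530, false)),
    (302, .gen 889 (491, false)),
    (2070, .gen 1251 (530, false)),
    (3350, .gen 2548 (491, false)),
    (2820, .gen 1183 (530, false)),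
    (3691, .gen 2768 (491, false)),
    (1046, .gen 3541 (530, false)),
    (840, .gen 1463 (491, false)),
    (3533, .gen 3413 (530, false)),
    (18, .gen 116 (491, false)),
    (2698, .gen 3323 (530, false)),
    (406, .gen 146 (491, false)),
    (245, .gen 1064 (530, false)),
    (196, .gen 232 (491, false)),
    (754, .gen 1728 (530, false)),
    (3575, .gen 49 (491, false)),
    (2377, .gen 3793 (530, false)),
    (1708, .gen 2178 (491, false)),
    (448, .gen 1365 (530, false)),
    (743, .gen 546 (491, false)),
    (13, .gen 123 (530, false)),
    (36, .gen 437 (491, false)),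
    (3165, .gen 3529 (530, false)),
    (658, .gen 1001 (491, false)),
    (2672, .gen 3339 (530, false)),
    (1020, .gen 60 (491, false)),
    (3706, .gen 3258 (530, false)),
    (1998, .gen 1181 (491, false)),
    (3711, .gen 2833 (530, false)),
    (1194, .gen 1580 (491, false)),
    (2907, .gen 868 (530, false)),
    (117, .gen 1209 (491, false)),
    (1930, .gen 577 (530, false)),
    (1592, .gen 914 (491, false)),
    (971, .gen 2314 (530, false)),
    (3632, .gen 1652 (491, false)),
    (3531, .gen 2682 (530, false)),
    (261, .gen 3442 (491, false)),
    (2575, .gen 705 (530, false)),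
    (153, .gen 111 (491, false)),
    (2341, .gen 3779 (530, false)),
    (1950, .gen 596 (491, false)),
    (2388, .gen 1492 (530, false)),
    (1422, .gen 2811 (491, false)),
    (3673, .gen 2748 (530, false)),
    (903, .gen 706 (491, false)),
    (854, .gen 2218 (530, false)),
    (531, .gen 2696 (491, false)),
    (3546, .gen 2368 (530, false)),
    (2422, .gen 2535 (491, false)),
    (3310, .gen 1254 (530, false)),
    (3137, .gen 3040 (491, false)),
    (355, .gen 3023 (530, false)),
    (776, .gen 2084 (491, false)),
    (2348, .gen 2192 (530, false)),
    (865, .gen 320 (491, false)),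
    (131, .gen 2016 (530, false)),
    (1850, .gen 1553 (491, false)),
    (2808, .gen 1143 (530, false)),
    (3185, .gen 1760 (491, false)),
    (3412, .gen 2788 (530, false)),
    (3637, .gen 3249 (491, false)),
    (3707, .gen 3064 (530, false)),
    (1683, .gen 2023 (491, false)),
    (3584, .gen 3422 (530, false)),
    (1235, .gen 1776 (491, false)),
    (1540, .gen 2717 (530, false)),
    (1347, .gen 2095 (491, false)),
    (2212, .gen 174 (530, false)),
    (1111, .gen 2014 (491, false)),
    (2262, .gen 2067 (530, false)),
    (798, .gen 1943 (491, false)),
    (1949, .gen 2933 (530, false)),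
    (1086, .gen 339 (491, false)),
    (1430, .gen 1372 (530, false)),
    (3294, .gen 2858 (491, false)),
    (3030, .gen 254 (530, false)),
    (1442, .gen 2049 (491, false)),
    (2365, .gen 2718 (530, false)),
    (2541, .gen 3362 (491, false)),
    (1620, .gen 2781 (530, false)),
    (3291, .gen 872 (491, false)),
    (687, .gen 1390 (530, false)),
    (2959, .gen 2537 (491, false)),
    (1884, .gen 740 (530, false)),
    (1080, .gen 1569 (491, false)),
    (1352, .gen 63 (530, false)),
    (138, .gen 1062 (491, false)),
    (1008, .gen 3232 (530, false)),
    (838, .gen 449 (491, false)),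
    (2638, .gen 538 (530, false)),
    (1914, .gen 1356 (491, false)),
    (2089, .gen 1561 (530, false)),
    (909, .gen 336 (491, false)),
    (3348, .gen 2109 (530, false)),
    (94, .gen 291 (491, false)),
    (1955, .gen 470 (530, false)),
    (3624, .gen 3727 (491, false)),
    (1276, .gen 1506 (530, false)),
    (1741, .gen 1964 (491, false)),
    (2438, .gen 920 (530, false)),
    (751, .gen 2502 (491, false)),
    (699, .gen 583 (530, false)),
    (269, .gen 3313 (491, false)),
    (3072, .gen 372 (530, false)),
    (793, .gen 455 (491, false)),
    (1799, .gen 762 (530, false)),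
    (2260, .gen 3766 (491, false)),
    (3643, .gen 1640 (530, false)),
    (2662, .gen 567 (491, false)),
    (1872, .gen 1578 (530, false)),
    (1948, .gen 2499 (491, false)),
    (3316, .gen 816 (530, false)),
    (1737, .gen 2293 (491, false)),
    (1367, .gen 3036 (530, false)),
    (1054, .gen 128 (491, false)),
    (2564, .gen 2462 (530, false)),
    (3410, .gen 3241 (491, false)),
    (873, .gen 3302 (530, false)),
    (3718, .gen 1337 (491, false)),
    (1549, .gen 984 (530, false)),
    (2188, .gen 1656 (491, false)),
    (346, .gen 2684 (530, false)),
    (1464, .gen 3201 (491, false)),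
    (1048, .gen 2216 (530, false)),
    (3504, .gen 2746 (491, false)),
    (434, .gen 2709 (530, false)),
    (1851, .gen 3464 (491, false)),
    (2406, .gen 3124 (530, false)),
    (1878, .gen 811 (491, false)),
    (175, .gen 2779 (530, false)),
    (442, .gen 1222 (491, false)),
    (1140, .gen 41 (530, false)),
    (1917, .gen 1294 (491, false)),
    (1381, .gen 2657 (530, false)),
    (81, .gen 3305 (491, false)),
    (288, .gen 606 (530, false)),
    (361, .gen 2835 (491, false)),
    (2606, .gen 2383 (530, false)),
    (616, .gen 2721 (491, false)),
    (3627, .gen 3576 (530, false)),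
    (8, .gen 3109 (491, false)),
    (198, .gen 1073 (530, false)),
    (208, .gen 924 (491, false)),
    (948, .gen 3224 (530, false)),
    (2145, .gen 0 (491, false))]

/-- Visits. -/
def v18_10 : List (ℕ × Src) :=
  [(1312, .gen 3791 (530, false)),
    (524, .gen 815 (491, false)),
    (489, .gen 2860 (530, false)),
    (120, .gen 23 (491, false)),
    (1748, .gen 3038 (530, false)),
    (2544, .gen 719 (491, false)),
    (2894, .gen 1772 (530, false)),
    (1425, .gen 3214 (491, false)),
    (407, .gen 3449 (530, false)),
    (3074, .gen 904 (491, false)),
    (3652, .gen 1601 (530, false)),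
    (2542, .gen 2729 (491, false)),
    (3136, .gen 3250 (530, false)),
    (2608, .gen 3393 (491, false)),
    (412, .gen 1004 (530, false)),
    (3790, .gen 1522 (491, false)),
    (1815, .gen 2874 (530, false)),
    (1220, .gen 2327 (491, false)),
    (3008, .gen 435 (530, false)),
    (3438, .gen 394 (491, false)),
    (3653, .gen 3265 (530, false)),
    (644, .gen 2304 (491, false)),
    (3263, .gen 3783 (530, false)),
    (1843, .gen 2276 (491, false)),
    (2042, .gen 2346 (530, false)),
    (1428, .gen 2517 (491, false)),
    (3738, .gen 2105 (530, false)),
    (2998, .gen 3226 (491, false)),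
    (3320, .gen 856 (530, false)),
    (625, .gen 1693 (491, false)),
    (2649, .gen 2667 (530, false)),
    (1406, .gen 3184 (491, false)),
    (1550, .gen 3622 (530, false)),
    (296, .gen 1753 (491, false)),
    (2557, .gen 3238 (530, false)),
    (2447, .gen 3325 (491, false)),
    (2211, .gen 1419 (530, false)),
    (3013, .gen 2707 (491, false)),
    (2651, .gen 193 (530, false)),
    (750, .gen 3606 (491, false)),
    (2951, .gen 1505 (530, false)),
    (2664, .gen 799 (491, false)),
    (932, .gen 867 (530, false)),
    (3500, .gen 1570 (491, false)),
    (960, .gen 2199 (530, false)),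
    (1094, .gen 2500 (491, false)),
    (1453, .gen 2871 (530, false)),
    (71, .gen 1526 (491, false)),
    (3330, .gen 2898 (530, false)),
    (2090, .gen 683 (491, false)),
    (1877, .gen 3678 (530, false)),
    (3739, .gen 1571 (491, false)),
    (3639, .gen 558 (530, false)),
    (3081, .gen 2991 (491, false)),
    (739, .gen 145 (530, false)),
    (2444, .gen 516 (491, false)),
    (1060, .gen 2604 (530, false)),
    (1300, .gen 76 (491, false)),
    (1951, .gen 3753 (530, false)),
    (642, .gen 2751 (491, false)),
    (3363, .gen 770 (530, false)),
    (51, .gen 704 (491, false)),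
    (2486, .gen 851 (530, false)),
    (1777, .gen 544 (491, false)),
    (1132, .gen 375 (530, false)),
    (303, .gen 2379 (491, false)),
    (958, .gen 2439 (530, false)),
    (2913, .gen 936 (491, false)),
    (2384, .gen 2165 (530, false)),
    (228, .gen 2850 (491, false)),
    (2618, .gen 2116 (530, false)),
    (556, .gen 3511 (491, false)),
    (980, .gen 2110 (530, false)),
    (966, .gen 3058 (491, false)),
    (2310, .gen 1438 (530, false)),
    (362, .gen 1530 (491, false)),
    (1318, .gen 3139 (530, false)),
    (2201, .gen 3125 (491, false)),
    (380, .gen 370 (530, false)),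
    (2231, .gen 97 (491, false)),
    (124, .gen 2475 (530, false)),
    (1326, .gen 299 (491, false)),
    (1533, .gen 3599 (530, false)),
    (2073, .gen 1136 (491, false)),
    (584, .gen 2600 (530, false)),
    (1443, .gen 216 (491, false)),
    (179, .gen 708 (530, false)),
    (2136, .gen 3296 (491, false)),
    (1892, .gen 2822 (530, false)),
    (1398, .gen 2402 (491, false)),
    (185, .gen 1031 (530, false)),
    (3396, .gen 265 (491, false)),
    (1618, .gen 2819 (530, false)),
    (1341, .gen 2091 (491, false)),
    (1686, .gen 144 (530, false)),
    (2249, .gen 2367 (491, false)),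
    (1040, .gen 1401 (530, false)),
    (1059, .gen 1403 (491, false)),
    (1800, .gen 2641 (530, false)),
    (1215, .gen 2259 (491, false)),
    (3474, .gen 1832 (530, false)),
    (2425, .gen 3698 (491, false)),
    (2290, .gen 1953 (530, false)),
    (1338, .gen 330 (491, false)),
    (2124, .gen 2872 (530, false)),
    (1229, .gen 1844 (491, false)),
    (2271, .gen 3335 (530, false)),
    (14, .gen 3752 (491, false)),
    (426, .gen 3133 (530, false)),
    (916, .gen 3532 (491, false)),
    (2515, .gen 823 (530, false)),
    (1925, .gen 3778 (491, false)),
    (2677, .gen 3261 (530, false)),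
    (612, .gen 1543 (491, false)),
    (3684, .gen 824 (530, false)),
    (1116, .gen 1538 (491, false)),
    (1911, .gen 2485 (530, false)),
    (2200, .gen 690 (491, false)),
    (1154, .gen 1331 (530, false)),
    (2943, .gen 2167 (491, false)),
    (2532, .gen 1798 (530, false)),
    (418, .gen 906 (491, false)),
    (1536, .gen 421 (530, false)),
    (1107, .gen 1997 (491, false)),
    (1074, .gen 59 (530, false)),
    (3540, .gen 3067 (491, false)),
    (2092, .gen 1335 (530, false)),
    (1723, .gen 2220 (491, false)),
    (2767, .gen 921 (530, false)),
    (2843, .gen 1947 (491, false)),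
    (3345, .gen 685 (530, false)),
    (213, .gen 107 (491, false)),
    (3479, .gen 2463 (530, false)),
    (875, .gen 1179 (491, false)),
    (3308, .gen 3638 (530, false)),
    (3690, .gen 2094 (491, false)),
    (386, .gen 1387 (530, false)),
    (1362, .gen 1890 (491, false)),
    (2516, .gen 2077 (530, false)),
    (1638, .gen 92 (491, false)),
    (1724, .gen 1171 (530, false)),
    (2451, .gen 2911 (491, false)),
    (110, .gen 2510 (530, false)),
    (1718, .gen 696 (491, false)),
    (600, .gen 2369 (530, false)),
    (3676, .gen 368 (491, false)),
    (2543, .gen 2248 (530, false)),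
    (215, .gen 1565 (491, false)),
    (1641, .gen 2468 (530, false)),
    (1491, .gen 2937 (491, false)),
    (779, .gen 1546 (530, false)),
    (3076, .gen 1021 (491, false)),
    (2560, .gen 2990 (530, false)),
    (1796, .gen 1937 (491, false)),
    (1519, .gen 2234 (530, false)),
    (753, .gen 482 (491, false)),
    (2011, .gen 3355 (530, false)),
    (1598, .gen 3742 (491, false)),
    (2605, .gen 1634 (530, false)),
    (3086, .gen 791 (491, false)),
    (2634, .gen 1534 (530, false)),
    (1226, .gen 3749 (491, false)),
    (1333, .gen 1263 (530, false)),
    (1432, .gen 1334 (491, false)),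
    (3022, .gen 2419 (530, false)),
    (1701, .gen 1584 (491, false)),
    (637, .gen 3510 (530, false)),
    (3654, .gen 752 (491, false)),
    (2809, .gen 3445 (530, false)),
    (1802, .gen 2428 (491, false)),
    (2713, .gen 899 (530, false)),
    (1611, .gen 2338 (491, false)),
    (2925, .gen 994 (530, false)),
    (622, .gen 2766 (491, false)),
    (1110, .gen 109 (530, false)),
    (3301, .gen 2156 (491, false)),
    (3392, .gen 1785 (530, false)),
    (2372, .gen 344 (491, false)),
    (3782, .gen 202 (530, false)),
    (885, .gen 3603 (491, false)),
    (2268, .gen 2749 (530, false)),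
    (1200, .gen 3276 (491, false)),
    (1852, .gen 140 (530, false)),
    (1231, .gen 292 (491, false)),
    (1108, .gen 3338 (530, false)),
    (3192, .gen 154 (491, false)),
    (877, .gen 3142 (530, false)),
    (1320, .gen 1369 (491, false)),
    (304, .gen 2705 (530, false)),
    (64, .gen 1988 (491, false)),
    (419, .gen 31 (530, false)),
    (1842, .gen 46 (491, false)),
    (807, .gen 1285 (530, false)),
    (352, .gen 529 (491, false)),
    (2514, .gen 3671 (530, false)),
    (802, .gen 3730 (491, false)),
    (3772, .gen 2980 (530, false)),
    (1602, .gen 2169 (491, false)),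
    (1166, .gen 2919 (530, false)),
    (2225, .gen 1214 (491, false)),
    (2032, .gen 2588 (530, false)),
    (1303, .gen 3629 (491, false)),
    (1512, .gen 1077 (530, false)),
    (3666, .gen 3041 (491, false)),
    (82, .gen 3378 (530, false)),
    (2642, .gen 1301 (491, false)),
    (7, .gen 3428 (530, false)),
    (2702, .gen 98 (491, false)),
    (2195, .gen 2910 (530, false)),
    (294, .gen 1469 (491, false)),
    (1794, .gen 1754 (530, false)),
    (1928, .gen 1196 (491, false)),
    (3154, .gen 3633 (530, false)),
    (3045, .gen 3747 (491, false)),
    (2214, .gen 1163 (530, false)),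
    (2621, .gen 2461 (491, false)),
    (1177, .gen 1186 (530, false)),
    (2142, .gen 3670 (491, false)),
    (1778, .gen 2473 (530, false)),
    (2430, .gen 590 (491, false)),
    (2847, .gen 1707 (530, false)),
    (181, .gen 1085 (491, false)),
    (2244, .gen 1734 (530, false)),
    (207, .gen 3411 (491, false)),
    (3588, .gen 1093 (530, false)),
    (628, .gen 3114 (491, false)),
    (3220, .gen 3434 (530, false)),
    (3080, .gen 3519 (491, false)),
    (2221, .gen 2692 (530, false)),
    (1466, .gen 654 (491, false)),
    (404, .gen 3761 (530, false)),
    (731, .gen 563 (491, false)),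
    (692, .gen 2235 (530, false)),
    (2689, .gen 3180 (491, false)),
    (788, .gen 1599 (530, false)),
    (3206, .gen 526 (491, false)),
    (2400, .gen 1044 (530, false)),
    (1090, .gen 1999 (491, false)),
    (3005, .gen 1363 (491, false)),
    (1305, .gen 2569 (491, false)),
    (2563, .gen 2795 (491, false)),
    (139, .gen 1097 (491, false)),
    (1053, .gen 106 (491, false)),
    (2562, .gen 90 (491, false)),
    (2841, .gen 15 (491, false)),
    (2457, .gen 2977 (491, false)),
    (2831, .gen 3768 (491, false)),
    (3059, .gen 2622 (491, false)),
    (1514, .gen 3364 (491, false)),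
    (3456, .gen 1197 (491, false)),
    (962, .gen 995 (491, false)),
    (1768, .gen 734 (491, false)),
    (3129, .gen 2617 (491, false)),
    (3549, .gen 3098 (491, false)),
    (1972, .gen 686 (491, false)),
    (2267, .gen 2333 (491, false)),
    (2760, .gen 161 (491, false)),
    (2967, .gen 2299 (491, false)),
    (3616, .gen 3130 (491, false)),
    (3634, .gen 2076 (491, false)),
    (1030, .gen 3786 (491, false)),
    (2335, .gen 1433 (491, false)),
    (1532, .gen 767 (491, false)),
    (2496, .gen 519 (491, false)),
    (1779, .gen 2140 (491, false)),
    (3680, .gen 2241 (491, false)),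
    (1309, .gen 2302 (491, false)),
    (348, .gen 2223 (491, false)),
    (737, .gen 2477 (491, false)),
    (636, .gen 342 (491, false)),
    (2794, .gen 3785 (491, false)),
    (2050, .gen 2536 (491, false)),
    (828, .gen 3619 (491, false)),
    (663, .gen 3094 (491, false)),
    (2654, .gen 2125 (491, false)),
    (1440, .gen 1542 (491, false)),
    (714, .gen 2963 (491, false)),
    (2219, .gen 1819 (491, false)),
    (1470, .gen 2743 (491, false)),
    (1193, .gen 1104 (491, false)),
    (3244, .gen 1803 (491, false)),
    (602, .gen 274 (491, false)),
    (2470, .gen 1975 (491, false)),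
    (846, .gen 641 (491, false)),
    (1896, .gen 1028 (491, false)),
    (1979, .gen 3406 (491, false)),
    (3033, .gen 3286 (491, false)),
    (2942, .gen 211 (491, false)),
    (3085, .gen 1232 (491, false)),
    (1510, .gen 1581 (491, false)),
    (3336, .gen 3196 (491, false)),
    (2253, .gen 902 (491, false)),
    (1861, .gen 2574 (491, false)),
    (1653, .gen 2203 (491, false)),
    (2829, .gen 3132 (491, false)),
    (267, .gen 1971 (491, false)),
    (896, .gen 1984 (491, false)),
    (2892, .gen 2787 (491, false)),
    (2505, .gen 1399 (491, false)),
    (3322, .gen 1457 (491, false))]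

/-- Visits. -/
def v18_11 : List (ℕ × Src) :=
  [(2347, .gen 3110 (491, false)),
    (1082, .gen 1790 (491, false)),
    (997, .gen 2121 (491, false)),
    (2686, .gen 894 (491, false)),
    (3429, .gen 1767 (491, false)),
    (314, .gen 2915 (491, false)),
    (2775, .gen 1168 (491, false)),
    (318, .gen 3518 (491, false)),
    (1863, .gen 2054 (491, false)),
    (2003, .gen 2297 (491, false)),
    (3006, .gen 1042 (491, false)),
    (1661, .gen 2671 (491, false)),
    (1380, .gen 3019 (491, false)),
    (1152, .gen 2149 (491, false)),
    (3044, .gen 2202 (491, false)),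
    (3483, .gen 2320 (491, false)),
    (542, .gen 3204 (491, false)),
    (3437, .gen 2237 (491, false)),
    (2507, .gen 1817 (491, false)),
    (1959, .gen 1679 (491, false)),
    (2083, .gen 3009 (491, false)),
    (764, .gen 3431 (491, false)),
    (963, .gen 675 (491, false)),
    (3293, .gen 2158 (491, false)),
    (887, .gen 1622 (491, false)),
    (1202, .gen 2343 (491, false)),
    (1239, .gen 2068 (491, false)),
    (1977, .gen 2547 (491, false)),
    (2119, .gen 833 (491, false)),
    (316, .gen 379 (491, false)),
    (479, .gen 2615 (491, false)),
    (2448, .gen 3564 (491, false)),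
    (2364, .gen 1613 (491, false)),
    (3089, .gen 2530 (491, false)),
    (1246, .gen 1716 (491, false)),
    (3450, .gen 1676 (491, false)),
    (2939, .gen 3063 (491, false)),
    (2404, .gen 1711 (491, false)),
    (1260, .gen 345 (491, false)),
    (2997, .gen 1678 (491, false)),
    (84, .gen 1284 (491, false)),
    (2024, .gen 1282 (491, false)),
    (1848, .gen 3092 (491, false)),
    (2415, .gen 2134 (491, false)),
    (485, .gen 3281 (491, false)),
    (3466, .gen 2256 (491, false)),
    (305, .gen 786 (491, false)),
    (3290, .gen 1445 (491, false)),
    (1402, .gen 3366 (491, false)),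
    (2441, .gen 3725 (491, false)),
    (2361, .gen 3349 (491, false)),
    (2555, .gen 2154 (491, false)),
    (2714, .gen 1010 (491, false)),
    (1024, .gen 3763 (491, false)),
    (176, .gen 2081 (491, false)),
    (615, .gen 503 (491, false)),
    (315, .gen 3146 (491, false)),
    (2626, .gen 695 (491, false)),
    (3714, .gen 2996 (491, false)),
    (2025, .gen 2962 (491, false)),
    (1296, .gen 1271 (491, false)),
    (1924, .gen 3001 (491, false)),
    (2890, .gen 2591 (491, false)),
    (759, .gen 878 (491, false)),
    (3052, .gen 876 (491, false)),
    (3480, .gen 3657 (491, false)),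
    (1241, .gen 3380 (491, false)),
    (349, .gen 3266 (491, false)),
    (67, .gen 1479 (491, false)),
    (2556, .gen 619 (491, false)),
    (1675, .gen 804 (491, false)),
    (3351, .gen 2242 (491, false)),
    (1876, .gen 3735 (491, false)),
    (2525, .gen 578 (491, false)),
    (3419, .gen 3675 (491, false)),
    (1119, .gen 77 (491, false)),
    (3746, .gen 1983 (491, false)),
    (1115, .gen 480 (491, false)),
    (3208, .gen 280 (491, false)),
    (487, .gen 3682 (491, false)),
    (1170, .gen 3460 (491, false)),
    (592, .gen 3387 (491, false)),
    (2340, .gen 3344 (491, false)),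
    (608, .gen 3148 (491, false)),
    (3586, .gen 3777 (491, false)),
    (1109, .gen 115 (491, false)),
    (1807, .gen 1639 (491, false)),
    (3415, .gen 371 (491, false)),
    (2405, .gen 930 (491, false)),
    (1725, .gen 1827 (491, false)),
    (978, .gen 2043 (491, false)),
    (3705, .gen 2196 (491, false)),
    (1037, .gen 2961 (491, false)),
    (3283, .gen 3722 (491, false)),
    (3188, .gen 1447 (491, false)),
    (3082, .gen 935 (491, false)),
    (3365, .gen 3535 (491, false)),
    (3251, .gen 1617 (491, false)),
    (2236, .gen 243 (491, false)),
    (1248, .gen 1067 (491, false)),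
    (300, .gen 3728 (491, false)),
    (2289, .gen 1735 (491, false)),
    (782, .gen 3000 (491, false)),
    (1280, .gen 1150 (491, false)),
    (973, .gen 3556 (491, false)),
    (220, .gen 1328 (491, false)),
    (1558, .gen 3626 (491, false)),
    (2261, .gen 3131 (491, false)),
    (607, .gen 575 (491, false)),
    (3100, .gen 2984 (491, false)),
    (1996, .gen 773 (491, false)),
    (2678, .gen 1665 (491, false)),
    (395, .gen 3246 (491, false)),
    (3741, .gen 1185 (491, false)),
    (151, .gen 3303 (491, false)),
    (2567, .gen 2224 (491, false)),
    (1604, .gen 1739 (491, false)),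
    (1791, .gen 3267 (491, false)),
    (1105, .gen 199 (491, false)),
    (1122, .gen 1484 (491, false)),
    (3663, .gen 555 (491, false)),
    (3359, .gen 945 (491, false)),
    (3370, .gen 925 (491, false)),
    (2882, .gen 1845 (491, false)),
    (2856, .gen 2429 (491, false)),
    (1934, .gen 2572 (491, false)),
    (1178, .gen 569 (491, false)),
    (1521, .gen 928 (491, false)),
    (931, .gen 35 (491, false)),
    (2257, .gen 1766 (491, false)),
    (3443, .gen 2407 (491, false)),
    (1307, .gen 3674 (491, false)),
    (1548, .gen 1137 (491, false)),
    (2148, .gen 2674 (491, false)),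
    (1088, .gen 1575 (491, false)),
    (1310, .gen 3028 (491, false)),
    (3329, .gen 1359 (491, false)),
    (1585, .gen 2490 (491, false)),
    (1317, .gen 39 (491, false)),
    (3143, .gen 32 (491, false)),
    (1781, .gen 893 (491, false)),
    (3732, .gen 1980 (491, false)),
    (3152, .gen 2323 (491, false)),
    (2957, .gen 282 (491, false)),
    (1157, .gen 2006 (491, false)),
    (576, .gen 388 (491, false)),
    (2381, .gen 3219 (491, false)),
    (1228, .gen 3140 (491, false)),
    (895, .gen 1529 (491, false)),
    (2131, .gen 3487 (491, false)),
    (340, .gen 1751 (491, false)),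
    (79, .gen 2754 (491, false)),
    (1820, .gen 2389 (491, false)),
    (2613, .gen 101 (491, false)),
    (3221, .gen 2869 (491, false)),
    (1605, .gen 2497 (491, false)),
    (3573, .gen 392 (491, false)),
    (52, .gen 382 (491, false)),
    (2482, .gen 1922 (491, false)),
    (2883, .gen 2034 (491, false)),
    (2275, .gen 2551 (491, false)),
    (1217, .gen 1325 (491, false)),
    (3390, .gen 3740 (491, false)),
    (2585, .gen 262 (491, false)),
    (2727, .gen 1012 (491, false)),
    (2647, .gen 3195 (491, false)),
    (197, .gen 1287 (491, false)),
    (1292, .gen 790 (491, false)),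
    (977, .gen 2012 (491, false)),
    (1047, .gen 1477 (491, false)),
    (61, .gen 3421 (491, false)),
    (2726, .gen 2020 (491, false)),
    (2815, .gen 2342 (491, false)),
    (1795, .gen 3199 (491, false)),
    (2973, .gen 1349 (491, false)),
    (2974, .gen 1112 (491, false)),
    (1026, .gen 1757 (491, false)),
    (103, .gen 954 (491, false)),
    (3515, .gen 781 (491, false)),
    (3016, .gen 2277 (491, false)),
    (2353, .gen 603 (491, false)),
    (1752, .gen 1175 (491, false)),
    (2791, .gen 462 (491, false)),
    (3395, .gen 1831 (491, false)),
    (1262, .gen 2917 (491, false)),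
    (2594, .gen 377 (491, false)),
    (3668, .gen 2213 (491, false)),
    (810, .gen 777 (491, false)),
    (1493, .gen 2920 (491, false)),
    (2417, .gen 2687 (491, false)),
    (1019, .gen 1771 (491, false)),
    (2968, .gen 2941 (491, false)),
    (2413, .gen 2222 (491, false)),
    (2349, .gen 1624 (491, false)),
    (1375, .gen 3340 (491, false)),
    (2797, .gen 976 (491, false)),
    (3776, .gen 2345 (491, false)),
    (2360, .gen 2669 (491, false)),
    (1249, .gen 3166 (491, false)),
    (2695, .gen 3178 (491, false)),
    (2133, .gen 1139 (491, false)),
    (1146, .gen 1029 (491, false)),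
    (2653, .gen 173 (491, false)),
    (511, .gen 2420 (491, false)),
    (1306, .gen 2180 (491, false)),
    (2922, .gen 951 (491, false)),
    (2905, .gen 1993 (491, false)),
    (2426, .gen 1744 (491, false)),
    (341, .gen 881 (491, false)),
    (3448, .gen 3372 (491, false)),
    (1731, .gen 1397 (491, false)),
    (1746, .gen 1923 (491, false)),
    (2143, .gen 3271 (491, false)),
    (2421, .gen 3640 (491, false)),
    (1101, .gen 1932 (491, false)),
    (3070, .gen 3593 (491, false)),
    (2442, .gen 3331 (491, false)),
    (1424, .gen 2449 (491, false)),
    (835, .gen 2375 (491, false)),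
    (326, .gen 1902 (491, false)),
    (2680, .gen 3097 (491, false)),
    (147, .gen 763 (491, false)),
    (3043, .gen 1583 (491, false)),
    (2111, .gen 3138 (491, false)),
    (1830, .gen 3672 (491, false)),
    (2208, .gen 1804 (491, false)),
    (3203, .gen 2832 (491, false)),
    (3697, .gen 2339 (491, false)),
    (2108, .gen 2645 (491, false)),
    (3111, .gen 3677 (491, false)),
    (2122, .gen 1765 (491, false)),
    (850, .gen 1673 (491, false)),
    (499, .gen 1864 (491, false)),
    (1774, .gen 677 (491, false)),
    (1871, .gen 1007 (491, false)),
    (450, .gen 3667 (491, false)),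
    (803, .gen 476 (491, false)),
    (3379, .gen 733 (491, false)),
    (3091, .gen 287 (491, false)),
    (2793, .gen 1460 (491, false)),
    (2643, .gen 2929 (491, false)),
    (122, .gen 3187 (491, false)),
    (325, .gen 1763 (491, false)),
    (2038, .gen 2927 (491, false)),
    (1224, .gen 337 (491, false)),
    (357, .gen 1545 (491, false)),
    (3240, .gen 2966 (491, false)),
    (1124, .gen 272 (491, false)),
    (3088, .gen 2845 (491, false)),
    (2708, .gen 2437 (491, false)),
    (3502, .gen 892 (491, false)),
    (1266, .gen 2100 (491, false)),
    (1172, .gen 1797 (491, false)),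
    (2085, .gen 3757 (491, false)),
    (3688, .gen 2209 (491, false)),
    (3514, .gen 1806 (491, false)),
    (2598, .gen 2176 (491, false)),
    (264, .gen 3239 (491, false)),
    (627, .gen 3289 (491, false)),
    (2756, .gen 2796 (491, false)),
    (2625, .gen 2495 (491, false)),
    (2354, .gen 3259 (491, false)),
    (1504, .gen 3307 (491, false)),
    (2659, .gen 679 (491, false)),
    (863, .gen 537 (491, false)),
    (1787, .gen 1265 (491, false)),
    (2804, .gen 1142 (491, false)),
    (2849, .gen 1870 (491, false)),
    (413, .gen 256 (491, false)),
    (2586, .gen 2934 (491, false)),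
    (3104, .gen 2079 (491, false)),
    (3116, .gen 1672 (491, false)),
    (837, .gen 1535 (491, false)),
    (3315, .gen 1663 (491, false)),
    (1759, .gen 2432 (491, false)),
    (3555, .gen 1468 (491, false)),
    (864, .gen 769 (491, false)),
    (1290, .gen 463 (491, false)),
    (551, .gen 1486 (491, false)),
    (2436, .gen 1552 (491, false)),
    (3661, .gen 3491 (491, false)),
    (2316, .gen 513 (491, false)),
    (2908, .gen 2296 (491, false)),
    (817, .gen 742 (491, false)),
    (3358, .gen 1099 (491, false)),
    (1600, .gen 610 (491, false)),
    (1225, .gen 1769 (491, false)),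
    (165, .gen 3288 (491, false)),
    (2803, .gen 279 (491, false)),
    (2002, .gen 1371 (491, false)),
    (2319, .gen 3440 (491, false)),
    (771, .gen 2446 (491, false)),
    (68, .gen 808 (491, false)),
    (2434, .gen 1091 (491, false)),
    (399, .gen 2558 (491, false)),
    (125, .gen 2411 (491, false)),
    (841, .gen 2553 (491, false)),
    (2072, .gen 968 (491, false)),
    (1974, .gen 2306 (491, false)),
    (910, .gen 3352 (491, false))]

/-- Visits. -/
def v18_12 : List (ℕ × Src) :=
  [(3367, .gen 1348 (491, false)),
    (3748, .gen 3105 (491, false)),
    (3404, .gen 2000 (491, false)),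
    (3399, .gen 408 (491, false)),
    (1388, .gen 2070 (491, false)),
    (3496, .gen 2820 (491, false)),
    (1874, .gen 1046 (491, false)),
    (3029, .gen 3533 (491, false)),
    (3071, .gen 2698 (491, false)),
    (373, .gen 245 (491, false)),
    (1420, .gen 754 (491, false)),
    (530, .gen 2377 (491, false)),
    (749, .gen 448 (491, false)),
    (869, .gen 13 (491, false)),
    (1165, .gen 3165 (491, false)),
    (1898, .gen 2672 (491, false)),
    (852, .gen 3706 (491, false)),
    (397, .gen 3711 (491, false)),
    (939, .gen 2907 (491, false)),
    (3571, .gen 1930 (491, false)),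
    (2069, .gen 971 (491, false)),
    (1221, .gen 3531 (491, false)),
    (1295, .gen 2575 (491, false)),
    (3709, .gen 2341 (491, false)),
    (3389, .gen 2388 (491, false)),
    (1133, .gen 3673 (491, false)),
    (2370, .gen 854 (491, false)),
    (2673, .gen 3546 (491, false)),
    (1408, .gen 3310 (491, false)),
    (712, .gen 355 (491, false)),
    (1691, .gen 2348 (491, false)),
    (942, .gen 131 (491, false)),
    (1933, .gen 2808 (491, false)),
    (3736, .gen 3412 (491, false)),
    (3193, .gen 3707 (491, false)),
    (1198, .gen 3584 (491, false)),
    (585, .gen 1540 (491, false)),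
    (2716, .gen 2212 (491, false)),
    (2763, .gen 2262 (491, false)),
    (725, .gen 1949 (491, false)),
    (1956, .gen 1430 (491, false)),
    (432, .gen 3030 (491, false)),
    (3685, .gen 2365 (491, false)),
    (2152, .gen 1620 (491, false)),
    (1206, .gen 687 (491, false)),
    (177, .gen 1884 (491, false)),
    (58, .gen 1352 (491, false)),
    (1311, .gen 1008 (491, false)),
    (2632, .gen 2638 (491, false)),
    (248, .gen 2089 (491, false)),
    (765, .gen 3348 (491, false)),
    (1366, .gen 1955 (491, false)),
    (2755, .gen 1276 (491, false)),
    (1586, .gen 2438 (491, false)),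
    (1838, .gen 699 (491, false)),
    (393, .gen 3072 (491, false)),
    (2946, .gen 1799 (491, false)),
    (295, .gen 3643 (491, false)),
    (2295, .gen 1872 (491, false)),
    (620, .gen 3316 (491, false)),
    (1621, .gen 1367 (491, false)),
    (2724, .gen 2564 (491, false)),
    (1780, .gen 873 (491, false)),
    (2589, .gen 1549 (491, false)),
    (2620, .gen 346 (491, false)),
    (1854, .gen 1048 (491, false)),
    (2382, .gen 434 (491, false)),
    (2197, .gen 2406 (491, false)),
    (2527, .gen 175 (491, false)),
    (748, .gen 1140 (491, false)),
    (1344, .gen 1381 (491, false)),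
    (834, .gen 288 (491, false)),
    (1353, .gen 2606 (491, false)),
    (2614, .gen 3627 (491, false)),
    (3696, .gen 198 (491, false)),
    (2243, .gen 948 (491, false)),
    (3482, .gen 1312 (491, false)),
    (688, .gen 489 (491, false)),
    (2472, .gen 1748 (491, false)),
    (1944, .gen 2894 (491, false)),
    (1612, .gen 407 (491, false)),
    (3190, .gen 3652 (491, false)),
    (952, .gen 3136 (491, false)),
    (3516, .gen 412 (491, false)),
    (2172, .gen 1815 (491, false)),
    (905, .gen 3008 (491, false)),
    (1658, .gen 3653 (491, false)),
    (2171, .gen 3263 (491, false)),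
    (1577, .gen 2042 (491, false)),
    (3102, .gen 3738 (491, false)),
    (540, .gen 3320 (491, false)),
    (2115, .gen 2649 (491, false)),
    (3, .gen 1550 (491, false)),
    (2459, .gen 2557 (491, false)),
    (3254, .gen 2211 (491, false)),
    (3614, .gen 2651 (491, false)),
    (533, .gen 2951 (491, false)),
    (1358, .gen 932 (491, false)),
    (1134, .gen 960 (491, false)),
    (3264, .gen 1453 (491, false)),
    (1667, .gen 3330 (491, false)),
    (2867, .gen 1877 (491, false)),
    (2130, .gen 3639 (491, false)),
    (1517, .gen 739 (491, false)),
    (2828, .gen 1060 (491, false)),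
    (3163, .gen 1951 (491, false)),
    (1636, .gen 3363 (491, false)),
    (886, .gen 2486 (491, false)),
    (3743, .gen 1132 (491, false)),
    (1000, .gen 958 (491, false)),
    (2810, .gen 2384 (491, false)),
    (99, .gen 2618 (491, false)),
    (468, .gen 980 (491, false)),
    (2814, .gen 2310 (491, false)),
    (717, .gen 1318 (491, false)),
    (1092, .gen 380 (491, false)),
    (2272, .gen 124 (491, false)),
    (3314, .gen 1533 (491, false)),
    (761, .gen 584 (491, false)),
    (3317, .gen 179 (491, false)),
    (1992, .gen 1892 (491, false)),
    (2292, .gen 185 (491, false)),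
    (845, .gen 1618 (491, false)),
    (2526, .gen 1686 (491, false)),
    (3425, .gen 1040 (491, false)),
    (691, .gen 1800 (491, false)),
    (3332, .gen 3474 (491, false)),
    (3277, .gen 2290 (491, false)),
    (2503, .gen 2124 (491, false)),
    (989, .gen 2271 (491, false)),
    (3031, .gen 426 (491, false)),
    (1978, .gen 2515 (491, false)),
    (1189, .gen 2677 (491, false)),
    (3014, .gen 3684 (491, false)),
    (308, .gen 1911 (491, false)),
    (1364, .gen 1154 (491, false)),
    (1063, .gen 2532 (491, false)),
    (1786, .gen 1536 (491, false)),
    (595, .gen 1074 (491, false)),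
    (1255, .gen 2092 (491, false)),
    (3699, .gen 2767 (491, false)),
    (1184, .gen 3345 (491, false)),
    (2479, .gen 3479 (491, false)),
    (3373, .gen 3308 (491, false)),
    (3495, .gen 386 (491, false)),
    (171, .gen 2516 (491, false)),
    (3522, .gen 1724 (491, false)),
    (1981, .gen 110 (491, false)),
    (2504, .gen 600 (491, false)),
    (940, .gen 2543 (491, false)),
    (3202, .gen 1641 (491, false)),
    (2390, .gen 779 (491, false)),
    (3189, .gen 2560 (491, false)),
    (1895, .gen 1519 (491, false)),
    (795, .gen 2011 (491, false)),
    (853, .gen 2605 (491, false)),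
    (2904, .gen 2634 (491, false)),
    (2041, .gen 1333 (491, false)),
    (1745, .gen 3022 (491, false)),
    (1593, .gen 637 (491, false)),
    (3473, .gen 2809 (491, false)),
    (2623, .gen 2713 (491, false)),
    (1555, .gen 2925 (491, false)),
    (2435, .gen 1110 (491, false)),
    (2762, .gen 3392 (491, false)),
    (48, .gen 3782 (491, false)),
    (3463, .gen 2268 (491, false)),
    (3353, .gen 1852 (491, false)),
    (2780, .gen 1108 (491, false)),
    (3095, .gen 877 (491, false)),
    (136, .gen 304 (491, false)),
    (1773, .gen 419 (491, false)),
    (3295, .gen 807 (491, false)),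
    (1467, .gen 2514 (491, false)),
    (3758, .gen 3772 (491, false)),
    (933, .gen 1166 (491, false)),
    (239, .gen 2032 (491, false)),
    (1382, .gen 1512 (491, false)),
    (1677, .gen 82 (491, false)),
    (2661, .gen 7 (491, false)),
    (1245, .gen 2195 (491, false)),
    (669, .gen 1794 (491, false)),
    (586, .gen 3154 (491, false)),
    (730, .gen 2214 (491, false)),
    (1203, .gen 1177 (491, false)),
    (1298, .gen 1778 (491, false)),
    (2300, .gen 2847 (491, false)),
    (1662, .gen 2244 (491, false)),
    (3333, .gen 3588 (491, false)),
    (820, .gen 3220 (491, false)),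
    (678, .gen 2221 (491, false)),
    (3328, .gen 404 (491, false)),
    (306, .gen 692 (491, false)),
    (3227, .gen 788 (491, false)),
    (801, .gen 2400 (491, false))]

/-- The visits of node 18. -/
def visits18 : List (ℕ × Src) :=
  v18_0 ++ v18_1 ++ v18_2 ++ v18_3 ++ v18_4 ++ v18_5 ++ v18_6 ++ v18_7 ++ v18_8 ++ v18_9 ++ v18_10 ++ v18_11 ++ v18_12

/-- Visits. -/
def v19_0 : List (ℕ × Src) :=
  [(4, .edge 825 true),
    (1035, .edge 827 true),
    (416, .edge 828 false),
    (997, .edge 829 false),
    (1628, .edge 830 false),
    (740, .edge 831 false),
    (37, .edge 831 true),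
    (1977, .edge 832 false),
    (1411, .edge 833 false),
    (1875, .edge 834 false),
    (1251, .edge 835 true),
    (2409, .edge 836 true),
    (2067, .edge 837 false),
    (3186, .edge 838 true),
    (3356, .edge 839 true),
    (2442, .edge 840 true),
    (132, .edge 841 true),
    (744, .edge 842 true),
    (606, .edge 843 true),
    (3092, .edge 844 true),
    (1506, .edge 845 false),
    (3244, .edge 846 false),
    (2203, .edge 847 false),
    (1689, .edge 848 false),
    (2934, .edge 849 false),
    (619, .edge 850 false),
    (3587, .edge 851 false),
    (2001, .edge 852 false),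
    (3660, .edge 853 false),
    (2138, .edge 854 false),
    (825, .edge 855 false),
    (701, .edge 856 true),
    (2287, .edge 857 false),
    (3539, .edge 858 false),
    (2887, .edge 859 false),
    (3031, .edge 860 true),
    (115, .edge 861 false),
    (1748, .edge 862 false),
    (3318, .edge 863 true),
    (1719, .edge 864 true),
    (3342, .edge 865 true),
    (2202, .edge 866 true),
    (1465, .edge 867 true),
    (1813, .edge 868 true),
    (1369, .edge 869 true),
    (2947, .edge 870 true),
    (1960, .edge 871 true),
    (952, .edge 872 true),
    (2516, .edge 873 true),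
    (3401, .edge 874 true),
    (2267, .edge 875 true),
    (2256, .edge 876 true),
    (2997, .edge 877 true),
    (2185, .edge 878 true),
    (1761, .edge 879 true),
    (520, .edge 880 true),
    (3383, .edge 881 true),
    (3659, .edge 882 true),
    (779, .edge 883 true),
    (725, .edge 884 true),
    (245, .edge 885 true),
    (2009, .edge 886 true),
    (1825, .edge 887 true),
    (645, .edge 888 true),
    (1025, .edge 889 true),
    (1989, .edge 890 true),
    (1743, .edge 891 true),
    (1252, .edge 892 true),
    (3370, .edge 893 true),
    (966, .edge 894 true),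
    (3152, .edge 895 true),
    (938, .edge 896 true),
    (578, .edge 897 true),
    (2097, .edge 898 true),
    (1535, .edge 899 true),
    (1511, .edge 900 true),
    (3493, .edge 901 true),
    (458, .edge 902 true),
    (2790, .edge 903 true),
    (3258, .edge 904 true),
    (621, .edge 905 true),
    (2438, .edge 906 true),
    (1387, .edge 907 true),
    (1519, .edge 908 true),
    (521, .edge 909 true),
    (2530, .edge 910 true),
    (1658, .edge 911 true),
    (580, .edge 912 true),
    (948, .edge 913 true),
    (1027, .edge 914 true),
    (365, .edge 915 true),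
    (1, .edge 916 true),
    (46, .edge 917 false),
    (2466, .edge 917 true),
    (3055, .edge 918 false),
    (2599, .edge 918 true),
    (69, .edge 919 false),
    (1284, .edge 919 true),
    (2168, .edge 920 false),
    (374, .edge 921 false),
    (343, .edge 922 false),
    (1698, .edge 922 true),
    (472, .edge 923 false),
    (2540, .edge 924 false),
    (1900, .edge 925 false),
    (2777, .edge 925 true),
    (3665, .edge 926 false),
    (907, .edge 926 true),
    (129, .edge 927 false),
    (3560, .edge 927 true),
    (128, .edge 928 false),
    (3026, .edge 929 false),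
    (592, .edge 930 false),
    (108, .edge 931 true),
    (1300, .edge 932 true),
    (2848, .edge 933 true),
    (1869, .edge 934 true),
    (1380, .edge 935 true),
    (3257, .edge 936 true),
    (3694, .edge 937 true),
    (2572, .edge 938 true),
    (3613, .edge 939 false),
    (1183, .edge 940 false),
    (1472, .edge 940 true),
    (2971, .edge 941 false),
    (1135, .edge 941 true),
    (1050, .edge 942 false),
    (1121, .edge 942 true),
    (2445, .edge 943 false),
    (609, .edge 944 false),
    (1599, .edge 945 false),
    (3345, .edge 946 false),
    (854, .edge 947 false),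
    (3610, .edge 947 true),
    (2692, .edge 948 false),
    (3508, .edge 948 true),
    (583, .edge 949 false),
    (1649, .edge 949 true),
    (3419, .edge 950 false),
    (588, .edge 950 true),
    (571, .edge 951 false),
    (1231, .edge 951 true),
    (1164, .edge 952 false),
    (1276, .edge 952 true),
    (762, .edge 953 false),
    (3776, .edge 953 true),
    (1021, .edge 954 false),
    (1537, .edge 954 true),
    (1745, .edge 955 false),
    (3598, .edge 956 false),
    (3082, .edge 956 true),
    (1760, .edge 957 false),
    (2503, .edge 957 true),
    (746, .edge 958 false),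
    (76, .edge 958 true),
    (660, .edge 959 false),
    (1169, .edge 959 true),
    (1034, .edge 960 true),
    (381, .edge 961 true),
    (3761, .edge 962 true),
    (3165, .edge 963 true),
    (1984, .edge 964 true),
    (2529, .edge 965 true),
    (5, .edge 966 true),
    (2283, .edge 967 true),
    (3488, .edge 968 true),
    (2397, .edge 969 false),
    (1185, .edge 970 false),
    (941, .edge 971 false),
    (2732, .edge 971 true),
    (2593, .edge 972 false),
    (1357, .edge 972 true),
    (1797, .edge 973 false),
    (874, .edge 974 false),
    (50, .edge 975 false),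
    (280, .edge 975 true),
    (193, .edge 976 false),
    (100, .edge 976 true),
    (49, .edge 977 false),
    (2195, .edge 977 true),
    (25, .edge 978 false),
    (2902, .edge 978 true),
    (252, .edge 979 false),
    (2794, .edge 979 true),
    (901, .edge 980 false),
    (98, .edge 980 true),
    (1297, .edge 981 false),
    (2230, .edge 982 false),
    (1912, .edge 982 true),
    (562, .edge 983 false),
    (44, .edge 983 true),
    (319, .edge 984 false),
    (2037, .edge 984 true),
    (290, .edge 985 false),
    (3773, .edge 986 false),
    (500, .edge 987 false),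
    (528, .edge 987 true),
    (1293, .edge 988 false),
    (2867, .edge 989 false),
    (2432, .edge 989 true),
    (2416, .edge 990 false),
    (256, .edge 991 false),
    (2703, .edge 991 true),
    (1264, .edge 992 false),
    (1988, .edge 992 true),
    (2597, .edge 993 false),
    (1558, .edge 994 false),
    (3231, .edge 995 false),
    (708, .edge 995 true),
    (3002, .edge 996 false),
    (127, .edge 997 false),
    (3626, .edge 998 false),
    (2715, .edge 998 true),
    (2356, .edge 999 false),
    (895, .edge 999 true),
    (849, .edge 1000 false),
    (1975, .edge 1000 true),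
    (1242, .edge 1001 false),
    (2452, .edge 1001 true),
    (3525, .edge 1002 false),
    (2257, .edge 1002 true),
    (837, .edge 1003 false),
    (943, .edge 1003 true),
    (224, .edge 1004 false),
    (2221, .edge 1005 false),
    (487, .edge 1006 false),
    (157, .edge 1006 true),
    (1166, .edge 1007 false),
    (2166, .edge 1008 false),
    (265, .edge 1008 true),
    (70, .edge 1009 false),
    (3511, .edge 1010 false),
    (3572, .edge 1010 true),
    (1705, .edge 1011 false),
    (2844, .edge 1011 true),
    (1354, .edge 1012 false),
    (2917, .edge 1013 false),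
    (629, .edge 1014 false),
    (1565, .edge 1015 false),
    (51, .edge 1016 false),
    (954, .edge 1016 true),
    (617, .edge 1017 false),
    (2973, .edge 1017 true),
    (1795, .edge 1018 false),
    (1798, .edge 1019 false),
    (529, .edge 1019 true),
    (2508, .edge 1020 true),
    (3276, .edge 1021 true),
    (1098, .edge 1022 true),
    (3745, .edge 1023 true),
    (1822, .edge 1024 true),
    (2430, .edge 1025 true),
    (2362, .edge 1026 false),
    (1158, .edge 1027 false),
    (2633, .edge 1027 true),
    (2879, .edge 1028 false),
    (1587, .edge 1029 false),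
    (3332, .edge 1029 true),
    (2819, .edge 1030 false),
    (27, .edge 1030 true),
    (2636, .edge 1031 false),
    (2670, .edge 1032 false),
    (2034, .edge 1032 true),
    (1982, .edge 1033 false),
    (3084, .edge 1034 false),
    (2106, .edge 1035 false),
    (2865, .edge 1036 false),
    (3237, .edge 1037 true),
    (275, .edge 1038 true),
    (2706, .edge 1039 true),
    (1353, .edge 1040 false),
    (1082, .edge 1040 true),
    (696, .edge 1041 false),
    (2490, .edge 1041 true),
    (3311, .edge 1042 false),
    (2718, .edge 1043 false),
    (3417, .edge 1044 true),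
    (1105, .edge 1045 true),
    (2099, .edge 1046 true),
    (1408, .edge 1047 true),
    (1820, .edge 1048 false),
    (3408, .edge 1048 true),
    (1126, .edge 1049 false),
    (3226, .edge 1050 false),
    (1173, .edge 1051 true),
    (2943, .edge 1052 true),
    (2789, .edge 1053 false),
    (1366, .edge 1054 false),
    (2948, .edge 1055 false),
    (3343, .edge 1056 true),
    (967, .edge 1057 true),
    (1355, .edge 1058 true),
    (2688, .edge 1059 true),
    (2521, .edge 1060 false),
    (3024, .edge 1061 true),
    (2441, .edge 1062 true),
    (1945, .edge 1063 false),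
    (955, .edge 1064 true),
    (1848, .edge 1065 true),
    (398, .edge 1066 true)]

/-- Visits. -/
def v19_1 : List (ℕ × Src) :=
  [(942, .edge 1067 true),
    (3568, .edge 1068 true),
    (1947, .edge 1069 true),
    (1487, .edge 1070 true),
    (1347, .edge 1071 true),
    (3600, .edge 1072 true),
    (1109, .edge 1073 true),
    (1054, .edge 1074 true),
    (2342, .edge 1075 true),
    (847, .edge 1076 false),
    (2541, .edge 1076 true),
    (1630, .edge 1077 false),
    (3590, .edge 1078 false),
    (2235, .edge 1079 false),
    (466, .edge 1080 false),
    (597, .edge 1080 true),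
    (6, .edge 1081 false),
    (3671, .edge 1082 false),
    (3669, .edge 1082 true),
    (200, .edge 1083 false),
    (1418, .edge 1084 false),
    (2323, .edge 1085 false),
    (1951, .edge 1086 false),
    (656, .edge 1087 false),
    (45, .edge 1088 false),
    (15, .edge 1088 true),
    (2699, .edge 1089 false),
    (2427, .edge 1090 false),
    (2458, .edge 1091 false),
    (428, .edge 1092 false),
    (1033, .edge 1093 false),
    (1123, .edge 1094 false),
    (2365, .edge 1095 false),
    (443, .edge 1096 false),
    (2485, .edge 1096 true),
    (468, .edge 1097 false),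
    (2155, .edge 1097 true),
    (3596, .edge 1098 false),
    (393, .edge 1099 false),
    (3374, .edge 1100 false),
    (1638, .edge 1101 false),
    (349, .edge 1102 false),
    (987, .edge 1103 false),
    (2711, .edge 1104 false),
    (1847, .edge 1104 true),
    (3028, .edge 1105 false),
    (2717, .edge 1105 true),
    (295, .edge 1106 false),
    (1983, .edge 1106 true),
    (697, .edge 1107 false),
    (243, .edge 1108 false),
    (2191, .edge 1109 false),
    (2435, .edge 1110 false),
    (1785, .edge 1111 false),
    (151, .edge 1112 false),
    (1692, .edge 1112 true),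
    (57, .edge 1113 false),
    (2526, .edge 1114 false),
    (1824, .edge 1114 true),
    (2372, .edge 1115 false),
    (1227, .edge 1115 true),
    (867, .edge 1116 false),
    (2424, .edge 1117 false),
    (658, .edge 1118 false),
    (1586, .edge 1119 false),
    (1764, .edge 1120 false),
    (1289, .edge 1121 false),
    (1382, .edge 1121 true),
    (2577, .edge 1122 false),
    (3485, .edge 1123 false),
    (716, .edge 1124 false),
    (28, .edge 1125 false),
    (998, .edge 1125 true),
    (1468, .edge 1126 false),
    (2677, .edge 1127 false),
    (111, .edge 1128 false),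
    (1340, .edge 1129 false),
    (23, .edge 1129 true),
    (745, .edge 1130 false),
    (482, .edge 1131 false),
    (2709, .edge 1132 false),
    (787, .edge 1132 true),
    (1684, .edge 1133 false),
    (653, .edge 1134 false),
    (450, .edge 1135 false),
    (1204, .edge 1136 false),
    (1578, .edge 1136 true),
    (1500, .edge 1137 false),
    (1940, .edge 1138 false),
    (304, .edge 1139 false),
    (171, .edge 1140 false),
    (140, .edge 1141 false),
    (1172, .edge 1142 false),
    (110, .edge 1143 false),
    (2041, .edge 1144 false),
    (2976, .edge 1145 false),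
    (2601, .edge 1145 true),
    (3482, .edge 1146 true),
    (2112, .edge 1147 true),
    (1932, .edge 1148 true),
    (3716, .edge 1149 true),
    (3778, .edge 1150 true),
    (2535, .edge 1151 false),
    (2955, .edge 1152 true),
    (1018, .edge 1153 true),
    (116, .edge 1154 true),
    (162, .edge 1155 true),
    (995, .edge 1156 true),
    (1657, .edge 1157 true),
    (845, .edge 1158 true),
    (2414, .edge 1159 false),
    (1489, .edge 1160 false),
    (870, .edge 1161 false),
    (1111, .edge 1162 false),
    (3711, .edge 1163 false),
    (1992, .edge 1164 false),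
    (3375, .edge 1164 true),
    (2201, .edge 1165 false),
    (1424, .edge 1165 true),
    (3571, .edge 1166 false),
    (298, .edge 1166 true),
    (1177, .edge 1167 false),
    (953, .edge 1167 true),
    (2366, .edge 1168 false),
    (2361, .edge 1169 false),
    (1715, .edge 1170 false),
    (3446, .edge 1171 false),
    (3029, .edge 1172 false),
    (220, .edge 1173 false),
    (844, .edge 1174 false),
    (2115, .edge 1175 false),
    (233, .edge 1175 true),
    (1414, .edge 1176 false),
    (728, .edge 1176 true),
    (3293, .edge 1177 false),
    (2754, .edge 1178 false),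
    (2644, .edge 1179 false),
    (2157, .edge 1180 false),
    (475, .edge 1181 false),
    (2830, .edge 1182 false),
    (2588, .edge 1183 false),
    (3582, .edge 1184 false),
    (209, .edge 1184 true),
    (1181, .edge 1185 true),
    (2136, .edge 1186 true),
    (26, .edge 1187 true),
    (147, .edge 1188 false),
    (1206, .edge 1189 true),
    (266, .edge 1190 true),
    (499, .edge 1191 true),
    (142, .edge 1192 true),
    (1207, .edge 1193 true),
    (107, .edge 1194 false),
    (2944, .edge 1194 true),
    (3268, .edge 1195 false),
    (884, .edge 1195 true),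
    (802, .edge 1196 false),
    (515, .edge 1196 true),
    (812, .edge 1197 false),
    (1439, .edge 1198 false),
    (3319, .edge 1199 false),
    (2853, .edge 1199 true),
    (3551, .edge 1200 false),
    (1925, .edge 1201 false),
    (1327, .edge 1201 true),
    (3325, .edge 1202 false),
    (285, .edge 1203 false),
    (3693, .edge 1203 true),
    (301, .edge 1204 false),
    (420, .edge 1205 false),
    (1635, .edge 1205 true),
    (1078, .edge 1206 false),
    (2967, .edge 1207 false),
    (808, .edge 1208 false),
    (456, .edge 1209 false),
    (827, .edge 1210 false),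
    (523, .edge 1211 false),
    (1108, .edge 1211 true),
    (3184, .edge 1212 false),
    (3333, .edge 1212 true),
    (1552, .edge 1213 false),
    (3327, .edge 1214 false),
    (2941, .edge 1215 false),
    (387, .edge 1215 true),
    (3405, .edge 1216 false),
    (3167, .edge 1217 false),
    (651, .edge 1218 false),
    (2223, .edge 1218 true),
    (3389, .edge 1219 false),
    (2769, .edge 1220 false),
    (483, .edge 1220 true),
    (1920, .edge 1221 false),
    (2758, .edge 1222 false),
    (2840, .edge 1223 false),
    (811, .edge 1224 false),
    (3726, .edge 1224 true),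
    (2812, .edge 1225 false),
    (2701, .edge 1225 true),
    (3734, .edge 1226 false),
    (2659, .edge 1226 true),
    (1437, .edge 1227 false),
    (561, .edge 1228 false),
    (314, .edge 1229 false),
    (415, .edge 1229 true),
    (1534, .edge 1230 false),
    (192, .edge 1231 false),
    (605, .edge 1231 true),
    (3573, .edge 1232 false),
    (3070, .edge 1232 true),
    (2791, .edge 1233 false),
    (75, .edge 1234 false),
    (464, .edge 1235 false),
    (1796, .edge 1236 false),
    (1958, .edge 1237 false),
    (718, .edge 1237 true),
    (1292, .edge 1238 false),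
    (1647, .edge 1239 false),
    (1598, .edge 1239 true),
    (2089, .edge 1240 false),
    (1470, .edge 1240 true),
    (71, .edge 1241 false),
    (2007, .edge 1242 false),
    (1379, .edge 1243 false),
    (586, .edge 1244 false),
    (2982, .edge 1245 true),
    (2091, .edge 1246 true),
    (1690, .edge 1247 true),
    (3032, .edge 1248 true),
    (2643, .edge 1249 true),
    (3403, .edge 1250 true),
    (225, .edge 1251 true),
    (860, .edge 1252 false),
    (3153, .edge 1253 false),
    (1905, .edge 1254 false),
    (2511, .edge 1254 true),
    (3274, .edge 1255 false),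
    (1634, .edge 1256 false),
    (2229, .edge 1257 false),
    (1352, .edge 1258 false),
    (1409, .edge 1259 false),
    (2771, .edge 1260 true),
    (2942, .edge 1261 true),
    (1101, .edge 1262 true),
    (3753, .edge 1263 true),
    (3632, .edge 1264 true),
    (892, .edge 1265 true),
    (318, .edge 1266 true),
    (88, .edge 1267 true),
    (1002, .edge 1268 true),
    (2020, .edge 1269 true),
    (1861, .edge 1270 false),
    (1426, .edge 1270 true),
    (2625, .edge 1271 false),
    (896, .edge 1272 false),
    (3685, .edge 1272 true),
    (743, .edge 1273 false),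
    (1592, .edge 1273 true),
    (341, .edge 1274 false),
    (1896, .edge 1275 false),
    (3397, .edge 1276 false),
    (2542, .edge 1276 true),
    (326, .edge 1277 false),
    (2219, .edge 1278 false),
    (1148, .edge 1279 false),
    (2222, .edge 1280 false),
    (1384, .edge 1281 false),
    (1138, .edge 1282 false),
    (309, .edge 1282 true),
    (3444, .edge 1283 false),
    (1777, .edge 1284 false),
    (2443, .edge 1285 false),
    (2781, .edge 1286 false),
    (970, .edge 1286 true),
    (3322, .edge 1287 false),
    (2469, .edge 1288 false),
    (2005, .edge 1288 true),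
    (3238, .edge 1289 false),
    (3647, .edge 1290 false),
    (1241, .edge 1290 true),
    (1059, .edge 1291 false),
    (2728, .edge 1291 true),
    (1645, .edge 1292 false),
    (681, .edge 1293 false),
    (14, .edge 1294 false),
    (449, .edge 1295 false),
    (527, .edge 1296 false),
    (399, .edge 1297 false),
    (2778, .edge 1298 true),
    (1094, .edge 1299 true),
    (3045, .edge 1300 true),
    (2216, .edge 1301 true),
    (1106, .edge 1302 true),
    (1341, .edge 1303 true),
    (2199, .edge 1304 false),
    (1538, .edge 1305 true),
    (440, .edge 1306 true),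
    (1186, .edge 1307 true),
    (729, .edge 1308 true),
    (3702, .edge 1309 true),
    (2628, .edge 1310 true)]

/-- Visits. -/
def v19_2 : List (ℕ × Src) :=
  [(1073, .edge 1311 true),
    (1187, .edge 1312 true),
    (3410, .edge 1313 true),
    (1329, .edge 1314 true),
    (2344, .edge 1315 false),
    (3122, .edge 1316 false),
    (2940, .edge 1316 true),
    (2568, .edge 1317 false),
    (3334, .edge 1318 false),
    (2309, .edge 1319 false),
    (512, .edge 1320 false),
    (3047, .edge 1321 false),
    (2047, .edge 1322 false),
    (1651, .edge 1323 false),
    (2467, .edge 1324 false),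
    (1362, .edge 1325 false),
    (1541, .edge 1325 true),
    (926, .edge 1326 false),
    (3256, .edge 1326 true),
    (1196, .edge 1327 false),
    (693, .edge 1328 false),
    (3436, .edge 1329 false),
    (3330, .edge 1330 false),
    (1802, .edge 1330 true),
    (3250, .edge 1331 false),
    (3381, .edge 1332 false),
    (2392, .edge 1333 false),
    (2833, .edge 1333 true),
    (3561, .edge 1334 false),
    (763, .edge 1334 true),
    (2032, .edge 1335 false),
    (3534, .edge 1336 false),
    (2109, .edge 1337 false),
    (1069, .edge 1338 false),
    (3520, .edge 1339 false),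
    (451, .edge 1340 false),
    (3447, .edge 1341 false),
    (692, .edge 1342 false),
    (2817, .edge 1343 false),
    (22, .edge 1344 false),
    (1005, .edge 1344 true),
    (58, .edge 1345 false),
    (1547, .edge 1345 true),
    (1043, .edge 1346 false),
    (1130, .edge 1347 false),
    (2379, .edge 1348 false),
    (1498, .edge 1349 false),
    (425, .edge 1350 false),
    (806, .edge 1351 false),
    (2376, .edge 1352 false),
    (1491, .edge 1353 false),
    (822, .edge 1354 false),
    (3270, .edge 1355 false),
    (965, .edge 1356 false),
    (2582, .edge 1357 false),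
    (3697, .edge 1358 false),
    (2850, .edge 1359 true),
    (711, .edge 1360 true),
    (2565, .edge 1361 false),
    (2495, .edge 1362 true),
    (1313, .edge 1363 true),
    (3296, .edge 1364 false),
    (411, .edge 1365 true),
    (1427, .edge 1366 false),
    (348, .edge 1367 true),
    (2907, .edge 1368 true),
    (1219, .edge 1369 true),
    (2044, .edge 1370 true),
    (2798, .edge 1371 false),
    (1131, .edge 1371 true),
    (3758, .edge 1372 false),
    (988, .edge 1372 true),
    (2058, .edge 1373 false),
    (1660, .edge 1374 false),
    (1492, .edge 1375 false),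
    (40, .edge 1376 false),
    (626, .edge 1377 false),
    (297, .edge 1378 false),
    (1603, .edge 1379 false),
    (1317, .edge 1380 false),
    (1919, .edge 1381 false),
    (2084, .edge 1382 false),
    (2147, .edge 1383 false),
    (882, .edge 1384 true),
    (1888, .edge 1385 true),
    (533, .edge 1386 true),
    (682, .edge 1387 true),
    (1810, .edge 1388 false),
    (2962, .edge 1389 false),
    (2367, .edge 1389 true),
    (370, .edge 1390 false),
    (1976, .edge 1390 true),
    (933, .edge 1391 false),
    (1115, .edge 1392 false),
    (3415, .edge 1393 false),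
    (197, .edge 1394 false),
    (1462, .edge 1394 true),
    (2127, .edge 1395 false),
    (560, .edge 1396 false),
    (1146, .edge 1397 false),
    (382, .edge 1398 false),
    (3264, .edge 1398 true),
    (1536, .edge 1399 false),
    (3159, .edge 1399 true),
    (2006, .edge 1400 false),
    (996, .edge 1401 false),
    (202, .edge 1402 false),
    (74, .edge 1403 false),
    (717, .edge 1403 true),
    (1913, .edge 1404 false),
    (2268, .edge 1405 false),
    (435, .edge 1405 true),
    (2396, .edge 1406 false),
    (2738, .edge 1407 false),
    (2031, .edge 1407 true),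
    (1088, .edge 1408 false),
    (452, .edge 1409 false),
    (102, .edge 1410 false),
    (3194, .edge 1411 false),
    (3179, .edge 1412 false),
    (2473, .edge 1413 true),
    (2171, .edge 1414 true),
    (2604, .edge 1415 true),
    (2314, .edge 1416 true),
    (3498, .edge 1417 true),
    (3171, .edge 1418 true),
    (255, .edge 1419 true),
    (3369, .edge 1420 false),
    (1985, .edge 1420 true),
    (1906, .edge 1421 false),
    (1664, .edge 1421 true),
    (2759, .edge 1422 false),
    (2053, .edge 1423 false),
    (2654, .edge 1423 true),
    (2405, .edge 1424 false),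
    (1457, .edge 1424 true),
    (2158, .edge 1425 false),
    (1258, .edge 1425 true),
    (1044, .edge 1426 false),
    (2197, .edge 1427 false),
    (2890, .edge 1428 false),
    (1178, .edge 1429 false),
    (3547, .edge 1429 true),
    (1559, .edge 1430 false),
    (1772, .edge 1431 false),
    (2809, .edge 1432 false),
    (3622, .edge 1433 false),
    (618, .edge 1433 true),
    (3566, .edge 1434 false),
    (1216, .edge 1434 true),
    (3672, .edge 1435 false),
    (3490, .edge 1435 true),
    (3234, .edge 1436 false),
    (516, .edge 1437 false),
    (2093, .edge 1438 false),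
    (3688, .edge 1439 false),
    (3148, .edge 1439 true),
    (3357, .edge 1440 true),
    (992, .edge 1441 true),
    (214, .edge 1442 true),
    (2388, .edge 1443 true),
    (1119, .edge 1444 true),
    (2151, .edge 1445 true),
    (1834, .edge 1446 true),
    (1482, .edge 1447 true),
    (991, .edge 1448 true),
    (1316, .edge 1449 true),
    (1580, .edge 1450 true),
    (2431, .edge 1451 false),
    (1501, .edge 1452 false),
    (1474, .edge 1453 false),
    (2498, .edge 1454 false),
    (3223, .edge 1455 false),
    (2023, .edge 1456 false),
    (2378, .edge 1456 true),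
    (2837, .edge 1457 false),
    (2554, .edge 1458 false),
    (2488, .edge 1458 true),
    (2371, .edge 1459 false),
    (1209, .edge 1459 true),
    (2335, .edge 1460 false),
    (575, .edge 1461 false),
    (2660, .edge 1462 false),
    (1605, .edge 1462 true),
    (2744, .edge 1463 false),
    (1403, .edge 1463 true),
    (390, .edge 1464 false),
    (1161, .edge 1465 false),
    (1192, .edge 1466 false),
    (2315, .edge 1467 false),
    (1749, .edge 1467 true),
    (549, .edge 1468 false),
    (3725, .edge 1469 false),
    (336, .edge 1469 true),
    (3366, .edge 1470 false),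
    (3683, .edge 1470 true),
    (3310, .edge 1471 false),
    (3763, .edge 1472 false),
    (2081, .edge 1473 false),
    (3083, .edge 1473 true),
    (2783, .edge 1474 true),
    (3304, .edge 1475 false),
    (2083, .edge 1476 false),
    (2471, .edge 1476 true),
    (2866, .edge 1477 false),
    (1056, .edge 1478 false),
    (65, .edge 1479 false),
    (3794, .edge 1479 true),
    (1832, .edge 1480 false),
    (2608, .edge 1480 true),
    (1170, .edge 1481 false),
    (2676, .edge 1482 false),
    (3650, .edge 1483 false),
    (2989, .edge 1484 false),
    (3666, .edge 1485 false),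
    (2708, .edge 1486 false),
    (805, .edge 1486 true),
    (1450, .edge 1487 false),
    (352, .edge 1487 true),
    (594, .edge 1488 false),
    (1928, .edge 1489 false),
    (1696, .edge 1490 false),
    (1636, .edge 1491 false),
    (1653, .edge 1492 false),
    (2075, .edge 1493 false),
    (2859, .edge 1493 true),
    (2629, .edge 1494 false),
    (721, .edge 1495 true),
    (96, .edge 1496 true),
    (1567, .edge 1497 true),
    (706, .edge 1498 false),
    (3040, .edge 1499 false),
    (2815, .edge 1499 true),
    (3775, .edge 1500 false),
    (576, .edge 1500 true),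
    (3459, .edge 1501 false),
    (2183, .edge 1502 false),
    (1758, .edge 1503 true),
    (2200, .edge 1504 false),
    (2729, .edge 1505 false),
    (2799, .edge 1506 false),
    (2220, .edge 1507 false),
    (1693, .edge 1508 false),
    (1077, .edge 1509 false),
    (3099, .edge 1510 false),
    (3782, .edge 1511 false),
    (939, .edge 1511 true),
    (2983, .edge 1512 false),
    (3255, .edge 1512 true),
    (3338, .edge 1513 false),
    (2916, .edge 1514 false),
    (81, .edge 1515 false),
    (3451, .edge 1516 false),
    (3071, .edge 1517 false),
    (1128, .edge 1518 false),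
    (776, .edge 1518 true),
    (490, .edge 1519 false),
    (1524, .edge 1520 false),
    (2954, .edge 1521 true),
    (2333, .edge 1522 true),
    (1392, .edge 1523 true),
    (1935, .edge 1524 true),
    (438, .edge 1525 true),
    (2640, .edge 1526 false),
    (3486, .edge 1527 false),
    (313, .edge 1528 false),
    (982, .edge 1528 true),
    (3409, .edge 1529 false),
    (3400, .edge 1530 false),
    (2288, .edge 1531 false),
    (2247, .edge 1531 true),
    (2357, .edge 1532 false),
    (3062, .edge 1532 true),
    (3455, .edge 1533 false),
    (3497, .edge 1534 false),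
    (3119, .edge 1534 true),
    (2491, .edge 1535 false),
    (3481, .edge 1535 true),
    (3147, .edge 1536 false),
    (2307, .edge 1537 false),
    (97, .edge 1537 true),
    (2478, .edge 1538 false),
    (3541, .edge 1539 true),
    (2352, .edge 1540 true),
    (3418, .edge 1541 true),
    (2286, .edge 1542 false),
    (1269, .edge 1543 true),
    (448, .edge 1544 true),
    (3035, .edge 1545 true),
    (859, .edge 1546 false),
    (103, .edge 1547 false),
    (1459, .edge 1547 true),
    (1707, .edge 1548 false),
    (3445, .edge 1548 true),
    (2675, .edge 1549 false),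
    (3326, .edge 1549 true),
    (2510, .edge 1550 false),
    (541, .edge 1550 true),
    (1113, .edge 1551 false),
    (181, .edge 1552 false)]

/-- Visits. -/
def v19_3 : List (ℕ × Src) :=
  [(3039, .edge 1553 false),
    (1388, .edge 1554 false),
    (473, .edge 1555 false),
    (1842, .edge 1555 true),
    (2826, .edge 1556 false),
    (2399, .edge 1557 false),
    (3467, .edge 1557 true),
    (3764, .edge 1558 false),
    (2876, .edge 1559 false),
    (199, .edge 1559 true),
    (1271, .edge 1560 false),
    (3262, .edge 1560 true),
    (3376, .edge 1561 false),
    (555, .edge 1561 true),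
    (2196, .edge 1562 false),
    (1644, .edge 1563 false),
    (3720, .edge 1563 true),
    (1476, .edge 1564 false),
    (839, .edge 1565 false),
    (3654, .edge 1565 true),
    (2661, .edge 1566 false),
    (2389, .edge 1566 true),
    (211, .edge 1567 false),
    (2800, .edge 1568 false),
    (750, .edge 1569 false),
    (719, .edge 1570 false),
    (169, .edge 1570 true),
    (977, .edge 1571 false),
    (735, .edge 1572 false),
    (2231, .edge 1573 false),
    (3579, .edge 1573 true),
    (2684, .edge 1574 false),
    (1543, .edge 1575 false),
    (612, .edge 1576 false),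
    (1237, .edge 1577 false),
    (3292, .edge 1578 true),
    (191, .edge 1579 true),
    (3791, .edge 1580 true),
    (3792, .edge 1581 true),
    (3056, .edge 1582 true),
    (486, .edge 1583 true),
    (1322, .edge 1584 true),
    (3386, .edge 1585 false),
    (677, .edge 1586 false),
    (2984, .edge 1587 false),
    (1863, .edge 1587 true),
    (1180, .edge 1588 false),
    (1136, .edge 1588 true),
    (392, .edge 1589 false),
    (1509, .edge 1589 true),
    (1089, .edge 1590 false),
    (1686, .edge 1591 false),
    (2472, .edge 1592 false),
    (3036, .edge 1592 true),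
    (932, .edge 1593 false),
    (1529, .edge 1594 false),
    (671, .edge 1595 true),
    (333, .edge 1596 true),
    (2204, .edge 1597 true),
    (3675, .edge 1598 true),
    (437, .edge 1599 true),
    (1576, .edge 1600 true),
    (2122, .edge 1601 true),
    (1968, .edge 1602 false),
    (1897, .edge 1603 false),
    (1574, .edge 1603 true),
    (2226, .edge 1604 false),
    (1435, .edge 1604 true),
    (410, .edge 1605 false),
    (2050, .edge 1605 true),
    (2741, .edge 1606 false),
    (1614, .edge 1607 false),
    (2228, .edge 1608 false),
    (2012, .edge 1609 false),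
    (546, .edge 1610 false),
    (2120, .edge 1611 false),
    (1839, .edge 1612 false),
    (1062, .edge 1612 true),
    (2301, .edge 1613 false),
    (320, .edge 1613 true),
    (1361, .edge 1614 false),
    (1294, .edge 1614 true),
    (2481, .edge 1615 false),
    (2359, .edge 1616 false),
    (3175, .edge 1616 true),
    (1383, .edge 1617 false),
    (3760, .edge 1617 true),
    (1389, .edge 1618 false),
    (2843, .edge 1618 true),
    (2602, .edge 1619 false),
    (446, .edge 1619 true),
    (2900, .edge 1620 false),
    (853, .edge 1621 false),
    (1141, .edge 1621 true),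
    (424, .edge 1622 false),
    (792, .edge 1623 false),
    (865, .edge 1624 true),
    (3037, .edge 1625 true),
    (2547, .edge 1626 true),
    (1466, .edge 1627 true),
    (1867, .edge 1628 true),
    (1702, .edge 1629 true),
    (962, .edge 1630 true),
    (291, .edge 1631 true),
    (3329, .edge 1632 true),
    (3712, .edge 1633 true),
    (60, .edge 1634 false),
    (2961, .edge 1635 false),
    (559, .edge 1635 true),
    (738, .edge 1636 false),
    (1265, .edge 1637 false),
    (3019, .edge 1638 false),
    (360, .edge 1638 true),
    (32, .edge 1639 false),
    (1279, .edge 1640 false),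
    (1220, .edge 1640 true),
    (2370, .edge 1641 false),
    (3741, .edge 1642 false),
    (1416, .edge 1643 false),
    (235, .edge 1644 false),
    (274, .edge 1644 true),
    (1728, .edge 1645 false),
    (2236, .edge 1646 false),
    (2300, .edge 1647 true),
    (93, .edge 1648 true),
    (1330, .edge 1649 false),
    (1569, .edge 1649 true),
    (2958, .edge 1650 false),
    (167, .edge 1651 false),
    (3543, .edge 1652 false),
    (3609, .edge 1653 false),
    (113, .edge 1654 true),
    (2079, .edge 1655 true),
    (2013, .edge 1656 true),
    (2393, .edge 1657 false),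
    (930, .edge 1658 false),
    (1011, .edge 1658 true),
    (213, .edge 1659 false),
    (1356, .edge 1660 false),
    (2998, .edge 1660 true),
    (3603, .edge 1661 false),
    (1147, .edge 1662 false),
    (1345, .edge 1663 false),
    (647, .edge 1663 true),
    (1998, .edge 1664 false),
    (3336, .edge 1665 false),
    (85, .edge 1665 true),
    (949, .edge 1666 false),
    (3111, .edge 1666 true),
    (2052, .edge 1667 false),
    (2436, .edge 1668 false),
    (579, .edge 1669 false),
    (3295, .edge 1670 false),
    (2583, .edge 1671 false),
    (2870, .edge 1672 false),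
    (2847, .edge 1672 true),
    (2351, .edge 1673 true),
    (2548, .edge 1674 true),
    (1215, .edge 1675 false),
    (2208, .edge 1676 false),
    (1060, .edge 1677 false),
    (257, .edge 1678 false),
    (573, .edge 1678 true),
    (3043, .edge 1679 false),
    (2420, .edge 1680 false),
    (2993, .edge 1681 false),
    (2563, .edge 1682 false),
    (628, .edge 1682 true),
    (3205, .edge 1683 false),
    (2513, .edge 1684 false),
    (2021, .edge 1684 true),
    (385, .edge 1685 false),
    (380, .edge 1685 true),
    (663, .edge 1686 false),
    (585, .edge 1687 false),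
    (2387, .edge 1687 true),
    (2080, .edge 1688 false),
    (2500, .edge 1689 true),
    (2339, .edge 1690 true),
    (3199, .edge 1691 false),
    (232, .edge 1692 true),
    (654, .edge 1693 true),
    (518, .edge 1694 false),
    (376, .edge 1695 false),
    (2598, .edge 1696 false),
    (332, .edge 1697 false),
    (1522, .edge 1697 true),
    (3033, .edge 1698 false),
    (1480, .edge 1699 false),
    (2877, .edge 1700 false),
    (2036, .edge 1701 false),
    (3500, .edge 1701 true),
    (2381, .edge 1702 false),
    (633, .edge 1703 false),
    (2898, .edge 1704 false),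
    (1973, .edge 1705 false),
    (1394, .edge 1705 true),
    (3098, .edge 1706 false),
    (548, .edge 1707 false),
    (3232, .edge 1708 false),
    (1381, .edge 1709 false),
    (862, .edge 1710 false),
    (63, .edge 1711 false),
    (2992, .edge 1711 true),
    (1778, .edge 1712 false),
    (664, .edge 1712 true),
    (1174, .edge 1713 false),
    (139, .edge 1714 false),
    (2618, .edge 1714 true),
    (3649, .edge 1715 false),
    (538, .edge 1716 false),
    (1346, .edge 1716 true),
    (1373, .edge 1717 false),
    (1045, .edge 1717 true),
    (2448, .edge 1718 false),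
    (2856, .edge 1718 true),
    (397, .edge 1719 false),
    (1402, .edge 1720 false),
    (3012, .edge 1720 true),
    (1024, .edge 1721 false),
    (1133, .edge 1722 false),
    (2774, .edge 1722 true),
    (1226, .edge 1723 true),
    (1583, .edge 1724 true),
    (2275, .edge 1725 true),
    (3634, .edge 1726 false),
    (3507, .edge 1726 true),
    (1228, .edge 1727 false),
    (3562, .edge 1728 false),
    (2340, .edge 1729 false),
    (2225, .edge 1730 false),
    (1894, .edge 1730 true),
    (906, .edge 1731 false),
    (1718, .edge 1732 true),
    (2620, .edge 1733 true),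
    (276, .edge 1734 true),
    (2566, .edge 1735 true),
    (3252, .edge 1736 true),
    (3545, .edge 1737 false),
    (3052, .edge 1737 true),
    (1370, .edge 1738 false),
    (2786, .edge 1739 false),
    (3065, .edge 1739 true),
    (1145, .edge 1740 false),
    (936, .edge 1740 true),
    (2952, .edge 1741 false),
    (1840, .edge 1742 true),
    (3290, .edge 1743 true),
    (3663, .edge 1744 true),
    (2642, .edge 1745 true),
    (251, .edge 1746 true),
    (1663, .edge 1747 false),
    (2039, .edge 1747 true),
    (530, .edge 1748 false),
    (910, .edge 1748 true),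
    (1171, .edge 1749 false),
    (2447, .edge 1749 true),
    (109, .edge 1750 false),
    (2832, .edge 1750 true),
    (3198, .edge 1751 true),
    (2303, .edge 1752 true),
    (1568, .edge 1753 false),
    (3044, .edge 1753 true),
    (3526, .edge 1754 false),
    (3013, .edge 1755 false),
    (683, .edge 1755 true),
    (3662, .edge 1756 false),
    (1694, .edge 1757 false),
    (1520, .edge 1758 false),
    (2128, .edge 1758 true),
    (1967, .edge 1759 false),
    (2868, .edge 1759 true),
    (3501, .edge 1760 false),
    (2646, .edge 1761 false),
    (2305, .edge 1762 false),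
    (1110, .edge 1763 false),
    (1013, .edge 1764 true),
    (2841, .edge 1765 false),
    (1053, .edge 1766 false),
    (3129, .edge 1767 false),
    (2056, .edge 1767 true),
    (866, .edge 1768 false),
    (2035, .edge 1769 false),
    (1364, .edge 1770 false),
    (1513, .edge 1770 true),
    (1633, .edge 1771 false),
    (3641, .edge 1772 false),
    (1344, .edge 1773 false),
    (1142, .edge 1774 false),
    (2995, .edge 1774 true),
    (299, .edge 1775 false),
    (1149, .edge 1775 true),
    (934, .edge 1776 false),
    (2986, .edge 1777 false),
    (3066, .edge 1777 true),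
    (1372, .edge 1778 true),
    (119, .edge 1779 true),
    (1315, .edge 1780 true),
    (649, .edge 1781 true),
    (1626, .edge 1782 false)]

/-- Visits. -/
def v19_4 : List (ℕ × Src) :=
  [(1926, .edge 1783 false),
    (587, .edge 1784 false),
    (1259, .edge 1784 true),
    (2959, .edge 1785 false),
    (786, .edge 1786 false),
    (1495, .edge 1787 false),
    (1189, .edge 1787 true),
    (2514, .edge 1788 false),
    (168, .edge 1788 true),
    (1767, .edge 1789 false),
    (835, .edge 1789 true),
    (1722, .edge 1790 false),
    (2949, .edge 1790 true),
    (1085, .edge 1791 false),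
    (841, .edge 1792 false),
    (909, .edge 1793 false),
    (2194, .edge 1793 true),
    (2285, .edge 1794 false),
    (1003, .edge 1795 false),
    (457, .edge 1796 false),
    (1914, .edge 1797 false),
    (3094, .edge 1797 true),
    (547, .edge 1798 true),
    (639, .edge 1799 true),
    (2477, .edge 1800 true),
    (828, .edge 1801 false),
    (403, .edge 1802 false),
    (2974, .edge 1802 true),
    (1308, .edge 1803 false),
    (489, .edge 1804 true),
    (460, .edge 1805 true),
    (3495, .edge 1806 false),
    (1048, .edge 1807 false),
    (3299, .edge 1807 true),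
    (84, .edge 1808 false),
    (1092, .edge 1809 false),
    (2804, .edge 1810 false),
    (1883, .edge 1810 true),
    (3452, .edge 1811 false),
    (642, .edge 1811 true),
    (3169, .edge 1812 false),
    (3076, .edge 1813 false),
    (3177, .edge 1813 true),
    (584, .edge 1814 true),
    (3614, .edge 1815 true),
    (3714, .edge 1816 false),
    (3441, .edge 1817 false),
    (2480, .edge 1817 true),
    (2400, .edge 1818 false),
    (465, .edge 1819 false),
    (1176, .edge 1820 false),
    (733, .edge 1820 true),
    (1974, .edge 1821 false),
    (1212, .edge 1821 true),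
    (519, .edge 1822 false),
    (2119, .edge 1823 false),
    (1720, .edge 1823 true),
    (1695, .edge 1824 true),
    (2489, .edge 1825 false),
    (2772, .edge 1826 false),
    (2922, .edge 1827 false),
    (2368, .edge 1827 true),
    (1993, .edge 1828 false),
    (2464, .edge 1829 false),
    (66, .edge 1829 true),
    (1311, .edge 1830 false),
    (1499, .edge 1831 true),
    (3723, .edge 1832 true),
    (3489, .edge 1833 false),
    (1303, .edge 1833 true),
    (2641, .edge 1834 false),
    (1665, .edge 1835 false),
    (990, .edge 1835 true),
    (3730, .edge 1836 false),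
    (3188, .edge 1836 true),
    (2855, .edge 1837 false),
    (669, .edge 1838 false),
    (900, .edge 1838 true),
    (3219, .edge 1839 false),
    (2720, .edge 1840 false),
    (2939, .edge 1840 true),
    (532, .edge 1841 false),
    (2896, .edge 1841 true),
    (3404, .edge 1842 false),
    (1590, .edge 1843 false),
    (3120, .edge 1844 true),
    (1739, .edge 1845 false),
    (3051, .edge 1846 false),
    (234, .edge 1847 false),
    (3715, .edge 1847 true),
    (2978, .edge 1848 true),
    (1086, .edge 1849 false),
    (1328, .edge 1850 false),
    (767, .edge 1851 false),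
    (143, .edge 1852 true),
    (715, .edge 1853 false),
    (3230, .edge 1854 false),
    (3320, .edge 1855 false),
    (237, .edge 1856 false),
    (2456, .edge 1856 true),
    (1475, .edge 1857 true),
    (1064, .edge 1858 true),
    (2077, .edge 1859 false),
    (2114, .edge 1860 false),
    (2649, .edge 1860 true),
    (899, .edge 1861 false),
    (1404, .edge 1862 false),
    (600, .edge 1862 true),
    (3113, .edge 1863 false),
    (1530, .edge 1863 true),
    (2065, .edge 1864 false),
    (3192, .edge 1864 true),
    (1497, .edge 1865 false),
    (3457, .edge 1865 true),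
    (2245, .edge 1866 false),
    (210, .edge 1866 true),
    (2263, .edge 1867 true),
    (364, .edge 1868 false),
    (2391, .edge 1869 false),
    (3630, .edge 1870 false),
    (2613, .edge 1870 true),
    (999, .edge 1871 false),
    (785, .edge 1872 false),
    (53, .gen 1035 (826, false)),
    (1704, .gen 1035 (826, true)),
    (36, .gen 416 (826, false)),
    (372, .gen 416 (826, true)),
    (254, .gen 997 (826, false)),
    (207, .gen 997 (826, true)),
    (184, .gen 1628 (826, false)),
    (620, .gen 1628 (826, true)),
    (1948, .gen 740 (826, true)),
    (221, .gen 1977 (826, false)),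
    (3227, .gen 1977 (826, true)),
    (454, .gen 1411 (826, false)),
    (2175, .gen 1411 (826, true)),
    (920, .gen 1875 (826, false)),
    (1103, .gen 1875 (826, true)),
    (230, .gen 1251 (826, false)),
    (2567, .gen 1251 (826, true)),
    (2988, .gen 2409 (826, false)),
    (1137, .gen 2409 (826, true)),
    (1481, .gen 3186 (826, false)),
    (273, .gen 3186 (826, true)),
    (843, .gen 3356 (826, false)),
    (2019, .gen 3356 (826, true)),
    (328, .gen 2442 (826, false)),
    (24, .gen 2442 (826, true)),
    (1124, .gen 132 (826, false)),
    (3102, .gen 132 (826, true)),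
    (2996, .gen 744 (826, false)),
    (1401, .gen 744 (826, true)),
    (322, .gen 606 (826, false)),
    (3435, .gen 606 (826, true)),
    (809, .gen 3092 (826, false)),
    (1619, .gen 3092 (826, true)),
    (236, .gen 1506 (826, false)),
    (9, .gen 1506 (826, true)),
    (307, .gen 3244 (826, false)),
    (2968, .gen 3244 (826, true)),
    (2518, .gen 2203 (826, false)),
    (2298, .gen 2203 (826, true)),
    (1376, .gen 1689 (826, false)),
    (54, .gen 1689 (826, true)),
    (3287, .gen 2934 (826, false)),
    (3597, .gen 2934 (826, true)),
    (1916, .gen 619 (826, false)),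
    (707, .gen 619 (826, true)),
    (913, .gen 3587 (826, false)),
    (1882, .gen 3587 (826, true)),
    (1156, .gen 2001 (826, false)),
    (3578, .gen 2001 (826, true)),
    (1909, .gen 3660 (826, false)),
    (2360, .gen 3660 (826, true)),
    (937, .gen 2138 (826, false)),
    (2144, .gen 2138 (826, true)),
    (3523, .gen 825 (826, false)),
    (2251, .gen 825 (826, true)),
    (1410, .gen 701 (826, false)),
    (389, .gen 701 (826, true)),
    (2000, .gen 3539 (826, false)),
    (423, .gen 3539 (826, true)),
    (2328, .gen 2887 (826, false)),
    (2401, .gen 2887 (826, true)),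
    (3542, .gen 3031 (826, false)),
    (2838, .gen 3031 (826, true)),
    (239, .gen 115 (826, false)),
    (2562, .gen 115 (826, true)),
    (1738, .gen 1748 (826, false)),
    (3300, .gen 1748 (826, true)),
    (3717, .gen 3318 (826, false)),
    (3280, .gen 3318 (826, true)),
    (2137, .gen 1719 (826, false)),
    (2556, .gen 1719 (826, true)),
    (1876, .gen 3342 (826, false)),
    (2814, .gen 3342 (826, true)),
    (3144, .gen 2202 (826, false)),
    (641, .gen 2202 (826, true)),
    (3601, .gen 1465 (826, false)),
    (1591, .gen 1465 (826, true)),
    (3513, .gen 1813 (826, false)),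
    (2818, .gen 1813 (826, true)),
    (1446, .gen 1369 (826, false)),
    (114, .gen 1369 (826, true)),
    (2864, .gen 2947 (826, false)),
    (2634, .gen 2947 (826, true)),
    (794, .gen 1960 (826, false)),
    (1873, .gen 1960 (826, true)),
    (2905, .gen 952 (826, false)),
    (369, .gen 952 (826, true)),
    (306, .gen 2516 (826, false)),
    (2054, .gen 2516 (826, true)),
    (491, .gen 3401 (826, false)),
    (2933, .gen 3401 (826, true)),
    (3605, .gen 2267 (826, false)),
    (1880, .gen 2267 (826, true)),
    (742, .gen 2256 (826, false)),
    (2153, .gen 2256 (826, true)),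
    (441, .gen 2997 (826, false)),
    (281, .gen 2997 (826, true)),
    (959, .gen 2185 (826, false)),
    (1849, .gen 2185 (826, true)),
    (1554, .gen 1761 (826, false)),
    (1385, .gen 1761 (826, true)),
    (2623, .gen 520 (826, false)),
    (1573, .gen 520 (826, true)),
    (1451, .gen 3383 (826, false)),
    (2160, .gen 3383 (826, true)),
    (1672, .gen 3659 (826, false)),
    (2825, .gen 3659 (826, true)),
    (3259, .gen 779 (826, false)),
    (3371, .gen 779 (826, true)),
    (187, .gen 725 (826, false)),
    (1020, .gen 725 (826, true)),
    (355, .gen 245 (826, false)),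
    (3793, .gen 245 (826, true)),
    (41, .gen 2009 (826, false)),
    (1606, .gen 2009 (826, true)),
    (699, .gen 1825 (826, false)),
    (3348, .gen 1825 (826, true)),
    (3157, .gen 645 (826, false)),
    (2736, .gen 645 (826, true)),
    (1162, .gen 1025 (826, false)),
    (305, .gen 1025 (826, true)),
    (3456, .gen 1989 (826, false)),
    (329, .gen 1989 (826, true)),
    (2102, .gen 1743 (826, false)),
    (1452, .gen 1743 (826, true)),
    (2026, .gen 1252 (826, false)),
    (2272, .gen 1252 (826, true)),
    (2981, .gen 3370 (826, false)),
    (1032, .gen 3370 (826, true)),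
    (2486, .gen 966 (826, false)),
    (1434, .gen 966 (826, true)),
    (3423, .gen 3152 (826, false)),
    (1833, .gen 3152 (826, true)),
    (2722, .gen 938 (826, false)),
    (935, .gen 938 (826, true)),
    (2211, .gen 578 (826, false)),
    (2951, .gen 578 (826, true)),
    (1678, .gen 2097 (826, false)),
    (78, .gen 2097 (826, true)),
    (1360, .gen 1535 (826, false)),
    (1448, .gen 1535 (826, true)),
    (431, .gen 1511 (826, false)),
    (2284, .gen 1511 (826, true)),
    (3742, .gen 3493 (826, false)),
    (646, .gen 3493 (826, true)),
    (3765, .gen 458 (826, false)),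
    (334, .gen 458 (826, true)),
    (922, .gen 2790 (826, false)),
    (2558, .gen 2790 (826, true)),
    (3278, .gen 3258 (826, false)),
    (1637, .gen 3258 (826, true)),
    (3275, .gen 621 (826, false)),
    (582, .gen 621 (826, true)),
    (3651, .gen 2438 (826, false)),
    (3559, .gen 2438 (826, true)),
    (363, .gen 1387 (826, false)),
    (1706, .gen 1387 (826, true)),
    (984, .gen 1519 (826, false)),
    (2066, .gen 1519 (826, true)),
    (444, .gen 521 (826, false)),
    (289, .gen 521 (826, true)),
    (1711, .gen 2530 (826, false)),
    (3228, .gen 2530 (826, true)),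
    (2331, .gen 1658 (826, false)),
    (1837, .gen 1658 (826, true)),
    (1523, .gen 580 (826, false)),
    (690, .gen 580 (826, true)),
    (1675, .gen 948 (826, false)),
    (3337, .gen 948 (826, true)),
    (3217, .gen 1027 (826, false)),
    (1921, .gen 1027 (826, true)),
    (419, .gen 1 (826, false)),
    (2145, .gen 1 (826, true)),
    (1253, .gen 46 (826, false)),
    (12, .gen 46 (826, true)),
    (1359, .gen 2466 (826, false)),
    (2742, .gen 2466 (826, true))]

/-- Visits. -/
def v19_5 : List (ℕ × Src) :=
  [(2999, .gen 3055 (826, false)),
    (154, .gen 3055 (826, true)),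
    (2279, .gen 2599 (826, false)),
    (2638, .gen 2599 (826, true)),
    (2484, .gen 69 (826, false)),
    (1659, .gen 69 (826, true)),
    (3288, .gen 1284 (826, false)),
    (2698, .gen 1284 (826, true)),
    (1063, .gen 2168 (826, false)),
    (2596, .gen 2168 (826, true)),
    (2592, .gen 374 (826, false)),
    (447, .gen 374 (826, true)),
    (1125, .gen 343 (826, false)),
    (2782, .gen 343 (826, true)),
    (2740, .gen 1698 (826, false)),
    (1610, .gen 1698 (826, true)),
    (189, .gen 472 (826, false)),
    (3635, .gen 472 (826, true)),
    (292, .gen 2540 (826, false)),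
    (488, .gen 2540 (826, true)),
    (1040, .gen 1900 (826, false)),
    (3432, .gen 1900 (826, true)),
    (610, .gen 2777 (826, false)),
    (1723, .gen 2777 (826, true)),
    (1273, .gen 3665 (826, false)),
    (429, .gen 3665 (826, true)),
    (3679, .gen 907 (826, false)),
    (3266, .gen 907 (826, true)),
    (798, .gen 129 (826, false)),
    (1095, .gen 129 (826, true)),
    (3618, .gen 3560 (826, false)),
    (3636, .gen 3560 (826, true)),
    (1116, .gen 128 (826, false)),
    (3303, .gen 128 (826, true)),
    (833, .gen 3026 (826, false)),
    (3108, .gen 3026 (826, true)),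
    (1792, .gen 592 (826, false)),
    (3107, .gen 592 (826, true)),
    (789, .gen 108 (826, false)),
    (3072, .gen 108 (826, true)),
    (1682, .gen 1300 (826, false)),
    (1878, .gen 1300 (826, true)),
    (2496, .gen 2848 (826, false)),
    (1267, .gen 2848 (826, true)),
    (345, .gen 1869 (826, false)),
    (1716, .gen 1869 (826, true)),
    (3017, .gen 1380 (826, false)),
    (978, .gen 1380 (826, true)),
    (2946, .gen 3257 (826, false)),
    (804, .gen 3257 (826, true)),
    (566, .gen 3694 (826, false)),
    (604, .gen 3694 (826, true)),
    (2209, .gen 2572 (826, false)),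
    (1889, .gen 2572 (826, true)),
    (727, .gen 3613 (826, false)),
    (467, .gen 3613 (826, true)),
    (2446, .gen 1183 (826, false)),
    (1203, .gen 1183 (826, true)),
    (1531, .gen 1472 (826, false)),
    (799, .gen 1472 (826, true)),
    (1915, .gen 2971 (826, false)),
    (640, .gen 2971 (826, true)),
    (613, .gen 1135 (826, false)),
    (3123, .gen 1135 (826, true)),
    (3352, .gen 1050 (826, false)),
    (1224, .gen 1050 (826, true)),
    (590, .gen 1121 (826, false)),
    (1959, .gen 1121 (826, true)),
    (339, .gen 2445 (826, false)),
    (1288, .gen 2445 (826, true)),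
    (1201, .gen 609 (826, false)),
    (1589, .gen 609 (826, true)),
    (1972, .gen 1599 (826, false)),
    (1607, .gen 1599 (826, true)),
    (3492, .gen 3345 (826, false)),
    (1365, .gen 3345 (826, true)),
    (3642, .gen 854 (826, false)),
    (1770, .gen 854 (826, true)),
    (1046, .gen 3610 (826, false)),
    (3063, .gen 3610 (826, true)),
    (156, .gen 2692 (826, false)),
    (56, .gen 2692 (826, true)),
    (3213, .gen 3508 (826, false)),
    (960, .gen 3508 (826, true)),
    (2885, .gen 583 (826, false)),
    (1800, .gen 583 (826, true)),
    (2172, .gen 1649 (826, false)),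
    (2207, .gen 1649 (826, true)),
    (545, .gen 3419 (826, false)),
    (3282, .gen 3419 (826, true)),
    (3324, .gen 588 (826, false)),
    (2904, .gen 588 (826, true)),
    (1943, .gen 571 (826, false)),
    (772, .gen 571 (826, true)),
    (550, .gen 1231 (826, false)),
    (2901, .gen 1231 (826, true)),
    (1949, .gen 1164 (826, false)),
    (123, .gen 1164 (826, true)),
    (1286, .gen 1276 (826, false)),
    (417, .gen 1276 (826, true)),
    (1551, .gen 762 (826, false)),
    (2726, .gen 762 (826, true)),
    (2341, .gen 3776 (826, false)),
    (2291, .gen 3776 (826, true)),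
    (2262, .gen 1021 (826, false)),
    (1650, .gen 1021 (826, true)),
    (2862, .gen 1537 (826, false)),
    (1654, .gen 1537 (826, true)),
    (686, .gen 1745 (826, false)),
    (2895, .gen 1745 (826, true)),
    (1104, .gen 3598 (826, false)),
    (242, .gen 3598 (826, true)),
    (1244, .gen 3082 (826, false)),
    (2689, .gen 3082 (826, true)),
    (2154, .gen 1760 (826, false)),
    (2627, .gen 1760 (826, true)),
    (3577, .gen 2503 (826, false)),
    (3759, .gen 2503 (826, true)),
    (850, .gen 746 (826, false)),
    (687, .gen 746 (826, true)),
    (914, .gen 76 (826, false)),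
    (749, .gen 76 (826, true)),
    (1299, .gen 660 (826, false)),
    (1539, .gen 660 (826, true)),
    (1936, .gen 1169 (826, false)),
    (1685, .gen 1169 (826, true)),
    (1218, .gen 1034 (826, false)),
    (91, .gen 1034 (826, true)),
    (2033, .gen 381 (826, false)),
    (709, .gen 381 (826, true)),
    (2364, .gen 3761 (826, false)),
    (2743, .gen 3761 (826, true)),
    (3281, .gen 3165 (826, false)),
    (2909, .gen 3165 (826, true)),
    (551, .gen 1984 (826, false)),
    (3089, .gen 1984 (826, true)),
    (2306, .gen 2529 (826, false)),
    (3265, .gen 2529 (826, true)),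
    (2322, .gen 5 (826, false)),
    (2697, .gen 5 (826, true)),
    (303, .gen 2283 (826, false)),
    (1314, .gen 2283 (826, true)),
    (766, .gen 3488 (826, false)),
    (638, .gen 3488 (826, true)),
    (2290, .gen 2397 (826, false)),
    (1443, .gen 2397 (826, true)),
    (644, .gen 1185 (826, false)),
    (3643, .gen 1185 (826, true)),
    (418, .gen 941 (826, false)),
    (1479, .gen 941 (826, true)),
    (1377, .gen 2732 (826, false)),
    (958, .gen 2732 (826, true)),
    (3557, .gen 2593 (826, false)),
    (1872, .gen 2593 (826, true)),
    (2394, .gen 1357 (826, false)),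
    (1668, .gen 1357 (826, true)),
    (241, .gen 1797 (826, false)),
    (3011, .gen 1797 (826, true)),
    (2687, .gen 874 (826, false)),
    (3530, .gen 874 (826, true)),
    (1412, .gen 50 (826, false)),
    (3519, .gen 50 (826, true)),
    (3686, .gen 280 (826, false)),
    (3787, .gen 280 (826, true)),
    (3550, .gen 193 (826, false)),
    (3209, .gen 193 (826, true)),
    (288, .gen 100 (826, false)),
    (1812, .gen 100 (826, true)),
    (1306, .gen 49 (826, false)),
    (3030, .gen 49 (826, true)),
    (1613, .gen 2195 (826, false)),
    (1763, .gen 2195 (826, true)),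
    (1008, .gen 25 (826, false)),
    (2095, .gen 25 (826, true)),
    (3306, .gen 2902 (826, false)),
    (3236, .gen 2902 (826, true)),
    (1083, .gen 252 (826, false)),
    (1129, .gen 252 (826, true)),
    (950, .gen 2794 (826, false)),
    (324, .gen 2794 (826, true)),
    (1061, .gen 901 (826, false)),
    (1787, .gen 901 (826, true)),
    (3095, .gen 98 (826, false)),
    (919, .gen 98 (826, true)),
    (2073, .gen 1297 (826, false)),
    (2164, .gen 1297 (826, true)),
    (1681, .gen 2230 (826, false)),
    (3316, .gen 2230 (826, true)),
    (3677, .gen 1912 (826, false)),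
    (3780, .gen 1912 (826, true)),
    (2214, .gen 562 (826, true)),
    (1899, .gen 319 (826, false)),
    (3008, .gen 319 (826, true)),
    (3533, .gen 2037 (826, false)),
    (2190, .gen 2037 (826, true)),
    (3416, .gen 290 (826, false)),
    (3380, .gen 290 (826, true)),
    (362, .gen 3773 (826, false)),
    (1955, .gen 3773 (826, true)),
    (55, .gen 500 (826, false)),
    (2911, .gen 500 (826, true)),
    (603, .gen 528 (826, false)),
    (1864, .gen 528 (826, true)),
    (384, .gen 1293 (826, false)),
    (2040, .gen 1293 (826, true)),
    (1821, .gen 2867 (826, false)),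
    (2141, .gen 2867 (826, true)),
    (673, .gen 2432 (826, false)),
    (801, .gen 2432 (826, true)),
    (554, .gen 2416 (826, false)),
    (2667, .gen 2416 (826, true)),
    (2184, .gen 256 (826, false)),
    (2118, .gen 256 (826, true)),
    (2132, .gen 2703 (826, false)),
    (3768, .gen 2703 (826, true)),
    (780, .gen 1264 (826, false)),
    (226, .gen 1264 (826, true)),
    (3599, .gen 1988 (826, false)),
    (1378, .gen 1988 (826, true)),
    (509, .gen 2597 (826, false)),
    (174, .gen 2597 (826, true)),
    (278, .gen 1558 (826, false)),
    (3517, .gen 1558 (826, true)),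
    (3170, .gen 3231 (826, false)),
    (2536, .gen 3231 (826, true)),
    (3289, .gen 708 (826, false)),
    (3307, .gen 708 (826, true)),
    (2906, .gen 3002 (826, false)),
    (2269, .gen 3002 (826, true)),
    (2274, .gen 127 (826, false)),
    (2632, .gen 127 (826, true)),
    (1015, .gen 3626 (826, false)),
    (2312, .gen 3626 (826, true)),
    (1471, .gen 2715 (826, false)),
    (946, .gen 2715 (826, true)),
    (1087, .gen 2356 (826, false)),
    (929, .gen 2356 (826, true)),
    (2149, .gen 895 (826, false)),
    (1296, .gen 895 (826, true)),
    (2836, .gen 849 (826, false)),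
    (3139, .gen 849 (826, true)),
    (2292, .gen 1975 (826, false)),
    (1733, .gen 1975 (826, true)),
    (2189, .gen 1242 (826, false)),
    (3249, .gen 1242 (826, true)),
    (1754, .gen 2452 (826, false)),
    (1010, .gen 2452 (826, true)),
    (1473, .gen 3525 (826, false)),
    (732, .gen 3525 (826, true)),
    (2070, .gen 2257 (826, false)),
    (198, .gen 2257 (826, true)),
    (2123, .gen 837 (826, false)),
    (524, .gen 837 (826, true)),
    (3105, .gen 943 (826, false)),
    (1295, .gen 943 (826, true)),
    (2707, .gen 224 (826, false)),
    (1334, .gen 224 (826, true)),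
    (1954, .gen 2221 (826, false)),
    (259, .gen 2221 (826, true)),
    (3321, .gen 487 (826, false)),
    (1816, .gen 487 (826, true)),
    (3050, .gen 157 (826, false)),
    (731, .gen 157 (826, true)),
    (1691, .gen 1166 (826, false)),
    (136, .gen 1166 (826, true)),
    (873, .gen 2166 (826, false)),
    (2806, .gen 2166 (826, true)),
    (1339, .gen 265 (826, false)),
    (354, .gen 265 (826, true)),
    (2461, .gen 70 (826, false)),
    (3101, .gen 70 (826, true)),
    (247, .gen 3511 (826, false)),
    (2233, .gen 3511 (826, true)),
    (2606, .gen 3572 (826, false)),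
    (1422, .gen 3572 (826, true)),
    (1337, .gen 1705 (826, false)),
    (668, .gen 1705 (826, true)),
    (2134, .gen 2844 (826, false)),
    (1484, .gen 2844 (826, true)),
    (1783, .gen 1354 (826, false)),
    (3661, .gen 1354 (826, true)),
    (947, .gen 2917 (826, false)),
    (3378, .gen 2917 (826, true)),
    (3527, .gen 629 (826, false)),
    (1191, .gen 629 (826, true)),
    (2319, .gen 1565 (826, false)),
    (2329, .gen 1565 (826, true)),
    (2691, .gen 51 (826, false)),
    (1333, .gen 51 (826, true)),
    (178, .gen 954 (826, false)),
    (1000, .gen 954 (826, true)),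
    (3341, .gen 617 (826, false)),
    (1903, .gen 617 (826, true)),
    (3564, .gen 2973 (826, false)),
    (3611, .gen 2973 (826, true)),
    (2506, .gen 1795 (826, false)),
    (2635, .gen 1795 (826, true)),
    (469, .gen 1798 (826, false)),
    (1752, .gen 1798 (826, true)),
    (1768, .gen 529 (826, false))]

/-- Visits. -/
def v19_6 : List (ℕ × Src) :=
  [(506, .gen 529 (826, true)),
    (1091, .gen 2508 (826, false)),
    (2296, .gen 2508 (826, true)),
    (2523, .gen 3276 (826, false)),
    (2581, .gen 3276 (826, true)),
    (3235, .gen 1098 (826, false)),
    (3163, .gen 1098 (826, true)),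
    (2575, .gen 3745 (826, false)),
    (1843, .gen 3745 (826, true)),
    (1454, .gen 1822 (826, false)),
    (581, .gen 1822 (826, true)),
    (2787, .gen 2430 (826, false)),
    (1550, .gen 2430 (826, true)),
    (2457, .gen 2362 (826, false)),
    (2894, .gen 2362 (826, true)),
    (1445, .gen 1158 (826, false)),
    (778, .gen 1158 (826, true)),
    (2828, .gen 2633 (826, false)),
    (3478, .gen 2633 (826, true)),
    (1746, .gen 2879 (826, false)),
    (1429, .gen 2879 (826, true)),
    (2595, .gen 1587 (826, false)),
    (2545, .gen 1587 (826, true)),
    (1291, .gen 3332 (826, false)),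
    (3134, .gen 3332 (826, true)),
    (1881, .gen 2819 (826, false)),
    (3744, .gen 2819 (826, true)),
    (1844, .gen 27 (826, false)),
    (316, .gen 27 (826, true)),
    (2549, .gen 2636 (826, false)),
    (2385, .gen 2636 (826, true)),
    (2820, .gen 2670 (826, false)),
    (138, .gen 2670 (826, true)),
    (1895, .gen 2034 (826, false)),
    (2576, .gen 2034 (826, true)),
    (2553, .gen 1982 (826, false)),
    (599, .gen 1982 (826, true)),
    (1348, .gen 3084 (826, false)),
    (2433, .gen 3084 (826, true)),
    (1799, .gen 2106 (826, false)),
    (791, .gen 2106 (826, true)),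
    (408, .gen 2865 (826, false)),
    (1676, .gen 2865 (826, true)),
    (625, .gen 3237 (826, false)),
    (505, .gen 3237 (826, true)),
    (3657, .gen 275 (826, false)),
    (2735, .gen 275 (826, true)),
    (3385, .gen 2706 (826, false)),
    (1195, .gen 2706 (826, true)),
    (881, .gen 1353 (826, false)),
    (2714, .gen 1353 (826, true)),
    (3535, .gen 1082 (826, false)),
    (1075, .gen 1082 (826, true)),
    (3061, .gen 696 (826, false)),
    (3407, .gen 696 (826, true)),
    (3143, .gen 2490 (826, false)),
    (3430, .gen 2490 (826, true)),
    (3619, .gen 3311 (826, false)),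
    (797, .gen 3311 (826, true)),
    (2693, .gen 2718 (826, false)),
    (1160, .gen 2718 (826, true)),
    (3516, .gen 3417 (826, false)),
    (130, .gen 3417 (826, true)),
    (3722, .gen 1105 (826, false)),
    (2022, .gen 1105 (826, true)),
    (3396, .gen 2099 (826, false)),
    (2839, .gen 2099 (826, true)),
    (3658, .gen 1408 (826, false)),
    (3705, .gen 1408 (826, true)),
    (2046, .gen 1820 (826, false)),
    (3078, .gen 1820 (826, true)),
    (3790, .gen 3408 (826, false)),
    (888, .gen 3408 (826, true)),
    (790, .gen 1126 (826, false)),
    (477, .gen 1126 (826, true)),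
    (1363, .gen 3226 (826, false)),
    (3615, .gen 3226 (826, true)),
    (268, .gen 1173 (826, false)),
    (570, .gen 1173 (826, true)),
    (877, .gen 2943 (826, false)),
    (1712, .gen 2943 (826, true)),
    (754, .gen 2789 (826, false)),
    (2476, .gen 2789 (826, true)),
    (3638, .gen 1366 (826, false)),
    (1612, .gen 1366 (826, true)),
    (2337, .gen 2948 (826, false)),
    (596, .gen 2948 (826, true)),
    (3538, .gen 3343 (826, false)),
    (1319, .gen 3343 (826, true)),
    (1197, .gen 967 (826, false)),
    (2497, .gen 967 (826, true)),
    (2345, .gen 1355 (826, false)),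
    (2682, .gen 1355 (826, true)),
    (1305, .gen 2688 (826, false)),
    (944, .gen 2688 (826, true)),
    (2010, .gen 2521 (826, false)),
    (67, .gen 2521 (826, true)),
    (1507, .gen 3024 (826, false)),
    (141, .gen 3024 (826, true)),
    (137, .gen 2441 (826, false)),
    (3109, .gen 2441 (826, true)),
    (2176, .gen 1945 (826, false)),
    (1065, .gen 1945 (826, true)),
    (869, .gen 955 (826, false)),
    (3103, .gen 955 (826, true)),
    (2463, .gen 1848 (826, false)),
    (1809, .gen 1848 (826, true)),
    (783, .gen 398 (826, false)),
    (3260, .gen 398 (826, true)),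
    (1001, .gen 942 (826, false)),
    (3731, .gen 942 (826, true)),
    (513, .gen 3568 (826, false)),
    (3673, .gen 3568 (826, true)),
    (1852, .gen 1947 (826, false)),
    (1885, .gen 1947 (826, true)),
    (492, .gen 1487 (826, false)),
    (1866, .gen 1487 (826, true)),
    (2680, .gen 1347 (826, false)),
    (2871, .gen 1347 (826, true)),
    (2622, .gen 3600 (826, false)),
    (340, .gen 3600 (826, true)),
    (1732, .gen 1109 (826, false)),
    (2915, .gen 1109 (826, true)),
    (3309, .gen 1054 (826, false)),
    (2579, .gen 1054 (826, true)),
    (1302, .gen 2342 (826, false)),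
    (3475, .gen 2342 (826, true)),
    (2537, .gen 847 (826, false)),
    (395, .gen 847 (826, true)),
    (1937, .gen 2541 (826, false)),
    (1413, .gen 2541 (826, true)),
    (3503, .gen 1630 (826, false)),
    (3699, .gen 1630 (826, true)),
    (1572, .gen 3590 (826, false)),
    (3387, .gen 3590 (826, true)),
    (3246, .gen 2235 (826, false)),
    (2671, .gen 2235 (826, true)),
    (1467, .gen 466 (826, false)),
    (311, .gen 466 (826, true)),
    (3154, .gen 597 (826, false)),
    (95, .gen 597 (826, true)),
    (741, .gen 6 (826, false)),
    (153, .gen 6 (826, true)),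
    (689, .gen 3671 (826, false)),
    (3158, .gen 3671 (826, true)),
    (2808, .gen 3669 (826, false)),
    (2796, .gen 3669 (826, true)),
    (1556, .gen 200 (826, false)),
    (59, .gen 200 (826, true)),
    (1790, .gen 1418 (826, false)),
    (2449, .gen 1418 (826, true)),
    (1460, .gen 2323 (826, false)),
    (3377, .gen 2323 (826, true)),
    (1907, .gen 1951 (826, false)),
    (3298, .gen 1951 (826, true)),
    (72, .gen 656 (826, false)),
    (150, .gen 656 (826, true)),
    (1978, .gen 45 (826, false)),
    (120, .gen 45 (826, true)),
    (1526, .gen 15 (826, false)),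
    (11, .gen 15 (826, true)),
    (2218, .gen 2699 (826, false)),
    (3208, .gen 2699 (826, true)),
    (1622, .gen 2427 (826, false)),
    (2858, .gen 2427 (826, true)),
    (3034, .gen 2458 (826, false)),
    (2045, .gen 2458 (826, true)),
    (2834, .gen 428 (826, false)),
    (3682, .gen 428 (826, true)),
    (2259, .gen 1033 (826, false)),
    (543, .gen 1033 (826, true)),
    (1789, .gen 1123 (826, false)),
    (2788, .gen 1123 (826, true)),
    (1205, .gen 2365 (826, false)),
    (3172, .gen 2365 (826, true)),
    (1870, .gen 443 (826, false)),
    (3160, .gen 443 (826, true)),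
    (379, .gen 2485 (826, false)),
    (1545, .gen 2485 (826, true)),
    (2929, .gen 468 (826, false)),
    (2527, .gen 468 (826, true)),
    (1407, .gen 2155 (826, false)),
    (2049, .gen 2155 (826, true)),
    (3358, .gen 3596 (826, false)),
    (407, .gen 3596 (826, true)),
    (1076, .gen 393 (826, false)),
    (650, .gen 393 (826, true)),
    (3518, .gen 3374 (826, false)),
    (2573, .gen 3374 (826, true)),
    (3521, .gen 1638 (826, false)),
    (2524, .gen 1638 (826, true)),
    (2748, .gen 349 (826, false)),
    (1521, .gen 349 (826, true)),
    (3382, .gen 987 (826, false)),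
    (832, .gen 987 (826, true)),
    (1782, .gen 2711 (826, false)),
    (3574, .gen 2711 (826, true)),
    (3128, .gen 1847 (826, false)),
    (1714, .gen 1847 (826, true)),
    (3655, .gen 3028 (826, false)),
    (1757, .gen 3028 (826, true)),
    (2316, .gen 2717 (826, false)),
    (2897, .gen 2717 (826, true)),
    (818, .gen 295 (826, true)),
    (1680, .gen 697 (826, false)),
    (3412, .gen 697 (826, true)),
    (2139, .gen 243 (826, false)),
    (1425, .gen 243 (826, true)),
    (3713, .gen 2191 (826, false)),
    (2854, .gen 2191 (826, true)),
    (3502, .gen 2435 (826, false)),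
    (2027, .gen 2435 (826, true)),
    (3667, .gen 1785 (826, false)),
    (1871, .gen 1785 (826, true)),
    (1655, .gen 151 (826, true)),
    (1562, .gen 57 (826, false)),
    (1950, .gen 57 (826, true)),
    (3747, .gen 2526 (826, false)),
    (1944, .gen 2526 (826, true)),
    (3368, .gen 1824 (826, false)),
    (2244, .gen 1824 (826, true)),
    (2419, .gen 2372 (826, false)),
    (1026, .gen 2372 (826, true)),
    (2803, .gen 1227 (826, false)),
    (969, .gen 1227 (826, true)),
    (2991, .gen 867 (826, false)),
    (2135, .gen 867 (826, true)),
    (2386, .gen 2424 (826, false)),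
    (3576, .gen 2424 (826, true)),
    (2550, .gen 658 (826, false)),
    (3709, .gen 658 (826, true)),
    (3097, .gen 1586 (826, false)),
    (260, .gen 1586 (826, true)),
    (3625, .gen 1764 (826, false)),
    (351, .gen 1764 (826, true)),
    (1512, .gen 1289 (826, false)),
    (1726, .gen 1289 (826, true)),
    (3676, .gen 1382 (826, false)),
    (526, .gen 1382 (826, true)),
    (3450, .gen 2577 (826, false)),
    (442, .gen 2577 (826, true)),
    (3554, .gen 3485 (826, false)),
    (1007, .gen 3485 (826, true)),
    (1150, .gen 716 (826, false)),
    (2619, .gen 716 (826, true)),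
    (3007, .gen 28 (826, false)),
    (30, .gen 28 (826, true)),
    (0, .gen 998 (826, false)),
    (2270, .gen 998 (826, true)),
    (3182, .gen 1468 (826, false)),
    (283, .gen 1468 (826, true)),
    (1641, .gen 2677 (826, false)),
    (223, .gen 2677 (826, true)),
    (1734, .gen 111 (826, false)),
    (3093, .gen 111 (826, true)),
    (2011, .gen 1340 (826, false)),
    (215, .gen 745 (826, false)),
    (1829, .gen 745 (826, true)),
    (724, .gen 482 (826, false)),
    (2239, .gen 482 (826, true)),
    (2564, .gen 2709 (826, false)),
    (655, .gen 2709 (826, true)),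
    (186, .gen 787 (826, false)),
    (760, .gen 787 (826, true)),
    (2479, .gen 1684 (826, false)),
    (1464, .gen 1684 (826, true)),
    (1744, .gen 653 (826, false)),
    (222, .gen 653 (826, true)),
    (2584, .gen 450 (826, false)),
    (652, .gen 450 (826, true)),
    (1477, .gen 1204 (826, false)),
    (815, .gen 1204 (826, true)),
    (302, .gen 1578 (826, false)),
    (602, .gen 1578 (826, true)),
    (3347, .gen 1500 (826, false)),
    (3201, .gen 1500 (826, true)),
    (2177, .gen 1940 (826, false)),
    (1579, .gen 1940 (826, true)),
    (2737, .gen 304 (826, false)),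
    (38, .gen 304 (826, true)),
    (1815, .gen 171 (826, false)),
    (657, .gen 171 (826, true)),
    (1230, .gen 140 (826, false)),
    (1750, .gen 140 (826, true)),
    (1240, .gen 1172 (826, false)),
    (816, .gen 1172 (826, true)),
    (1494, .gen 110 (826, false)),
    (3049, .gen 110 (826, true)),
    (2872, .gen 2041 (826, false)),
    (1208, .gen 2041 (826, true)),
    (1080, .gen 2976 (826, false)),
    (8, .gen 2976 (826, true)),
    (2327, .gen 2601 (826, false)),
    (470, .gen 2601 (826, true)),
    (277, .gen 3482 (826, false)),
    (567, .gen 3482 (826, true)),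
    (666, .gen 2112 (826, false)),
    (2293, .gen 2112 (826, true)),
    (1969, .gen 1932 (826, false)),
    (1874, .gen 1932 (826, true))]

/-- Visits. -/
def v19_7 : List (ℕ × Src) :=
  [(3772, .gen 3716 (826, false)),
    (810, .gen 3716 (826, true)),
    (3750, .gen 3778 (826, false)),
    (455, .gen 3778 (826, true)),
    (3707, .gen 2535 (826, false)),
    (2125, .gen 2535 (826, true)),
    (2792, .gen 2955 (826, false)),
    (1247, .gen 2955 (826, true)),
    (196, .gen 1018 (826, false)),
    (598, .gen 1018 (826, true)),
    (1268, .gen 116 (826, false)),
    (1609, .gen 116 (826, true)),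
    (1662, .gen 162 (826, false)),
    (238, .gen 162 (826, true)),
    (3766, .gen 1657 (826, false)),
    (2784, .gen 1657 (826, true)),
    (737, .gen 845 (826, false)),
    (478, .gen 845 (826, true)),
    (2336, .gen 2414 (826, false)),
    (1962, .gen 2414 (826, true)),
    (1677, .gen 1489 (826, false)),
    (758, .gen 1489 (826, true)),
    (1999, .gen 870 (826, false)),
    (1661, .gen 870 (826, true)),
    (166, .gen 1111 (826, false)),
    (1093, .gen 1111 (826, true)),
    (2310, .gen 3711 (826, false)),
    (204, .gen 3711 (826, true)),
    (347, .gen 1992 (826, true)),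
    (2163, .gen 2201 (826, true)),
    (3653, .gen 3571 (826, false)),
    (2320, .gen 3571 (826, true)),
    (1280, .gen 298 (826, false)),
    (481, .gen 298 (826, true)),
    (1533, .gen 1177 (826, false)),
    (3149, .gen 1177 (826, true)),
    (540, .gen 953 (826, false)),
    (83, .gen 953 (826, true)),
    (3156, .gen 2366 (826, false)),
    (2730, .gen 2366 (826, true)),
    (2346, .gen 2361 (826, false)),
    (3069, .gen 2361 (826, true)),
    (3684, .gen 1715 (826, false)),
    (2963, .gen 1715 (826, true)),
    (2451, .gen 3446 (826, false)),
    (2103, .gen 3446 (826, true)),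
    (1623, .gen 3029 (826, false)),
    (3706, .gen 3029 (826, true)),
    (2532, .gen 220 (826, false)),
    (1168, .gen 220 (826, true)),
    (885, .gen 844 (826, false)),
    (2440, .gen 844 (826, true)),
    (188, .gen 2115 (826, true)),
    (1827, .gen 1414 (826, false)),
    (902, .gen 1414 (826, true)),
    (1996, .gen 728 (826, false)),
    (2048, .gen 728 (826, true)),
    (2956, .gen 3293 (826, false)),
    (2551, .gen 3293 (826, true)),
    (1250, .gen 2754 (826, false)),
    (173, .gen 2754 (826, true)),
    (182, .gen 2644 (826, false)),
    (622, .gen 2644 (826, true)),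
    (212, .gen 2157 (826, false)),
    (2953, .gen 2157 (826, true)),
    (2869, .gen 475 (826, false)),
    (1755, .gen 475 (826, true)),
    (1081, .gen 2830 (826, false)),
    (2552, .gen 2830 (826, true)),
    (1980, .gen 2588 (826, false)),
    (3150, .gen 2588 (826, true)),
    (3091, .gen 3582 (826, false)),
    (3733, .gen 3582 (826, true)),
    (2731, .gen 209 (826, false)),
    (359, .gen 209 (826, true)),
    (1070, .gen 1181 (826, false)),
    (879, .gen 1181 (826, true)),
    (2057, .gen 2136 (826, false)),
    (761, .gen 2136 (826, true)),
    (3284, .gen 26 (826, false)),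
    (3080, .gen 26 (826, true)),
    (1257, .gen 147 (826, false)),
    (1679, .gen 147 (826, true)),
    (3491, .gen 1206 (826, false)),
    (2719, .gen 1206 (826, true)),
    (2003, .gen 266 (826, false)),
    (1620, .gen 266 (826, true)),
    (2350, .gen 499 (826, false)),
    (1102, .gen 499 (826, true)),
    (857, .gen 142 (826, false)),
    (875, .gen 142 (826, true)),
    (1884, .gen 1207 (826, false)),
    (3664, .gen 1207 (826, true)),
    (2617, .gen 107 (826, false)),
    (3784, .gen 107 (826, true)),
    (1055, .gen 2944 (826, false)),
    (648, .gen 2944 (826, true)),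
    (3621, .gen 3268 (826, false)),
    (2499, .gen 3268 (826, true)),
    (3421, .gen 884 (826, false)),
    (659, .gen 884 (826, true)),
    (976, .gen 802 (826, false)),
    (1631, .gen 802 (826, true)),
    (3355, .gen 515 (826, false)),
    (1542, .gen 515 (826, true)),
    (734, .gen 812 (826, false)),
    (2925, .gen 812 (826, true)),
    (2217, .gen 1439 (826, false)),
    (2664, .gen 1439 (826, true)),
    (321, .gen 3319 (826, false)),
    (2773, .gen 3319 (826, true)),
    (3670, .gen 2853 (826, false)),
    (3364, .gen 2853 (826, true)),
    (3087, .gen 3551 (826, false)),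
    (1540, .gen 3551 (826, true)),
    (1099, .gen 1925 (826, false)),
    (3114, .gen 1925 (826, true)),
    (356, .gen 1327 (826, false)),
    (2927, .gen 1327 (826, true)),
    (1671, .gen 3325 (826, false)),
    (3406, .gen 3325 (826, true)),
    (90, .gen 285 (826, false)),
    (534, .gen 285 (826, true)),
    (2072, .gen 3693 (826, false)),
    (2559, .gen 3693 (826, true)),
    (807, .gen 301 (826, false)),
    (880, .gen 301 (826, true)),
    (1155, .gen 420 (826, false)),
    (3449, .gen 420 (826, true)),
    (476, .gen 1635 (826, false)),
    (3018, .gen 1635 (826, true)),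
    (2977, .gen 1078 (826, false)),
    (3247, .gen 1078 (826, true)),
    (1927, .gen 2967 (826, false)),
    (3567, .gen 2967 (826, true)),
    (106, .gen 808 (826, false)),
    (1455, .gen 808 (826, true)),
    (1371, .gen 456 (826, false)),
    (1326, .gen 456 (826, true)),
    (2569, .gen 827 (826, false)),
    (2082, .gen 827 (826, true)),
    (279, .gen 523 (826, false)),
    (1640, .gen 523 (826, true)),
    (974, .gen 1108 (826, false)),
    (2600, .gen 1108 (826, true)),
    (2795, .gen 3184 (826, false)),
    (3727, .gen 3184 (826, true)),
    (2614, .gen 3333 (826, false)),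
    (2930, .gen 3333 (826, true)),
    (1097, .gen 1552 (826, false)),
    (2502, .gen 1552 (826, true)),
    (3059, .gen 3327 (826, false)),
    (3214, .gen 3327 (826, true)),
    (840, .gen 2941 (826, false)),
    (3174, .gen 2941 (826, true)),
    (2666, .gen 387 (826, false)),
    (471, .gen 387 (826, true)),
    (1933, .gen 3405 (826, false)),
    (206, .gen 3405 (826, true)),
    (2797, .gen 3167 (826, false)),
    (904, .gen 3167 (826, true)),
    (2018, .gen 651 (826, false)),
    (262, .gen 651 (826, true)),
    (1859, .gen 2223 (826, false)),
    (3749, .gen 2223 (826, true)),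
    (616, .gen 3389 (826, false)),
    (1941, .gen 3389 (826, true)),
    (493, .gen 2769 (826, false)),
    (3005, .gen 1920 (826, false)),
    (1946, .gen 1920 (826, true)),
    (73, .gen 2758 (826, false)),
    (146, .gen 2758 (826, true)),
    (1514, .gen 2840 (826, false)),
    (175, .gen 2840 (826, true)),
    (3233, .gen 811 (826, false)),
    (2560, .gen 811 (826, true)),
    (2966, .gen 3726 (826, false)),
    (342, .gen 3726 (826, true)),
    (2544, .gen 2812 (826, false)),
    (702, .gen 2812 (826, true)),
    (1584, .gen 2701 (826, false)),
    (1309, .gen 2701 (826, true)),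
    (194, .gen 3734 (826, false)),
    (918, .gen 3734 (826, true)),
    (1830, .gen 2659 (826, false)),
    (2334, .gen 2659 (826, true)),
    (2002, .gen 1437 (826, false)),
    (2578, .gen 1437 (826, true)),
    (2831, .gen 561 (826, false)),
    (1222, .gen 561 (826, true)),
    (1593, .gen 314 (826, false)),
    (261, .gen 314 (826, true)),
    (68, .gen 415 (826, false)),
    (1632, .gen 415 (826, true)),
    (2297, .gen 1534 (826, false)),
    (2762, .gen 1534 (826, true)),
    (1621, .gen 192 (826, false)),
    (1449, .gen 192 (826, true)),
    (3411, .gen 605 (826, false)),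
    (13, .gen 605 (826, true)),
    (2849, .gen 3573 (826, false)),
    (1604, .gen 3573 (826, true)),
    (1510, .gen 3070 (826, false)),
    (1057, .gen 3070 (826, true)),
    (1282, .gen 2791 (826, false)),
    (3220, .gen 2791 (826, true)),
    (3440, .gen 75 (826, false)),
    (2626, .gen 75 (826, true)),
    (2038, .gen 464 (826, false)),
    (436, .gen 464 (826, true)),
    (1420, .gen 1796 (826, false)),
    (148, .gen 1796 (826, true)),
    (1788, .gen 1958 (826, false)),
    (2444, .gen 1958 (826, true)),
    (3187, .gen 718 (826, false)),
    (79, .gen 718 (826, true)),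
    (1811, .gen 1292 (826, false)),
    (608, .gen 1292 (826, true)),
    (1461, .gen 1647 (826, false)),
    (1703, .gen 1647 (826, true)),
    (3575, .gen 1598 (826, false)),
    (1153, .gen 1598 (826, true)),
    (1860, .gen 2089 (826, false)),
    (394, .gen 2089 (826, true)),
    (2468, .gen 1470 (826, false)),
    (2265, .gen 1470 (826, true)),
    (1367, .gen 71 (826, false)),
    (501, .gen 71 (826, true)),
    (1342, .gen 2007 (826, false)),
    (2656, .gen 2007 (826, true)),
    (2411, .gen 1379 (826, false)),
    (544, .gen 1379 (826, true)),
    (3003, .gen 586 (826, false)),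
    (2504, .gen 586 (826, true)),
    (2173, .gen 2982 (826, false)),
    (126, .gen 2982 (826, true)),
    (634, .gen 2091 (826, false)),
    (1493, .gen 2091 (826, true)),
    (2587, .gen 1690 (826, false)),
    (3522, .gen 1690 (826, true)),
    (788, .gen 3032 (826, false)),
    (2517, .gen 3032 (826, true)),
    (2369, .gen 2643 (826, false)),
    (1167, .gen 2643 (826, true)),
    (863, .gen 3403 (826, false)),
    (627, .gen 3403 (826, true)),
    (383, .gen 225 (826, false)),
    (1238, .gen 225 (826, true)),
    (889, .gen 860 (826, false)),
    (1938, .gen 860 (826, true)),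
    (430, .gen 3153 (826, false)),
    (1527, .gen 3153 (826, true)),
    (3470, .gen 1905 (826, false)),
    (3155, .gen 1905 (826, true)),
    (2760, .gen 2511 (826, false)),
    (2713, .gen 2511 (826, true)),
    (1683, .gen 3274 (826, false)),
    (1159, .gen 3274 (826, true)),
    (3555, .gen 1634 (826, false)),
    (2162, .gen 1634 (826, true)),
    (924, .gen 2229 (826, false)),
    (886, .gen 2229 (826, true)),
    (3361, .gen 1352 (826, false)),
    (216, .gen 1352 (826, true)),
    (1608, .gen 1409 (826, false)),
    (905, .gen 1409 (826, true)),
    (1039, .gen 2771 (826, false)),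
    (3116, .gen 2771 (826, true)),
    (3757, .gen 2942 (826, false)),
    (3009, .gen 2942 (826, true)),
    (2124, .gen 1101 (826, false)),
    (1234, .gen 1101 (826, true)),
    (2428, .gen 3753 (826, false)),
    (1239, .gen 3753 (826, true)),
    (479, .gen 3632 (826, false)),
    (2571, .gen 3632 (826, true)),
    (2347, .gen 892 (826, false)),
    (2028, .gen 892 (826, true)),
    (535, .gen 318 (826, false)),
    (177, .gen 318 (826, true)),
    (165, .gen 88 (826, false)),
    (1597, .gen 88 (826, true)),
    (975, .gen 1002 (826, false)),
    (2874, .gen 1002 (826, true)),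
    (842, .gen 2020 (826, false)),
    (3583, .gen 2020 (826, true)),
    (1190, .gen 1861 (826, false)),
    (3168, .gen 1861 (826, true)),
    (675, .gen 1426 (826, false)),
    (2384, .gen 1426 (826, true)),
    (3462, .gen 2625 (826, false)),
    (1817, .gen 2625 (826, true)),
    (2206, .gen 896 (826, false)),
    (635, .gen 896 (826, true)),
    (537, .gen 3685 (826, false)),
    (3701, .gen 3685 (826, true)),
    (1836, .gen 743 (826, false)),
    (2462, .gen 341 (826, false)),
    (272, .gen 341 (826, true)),
    (667, .gen 1896 (826, false))]

/-- Visits. -/
def v19_8 : List (ℕ × Src) :=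
  [(2437, .gen 1896 (826, true)),
    (1349, .gen 3397 (826, false)),
    (1652, .gen 3397 (826, true)),
    (402, .gen 2542 (826, false)),
    (3178, .gen 2542 (826, true)),
    (1221, .gen 326 (826, false)),
    (190, .gen 326 (826, true)),
    (2990, .gen 2219 (826, false)),
    (2246, .gen 2219 (826, true)),
    (3546, .gen 1148 (826, false)),
    (1769, .gen 1148 (826, true)),
    (205, .gen 1384 (826, false)),
    (688, .gen 1384 (826, true)),
    (1483, .gen 1138 (826, true)),
    (2534, .gen 3444 (826, false)),
    (1762, .gen 3444 (826, true)),
    (2152, .gen 1777 (826, false)),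
    (3736, .gen 1777 (826, true)),
    (1701, .gen 2443 (826, false)),
    (1074, .gen 2443 (826, true)),
    (3616, .gen 2781 (826, true)),
    (2935, .gen 3322 (826, false)),
    (1225, .gen 3322 (826, true)),
    (2380, .gen 2469 (826, false)),
    (3565, .gen 2469 (826, true)),
    (43, .gen 2005 (826, false)),
    (2295, .gen 2005 (826, true)),
    (3211, .gen 3238 (826, false)),
    (3193, .gen 3238 (826, true)),
    (3476, .gen 3647 (826, false)),
    (3130, .gen 3647 (826, true)),
    (3746, .gen 1241 (826, false)),
    (1217, .gen 1241 (826, true)),
    (432, .gen 1059 (826, false)),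
    (3, .gen 1645 (826, false)),
    (2919, .gen 1645 (826, true)),
    (1577, .gen 681 (826, false)),
    (1775, .gen 681 (826, true)),
    (782, .gen 14 (826, false)),
    (1699, .gen 14 (826, true)),
    (3251, .gen 449 (826, false)),
    (722, .gen 449 (826, true)),
    (2278, .gen 527 (826, false)),
    (2938, .gen 527 (826, true)),
    (607, .gen 399 (826, false)),
    (2739, .gen 399 (826, true)),
    (2382, .gen 2778 (826, false)),
    (2727, .gen 2778 (826, true)),
    (665, .gen 1094 (826, false)),
    (2113, .gen 1094 (826, true)),
    (1555, .gen 3045 (826, false)),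
    (917, .gen 3045 (826, true)),
    (1780, .gen 2216 (826, false)),
    (522, .gen 2216 (826, true)),
    (1444, .gen 1106 (826, false)),
    (300, .gen 1106 (826, true)),
    (3023, .gen 1341 (826, false)),
    (3740, .gen 1341 (826, true)),
    (331, .gen 2199 (826, false)),
    (3728, .gen 2199 (826, true)),
    (1397, .gen 1538 (826, false)),
    (1617, .gen 1538 (826, true)),
    (1736, .gen 440 (826, false)),
    (1868, .gen 440 (826, true)),
    (176, .gen 1186 (826, false)),
    (1386, .gen 1186 (826, true)),
    (2805, .gen 729 (826, false)),
    (1700, .gen 729 (826, true)),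
    (1709, .gen 3702 (826, false)),
    (921, .gen 3702 (826, true)),
    (855, .gen 2628 (826, false)),
    (1417, .gen 2628 (826, true)),
    (17, .gen 1073 (826, false)),
    (2811, .gen 1073 (826, true)),
    (2724, .gen 1187 (826, false)),
    (1120, .gen 1187 (826, true)),
    (461, .gen 3410 (826, false)),
    (2658, .gen 3410 (826, true)),
    (769, .gen 1329 (826, false)),
    (3708, .gen 1329 (826, true)),
    (2363, .gen 2344 (826, false)),
    (2533, .gen 2344 (826, true)),
    (2589, .gen 3122 (826, false)),
    (821, .gen 3122 (826, true)),
    (124, .gen 2940 (826, false)),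
    (2406, .gen 2940 (826, true)),
    (3718, .gen 2568 (826, false)),
    (771, .gen 2568 (826, true)),
    (3285, .gen 3334 (826, false)),
    (86, .gen 3334 (826, true)),
    (172, .gen 2309 (826, false)),
    (1419, .gen 2309 (826, true)),
    (1438, .gen 512 (826, false)),
    (201, .gen 512 (826, true)),
    (2945, .gen 3047 (826, false)),
    (1931, .gen 3047 (826, true)),
    (615, .gen 2047 (826, false)),
    (31, .gen 2047 (826, true)),
    (1549, .gen 1651 (826, false)),
    (160, .gen 1651 (826, true)),
    (968, .gen 2467 (826, false)),
    (511, .gen 2467 (826, true)),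
    (927, .gen 1362 (826, false)),
    (34, .gen 1362 (826, true)),
    (1374, .gen 1541 (826, false)),
    (1117, .gen 1541 (826, true)),
    (3604, .gen 926 (826, false)),
    (1254, .gen 926 (826, true)),
    (2415, .gen 3256 (826, false)),
    (294, .gen 3256 (826, true)),
    (2621, .gen 1196 (826, false)),
    (1331, .gen 1196 (826, true)),
    (3053, .gen 693 (826, false)),
    (2412, .gen 693 (826, true)),
    (730, .gen 3436 (826, false)),
    (1518, .gen 3436 (826, true)),
    (1515, .gen 3330 (826, false)),
    (144, .gen 3330 (826, true)),
    (2294, .gen 1802 (826, false)),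
    (1956, .gen 1802 (826, true)),
    (19, .gen 3250 (826, false)),
    (3532, .gen 3250 (826, true)),
    (568, .gen 3381 (826, false)),
    (1421, .gen 3381 (826, true)),
    (589, .gen 2392 (826, false)),
    (2117, .gen 2392 (826, true)),
    (2289, .gen 2833 (826, false)),
    (3612, .gen 2833 (826, true)),
    (775, .gen 3561 (826, false)),
    (3328, .gen 3561 (826, true)),
    (2193, .gen 763 (826, false)),
    (3399, .gen 763 (826, true)),
    (1163, .gen 2032 (826, false)),
    (1965, .gen 2032 (826, true)),
    (563, .gen 3534 (826, false)),
    (3317, .gen 3534 (826, true)),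
    (1423, .gen 2109 (826, false)),
    (1737, .gen 2109 (826, true)),
    (898, .gen 1069 (826, false)),
    (2749, .gen 1069 (826, true)),
    (1898, .gen 3520 (826, false)),
    (2903, .gen 3520 (826, true)),
    (2931, .gen 451 (826, false)),
    (1710, .gen 451 (826, true)),
    (421, .gen 3447 (826, false)),
    (2273, .gen 3447 (826, true)),
    (1893, .gen 692 (826, false)),
    (3210, .gen 692 (826, true)),
    (846, .gen 2817 (826, false)),
    (3737, .gen 2817 (826, true)),
    (3426, .gen 22 (826, false)),
    (1961, .gen 22 (826, true)),
    (525, .gen 1005 (826, false)),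
    (601, .gen 1005 (826, true)),
    (367, .gen 58 (826, false)),
    (3206, .gen 58 (826, true)),
    (2017, .gen 1547 (826, false)),
    (861, .gen 1547 (826, true)),
    (3224, .gen 1043 (826, false)),
    (777, .gen 1043 (826, true)),
    (632, .gen 1130 (826, false)),
    (3461, .gen 1130 (826, true)),
    (330, .gen 2379 (826, false)),
    (2637, .gen 2379 (826, true)),
    (2766, .gen 1498 (826, false)),
    (422, .gen 1498 (826, true)),
    (125, .gen 425 (826, false)),
    (112, .gen 425 (826, true)),
    (1615, .gen 806 (826, false)),
    (2104, .gen 806 (826, true)),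
    (1415, .gen 2376 (826, false)),
    (1127, .gen 2376 (826, true)),
    (2024, .gen 1491 (826, false)),
    (2512, .gen 1491 (826, true)),
    (1165, .gen 822 (826, false)),
    (684, .gen 822 (826, true)),
    (2129, .gen 3270 (826, false)),
    (2143, .gen 3270 (826, true)),
    (353, .gen 965 (826, false)),
    (228, .gen 965 (826, true)),
    (983, .gen 2582 (826, false)),
    (1560, .gen 2582 (826, true)),
    (3569, .gen 3697 (826, false)),
    (122, .gen 3697 (826, true)),
    (824, .gen 2850 (826, false)),
    (2258, .gen 2850 (826, true)),
    (2085, .gen 711 (826, false)),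
    (1277, .gen 711 (826, true)),
    (2960, .gen 2565 (826, false)),
    (2972, .gen 2565 (826, true)),
    (1786, .gen 2495 (826, false)),
    (373, .gen 2495 (826, true)),
    (2187, .gen 1313 (826, false)),
    (3691, .gen 1313 (826, true)),
    (1585, .gen 3296 (826, false)),
    (3531, .gen 3296 (826, true)),
    (1508, .gen 411 (826, false)),
    (3585, .gen 411 (826, true)),
    (2460, .gen 1427 (826, false)),
    (16, .gen 1427 (826, true)),
    (864, .gen 348 (826, false)),
    (3788, .gen 348 (826, true)),
    (1553, .gen 2907 (826, false)),
    (1600, .gen 2907 (826, true)),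
    (118, .gen 1219 (826, false)),
    (2970, .gen 1219 (826, true)),
    (3584, .gen 2044 (826, false)),
    (770, .gen 2044 (826, true)),
    (3323, .gen 2798 (826, false)),
    (1395, .gen 2798 (826, true)),
    (1991, .gen 1131 (826, false)),
    (714, .gen 1131 (826, true)),
    (2594, .gen 3758 (826, false)),
    (852, .gen 3758 (826, true)),
    (2105, .gen 988 (826, false)),
    (1666, .gen 988 (826, true)),
    (1084, .gen 2058 (826, false)),
    (2857, .gen 2058 (826, true)),
    (3529, .gen 1660 (826, false)),
    (2453, .gen 1660 (826, true)),
    (557, .gen 1492 (826, false)),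
    (1688, .gen 1492 (826, true)),
    (1047, .gen 40 (826, false)),
    (1213, .gen 40 (826, true)),
    (3121, .gen 626 (826, false)),
    (3628, .gen 626 (826, true)),
    (1112, .gen 297 (826, false)),
    (2775, .gen 297 (826, true)),
    (1255, .gen 1603 (826, false)),
    (2253, .gen 1603 (826, true)),
    (2349, .gen 1317 (826, false)),
    (2653, .gen 1317 (826, true)),
    (2910, .gen 1919 (826, false)),
    (3483, .gen 1919 (826, true)),
    (2377, .gen 2084 (826, false)),
    (1588, .gen 2084 (826, true)),
    (752, .gen 2147 (826, false)),
    (2785, .gen 2147 (826, true)),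
    (195, .gen 882 (826, false)),
    (985, .gen 882 (826, true)),
    (781, .gen 1888 (826, false)),
    (1766, .gen 1888 (826, true)),
    (3133, .gen 533 (826, false)),
    (624, .gen 533 (826, true)),
    (2410, .gen 682 (826, false)),
    (1544, .gen 682 (826, true)),
    (1398, .gen 1810 (826, false)),
    (694, .gen 1810 (826, true)),
    (1023, .gen 2962 (826, false)),
    (3434, .gen 2962 (826, true)),
    (2402, .gen 2367 (826, false)),
    (1765, .gen 2367 (826, true)),
    (3510, .gen 370 (826, false)),
    (3512, .gen 370 (826, true)),
    (3164, .gen 1976 (826, false)),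
    (3767, .gen 1976 (826, true)),
    (1818, .gen 933 (826, false)),
    (957, .gen 933 (826, true)),
    (1338, .gen 1115 (826, false)),
    (2768, .gen 1115 (826, true)),
    (2215, .gen 3415 (826, false)),
    (1351, .gen 3415 (826, true)),
    (2842, .gen 197 (826, false)),
    (3074, .gen 197 (826, true)),
    (3294, .gen 1462 (826, false)),
    (3241, .gen 1462 (826, true)),
    (3081, .gen 2127 (826, false)),
    (2169, .gen 2127 (826, true)),
    (3687, .gen 560 (826, false)),
    (3754, .gen 560 (826, true)),
    (558, .gen 1146 (826, false)),
    (2475, .gen 1146 (826, true)),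
    (3617, .gen 382 (826, false)),
    (2088, .gen 382 (826, true)),
    (1071, .gen 3264 (826, false)),
    (565, .gen 3264 (826, true)),
    (3191, .gen 1536 (826, false)),
    (1854, .gen 1536 (826, true)),
    (3346, .gen 3159 (826, false)),
    (989, .gen 3159 (826, true)),
    (2492, .gen 2006 (826, false)),
    (1488, .gen 2006 (826, true)),
    (1143, .gen 996 (826, false)),
    (3591, .gen 996 (826, true)),
    (1892, .gen 202 (826, false)),
    (3438, .gen 202 (826, true)),
    (2603, .gen 74 (826, false)),
    (3690, .gen 74 (826, true)),
    (2845, .gen 717 (826, false)),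
    (1079, .gen 717 (826, true)),
    (2330, .gen 1913 (826, false)),
    (2607, .gen 1913 (826, true)),
    (3279, .gen 2268 (826, false)),
    (897, .gen 2396 (826, false)),
    (1281, .gen 2396 (826, true)),
    (553, .gen 2738 (826, false)),
    (2266, .gen 2738 (826, true)),
    (2829, .gen 2031 (826, false)),
    (2957, .gen 2031 (826, true)),
    (2822, .gen 1088 (826, false))]

/-- Visits. -/
def v19_9 : List (ℕ × Src) :=
  [(831, .gen 1088 (826, true)),
    (427, .gen 452 (826, false)),
    (1774, .gen 452 (826, true)),
    (3639, .gen 102 (826, false)),
    (312, .gen 102 (826, true)),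
    (1953, .gen 3194 (826, false)),
    (1433, .gen 3194 (826, true)),
    (2126, .gen 3179 (826, false)),
    (1838, .gen 3179 (826, true)),
    (1971, .gen 2473 (826, false)),
    (101, .gen 2473 (826, true)),
    (3781, .gen 2171 (826, false)),
    (915, .gen 2171 (826, true)),
    (2092, .gen 2604 (826, false)),
    (1107, .gen 2604 (826, true)),
    (227, .gen 2314 (826, false)),
    (2531, .gen 2314 (826, true)),
    (796, .gen 3498 (826, false)),
    (2899, .gen 3498 (826, true)),
    (2413, .gen 3171 (826, false)),
    (267, .gen 3171 (826, true)),
    (3272, .gen 255 (826, false)),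
    (231, .gen 255 (826, true)),
    (662, .gen 3369 (826, false)),
    (1753, .gen 3369 (826, true)),
    (350, .gen 1985 (826, false)),
    (2483, .gen 1985 (826, true)),
    (3124, .gen 1906 (826, true)),
    (1727, .gen 2759 (826, false)),
    (3783, .gen 2759 (826, true)),
    (3463, .gen 2053 (826, false)),
    (1517, .gen 2053 (826, true)),
    (2252, .gen 2654 (826, false)),
    (2979, .gen 2654 (826, true)),
    (2111, .gen 2405 (826, false)),
    (3312, .gen 2405 (826, true)),
    (3515, .gen 1457 (826, false)),
    (1318, .gen 1457 (826, true)),
    (2690, .gen 2158 (826, true)),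
    (1200, .gen 1044 (826, false)),
    (1275, .gen 1044 (826, true)),
    (2071, .gen 2197 (826, false)),
    (3442, .gen 2197 (826, true)),
    (700, .gen 2890 (826, false)),
    (3135, .gen 2890 (826, true)),
    (426, .gen 1178 (826, false)),
    (1581, .gen 1178 (826, true)),
    (3190, .gen 3547 (826, false)),
    (378, .gen 3547 (826, true)),
    (3242, .gen 1559 (826, false)),
    (2146, .gen 1559 (826, true)),
    (3106, .gen 1772 (826, false)),
    (1759, .gen 1772 (826, true)),
    (2985, .gen 2809 (826, false)),
    (3779, .gen 2809 (826, true)),
    (2494, .gen 3622 (826, false)),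
    (1957, .gen 3622 (826, true)),
    (3173, .gen 618 (826, false)),
    (916, .gen 618 (826, true)),
    (2131, .gen 3566 (826, false)),
    (1049, .gen 3566 (826, true)),
    (3202, .gen 1216 (826, false)),
    (925, .gen 1216 (826, true)),
    (2423, .gen 3672 (826, true)),
    (2987, .gen 3234 (826, false)),
    (2069, .gen 3234 (826, true)),
    (3349, .gen 516 (826, false)),
    (723, .gen 516 (826, true)),
    (2470, .gen 2093 (826, false)),
    (3077, .gen 2093 (826, true)),
    (2816, .gen 3688 (826, false)),
    (164, .gen 3688 (826, true)),
    (795, .gen 3148 (826, false)),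
    (357, .gen 3148 (826, true)),
    (494, .gen 3357 (826, false)),
    (1030, .gen 3357 (826, true)),
    (1199, .gen 992 (826, false)),
    (3353, .gen 992 (826, true)),
    (1335, .gen 214 (826, false)),
    (2487, .gen 214 (826, true)),
    (1266, .gen 2388 (826, false)),
    (459, .gen 2388 (826, true)),
    (1396, .gen 1119 (826, false)),
    (2824, .gen 1119 (826, true)),
    (2851, .gen 2151 (826, false)),
    (375, .gen 2151 (826, true)),
    (3151, .gen 1834 (826, false)),
    (2525, .gen 1834 (826, true)),
    (249, .gen 1482 (826, false)),
    (1670, .gen 1482 (826, true)),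
    (180, .gen 991 (826, false)),
    (3189, .gen 991 (826, true)),
    (1154, .gen 1316 (826, false)),
    (569, .gen 1316 (826, true)),
    (759, .gen 1580 (826, false)),
    (48, .gen 1580 (826, true)),
    (2326, .gen 2431 (826, false)),
    (3141, .gen 2431 (826, true)),
    (47, .gen 1501 (826, false)),
    (2004, .gen 1501 (826, true)),
    (2482, .gen 1474 (826, false)),
    (2015, .gen 1474 (826, true)),
    (1667, .gen 2498 (826, false)),
    (87, .gen 2498 (826, true)),
    (433, .gen 3223 (826, false)),
    (3719, .gen 3223 (826, true)),
    (2580, .gen 2023 (826, false)),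
    (3537, .gen 2023 (826, true)),
    (1856, .gen 2378 (826, false)),
    (542, .gen 2378 (826, true)),
    (1924, .gen 2837 (826, false)),
    (2108, .gen 2837 (826, true)),
    (871, .gen 2554 (826, false)),
    (3394, .gen 2554 (826, true)),
    (1066, .gen 2488 (826, false)),
    (1887, .gen 2488 (826, true)),
    (3161, .gen 2371 (826, false)),
    (3570, .gen 2371 (826, true)),
    (2672, .gen 1209 (826, false)),
    (1918, .gen 1209 (826, true)),
    (3146, .gen 2335 (826, false)),
    (2965, .gen 2335 (826, true)),
    (685, .gen 575 (826, false)),
    (1923, .gen 575 (826, true)),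
    (1278, .gen 2660 (826, false)),
    (3473, .gen 2660 (826, true)),
    (1051, .gen 1605 (826, false)),
    (3735, .gen 1605 (826, true)),
    (1801, .gen 2744 (826, false)),
    (3215, .gen 390 (826, false)),
    (890, .gen 390 (826, true)),
    (2546, .gen 1161 (826, false)),
    (756, .gen 1161 (826, true)),
    (2121, .gen 1192 (826, false)),
    (3057, .gen 1192 (826, true)),
    (813, .gen 2315 (826, false)),
    (18, .gen 549 (826, false)),
    (1858, .gen 549 (826, true)),
    (3472, .gen 3725 (826, false)),
    (1855, .gen 3725 (826, true)),
    (2801, .gen 336 (826, false)),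
    (574, .gen 336 (826, true)),
    (2373, .gen 3366 (826, false)),
    (2519, .gen 3366 (826, true)),
    (3698, .gen 3683 (826, false)),
    (1986, .gen 3683 (826, true)),
    (3372, .gen 3310 (826, false)),
    (2063, .gen 3310 (826, true)),
    (3140, .gen 3763 (826, false)),
    (507, .gen 3763 (826, true)),
    (1012, .gen 2081 (826, false)),
    (77, .gen 2081 (826, true)),
    (2767, .gen 3083 (826, false)),
    (1656, .gen 3083 (826, true)),
    (3710, .gen 2783 (826, false)),
    (179, .gen 2783 (826, true)),
    (496, .gen 3304 (826, false)),
    (1729, .gen 3304 (826, true)),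
    (1144, .gen 2083 (826, false)),
    (2090, .gen 2083 (826, true)),
    (2863, .gen 2471 (826, false)),
    (248, .gen 2471 (826, true)),
    (2585, .gen 2866 (826, false)),
    (404, .gen 2866 (826, true)),
    (2539, .gen 1056 (826, false)),
    (10, .gen 1056 (826, true)),
    (848, .gen 65 (826, false)),
    (497, .gen 65 (826, true)),
    (1198, .gen 3794 (826, false)),
    (2165, .gen 3794 (826, true)),
    (2721, .gen 1832 (826, false)),
    (2465, .gen 1832 (826, true)),
    (3367, .gen 2608 (826, false)),
    (2178, .gen 2608 (826, true)),
    (1773, .gen 1170 (826, false)),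
    (1211, .gen 1170 (826, true)),
    (3721, .gen 2676 (826, false)),
    (121, .gen 2676 (826, true)),
    (1332, .gen 3650 (826, false)),
    (2810, .gen 3650 (826, true)),
    (3283, .gen 2989 (826, false)),
    (878, .gen 2989 (826, true)),
    (3739, .gen 3666 (826, false)),
    (2880, .gen 3666 (826, true)),
    (2802, .gen 2708 (826, false)),
    (3305, .gen 2708 (826, true)),
    (3088, .gen 805 (826, false)),
    (817, .gen 805 (826, true)),
    (2277, .gen 1450 (826, true)),
    (1175, .gen 594 (826, false)),
    (993, .gen 594 (826, true)),
    (3004, .gen 1928 (826, false)),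
    (1879, .gen 1928 (826, true)),
    (2408, .gen 1636 (826, false)),
    (335, .gen 1636 (826, true)),
    (3460, .gen 1653 (826, false)),
    (2914, .gen 1653 (826, true)),
    (2702, .gen 2075 (826, false)),
    (361, .gen 2075 (826, true)),
    (2770, .gen 2859 (826, false)),
    (3422, .gen 2859 (826, true)),
    (3756, .gen 2629 (826, false)),
    (358, .gen 2629 (826, true)),
    (971, .gen 721 (826, false)),
    (1290, .gen 721 (826, true)),
    (1248, .gen 96 (826, false)),
    (1157, .gen 96 (826, true)),
    (2425, .gen 1567 (826, false)),
    (1505, .gen 1567 (826, true)),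
    (3085, .gen 706 (826, false)),
    (1814, .gen 706 (826, true)),
    (1904, .gen 3040 (826, false)),
    (263, .gen 3040 (826, true)),
    (1779, .gen 2815 (826, false)),
    (3544, .gen 2815 (826, true)),
    (3581, .gen 3775 (826, false)),
    (2234, .gen 3459 (826, false)),
    (3027, .gen 3459 (826, true)),
    (3414, .gen 2183 (826, false)),
    (1648, .gen 2183 (826, true)),
    (3253, .gen 1758 (826, false)),
    (2182, .gen 1758 (826, true)),
    (3623, .gen 2200 (826, false)),
    (2140, .gen 2200 (826, true)),
    (710, .gen 2729 (826, false)),
    (1118, .gen 2729 (826, true)),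
    (2821, .gen 1693 (826, false)),
    (218, .gen 1693 (826, true)),
    (1747, .gen 1077 (826, false)),
    (2086, .gen 1077 (826, true)),
    (2096, .gen 3099 (826, false)),
    (3021, .gen 3099 (826, true)),
    (3644, .gen 3782 (826, false)),
    (3548, .gen 3782 (826, true)),
    (591, .gen 939 (826, false)),
    (712, .gen 939 (826, true)),
    (3637, .gen 2983 (826, false)),
    (3681, .gen 2983 (826, true)),
    (2936, .gen 3255 (826, false)),
    (1245, .gen 3255 (826, true)),
    (3064, .gen 3338 (826, false)),
    (784, .gen 3338 (826, true)),
    (3704, .gen 2916 (826, false)),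
    (1436, .gen 2916 (826, true)),
    (1243, .gen 81 (826, false)),
    (3016, .gen 81 (826, true)),
    (1564, .gen 3451 (826, false)),
    (3269, .gen 3451 (826, true)),
    (2062, .gen 3071 (826, false)),
    (2750, .gen 3071 (826, true)),
    (1901, .gen 1128 (826, false)),
    (3524, .gen 490 (826, false)),
    (337, .gen 490 (826, true)),
    (439, .gen 1524 (826, false)),
    (536, .gen 1524 (826, true)),
    (1708, .gen 2954 (826, false)),
    (1323, .gen 2954 (826, true)),
    (3640, .gen 2333 (826, false)),
    (1890, .gen 2333 (826, true)),
    (2875, .gen 1392 (826, false)),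
    (2679, .gen 1392 (826, true)),
    (502, .gen 1935 (826, false)),
    (1432, .gen 1935 (826, true)),
    (720, .gen 438 (826, false)),
    (564, .gen 438 (826, true)),
    (705, .gen 2640 (826, false)),
    (3086, .gen 2640 (826, true)),
    (1324, .gen 3486 (826, false)),
    (1052, .gen 3486 (826, true)),
    (3627, .gen 313 (826, false)),
    (713, .gen 313 (826, true)),
    (3454, .gen 982 (826, false)),
    (2237, .gen 982 (826, true)),
    (310, .gen 3409 (826, false)),
    (2493, .gen 3409 (826, true)),
    (2450, .gen 3400 (826, false)),
    (3218, .gen 3400 (826, true)),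
    (2745, .gen 2288 (826, false)),
    (1431, .gen 2288 (826, true)),
    (1009, .gen 2247 (826, false)),
    (2716, .gen 2247 (826, true)),
    (434, .gen 2357 (826, false)),
    (856, .gen 3455 (826, false)),
    (2761, .gen 3455 (826, true)),
    (244, .gen 3497 (826, false)),
    (2663, .gen 3497 (826, true)),
    (246, .gen 3119 (826, false)),
    (1368, .gen 3119 (826, true)),
    (3054, .gen 2491 (826, false)),
    (2561, .gen 2491 (826, true)),
    (1741, .gen 3481 (826, false)),
    (2710, .gen 3481 (826, true)),
    (676, .gen 3147 (826, false)),
    (670, .gen 3147 (826, true)),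
    (2142, .gen 2307 (826, false)),
    (2205, .gen 2307 (826, true)),
    (1307, .gen 97 (826, false)),
    (1272, .gen 97 (826, true)),
    (2188, .gen 2478 (826, false)),
    (3505, .gen 2478 (826, true))]

/-- Visits. -/
def v19_10 : List (ℕ × Src) :=
  [(3388, .gen 3541 (826, false)),
    (1274, .gen 3541 (826, true)),
    (2094, .gen 2352 (826, false)),
    (3514, .gen 2352 (826, true)),
    (1835, .gen 3418 (826, false)),
    (414, .gen 3418 (826, true)),
    (2261, .gen 2286 (826, false)),
    (611, .gen 2286 (826, true)),
    (893, .gen 1269 (826, false)),
    (2232, .gen 1269 (826, true)),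
    (2813, .gen 448 (826, false)),
    (3729, .gen 448 (826, true)),
    (2723, .gen 3035 (826, false)),
    (2068, .gen 3035 (826, true)),
    (3335, .gen 859 (826, false)),
    (1114, .gen 859 (826, true)),
    (3629, .gen 103 (826, false)),
    (3225, .gen 103 (826, true)),
    (614, .gen 1459 (826, false)),
    (3216, .gen 1459 (826, true)),
    (3428, .gen 1707 (826, false)),
    (1441, .gen 1707 (826, true)),
    (208, .gen 3445 (826, false)),
    (1731, .gen 3445 (826, true)),
    (2734, .gen 2675 (826, false)),
    (3048, .gen 2675 (826, true)),
    (1202, .gen 3326 (826, false)),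
    (1256, .gen 3326 (826, true)),
    (3115, .gen 2510 (826, false)),
    (1776, .gen 2510 (826, true)),
    (1391, .gen 541 (826, false)),
    (1400, .gen 541 (826, true)),
    (2662, .gen 1113 (826, false)),
    (593, .gen 1113 (826, true)),
    (1285, .gen 181 (826, false)),
    (2918, .gen 181 (826, true)),
    (3769, .gen 3039 (826, false)),
    (1235, .gen 3039 (826, true)),
    (1246, .gen 1388 (826, false)),
    (1016, .gen 1388 (826, true)),
    (3243, .gen 473 (826, false)),
    (1566, .gen 473 (826, true)),
    (2130, .gen 1842 (826, false)),
    (2650, .gen 1842 (826, true)),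
    (3678, .gen 2826 (826, false)),
    (829, .gen 2826 (826, true)),
    (1458, .gen 2399 (826, false)),
    (104, .gen 2399 (826, true)),
    (3528, .gen 3467 (826, false)),
    (391, .gen 3467 (826, true)),
    (2110, .gen 3764 (826, false)),
    (3755, .gen 3764 (826, true)),
    (2439, .gen 2876 (826, false)),
    (1516, .gen 2876 (826, true)),
    (1399, .gen 199 (826, false)),
    (3239, .gen 199 (826, true)),
    (851, .gen 1271 (826, false)),
    (2311, .gen 1271 (826, true)),
    (1735, .gen 3262 (826, false)),
    (3390, .gen 3262 (826, true)),
    (3770, .gen 3376 (826, false)),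
    (2765, .gen 3376 (826, true)),
    (3363, .gen 555 (826, false)),
    (1100, .gen 555 (826, true)),
    (2116, .gen 2196 (826, false)),
    (217, .gen 2196 (826, true)),
    (3553, .gen 1644 (826, false)),
    (3595, .gen 1644 (826, true)),
    (951, .gen 3720 (826, false)),
    (773, .gen 3720 (826, true)),
    (964, .gen 1476 (826, false)),
    (1857, .gen 1476 (826, true)),
    (3060, .gen 839 (826, false)),
    (3474, .gen 2661 (826, false)),
    (3132, .gen 2661 (826, true)),
    (3196, .gen 2389 (826, false)),
    (3090, .gen 2389 (826, true)),
    (3494, .gen 211 (826, false)),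
    (2434, .gen 211 (826, true)),
    (1942, .gen 2800 (826, false)),
    (2705, .gen 2800 (826, true)),
    (1504, .gen 750 (826, false)),
    (1643, .gen 750 (826, true)),
    (1886, .gen 719 (826, false)),
    (3606, .gen 719 (826, true)),
    (1469, .gen 169 (826, false)),
    (1930, .gen 169 (826, true)),
    (1019, .gen 977 (826, false)),
    (2528, .gen 977 (826, true)),
    (3362, .gen 735 (826, false)),
    (2937, .gen 735 (826, true)),
    (2751, .gen 2231 (826, false)),
    (1325, .gen 2231 (826, true)),
    (504, .gen 3579 (826, false)),
    (2686, .gen 3579 (826, true)),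
    (1594, .gen 2684 (826, false)),
    (2474, .gen 2684 (826, true)),
    (1808, .gen 1543 (826, false)),
    (2181, .gen 1543 (826, true)),
    (2652, .gen 612 (826, false)),
    (3261, .gen 612 (826, true)),
    (1629, .gen 1237 (826, false)),
    (3096, .gen 1237 (826, true)),
    (514, .gen 3292 (826, false)),
    (1447, .gen 3292 (826, true)),
    (1841, .gen 191 (826, false)),
    (3041, .gen 191 (826, true)),
    (2317, .gen 3791 (826, false)),
    (1828, .gen 3791 (826, true)),
    (800, .gen 3792 (826, false)),
    (1478, .gen 3792 (826, true)),
    (2299, .gen 3056 (826, false)),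
    (2064, .gen 3056 (826, true)),
    (3608, .gen 486 (826, false)),
    (3314, .gen 486 (826, true)),
    (981, .gen 1322 (826, false)),
    (2224, .gen 1322 (826, true)),
    (2651, .gen 3386 (826, false)),
    (2355, .gen 3386 (826, true)),
    (2354, .gen 677 (826, false)),
    (643, .gen 677 (826, true)),
    (3674, .gen 2984 (826, false)),
    (240, .gen 2984 (826, true)),
    (2665, .gen 1863 (826, false)),
    (3117, .gen 1863 (826, true)),
    (3286, .gen 1180 (826, false)),
    (3427, .gen 1180 (826, true)),
    (2776, .gen 1136 (826, false)),
    (3738, .gen 1136 (826, true)),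
    (2609, .gen 392 (826, false)),
    (819, .gen 392 (826, true)),
    (3466, .gen 1509 (826, false)),
    (3222, .gen 1509 (826, true)),
    (1132, .gen 1089 (826, false)),
    (3204, .gen 1089 (826, true)),
    (3774, .gen 1686 (826, false)),
    (158, .gen 1686 (826, true)),
    (1819, .gen 2472 (826, false)),
    (3000, .gen 2472 (826, true)),
    (931, .gen 3036 (826, false)),
    (836, .gen 3036 (826, true)),
    (3556, .gen 932 (826, false)),
    (258, .gen 932 (826, true)),
    (2076, .gen 1529 (826, false)),
    (3379, .gen 1529 (826, true)),
    (2240, .gen 671 (826, false)),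
    (3439, .gen 671 (826, true)),
    (830, .gen 333 (826, false)),
    (1453, .gen 333 (826, true)),
    (94, .gen 2204 (826, false)),
    (2507, .gen 2204 (826, true)),
    (2260, .gen 3675 (826, false)),
    (2238, .gen 3675 (826, true)),
    (3277, .gen 437 (826, false)),
    (3331, .gen 437 (826, true)),
    (3079, .gen 1576 (826, false)),
    (3181, .gen 1576 (826, true)),
    (2631, .gen 2122 (826, false)),
    (1134, .gen 2122 (826, true)),
    (1014, .gen 1968 (826, false)),
    (2586, .gen 1968 (826, true)),
    (1781, .gen 1897 (826, false)),
    (1803, .gen 1897 (826, true)),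
    (1375, .gen 1574 (826, false)),
    (2302, .gen 1574 (826, true)),
    (3402, .gen 2226 (826, false)),
    (2030, .gen 2226 (826, true)),
    (3365, .gen 1435 (826, false)),
    (2695, .gen 1435 (826, true)),
    (2227, .gen 410 (826, false)),
    (485, .gen 410 (826, true)),
    (2107, .gen 2050 (826, false)),
    (2403, .gen 2050 (826, true)),
    (270, .gen 2741 (826, false)),
    (1350, .gen 2741 (826, true)),
    (2318, .gen 1614 (826, false)),
    (1406, .gen 1614 (826, true)),
    (2886, .gen 2228 (826, false)),
    (2338, .gen 2228 (826, true)),
    (185, .gen 2012 (826, false)),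
    (3197, .gen 2012 (826, true)),
    (1724, .gen 546 (826, false)),
    (3696, .gen 546 (826, true)),
    (3499, .gen 2120 (826, false)),
    (757, .gen 2120 (826, true)),
    (2590, .gen 1839 (826, false)),
    (3022, .gen 1839 (826, true)),
    (1582, .gen 1062 (826, false)),
    (2860, .gen 1062 (826, true)),
    (39, .gen 2301 (826, false)),
    (2704, .gen 1361 (826, false)),
    (765, .gen 1361 (826, true)),
    (405, .gen 1294 (826, false)),
    (2908, .gen 1294 (826, true)),
    (3413, .gen 2481 (826, false)),
    (1287, .gen 2481 (826, true)),
    (2509, .gen 2359 (826, false)),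
    (1627, .gen 2359 (826, true)),
    (1908, .gen 3175 (826, false)),
    (2241, .gen 3175 (826, true)),
    (2882, .gen 1383 (826, false)),
    (1236, .gen 1383 (826, true)),
    (338, .gen 3760 (826, false)),
    (1730, .gen 3760 (826, true)),
    (1486, .gen 1389 (826, false)),
    (3195, .gen 1389 (826, true)),
    (2538, .gen 2843 (826, false)),
    (3752, .gen 2843 (826, true)),
    (3297, .gen 2602 (826, false)),
    (764, .gen 2900 (826, false)),
    (3127, .gen 2900 (826, true)),
    (3162, .gen 424 (826, false)),
    (3068, .gen 424 (826, true)),
    (3540, .gen 792 (826, false)),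
    (1031, .gen 792 (826, true)),
    (1805, .gen 865 (826, false)),
    (2304, .gen 865 (826, true)),
    (630, .gen 3037 (826, false)),
    (1263, .gen 3037 (826, true)),
    (155, .gen 2547 (826, false)),
    (3558, .gen 2547 (826, true)),
    (3431, .gen 1466 (826, false)),
    (3425, .gen 1466 (826, true)),
    (1229, .gen 1867 (826, false)),
    (3468, .gen 1867 (826, true)),
    (1994, .gen 1702 (826, false)),
    (1041, .gen 1702 (826, true)),
    (21, .gen 962 (826, false)),
    (1717, .gen 962 (826, true)),
    (2678, .gen 291 (826, false)),
    (52, .gen 291 (826, true)),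
    (3104, .gen 3329 (826, false)),
    (1806, .gen 3329 (826, true)),
    (552, .gen 3712 (826, false)),
    (2994, .gen 3712 (826, true)),
    (1193, .gen 60 (826, false)),
    (1336, .gen 60 (826, true)),
    (2624, .gen 2961 (826, false)),
    (133, .gen 2961 (826, true)),
    (1151, .gen 559 (826, false)),
    (2167, .gen 559 (826, true)),
    (203, .gen 738 (826, false)),
    (577, .gen 738 (826, true)),
    (253, .gen 1265 (826, false)),
    (2889, .gen 1265 (826, true)),
    (269, .gen 3019 (826, false)),
    (979, .gen 3019 (826, true)),
    (323, .gen 360 (826, false)),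
    (2454, .gen 360 (826, true)),
    (2616, .gen 32 (826, false)),
    (911, .gen 32 (826, true)),
    (3176, .gen 1279 (826, false)),
    (739, .gen 1279 (826, true)),
    (1310, .gen 1220 (826, false)),
    (2755, .gen 1220 (826, true)),
    (3350, .gen 2370 (826, false)),
    (3010, .gen 2370 (826, true)),
    (674, .gen 3741 (826, false)),
    (2747, .gen 3741 (826, true)),
    (2210, .gen 1416 (826, false)),
    (3180, .gen 1416 (826, true)),
    (2668, .gen 235 (826, false)),
    (296, .gen 235 (826, true)),
    (1502, .gen 274 (826, false)),
    (834, .gen 274 (826, true)),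
    (3398, .gen 1728 (826, false)),
    (2078, .gen 1728 (826, true)),
    (3631, .gen 2236 (826, false)),
    (80, .gen 2236 (826, true)),
    (2255, .gen 2300 (826, false)),
    (3248, .gen 2300 (826, true)),
    (2008, .gen 93 (826, false)),
    (1891, .gen 93 (826, true)),
    (3373, .gen 1330 (826, false)),
    (1139, .gen 1330 (826, true)),
    (2655, .gen 1569 (826, false)),
    (3273, .gen 1569 (826, true)),
    (3137, .gen 2958 (826, false)),
    (3025, .gen 2958 (826, true)),
    (3633, .gen 167 (826, false)),
    (3588, .gen 167 (826, true)),
    (170, .gen 3543 (826, false)),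
    (3042, .gen 3543 (826, true)),
    (3038, .gen 3609 (826, false)),
    (287, .gen 3609 (826, true)),
    (695, .gen 113 (826, false)),
    (3125, .gen 113 (826, true)),
    (366, .gen 2079 (826, false)),
    (2501, .gen 2079 (826, true)),
    (2647, .gen 2013 (826, false)),
    (838, .gen 2013 (826, true)),
    (883, .gen 2393 (826, false)),
    (1575, .gen 2393 (826, true)),
    (1312, .gen 930 (826, false)),
    (1601, .gen 930 (826, true)),
    (2282, .gen 1011 (826, false)),
    (2418, .gen 1011 (826, true)),
    (2343, .gen 213 (826, false)),
    (1068, .gen 213 (826, true)),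
    (2459, .gen 1356 (826, false))]

/-- Visits. -/
def v19_11 : List (ℕ × Src) :=
  [(595, .gen 1356 (826, true)),
    (445, .gen 2998 (826, false)),
    (1618, .gen 2998 (826, true)),
    (531, .gen 3603 (826, false)),
    (3656, .gen 3603 (826, true)),
    (271, .gen 1147 (826, false)),
    (1029, .gen 1147 (826, true)),
    (250, .gen 1345 (826, false)),
    (2780, .gen 1345 (826, true)),
    (3668, .gen 647 (826, false)),
    (636, .gen 647 (826, true)),
    (3786, .gen 1998 (826, false)),
    (1548, .gen 1998 (826, true)),
    (3484, .gen 3336 (826, false)),
    (691, .gen 3336 (826, true)),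
    (2757, .gen 85 (826, false)),
    (1987, .gen 85 (826, true)),
    (3580, .gen 949 (826, false)),
    (2308, .gen 949 (826, true)),
    (2827, .gen 3111 (826, false)),
    (2873, .gen 3111 (826, true)),
    (2921, .gen 2052 (826, false)),
    (823, .gen 2052 (826, true)),
    (3229, .gen 2436 (826, false)),
    (679, .gen 2436 (826, true)),
    (2694, .gen 579 (826, false)),
    (2101, .gen 579 (826, true)),
    (135, .gen 3295 (826, false)),
    (1571, .gen 3295 (826, true)),
    (1853, .gen 2583 (826, false)),
    (887, .gen 2583 (826, true)),
    (912, .gen 2870 (826, false)),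
    (2881, .gen 2870 (826, true)),
    (3469, .gen 2847 (826, false)),
    (2700, .gen 2847 (826, true)),
    (2712, .gen 2351 (826, false)),
    (2170, .gen 2351 (826, true)),
    (388, .gen 2548 (826, false)),
    (3118, .gen 2548 (826, true)),
    (736, .gen 1215 (826, false)),
    (945, .gen 1215 (826, true)),
    (1096, .gen 2208 (826, false)),
    (503, .gen 2208 (826, true)),
    (286, .gen 1060 (826, false)),
    (20, .gen 1060 (826, true)),
    (1911, .gen 257 (826, false)),
    (1390, .gen 3043 (826, false)),
    (3110, .gen 3043 (826, true)),
    (2059, .gen 2420 (826, false)),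
    (980, .gen 2420 (826, true)),
    (2422, .gen 2993 (826, false)),
    (2725, .gen 2993 (826, true)),
    (2932, .gen 2563 (826, false)),
    (1850, .gen 3205 (826, false)),
    (986, .gen 3205 (826, true)),
    (698, .gen 2513 (826, false)),
    (3391, .gen 2513 (826, true)),
    (3586, .gen 2021 (826, false)),
    (2426, .gen 2021 (826, true)),
    (539, .gen 385 (826, false)),
    (672, .gen 385 (826, true)),
    (2407, .gen 380 (826, false)),
    (2610, .gen 380 (826, true)),
    (2673, .gen 663 (826, false)),
    (994, .gen 663 (826, true)),
    (1561, .gen 585 (826, false)),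
    (2648, .gen 585 (826, true)),
    (908, .gen 2387 (826, false)),
    (92, .gen 2387 (826, true)),
    (3607, .gen 2080 (826, false)),
    (3308, .gen 2080 (826, true)),
    (2893, .gen 2500 (826, false)),
    (940, .gen 2500 (826, true)),
    (2051, .gen 2339 (826, false)),
    (2250, .gen 2339 (826, true)),
    (2611, .gen 3199 (826, false)),
    (99, .gen 3199 (826, true)),
    (814, .gen 232 (826, false)),
    (751, .gen 232 (826, true)),
    (2254, .gen 654 (826, false)),
    (1713, .gen 654 (826, true)),
    (29, .gen 518 (826, false)),
    (412, .gen 518 (826, true)),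
    (1794, .gen 376 (826, false)),
    (891, .gen 376 (826, true)),
    (1210, .gen 2598 (826, false)),
    (3645, .gen 2598 (826, true)),
    (7, .gen 332 (826, false)),
    (1831, .gen 3033 (826, false)),
    (3589, .gen 3033 (826, true)),
    (1503, .gen 1480 (826, false)),
    (2681, .gen 1480 (826, true)),
    (325, .gen 2877 (826, false)),
    (510, .gen 2877 (826, true)),
    (413, .gen 2036 (826, false)),
    (963, .gen 2381 (826, false)),
    (517, .gen 2381 (826, true)),
    (2669, .gen 633 (826, false)),
    (1304, .gen 633 (826, true)),
    (1721, .gen 2898 (826, false)),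
    (2522, .gen 2898 (826, true)),
    (2, .gen 1973 (826, false)),
    (3506, .gen 1973 (826, true)),
    (1910, .gen 1394 (826, false)),
    (3267, .gen 1394 (826, true)),
    (2150, .gen 3098 (826, false)),
    (2823, .gen 3098 (826, true)),
    (2264, .gen 548 (826, false)),
    (3112, .gen 548 (826, true)),
    (1022, .gen 3232 (826, false)),
    (1442, .gen 3232 (826, true)),
    (2964, .gen 1381 (826, false)),
    (2098, .gen 1381 (826, true)),
    (1979, .gen 862 (826, false)),
    (3126, .gen 862 (826, true)),
    (923, .gen 63 (826, false)),
    (793, .gen 63 (826, true)),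
    (1214, .gen 2992 (826, false)),
    (1179, .gen 2992 (826, true)),
    (2455, .gen 1778 (826, false)),
    (2878, .gen 1778 (826, true)),
    (2753, .gen 664 (826, false)),
    (1934, .gen 664 (826, true)),
    (219, .gen 1174 (826, false)),
    (2281, .gen 1174 (826, true)),
    (1995, .gen 139 (826, false)),
    (134, .gen 139 (826, true)),
    (572, .gen 2618 (826, false)),
    (2074, .gen 2618 (826, true)),
    (3624, .gen 538 (826, true)),
    (2639, .gen 1373 (826, false)),
    (61, .gen 2448 (826, false)),
    (826, .gen 2448 (826, true)),
    (1981, .gen 2856 (826, false)),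
    (480, .gen 2856 (826, true)),
    (1602, .gen 397 (826, false)),
    (1430, .gen 397 (826, true)),
    (368, .gen 1402 (826, false)),
    (3592, .gen 1402 (826, true)),
    (3437, .gen 3012 (826, false)),
    (2645, .gen 3012 (826, true)),
    (163, .gen 1024 (826, false)),
    (3762, .gen 1024 (826, true)),
    (33, .gen 1133 (826, false)),
    (3464, .gen 1133 (826, true)),
    (1939, .gen 2774 (826, false)),
    (317, .gen 2774 (826, true)),
    (1804, .gen 1226 (826, false)),
    (2421, .gen 1226 (826, true)),
    (3301, .gen 1583 (826, false)),
    (386, .gen 1583 (826, true)),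
    (1140, .gen 2275 (826, false)),
    (755, .gen 2275 (826, true)),
    (2543, .gen 3634 (826, false)),
    (3075, .gen 3634 (826, true)),
    (2249, .gen 3507 (826, false)),
    (2429, .gen 3507 (826, true)),
    (2505, .gen 1228 (826, false)),
    (3166, .gen 1228 (826, true)),
    (2793, .gen 3562 (826, false)),
    (2920, .gen 3562 (826, true)),
    (3448, .gen 2340 (826, false)),
    (3724, .gen 2340 (826, true)),
    (1845, .gen 2225 (826, false)),
    (2605, .gen 906 (826, false)),
    (2557, .gen 906 (826, true)),
    (117, .gen 1718 (826, false)),
    (3443, .gen 1718 (826, true)),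
    (2883, .gen 2620 (826, false)),
    (903, .gen 2620 (826, true)),
    (703, .gen 276 (826, false)),
    (1791, .gen 276 (826, true)),
    (2924, .gen 2566 (826, false)),
    (2515, .gen 2566 (826, true)),
    (2630, .gen 3252 (826, false)),
    (453, .gen 3252 (826, true)),
    (1846, .gen 3545 (826, false)),
    (2042, .gen 3545 (826, true)),
    (1042, .gen 3052 (826, false)),
    (3487, .gen 3052 (826, true)),
    (2398, .gen 1370 (826, false)),
    (3067, .gen 1370 (826, true)),
    (1740, .gen 2786 (826, false)),
    (1964, .gen 2786 (826, true)),
    (3789, .gen 3065 (826, false)),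
    (3700, .gen 3065 (826, true)),
    (400, .gen 1145 (826, false)),
    (3480, .gen 1145 (826, true)),
    (2174, .gen 936 (826, false)),
    (2657, .gen 936 (826, true)),
    (293, .gen 2952 (826, false)),
    (2555, .gen 2952 (826, true)),
    (3771, .gen 1840 (826, false)),
    (2055, .gen 1840 (826, true)),
    (3254, .gen 3290 (826, false)),
    (3020, .gen 3290 (826, true)),
    (1301, .gen 3663 (826, false)),
    (3652, .gen 3663 (826, true)),
    (2674, .gen 2642 (826, false)),
    (726, .gen 2642 (826, true)),
    (1262, .gen 251 (826, false)),
    (961, .gen 251 (826, true)),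
    (1751, .gen 1663 (826, false)),
    (484, .gen 1663 (826, true)),
    (2029, .gen 2039 (826, false)),
    (2570, .gen 2039 (826, true)),
    (3552, .gen 530 (826, false)),
    (3465, .gen 530 (826, true)),
    (2923, .gen 910 (826, false)),
    (3471, .gen 910 (826, true)),
    (556, .gen 1171 (826, false)),
    (2779, .gen 1171 (826, true)),
    (747, .gen 2447 (826, false)),
    (3001, .gen 2447 (826, true)),
    (678, .gen 109 (826, false)),
    (1742, .gen 109 (826, true)),
    (1358, .gen 2832 (826, false)),
    (1922, .gen 2832 (826, true)),
    (463, .gen 3198 (826, false)),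
    (3620, .gen 3198 (826, true)),
    (3496, .gen 2303 (826, false)),
    (1625, .gen 2303 (826, true)),
    (377, .gen 1568 (826, false)),
    (2969, .gen 1568 (826, true)),
    (2161, .gen 3044 (826, false)),
    (3354, .gen 3044 (826, true)),
    (3785, .gen 3526 (826, false)),
    (1616, .gen 3526 (826, true)),
    (2198, .gen 3013 (826, false)),
    (1877, .gen 3013 (826, true)),
    (152, .gen 683 (826, false)),
    (229, .gen 683 (826, true)),
    (3185, .gen 3662 (826, false)),
    (3453, .gen 3662 (826, true)),
    (2852, .gen 1694 (826, false)),
    (637, .gen 1694 (826, true)),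
    (3479, .gen 1520 (826, false)),
    (3424, .gen 1967 (826, false)),
    (1037, .gen 1967 (826, true)),
    (183, .gen 2868 (826, false)),
    (3339, .gen 2868 (826, true)),
    (2159, .gen 3501 (826, false)),
    (2746, .gen 3501 (826, true)),
    (3313, .gen 2646 (826, false)),
    (3263, .gen 2646 (826, true)),
    (704, .gen 2305 (826, false)),
    (2835, .gen 2305 (826, true)),
    (495, .gen 1110 (826, false)),
    (623, .gen 1110 (826, true)),
    (1532, .gen 1013 (826, false)),
    (3291, .gen 1013 (826, true)),
    (371, .gen 2841 (826, false)),
    (2348, .gen 2841 (826, true)),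
    (1639, .gen 1053 (826, false)),
    (956, .gen 1053 (826, true)),
    (1072, .gen 3129 (826, false)),
    (3433, .gen 3129 (826, true)),
    (753, .gen 2056 (826, false)),
    (2060, .gen 2056 (826, true)),
    (346, .gen 866 (826, false)),
    (2975, .gen 866 (826, true)),
    (803, .gen 2035 (826, false)),
    (3006, .gen 2035 (826, true)),
    (2891, .gen 1364 (826, false)),
    (2186, .gen 1364 (826, true)),
    (1646, .gen 1513 (826, false)),
    (1028, .gen 1513 (826, true)),
    (1249, .gen 1633 (826, false)),
    (3200, .gen 1633 (826, true)),
    (2888, .gen 3641 (826, false)),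
    (1865, .gen 3641 (826, true)),
    (1546, .gen 1344 (826, false)),
    (3692, .gen 1344 (826, true)),
    (2763, .gen 1142 (826, false)),
    (2179, .gen 1142 (826, true)),
    (3504, .gen 2995 (826, false)),
    (2100, .gen 2995 (826, true)),
    (2846, .gen 299 (826, false)),
    (3344, .gen 299 (826, true)),
    (1182, .gen 1149 (826, false)),
    (3458, .gen 1149 (826, true)),
    (1260, .gen 934 (826, false)),
    (3593, .gen 934 (826, true)),
    (3680, .gen 2986 (826, false)),
    (3777, .gen 2986 (826, true)),
    (868, .gen 3066 (826, false)),
    (973, .gen 3066 (826, true)),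
    (2332, .gen 1372 (826, false)),
    (2061, .gen 1372 (826, true)),
    (2353, .gen 119 (826, false)),
    (2025, .gen 119 (826, true)),
    (2043, .gen 1315 (826, false)),
    (2313, .gen 1315 (826, true)),
    (768, .gen 649 (826, false)),
    (1343, .gen 649 (826, true)),
    (3240, .gen 1626 (826, false)),
    (1826, .gen 1626 (826, true)),
    (264, .gen 1926 (826, false)),
    (3646, .gen 1926 (826, true)),
    (462, .gen 587 (826, false))]

/-- Visits. -/
def v19_12 : List (ℕ × Src) :=
  [(3732, .gen 2959 (826, false)),
    (1793, .gen 2959 (826, true)),
    (972, .gen 786 (826, false)),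
    (3359, .gen 786 (826, true)),
    (1067, .gen 1495 (826, false)),
    (2733, .gen 1495 (826, true)),
    (2358, .gen 1189 (826, false)),
    (1990, .gen 1189 (826, true)),
    (42, .gen 2514 (826, false)),
    (3015, .gen 2514 (826, true)),
    (2383, .gen 168 (826, false)),
    (82, .gen 168 (826, true)),
    (62, .gen 1767 (826, false)),
    (2242, .gen 1767 (826, true)),
    (2213, .gen 835 (826, false)),
    (1405, .gen 835 (826, true)),
    (3420, .gen 1722 (826, false)),
    (474, .gen 1722 (826, true)),
    (3142, .gen 2949 (826, false)),
    (3183, .gen 2949 (826, true)),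
    (748, .gen 1085 (826, false)),
    (631, .gen 1085 (826, true)),
    (2884, .gen 841 (826, false)),
    (1006, .gen 841 (826, true)),
    (89, .gen 909 (826, false)),
    (1669, .gen 909 (826, true)),
    (64, .gen 2194 (826, false)),
    (680, .gen 2194 (826, true)),
    (1851, .gen 2285 (826, false)),
    (3594, .gen 2285 (826, true)),
    (1194, .gen 1003 (826, false)),
    (1188, .gen 1003 (826, true)),
    (1152, .gen 457 (826, false)),
    (1232, .gen 457 (826, true)),
    (2156, .gen 1914 (826, true)),
    (1038, .gen 547 (826, false)),
    (1440, .gen 547 (826, true)),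
    (2276, .gen 639 (826, false)),
    (1570, .gen 639 (826, true)),
    (3058, .gen 2477 (826, false)),
    (894, .gen 2477 (826, true)),
    (3477, .gen 828 (826, false)),
    (1673, .gen 828 (826, true)),
    (3536, .gen 403 (826, false)),
    (149, .gen 403 (826, true)),
    (3245, .gen 2974 (826, false)),
    (858, .gen 2974 (826, true)),
    (3302, .gen 1308 (826, false)),
    (498, .gen 1308 (826, true)),
    (1004, .gen 489 (826, false)),
    (1624, .gen 489 (826, true)),
    (1997, .gen 460 (826, false)),
    (1823, .gen 460 (826, true)),
    (1771, .gen 3495 (826, false)),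
    (2861, .gen 3495 (826, true)),
    (2756, .gen 1048 (826, false)),
    (2574, .gen 84 (826, false)),
    (1270, .gen 84 (826, true)),
    (2212, .gen 1092 (826, false)),
    (1017, .gen 1092 (826, true)),
    (1963, .gen 2804 (826, false)),
    (2685, .gen 2804 (826, true)),
    (3046, .gen 1883 (826, false)),
    (1490, .gen 1883 (826, true)),
    (2615, .gen 3452 (826, false)),
    (1952, .gen 3452 (826, true)),
    (774, .gen 642 (826, false)),
    (3384, .gen 642 (826, true)),
    (1970, .gen 3169 (826, false)),
    (1966, .gen 3169 (826, true)),
    (327, .gen 3076 (826, false)),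
    (1525, .gen 3076 (826, true)),
    (1298, .gen 3177 (826, false)),
    (1456, .gen 3177 (826, true)),
    (2591, .gen 584 (826, false)),
    (396, .gen 584 (826, true)),
    (2390, .gen 3614 (826, false)),
    (35, .gen 3614 (826, true)),
    (145, .gen 3714 (826, false)),
    (3743, .gen 3714 (826, true)),
    (1090, .gen 3441 (826, false)),
    (401, .gen 2400 (826, false)),
    (2892, .gen 2400 (826, true)),
    (105, .gen 465 (826, false)),
    (1321, .gen 465 (826, true)),
    (1784, .gen 1176 (826, false)),
    (2087, .gen 1176 (826, true)),
    (3073, .gen 733 (826, false)),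
    (876, .gen 733 (826, true)),
    (406, .gen 1974 (826, false)),
    (1557, .gen 519 (826, false)),
    (3351, .gen 519 (826, true)),
    (1902, .gen 2119 (826, false)),
    (3695, .gen 2119 (826, true)),
    (3748, .gen 1720 (826, false)),
    (3429, .gen 1720 (826, true)),
    (1528, .gen 1695 (826, false)),
    (3689, .gen 1695 (826, true)),
    (3136, .gen 2489 (826, false)),
    (1929, .gen 2489 (826, true)),
    (2325, .gen 2772 (826, false)),
    (2926, .gen 2772 (826, true)),
    (3340, .gen 2922 (826, false)),
    (161, .gen 2922 (826, true)),
    (1725, .gen 2368 (826, false)),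
    (3602, .gen 2368 (826, true)),
    (2764, .gen 1993 (826, false)),
    (2324, .gen 1993 (826, true)),
    (3648, .gen 2464 (826, false)),
    (1233, .gen 2464 (826, true)),
    (3360, .gen 66 (826, false)),
    (3212, .gen 66 (826, true)),
    (2192, .gen 1311 (826, false)),
    (3131, .gen 1311 (826, true)),
    (2016, .gen 1499 (826, false)),
    (1862, .gen 1499 (826, true)),
    (3563, .gen 3723 (826, false)),
    (3549, .gen 3723 (826, true)),
    (1428, .gen 3489 (826, false)),
    (2913, .gen 3489 (826, true)),
    (1283, .gen 1303 (826, false)),
    (315, .gen 1303 (826, true)),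
    (1223, .gen 2641 (826, false)),
    (3315, .gen 2641 (826, true)),
    (1697, .gen 1665 (826, false)),
    (3145, .gen 3730 (826, false)),
    (3100, .gen 3730 (826, true)),
    (3203, .gen 3188 (826, false)),
    (1595, .gen 3188 (826, true)),
    (3395, .gen 2855 (826, false)),
    (3393, .gen 2855 (826, true)),
    (1320, .gen 669 (826, true)),
    (1485, .gen 3219 (826, false)),
    (508, .gen 3219 (826, true)),
    (1184, .gen 2720 (826, false)),
    (2520, .gen 2720 (826, true)),
    (1917, .gen 2939 (826, false)),
    (2752, .gen 2939 (826, true)),
    (2148, .gen 532 (826, false)),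
    (1642, .gen 532 (826, true)),
    (131, .gen 2896 (826, false)),
    (1393, .gen 2896 (826, true)),
    (1596, .gen 3404 (826, false)),
    (1036, .gen 3404 (826, true)),
    (1496, .gen 1590 (826, false)),
    (1807, .gen 1590 (826, true)),
    (1463, .gen 3120 (826, false)),
    (1261, .gen 3120 (826, true)),
    (2248, .gen 1739 (826, false)),
    (1122, .gen 1739 (826, true)),
    (3703, .gen 3051 (826, false)),
    (3751, .gen 3051 (826, true)),
    (1058, .gen 234 (826, true)),
    (2280, .gen 2978 (826, false)),
    (2912, .gen 2978 (826, true)),
    (1756, .gen 1086 (826, false)),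
    (2014, .gen 1086 (826, true)),
    (2417, .gen 1328 (826, false)),
    (3271, .gen 1328 (826, true)),
    (872, .gen 767 (826, false)),
    (3014, .gen 767 (826, true)),
    (2404, .gen 143 (826, false)),
    (3207, .gen 143 (826, true)),
    (2980, .gen 715 (826, false)),
    (159, .gen 715 (826, true)),
    (820, .gen 3230 (826, false)),
    (2928, .gen 3230 (826, true)),
    (2612, .gen 3320 (826, false)),
    (2375, .gen 3320 (826, true)),
    (284, .gen 237 (826, true)),
    (2395, .gen 1475 (826, false)),
    (2807, .gen 1475 (826, true)),
    (1687, .gen 1064 (826, false)),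
    (2696, .gen 1064 (826, true)),
    (2321, .gen 2077 (826, false)),
    (2243, .gen 2077 (826, true)),
    (2133, .gen 2114 (826, false)),
    (2374, .gen 2114 (826, true)),
    (2180, .gen 2649 (826, false)),
    (3392, .gen 2649 (826, true)),
    (409, .gen 1404 (826, true)),
    (344, .gen 3113 (826, true)),
    (308, .gen 2065 (826, false)),
    (1674, .gen 2065 (826, true)),
    (2271, .gen 3192 (826, false)),
    (2683, .gen 3192 (826, true)),
    (661, .gen 1497 (826, true)),
    (282, .gen 2245 (826, false)),
    (1611, .gen 2263 (826, false)),
    (3138, .gen 2263 (826, true)),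
    (2950, .gen 364 (826, false)),
    (3221, .gen 364 (826, true)),
    (3509, .gen 2391 (826, false)),
    (1563, .gen 2391 (826, true)),
    (928, .gen 3630 (826, false))]

/-- The visits of node 19. -/
def visits19 : List (ℕ × Src) :=
  v19_0 ++ v19_1 ++ v19_2 ++ v19_3 ++ v19_4 ++ v19_5 ++ v19_6 ++ v19_7 ++ v19_8 ++ v19_9 ++ v19_10 ++ v19_11 ++ v19_12


end Cfsg.Agent.J4Bound.Data
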